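import Mathlib.LinearAlgebra.Eigenspace.Triangularizable
import Mathlib.FieldTheory.IsAlgClosed.AlgebraicClosure
import Mathlib.FieldTheory.IsAlgClosed.Basic
import Mathlib.Algebra.CharP.Algebra
import Mathlib.FieldTheory.Finite.Basic

/-!
# An alternating product compatible with a Frobenius group of operators

`T` of order `v` without fixed points, `W` of order `p` with `W T = T ^ m W`, on a space of dimension `p`
over `ZMod r`: a non-zero alternating product commuting with `T` gives `m ^ i + m ^ j ≡ 1 (mod v)`.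
-/

set_option autoImplicit false
set_option linter.style.haveILetI false

namespace CfsgLib.FT.FrobEigen

variable {r : ℕ} [Fact r.Prime] {g : Type*} [AddCommGroup g] [Module (ZMod r) g]
  [FiniteDimensional (ZMod r) g]

/-- The relation between the exponents. -/
theorem exists_relation (hr2 : r ≠ 2) {p v m : ℕ} (hp : 1 < p) (hdim : Module.finrank (ZMod r) g = p)
    (hv : 1 < v) (T W : g →ₗ[ZMod r] g) (hT : T ^ v = 1)
    (hfix : ∀ j, 0 < j → j < v → ∀ x, (T ^ j) x = x → x = 0) (hW : W ^ p = 1)
    (hWT : W * T = T ^ m * W) (hm : ∀ i, 0 < i → i < p → (m : ZMod v) ^ i ≠ 1)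
    (β : g →ₗ[ZMod r] g →ₗ[ZMod r] g) (halt : ∀ x, β x x = 0)
    (hβ : ∀ x y, β (T x) (T y) = T (β x y)) (hβW : ∀ x y, β (W x) (W y) = W (β x y)) (hne : β ≠ 0) :
    (m : ZMod v) ^ p = 1 ∧ (∃ i j : ℕ, 0 < i ∧ i < p ∧ 0 < j ∧ j < p ∧ i ≠ j ∧
      (m : ZMod v) ^ i + (m : ZMod v) ^ j = 1) ∧ ∃ t : ℕ, (r : ZMod v) = (m : ZMod v) ^ t := by
  classical
  let K := AlgebraicClosure (ZMod r)
  haveI : CharP K r := charP_of_injective_algebraMap (algebraMap (ZMod r) K).injective r
  have hdimD : Module.finrank K (g →ₗ[ZMod r] K) = p := by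
    rw [Module.finrank_linearMap, hdim, Module.finrank_self, mul_one]
  haveI : FiniteDimensional K (g →ₗ[ZMod r] K) :=
    Module.finite_of_finrank_pos (by rw [hdimD]; omega)
  haveI : Nontrivial (g →ₗ[ZMod r] K) := Module.nontrivial_of_finrank_pos (R := K) (by rw [hdimD]; omega)
  let L : Module.End K (g →ₗ[ZMod r] K) := LinearMap.lcomp K K T
  obtain ⟨μ, hμ⟩ := Module.End.exists_eigenvalue L
  obtain ⟨f, hf⟩ := hμ.exists_hasEigenvector
  have hfT : ∀ x, f (T x) = μ * f x := fun x => by
    have := LinearMap.congr_fun hf.apply_eq_smul x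
    simpa [L] using this
  have hfTn : ∀ (n : ℕ) (x : g), f ((T ^ n) x) = μ ^ n * f x := by
    intro n
    induction n with
    | zero => simp
    | succ n ih =>
      intro x
      rw [pow_succ', Module.End.mul_apply, hfT, ih, pow_succ']
      ring
  have hf0 : f ≠ 0 := hf.2
  obtain ⟨x₀, hx₀⟩ : ∃ x, f x ≠ 0 := by
    by_contra hc
    push Not at hc
    exact hf0 (LinearMap.ext hc)
  have hμv : μ ^ v = 1 := by
    have h1 := hfTn v x₀
    rw [hT, Module.End.one_apply] at h1
    exact (mul_eq_right₀ hx₀).1 h1.symm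
  have hμj : ∀ j, 0 < j → j < v → μ ^ j ≠ 1 := by
    intro j hj hjv e
    have hinj : Function.Injective ((T ^ j - 1 : g →ₗ[ZMod r] g)) := by
      rw [← LinearMap.ker_eq_bot, LinearMap.ker_eq_bot']
      intro x hx
      rw [LinearMap.sub_apply, Module.End.one_apply, sub_eq_zero] at hx
      exact hfix j hj hjv x hx
    obtain ⟨y, rfl⟩ := LinearMap.injective_iff_surjective.1 hinj x₀
    rw [LinearMap.sub_apply, Module.End.one_apply, map_sub, hfTn, e, one_mul, sub_self] at hx₀
    exact hx₀ rfl
  have hord : orderOf μ = v := (orderOf_eq_iff (by omega)).2 ⟨hμv, fun j hj hj0 => hμj j hj0 hj⟩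
  have hpow : ∀ a b : ℕ, μ ^ a = μ ^ b ↔ (a : ZMod v) = b := fun a b => by
    rw [ZMod.natCast_eq_natCast_iff, ← hord]
    exact IsOfFinOrder.pow_eq_pow_iff_modEq (isOfFinOrder_iff_pow_eq_one.2 ⟨v, by omega, hμv⟩)
  -- the other eigenvectors
  have hWTn : ∀ n : ℕ, W * T ^ n = T ^ (m * n) * W := by
    intro n
    induction n with
    | zero => simp
    | succ n ih => rw [pow_succ, ← mul_assoc, ih, mul_assoc, hWT, ← mul_assoc, ← pow_add, Nat.mul_succ]
  have hWi : ∀ i : ℕ, W ^ i * T = T ^ (m ^ i) * W ^ i := by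
    intro i
    induction i with
    | zero => simp
    | succ i ih => rw [pow_succ', mul_assoc, ih, ← mul_assoc, hWTn, mul_assoc, pow_succ' m]
  let v' : ℕ → (g →ₗ[ZMod r] K) := fun i => f.comp (W ^ i)
  have hev : ∀ (i : ℕ) (x : g), v' i (T x) = μ ^ (m ^ i) * v' i x := fun i x => by
    show f ((W ^ i) (T x)) = _
    rw [← Module.End.mul_apply, hWi, Module.End.mul_apply, hfTn]
    rfl
  have hv'0 : ∀ i, i ≤ p → v' i ≠ 0 := by
    intro i hi e
    refine hx₀ ?_
    have := LinearMap.congr_fun e ((W ^ (p - i)) x₀)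
    rw [LinearMap.comp_apply, ← Module.End.mul_apply, ← pow_add, Nat.add_sub_cancel' hi, hW,
      Module.End.one_apply] at this
    exact this
  have hmp : (m : ZMod v) ^ p = 1 := by
    have h1 := hev p x₀
    simp only [v', LinearMap.comp_apply, hW, Module.End.one_apply, hfT] at h1
    have h2 : μ ^ (m ^ p) = μ ^ 1 := by rw [pow_one]; exact (mul_right_cancel₀ hx₀ h1).symm
    rw [hpow, Nat.cast_pow, Nat.cast_one] at h2
    exact h2
  let μs : Fin p → K := fun i => μ ^ (m ^ (i : ℕ))
  have hμs : Function.Injective μs := by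
    intro i j e
    have e' : (m : ZMod v) ^ (i : ℕ) = (m : ZMod v) ^ (j : ℕ) := by
      have := (hpow _ _).1 e
      rwa [Nat.cast_pow, Nat.cast_pow] at this
    have hu : IsUnit (m : ZMod v) := IsUnit.of_pow_eq_one hmp (by omega)
    have key : ∀ a b : ℕ, a < b → b < p → (m : ZMod v) ^ a ≠ (m : ZMod v) ^ b := fun a b hab hb e => by
      rw [show b = a + (b - a) by omega, pow_add] at e
      exact hm (b - a) (by omega) (by omega) ((hu.pow a).mul_eq_left.1 e.symm)
    rcases lt_trichotomy (i : ℕ) (j : ℕ) with h | h | h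
    · exact absurd e' (key _ _ h j.2)
    · exact Fin.ext h
    · exact absurd e'.symm (key _ _ h i.2)
  have hvec : ∀ i : Fin p, L.HasEigenvector (μs i) (v' i) := fun i =>
    ⟨Module.End.mem_eigenspace_iff.2 (LinearMap.ext fun x => by
      show v' i (T x) = _
      rw [hev]; rfl), hv'0 i i.2.le⟩
  haveI : Nonempty (Fin p) := ⟨⟨0, by omega⟩⟩
  have hli := Module.End.eigenvectors_linearIndependent' L μs hμs (fun i => v' i) hvec
  let b := basisOfLinearIndependentOfCardEqFinrank hli (by rw [hdimD, Fintype.card_fin])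
  have hb : ∀ i, b i = v' i := fun i => by
    simp [b, coe_basisOfLinearIndependentOfCardEqFinrank]
  have huniq : ∀ c : Fin p → K, (∀ x, ∑ i, c i * v' i x = 0) → ∀ i, c i = 0 := fun c hc =>
    Fintype.linearIndependent_iff.1 hli c (LinearMap.ext fun x => by
      simpa [LinearMap.sum_apply] using hc x)
  -- expand `f (β x y)`
  let Bl : g →ₗ[ZMod r] (g →ₗ[ZMod r] K) :=
    { toFun := fun y => f.comp (β.flip y)
      map_add' := fun y y' => by ext x; simp
      map_smul' := fun a y => by ext x; simp }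
  let co : Fin p → (g →ₗ[ZMod r] K) := fun i => ((b.coord i).restrictScalars (ZMod r)).comp Bl
  let c : Fin p → Fin p → K := fun i j => b.repr (co i) j
  have hexp : ∀ x y, f (β x y) = ∑ i, ∑ j, c i j * (v' i x * v' j y) := by
    intro x y
    have h1 : ∀ F : g →ₗ[ZMod r] K, ∀ z, F z = ∑ i, b.repr F i * v' i z := fun F z => by
      conv_lhs => rw [← b.sum_repr F]
      simp [LinearMap.sum_apply, hb]
    rw [show f (β x y) = Bl y x from rfl, h1 (Bl y) x]
    refine Finset.sum_congr rfl fun i _ => ?_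
    rw [show b.repr (Bl y) i = co i y from rfl, h1 (co i) y, Finset.sum_mul]
    exact Finset.sum_congr rfl fun j _ => by ring
  have huniq2 : ∀ d : Fin p → Fin p → K, (∀ x y, ∑ i, ∑ j, d i j * (v' i x * v' j y) = 0) →
      ∀ i j, d i j = 0 := by
    intro d hd i j
    refine huniq (fun j => d i j) (fun y => ?_) j
    refine huniq (fun i => ∑ j, d i j * v' j y) (fun x => ?_) i
    rw [← hd x y]
    refine Finset.sum_congr rfl fun i _ => ?_
    rw [Finset.sum_mul]
    exact Finset.sum_congr rfl fun j _ => by ring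
  have hskew : ∀ i j, c i j + c j i = 0 := by
    refine huniq2 _ fun x y => ?_
    have h0 : f (β x y) + f (β y x) = 0 := by
      have := halt (x + y)
      simp only [map_add, LinearMap.add_apply, halt, zero_add, add_zero] at this
      rw [← map_add, add_comm, this, map_zero]
    rw [hexp, hexp, Finset.sum_comm (γ := Fin p)] at h0
    rw [← h0, Finset.sum_comm (γ := Fin p)]
    rw [← Finset.sum_add_distrib]
    refine Finset.sum_congr rfl fun i _ => ?_
    rw [← Finset.sum_add_distrib]
    exact Finset.sum_congr rfl fun j _ => by ring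
  have hcT : ∀ i j, c i j * (μs i * μs j - μ) = 0 := by
    refine huniq2 _ fun x y => ?_
    have h1 : f (β (T x) (T y)) = μ * f (β x y) := by rw [hβ, hfT]
    rw [hexp, hexp, Finset.mul_sum, ← sub_eq_zero, ← Finset.sum_sub_distrib] at h1
    rw [← h1]
    refine Finset.sum_congr rfl fun i _ => ?_
    rw [Finset.mul_sum, ← Finset.sum_sub_distrib]
    exact Finset.sum_congr rfl fun j _ => by rw [hev, hev]; ring
  obtain ⟨i, j, hc⟩ : ∃ i j, c i j ≠ 0 := by
    by_contra hcon
    push Not at hcon
    refine hne (LinearMap.ext fun x => LinearMap.ext fun y => ?_)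
    -- every coordinate `v' i` kills `β x y`
    have hzero : ∀ x y, f (β x y) = 0 := fun x y => by rw [hexp]; simp [hcon]
    by_contra hz
    -- the eigenvectors separate points
    obtain ⟨F, hF⟩ : ∃ F : g →ₗ[ZMod r] K, F (β x y) ≠ 0 := by
      obtain ⟨φ, hφ⟩ := LinearMap.exists_leftInverse_of_injective
        (LinearMap.toSpanSingleton (ZMod r) g (β x y))
        (LinearMap.ker_toSpanSingleton (R := ZMod r) (M := g) hz)
      refine ⟨(Algebra.linearMap (ZMod r) K).comp φ, ?_⟩
      have := LinearMap.congr_fun hφ 1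
      rw [LinearMap.comp_apply, LinearMap.toSpanSingleton_apply, one_smul, LinearMap.id_apply] at this
      rw [LinearMap.comp_apply, this]
      simp
    refine hF ?_
    have hWk : ∀ (k : ℕ) x y, (W ^ k) (β x y) = β ((W ^ k) x) ((W ^ k) y) := by
      intro k
      induction k with
      | zero => simp
      | succ k ih =>
        intro x y
        rw [pow_succ', Module.End.mul_apply, Module.End.mul_apply, Module.End.mul_apply, ih, hβW]
    have h2 : ∀ k : Fin p, v' k (β x y) = 0 := fun k => by
      show f ((W ^ (k : ℕ)) (β x y)) = 0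
      rw [hWk, hzero]
    rw [← b.sum_repr F, LinearMap.sum_apply]
    exact Finset.sum_eq_zero fun k _ => by rw [LinearMap.smul_apply, hb, h2, smul_zero]
  refine ⟨hmp, ?_, ?_⟩
  · have hij : i ≠ j := by
      rintro rfl
      have h2 := hskew i i
      rw [← two_mul] at h2
      rcases mul_eq_zero.1 h2 with h | h
      · exact Ring.two_ne_zero (R := K) (by rwa [ringChar.eq K r]) h
      · exact hc h
    have hμe : μs i * μs j = μ := sub_eq_zero.1 ((mul_eq_zero.1 (hcT i j)).resolve_left hc)
    have h1 : (m : ZMod v) ^ (i : ℕ) + (m : ZMod v) ^ (j : ℕ) = 1 := by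
      have h2 : μ ^ (m ^ (i : ℕ) + m ^ (j : ℕ)) = μ ^ 1 := by rw [pow_one, pow_add]; exact hμe
      rw [hpow, Nat.cast_add, Nat.cast_pow, Nat.cast_pow, Nat.cast_one] at h2
      exact h2
    have hu : IsUnit (m : ZMod v) := IsUnit.of_pow_eq_one hmp (by omega)
    haveI : Fact (1 < v) := ⟨hv⟩
    refine ⟨i, j, Nat.pos_of_ne_zero fun e => ?_, i.2, Nat.pos_of_ne_zero fun e => ?_, j.2,
      fun e => hij (Fin.ext e), h1⟩
    · rw [e, pow_zero, add_eq_left] at h1
      exact (hu.pow _).ne_zero h1
    · rw [e, pow_zero, add_eq_right] at h1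
      exact (hu.pow _).ne_zero h1
  · -- the Frobenius image of `f`
    let fr : g →ₗ[ZMod r] K :=
      { toFun := fun x => f x ^ r
        map_add' := fun x y => by rw [map_add, add_pow_char]
        map_smul' := fun a x => by
          rw [map_smul, RingHom.id_apply, Algebra.smul_def, Algebra.smul_def, mul_pow, ← map_pow,
            ZMod.pow_card] }
    have hfr : ∀ x, fr (T x) = μ ^ r * fr x := fun x => by
      show f (T x) ^ r = _
      rw [hfT, mul_pow]
      rfl
    have hfr0 : fr x₀ ≠ 0 := pow_ne_zero _ hx₀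
    have hd : ∀ k, b.repr fr k * (μs k - μ ^ r) = 0 := by
      refine huniq _ fun x => ?_
      have h1 : ∀ z, fr z = ∑ i, b.repr fr i * v' i z := fun z => by
        conv_lhs => rw [← b.sum_repr fr]
        simp [LinearMap.sum_apply, hb]
      have h2 := hfr x
      rw [h1, h1, Finset.mul_sum, ← sub_eq_zero, ← Finset.sum_sub_distrib] at h2
      rw [← h2]
      exact Finset.sum_congr rfl fun k _ => by rw [hev]; ring
    obtain ⟨k, hk⟩ : ∃ k, b.repr fr k ≠ 0 := by
      by_contra hcon
      push Not at hcon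
      refine hfr0 ?_
      rw [← b.sum_repr fr]
      simp [hcon]
    have e := sub_eq_zero.1 ((mul_eq_zero.1 (hd k)).resolve_left hk)
    rw [eq_comm, hpow, Nat.cast_pow] at e
    exact ⟨k, e⟩

end CfsgLib.FT.FrobEigen
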