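import Cfsg.Agent.Lib.FT.FrobPower
import Cfsg.Agent.Lib.FT.FrobEigen
import Mathlib.Algebra.Module.ZMod

/-!
# Class two: the relation between the exponents

In a group with `Ctx`, `γ₁ ≠ 1 = γ₂`, the commutator read on the first layer is a non-zero alternating
product compatible with the operators, so `FrobEigen.exists_relation` applies.
-/

set_option autoImplicit false
set_option linter.unusedSectionVars false
set_option linter.style.haveILetI false

open Subgroup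
open scoped commutatorElement

namespace CfsgLib.FT.FrobLayer

open CfsgLib.GrLie

universe u

variable {Γ : Type u} [Group Γ] [Finite Γ] {C : Subgroup Γ} {p : ℕ} (h : Ctx C p)
include h

/-- A prime for which `γ₁^r γ₂` is smaller than `γ₁`. -/
theorem exists_prime_one (hγ2 : γ Γ 2 = ⊥) (hne : γ Γ 1 ≠ ⊥) :
    ∃ r : ℕ, r.Prime ∧ r ≠ 2 ∧ r ∣ expo C ∧ Mk (Γ := Γ) 1 r ≠ γ Γ 1 := by
  have hcomm : ∀ a b : ↥(γ Γ 1), a * b = b * a := fun a b => by
    rw [← commutatorElement_eq_one_iff_mul_comm]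
    refine Subtype.ext ?_
    have hm : ⁅(a : Γ), (b : Γ)⁆ ∈ γ Γ 2 := comm_succ a.2 _
    rw [hγ2, mem_bot] at hm
    exact hm
  letI : CommGroup ↥(γ Γ 1) := { (inferInstance : Group ↥(γ Γ 1)) with mul_comm := hcomm }
  have hkill : ∀ a : ↥(γ Γ 1), a ^ expo C = 1 := fun a => by
    refine Subtype.ext ?_
    have hm := pow_expo_mem_succ h a.2
    rw [hγ2, mem_bot] at hm
    exact hm
  obtain ⟨r, hr, hrd⟩ := Nat.exists_prime_and_dvd (n := Nat.card ↥(γ Γ 1))
    fun e => hne (card_eq_one.1 e)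
  haveI := Fact.mk hr
  obtain ⟨g, hg⟩ := exists_prime_orderOf_dvd_card' r hrd
  have hrΓ : r ∣ Nat.card Γ := hrd.trans (card_subgroup_dvd_card _)
  refine ⟨r, hr, ?_, hg ▸ orderOf_dvd_of_pow_eq_one (hkill g), fun e => ?_⟩
  · rintro rfl
    exact Nat.not_even_iff_odd.2 h.odd (even_iff_two_dvd.2 hrΓ)
  · have hsurj : Function.Surjective fun a : ↥(γ Γ 1) => a ^ r := by
      intro a
      have hle : Mk (Γ := Γ) 1 r ≤ ((powMonoidHom r : ↥(γ Γ 1) →* _).range).map (γ Γ 1).subtype := by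
        refine sup_le ((closure_le _).2 ?_) (by rw [hγ2]; exact bot_le)
        rintro _ ⟨w, hw, rfl⟩
        exact ⟨⟨w, hw⟩ ^ r, ⟨⟨w, hw⟩, rfl⟩, rfl⟩
      obtain ⟨w, ⟨b, rfl⟩, hw⟩ := hle (e.ge a.2)
      exact ⟨b, Subtype.ext hw⟩
    have h1 := Finite.injective_iff_surjective.2 hsurj
      (show g ^ r = (1 : ↥(γ Γ 1)) ^ r by rw [one_pow, ← hg]; exact pow_orderOf_eq_one g)
    rw [h1, orderOf_one] at hg
    exact hr.one_lt.ne hg

omit h in
/-- An automorphism without fixed points has none modulo an invariant subgroup. -/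
theorem mem_of_fix_mod (N : Subgroup Γ) (φ : MulAut Γ) (hN : ∀ x ∈ N, φ x ∈ N)
    (hfix : ∀ x, φ x = x → x = 1) {x : Γ} (hx : x⁻¹ * φ x ∈ N) : x ∈ N := by
  let f : N → N := fun m => ⟨(m : Γ)⁻¹ * φ m, mul_mem (inv_mem m.2) (hN _ m.2)⟩
  have key : ∀ a b : Γ, a⁻¹ * φ a = b⁻¹ * φ b → a = b := fun a b e => by
    refine mul_inv_eq_one.1 (hfix _ ?_)
    rw [inv_mul_eq_iff_eq_mul] at e
    rw [map_mul, map_inv, e]
    group
  have hf : Function.Surjective f := Finite.injective_iff_surjective.1 fun m m' e =>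
    Subtype.ext (key _ _ (congrArg Subtype.val e))
  obtain ⟨m, hm⟩ := hf ⟨_, hx⟩
  exact key _ _ (congrArg Subtype.val hm) ▸ m.2

/-- The relation. -/
theorem exists_relation (hγ2 : γ Γ 2 = ⊥) (hne : γ Γ 1 ≠ ⊥) {v m : ℕ} (hp : 1 < p) (hv : 1 < v)
    (α ω : MulAut Γ) (hα : α ^ v = 1) (hfix : ∀ j, 0 < j → j < v → ∀ x, (α ^ j) x = x → x = 1)
    (hω : ω ^ p = 1) (hωα : ω * α = α ^ m * ω)
    (hm : ∀ i, 0 < i → i < p → (m : ZMod v) ^ i ≠ 1) :
    ∃ r : ℕ, r.Prime ∧ r ≠ 2 ∧ r ∣ expo C ∧ (m : ZMod v) ^ p = 1 ∧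
      (∃ i j : ℕ, 0 < i ∧ i < p ∧ 0 < j ∧ j < p ∧ i ≠ j ∧
        (m : ZMod v) ^ i + (m : ZMod v) ^ j = 1) ∧
      ∃ t : ℕ, (r : ZMod v) = (m : ZMod v) ^ t := by
  classical
  obtain ⟨r, hr, hr2, hrn, hM⟩ := exists_prime_one h hγ2 hne
  refine ⟨r, hr, hr2, hrn, ?_⟩
  haveI := Fact.mk hr
  set π := pw h hr hr2 hrn with hπ
  obtain ⟨β, hβ⟩ := exists_bracket h hr hr2 hrn hM
  have hcomm : ∀ a b : ↥π.range, a * b = b * a := by
    rintro ⟨_, x, rfl⟩ ⟨_, y, rfl⟩
    exact Subtype.ext (qm_central (k := 1) (r := r) (pow_expo_mem h x) _).eq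
  letI : CommGroup ↥π.range := { (inferInstance : Group ↥π.range) with mul_comm := hcomm }
  haveI : Module (ZMod r) (Additive ↥π.range) := AddCommGroup.zmodModule fun a => by
    obtain ⟨x, hx⟩ := a.toMul.2
    apply Additive.toMul.injective
    rw [toMul_nsmul, toMul_zero]
    refine Subtype.ext ?_
    rw [SubmonoidClass.coe_pow, OneMemClass.coe_one, ← hx]
    exact qm_pow (k := 1) (r := r) (pow_expo_mem h x)
  haveI : Finite (Additive ↥π.range) := inferInstanceAs (Finite ↥π.range)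
  haveI : FiniteDimensional (ZMod r) (Additive ↥π.range) := Module.Finite.of_finite (R := ZMod r)
  have hdim : Module.finrank (ZMod r) (Additive ↥π.range) = p := by
    have e : Nat.card (Additive ↥π.range) =
        Nat.card (ZMod r) ^ Module.finrank (ZMod r) (Additive ↥π.range) := Module.natCard_eq_pow_finrank
    rw [Nat.card_zmod, show Nat.card (Additive ↥π.range) = r ^ p from
      card_range_pw h hr hr2 hrn hM] at e
    exact (Nat.pow_right_injective hr.two_le e).symm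
  -- the operators
  let E₀ : MulAut Γ → (Γ ⧸ Mk (Γ := Γ) 1 r →* Γ ⧸ Mk (Γ := Γ) 1 r) := fun φ =>
    QuotientGroup.map _ _ φ.toMonoidHom fun z hz => inv_Mk 1 r φ z hz
  have hE₀ : ∀ φ z, E₀ φ (qm 1 r z) = qm 1 r (φ z) := fun φ z => rfl
  have hEπ : ∀ φ x, E₀ φ (π x) = π (φ x) := fun φ x => by
    show E₀ φ (qm 1 r (x ^ expo C)) = qm 1 r (φ x ^ expo C)
    rw [hE₀, map_pow φ]
  let E : MulAut Γ → (↥π.range →* ↥π.range) := fun φ =>
    ((E₀ φ).comp π.range.subtype).codRestrict π.range fun a => by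
      obtain ⟨x, hx⟩ := a.2
      exact ⟨φ x, by rw [← hEπ, hx]; rfl⟩
  let L : MulAut Γ →* Module.End (ZMod r) (Additive ↥π.range) :=
    { toFun := fun φ => (MonoidHom.toAdditive (E φ)).toZModLinearMap r
      map_one' := LinearMap.ext fun a => Additive.toMul.injective (Subtype.ext (by
        obtain ⟨x, hx⟩ := a.toMul.2
        exact (congrArg (E₀ 1) hx.symm).trans ((hEπ 1 x).trans hx)))
      map_mul' := fun φ ψ => LinearMap.ext fun a => Additive.toMul.injective (Subtype.ext (by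
        obtain ⟨x, hx⟩ := a.toMul.2
        exact (congrArg (E₀ (φ * ψ)) hx.symm).trans ((hEπ (φ * ψ) x).trans
          (((congrArg (E₀ φ) ((congrArg (E₀ ψ) hx.symm).trans (hEπ ψ x))).trans (hEπ φ (ψ x))).symm)))) }
  have hL : ∀ φ (a : Additive ↥π.range),
      (((L φ a).toMul : ↥π.range) : Γ ⧸ Mk (Γ := Γ) 1 r) = E₀ φ (a.toMul : ↥π.range) := fun _ _ => rfl
  -- the product
  have hadd₁ : ∀ a b c : ↥π.range, β (a * b) c = β a c * β b c := by
    rintro ⟨_, x, rfl⟩ ⟨_, y, rfl⟩ ⟨_, z, rfl⟩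
    refine Subtype.ext ?_
    have e : (⟨π x, x, rfl⟩ : ↥π.range) * ⟨π y, y, rfl⟩ = ⟨π (x * y), x * y, rfl⟩ :=
      Subtype.ext (map_mul π x y).symm
    rw [e, coe_mul, hβ, hβ, hβ, qm_comm_mul_left (comm_one y z)]
  have hadd₂ : ∀ a b c : ↥π.range, β a (b * c) = β a b * β a c := by
    rintro ⟨_, x, rfl⟩ ⟨_, y, rfl⟩ ⟨_, z, rfl⟩
    refine Subtype.ext ?_
    have e : (⟨π y, y, rfl⟩ : ↥π.range) * ⟨π z, z, rfl⟩ = ⟨π (y * z), y * z, rfl⟩ :=
      Subtype.ext (map_mul π y z).symm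
    rw [e, coe_mul, hβ, hβ, hβ, qm_comm_mul_right (comm_one x z)]
  let b₁ : Additive ↥π.range → (Additive ↥π.range →ₗ[ZMod r] Additive ↥π.range) := fun a =>
    (AddMonoidHom.mk' (fun b => Additive.ofMul (β a.toMul b.toMul))
      fun b c => congrArg Additive.ofMul (hadd₂ _ _ _)).toZModLinearMap r
  let B : Additive ↥π.range →ₗ[ZMod r] Additive ↥π.range →ₗ[ZMod r] Additive ↥π.range :=
    (AddMonoidHom.mk' b₁ fun a b => LinearMap.ext fun c =>
      congrArg Additive.ofMul (hadd₁ _ _ _)).toZModLinearMap r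
  have hB : ∀ a b, B a b = Additive.ofMul (β a.toMul b.toMul) := fun _ _ => rfl
  have hequiv : ∀ φ a b, B (L φ a) (L φ b) = L φ (B a b) := by
    intro φ a b
    apply Additive.toMul.injective
    refine Subtype.ext ?_
    obtain ⟨x, hx⟩ := a.toMul.2
    obtain ⟨y, hy⟩ := b.toMul.2
    rw [hL, hB, hB, toMul_ofMul, toMul_ofMul]
    have ea : (L φ a).toMul = (⟨π (φ x), φ x, rfl⟩ : ↥π.range) := Subtype.ext (by rw [hL, ← hx, hEπ])
    have eb : (L φ b).toMul = (⟨π (φ y), φ y, rfl⟩ : ↥π.range) := Subtype.ext (by rw [hL, ← hy, hEπ])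
    rw [ea, eb, show a.toMul = (⟨π x, x, rfl⟩ : ↥π.range) from Subtype.ext hx.symm,
      show b.toMul = (⟨π y, y, rfl⟩ : ↥π.range) from Subtype.ext hy.symm, hβ, hβ, hE₀,
      map_commutatorElement φ x y]
  refine FrobEigen.exists_relation hr2 hp hdim hv (L α) (L ω) (by rw [← map_pow, hα, map_one])
    (fun j hj hjv a ha => ?_) (by rw [← map_pow, hω, map_one])
    (by rw [← map_mul, hωα, map_mul, map_pow]) hm B (fun a => ?_) (hequiv α) (hequiv ω) (fun e => ?_)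
  · obtain ⟨x, hx⟩ := a.toMul.2
    rw [← map_pow] at ha
    have e := congrArg (fun c : Additive ↥π.range => ((c.toMul : ↥π.range) : Γ ⧸ Mk (Γ := Γ) 1 r)) ha
    simp only [hL] at e
    rw [← hx, hEπ] at e
    have hk : x⁻¹ * (α ^ j) x ∈ π.ker := by
      rw [MonoidHom.mem_ker, map_mul, map_inv, e, inv_mul_cancel]
    rw [hπ, ker_pw h hr hr2 hrn hM] at hk
    have hx0 := mem_of_fix_mod (Mk (Γ := Γ) 0 r) (α ^ j) (fun z hz => inv_Mk 0 r (α ^ j) z hz)
      (hfix j hj hjv) hk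
    rw [← ker_pw h hr hr2 hrn hM] at hx0
    apply Additive.toMul.injective
    refine Subtype.ext ?_
    rw [← hx]
    exact hx0
  · obtain ⟨x, hx⟩ := a.toMul.2
    apply Additive.toMul.injective
    refine Subtype.ext ?_
    rw [hB, toMul_ofMul, show a.toMul = (⟨π x, x, rfl⟩ : ↥π.range) from Subtype.ext hx.symm, hβ,
      commutatorElement_self, map_one]
    rfl
  · refine hM (le_antisymm (Mk_le 1 r) ?_)
    show γ Γ 1 ≤ _
    rw [show γ Γ 1 = ⁅(⊤ : Subgroup Γ), ⊤⁆ from Subgroup.top_lowerCentralSeries_one]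
    refine commutator_le.2 fun x _ y _ => ?_
    rw [← qm_eq_one, ← hβ x y]
    have := LinearMap.congr_fun (LinearMap.congr_fun e (Additive.ofMul ⟨π x, x, rfl⟩))
      (Additive.ofMul ⟨π y, y, rfl⟩)
    exact congrArg (fun c : Additive ↥π.range => ((c.toMul : ↥π.range) : Γ ⧸ Mk (Γ := Γ) 1 r)) this

end CfsgLib.FT.FrobLayer
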