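import Mathlib.Data.ZMod.Basic
import Mathlib.Algebra.Field.GeomSum
import Mathlib.Data.Nat.Prime.Basic
import Mathlib.Tactic

/-!
# The arithmetic of a relation `m ^ i + m ^ j ≡ 1 (mod v)`

With `1 + m + ⋯ + m ^ (p-1) ≡ 0` and `r ≡ m ^ t` this makes `v` small against `r ^ (p-2)`, and `p ≠ 3`.
-/

set_option autoImplicit false

open Finset

namespace CfsgLib.FT.FrobArith

/-- The case `p = 5`: `v` divides `11`. -/
theorem eleven {v : ℕ} (M : ZMod v) (hsum : 1 + M + M ^ 2 + M ^ 3 + M ^ 4 = 0) {i j : ℕ} (hi : 0 < i)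
    (hi5 : i < 5) (hj : 0 < j) (hj5 : j < 5) (hij : i ≠ j) (h : M ^ i + M ^ j = 1) :
    (11 : ZMod v) = 0 := by
  interval_cases i <;> interval_cases j <;>
    first
      | omega
      | linear_combination (-7 - 2 * M - 4 * M ^ 2 - M ^ 3) * h + (4 + M) * hsum
      | linear_combination (-6 - 3 * M + M ^ 2 - M ^ 3) * h + (5 - 2 * M + M ^ 2) * hsum
      | linear_combination 11 * (-1 + M ^ 2 + M ^ 3) * h + 11 * (M - M ^ 3) * hsum
      | linear_combination 11 * (-2 - M ^ 2 - M ^ 3) * h + 11 * (-1 + M + M ^ 2) * hsum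
      | linear_combination (-3 + 3 * M + 2 * M ^ 2 + 4 * M ^ 3) * h +
          (8 - 5 * M + 2 * M ^ 2 - 4 * M ^ 3) * hsum
      | linear_combination (-5 + 2 * M + M ^ 2 - 2 * M ^ 3) * h +
          (6 - 4 * M - M ^ 2 + 2 * M ^ 3) * hsum

/-- `x` with exponents below `p - 2`. -/
theorem exists_shift {p a b : ℕ} (hp : 7 ≤ p) :
    ∃ c < p, c ≤ p - 3 ∧ (a + c) % p ≤ p - 3 ∧ (b + c) % p ≤ p - 3 := by
  classical
  by_contra hcon
  push Not at hcon
  set bad : Finset ℕ := {p - 2, p - 1, (2 * p - a % p - 2) % p, (2 * p - a % p - 1) % p,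
    (2 * p - b % p - 2) % p, (2 * p - b % p - 1) % p} with hbad
  have key : ∀ x c : ℕ, c < p → p - 3 < (x + c) % p →
      c = (2 * p - x % p - 2) % p ∨ c = (2 * p - x % p - 1) % p := by
    intro x c hc h
    have hlt := Nat.mod_lt (x + c) (show 0 < p by omega)
    have hx := Nat.mod_lt x (show 0 < p by omega)
    have e : (x + c) % p = if x % p + c < p then x % p + c else x % p + c - p := by
      rw [Nat.add_mod, Nat.mod_eq_of_lt hc]
      split_ifs with h'
      · exact Nat.mod_eq_of_lt h'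
      · rw [Nat.mod_eq_sub_mod (by omega), Nat.mod_eq_of_lt (by omega)]
    have hmod : ∀ y : ℕ, y < 2 * p → y % p = if y < p then y else y - p := fun y hy => by
      split_ifs with h'
      · exact Nat.mod_eq_of_lt h'
      · rw [Nat.mod_eq_sub_mod (by omega), Nat.mod_eq_of_lt (by omega)]
    rw [hmod (2 * p - x % p - 2) (by omega), hmod (2 * p - x % p - 1) (by omega)]
    rw [e] at h hlt
    split_ifs at h hlt ⊢ <;> omega
  have hsub : Finset.range p ⊆ bad := by
    intro c hc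
    rw [Finset.mem_range] at hc
    simp only [hbad, Finset.mem_insert, Finset.mem_singleton]
    by_cases h1 : c ≤ p - 3
    · by_cases h2 : (a + c) % p ≤ p - 3
      · rcases key b c hc (hcon c hc h1 h2) with q | q <;> omega
      · rcases key a c hc (not_le.1 h2) with q | q <;> omega
    · omega
  have hcard : bad.card ≤ 6 := by
    rw [hbad]
    refine (Finset.card_insert_le _ _).trans (Nat.succ_le_succ ?_)
    refine (Finset.card_insert_le _ _).trans (Nat.succ_le_succ ?_)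
    refine (Finset.card_insert_le _ _).trans (Nat.succ_le_succ ?_)
    exact Finset.card_le_three
  have := (Finset.card_le_card hsub).trans hcard
  rw [Finset.card_range] at this
  omega

/-- The bound. -/
theorem bound_of_relation {p v r m : ℕ} (hp : p.Prime) (hp2 : Odd p) (hv : 1 < v) (hv2 : Odd v)
    (hr : 3 ≤ r) (hr2 : Odd r) (hmp : (m : ZMod v) ^ p = 1)
    (hsum : ∑ k ∈ range p, (m : ZMod v) ^ k = 0) {i j t : ℕ} (hi : 0 < i) (hip : i < p) (hj : 0 < j)
    (hjp : j < p) (hij : i ≠ j) (hrel : (m : ZMod v) ^ i + (m : ZMod v) ^ j = 1)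
    (hrt : (r : ZMod v) = (m : ZMod v) ^ t) :
    5 ≤ p ∧ ((v : ℝ) + 1 + 1 / (4 * (v : ℝ))) * 50 ≤ 23 * (r : ℝ) ^ (p - 2) := by
  set M : ZMod v := (m : ZMod v) with hM
  have hp3 : 3 ≤ p := by obtain ⟨k, hk⟩ := hp2; have := hp.two_le; omega
  have hv3 : (3 : ℝ) ≤ v := by
    obtain ⟨k, hk⟩ := hv2
    exact_mod_cast (by omega : 3 ≤ v)
  have hinv : 1 / (4 * (v : ℝ)) ≤ 1 / 12 := one_div_le_one_div_of_le (by norm_num) (by linarith)
  have hr3 : (3 : ℝ) ≤ r := by exact_mod_cast hr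
  by_cases h3 : p = 3
  · exfalso
    subst h3
    simp only [Finset.sum_range_succ, Finset.sum_range_zero, pow_zero, pow_one, zero_add] at hsum
    have h2 : M + M ^ 2 = 1 := by
      interval_cases i <;> interval_cases j
      all_goals first
        | omega
        | (rw [pow_one] at hrel; linear_combination hrel)
    have h4 : ((2 : ℕ) : ZMod v) = 0 := by push_cast; linear_combination hsum - h2
    have := Nat.le_of_dvd two_pos ((ZMod.natCast_eq_zero_iff _ _).1 h4)
    obtain ⟨k, hk⟩ := hv2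
    omega
  have hp5 : 5 ≤ p := by obtain ⟨k, hk⟩ := hp2; omega
  refine ⟨hp5, ?_⟩
  by_cases h5 : p = 5
  · subst h5
    simp only [Finset.sum_range_succ, Finset.sum_range_zero, pow_zero, pow_one, zero_add] at hsum
    have h11 : ((11 : ℕ) : ZMod v) = 0 := by
      push_cast
      exact eleven M hsum hi hip hj hjp hij hrel
    have hle : (v : ℝ) ≤ 11 := by
      exact_mod_cast Nat.le_of_dvd (by norm_num) ((ZMod.natCast_eq_zero_iff _ _).1 h11)
    have : (27 : ℝ) ≤ (r : ℝ) ^ 3 := by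
      calc (27 : ℝ) = 3 ^ 3 := by norm_num
        _ ≤ _ := pow_le_pow_left₀ (by norm_num) hr3 3
    show _ ≤ 23 * (r : ℝ) ^ 3
    linarith
  have hp7 : 7 ≤ p := by obtain ⟨k, hk⟩ := hp2; omega
  have hMmod : ∀ x, M ^ x = M ^ (x % p) := fun x => pow_eq_pow_mod x hmp
  have hpow : (r : ℝ) ^ (p - 2) = (r : ℝ) ^ (p - 4) * (r : ℝ) ^ 2 := by
    rw [← pow_add]; congr 1; omega
  have h27 : (27 : ℝ) ≤ (r : ℝ) ^ (p - 4) := by
    calc (27 : ℝ) = 3 ^ 3 := by norm_num
      _ ≤ 3 ^ (p - 4) := pow_le_pow_right₀ (by norm_num) (by omega)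
      _ ≤ _ := pow_le_pow_left₀ (by norm_num) hr3 _
  by_cases ht : t % p = 0
  · have h1 : ((r - 1 : ℕ) : ZMod v) = 0 := by
      rw [Nat.cast_sub (by omega), hrt, hMmod t, ht, pow_zero, Nat.cast_one, sub_self]
    have hle := Nat.le_of_dvd (by omega) ((ZMod.natCast_eq_zero_iff _ _).1 h1)
    have hle' : (v : ℝ) + 1 ≤ r := by exact_mod_cast (by omega : v + 1 ≤ r)
    rw [hpow]
    nlinarith
  -- `M` is a power of `r`
  obtain ⟨s, -, hs⟩ := Nat.exists_mul_mod_eq_one_of_coprime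
    ((hp.coprime_iff_not_dvd.2 fun h => ht (Nat.mod_eq_zero_of_dvd h)).symm : Nat.Coprime t p)
    hp.one_lt
  have hMr : M = (r : ZMod v) ^ s := by rw [hrt, ← pow_mul, hMmod, hs, pow_one]
  have hrp : (r : ZMod v) ^ p = 1 := by rw [hrt, ← pow_mul, mul_comm, pow_mul, hmp, one_pow]
  have hrmod : ∀ x, (r : ZMod v) ^ x = (r : ZMod v) ^ (x % p) := fun x => pow_eq_pow_mod x hrp
  rw [hMr, ← pow_mul, ← pow_mul] at hrel
  have hne : (s * i) % p ≠ (s * j) % p := by
    intro e
    apply hij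
    have e1 : (t * (s * i)) % p = (t * (s * j)) % p := by rw [Nat.mul_mod, e, ← Nat.mul_mod]
    rw [← mul_assoc, ← mul_assoc, Nat.mul_mod, hs, Nat.mul_mod (t * s) j, hs, one_mul, one_mul,
      Nat.mod_mod, Nat.mod_mod, Nat.mod_eq_of_lt hip, Nat.mod_eq_of_lt hjp] at e1
    exact e1
  obtain ⟨c, hc, hc3, ha, hb⟩ := exists_shift (a := s * i) (b := s * j) hp7
  set A := (s * i + c) % p with hA
  set B := (s * j + c) % p with hB
  have hAB : A ≠ B := fun e => hne (Nat.ModEq.add_right_cancel' c e)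
  set N : ℤ := (r : ℤ) ^ A + (r : ℤ) ^ B - (r : ℤ) ^ c with hN
  have hN0 : (N : ZMod v) = 0 := by
    rw [hN]
    push_cast
    rw [hA, hB, ← hrmod, ← hrmod, pow_add, pow_add]
    linear_combination ((r : ZMod v) ^ c) * hrel
  have hodd : Odd N := by
    have h' : ∀ x : ℕ, Odd ((r : ℤ) ^ x) := fun x => ((Int.odd_coe_nat _).2 hr2).pow
    exact ((h' A).add_odd (h' B)).sub_odd (h' c)
  have hNne : N ≠ 0 := fun e => by rw [e] at hodd; simp at hodd
  have hle : (v : ℤ) ≤ (r : ℤ) ^ (p - 3) + (r : ℤ) ^ (p - 4) := by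
    have h1 : (v : ℤ) ≤ |N| := Int.le_of_dvd (abs_pos.2 hNne)
      ((dvd_abs _ _).2 ((ZMod.intCast_zmod_eq_zero_iff_dvd _ _).1 hN0))
    have hr1 : (1 : ℤ) ≤ r := by omega
    refine h1.trans (abs_le.2 ⟨?_, ?_⟩)
    · rw [hN]
      have := pow_le_pow_right₀ hr1 hc3
      have h' : ∀ x : ℕ, (0 : ℤ) ≤ (r : ℤ) ^ x := fun x => by positivity
      linarith [h' A, h' B, h' (p - 4)]
    · rw [hN]
      have h0 : (0 : ℤ) ≤ (r : ℤ) ^ c := by positivity
      rcases lt_or_gt_of_ne hAB with h | h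
      · have := pow_le_pow_right₀ hr1 (show A ≤ p - 4 by omega)
        have := pow_le_pow_right₀ hr1 hb
        linarith
      · have := pow_le_pow_right₀ hr1 (show B ≤ p - 4 by omega)
        have := pow_le_pow_right₀ hr1 ha
        linarith
  have hle' : (v : ℝ) ≤ (r : ℝ) ^ (p - 4) * (r + 1) := by
    have := (Int.cast_le (R := ℝ)).2 hle
    push_cast at this
    rw [show p - 3 = p - 4 + 1 by omega, pow_succ] at this
    linarith
  rw [hpow]
  nlinarith [mul_le_mul_of_nonneg_left (show (0 : ℝ) ≤ 23 * (r : ℝ) ^ 2 - 50 * (r + 1) - 5 / 2 by nlinarith)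
    (zero_le_one.trans ((by norm_num : (1 : ℝ) ≤ 27).trans h27))]

end CfsgLib.FT.FrobArith
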