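import Cfsg.Agent.Lib.FT.FrobPower
import Cfsg.Agent.Lib.PGroup.LieEigenGrading

/-!
# Class at most two

With a fixed point free automorphism of prime order a group with `Ctx` has `γ₂ = 1`: otherwise the
commutator on the first layer, read through the power maps, makes it a perfect Lie ring with such an
operator, against Higman's theorem.
-/

set_option autoImplicit false
set_option linter.unusedSectionVars false
set_option linter.style.haveILetI false

open Subgroup
open scoped commutatorElement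

namespace CfsgLib.FT.FrobLayer

open CfsgLib.GrLie

universe u

variable {Γ : Type u} [Group Γ] [Finite Γ] {C : Subgroup Γ} {p : ℕ} (h : Ctx C p)
include h

/-- A prime for which `γ₂^r γ₃` is smaller than `γ₂`. -/
theorem exists_prime_two (hne : γ Γ 3 ≠ γ Γ 2) :
    ∃ r : ℕ, r.Prime ∧ r ∣ expo C ∧ Mk (Γ := Γ) 2 r ≠ γ Γ 2 := by
  -- `γ₂ / γ₃` is killed by `n`
  have hkill : ∀ g ∈ γ Γ 2, expo C • el 2 g = 0 := by
    intro g hg
    set S : AddSubgroup (GrRing Γ) := (nsmulAddMonoidHom (expo C)).ker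
    have := el_succ_mem (n := 1) S (fun a ha b => ?_) hg
    · exact this
    show expo C • (⁅el 1 a, el 0 b⁆ : GrRing Γ) = 0
    rw [← nsmul_lie]
    have hm : ∀ m : ℕ, el 1 (a ^ m) = m • el 1 a := by
      intro m
      induction m with
      | zero => rw [pow_zero, el_one, zero_nsmul]
      | succ m ih => rw [pow_succ, el_mul (pow_mem ha m) ha, ih, succ_nsmul]
    rw [← hm, el_eq_zero_of_mem (pow_expo_mem_succ h ha), zero_lie]
  haveI : (γ Γ 3).Normal := (inv_γ 3).normal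
  let D := (γ Γ 3).subgroupOf (γ Γ 2)
  have hcard : 1 < Nat.card (↥(γ Γ 2) ⧸ D) := by
    rw [← index_eq_card]
    have h0 : D.index ≠ 0 := index_ne_zero_of_finite
    have h1 : D.index ≠ 1 := fun e => hne (le_antisymm (γ_antitone (by norm_num))
      (relIndex_eq_one.1 (show (γ Γ 3).relIndex (γ Γ 2) = 1 from e)))
    omega
  obtain ⟨r, hr, hrd⟩ := Nat.exists_prime_and_dvd hcard.ne'
  haveI := Fact.mk hr
  obtain ⟨q, hq⟩ := exists_prime_orderOf_dvd_card' r hrd
  obtain ⟨⟨g, hg⟩, rfl⟩ := QuotientGroup.mk_surjective q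
  have hgn : g ^ expo C ∈ γ Γ 3 := by
    rw [← el_eq_zero_iff (pow_mem hg _)]
    have hm : ∀ m : ℕ, el 2 (g ^ m) = m • el 2 g := by
      intro m
      induction m with
      | zero => rw [pow_zero, el_one, zero_nsmul]
      | succ m ih => rw [pow_succ, el_mul (pow_mem hg m) hg, ih, succ_nsmul]
    rw [hm]
    exact hkill g hg
  refine ⟨r, hr, ?_, fun e => ?_⟩
  · rw [← hq, orderOf_dvd_iff_pow_eq_one, ← QuotientGroup.mk_pow, QuotientGroup.eq_one_iff]
    exact hgn
  · -- the `r`-th power map of the quotient would be surjective, hence injective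
    set f : ↥(γ Γ 2) ⧸ D → ↥(γ Γ 2) ⧸ D := fun a => a ^ r with hf
    have hcomm : ∀ a b : ↥(γ Γ 2) ⧸ D, a * b = b * a := fun a b => by
      obtain ⟨x, rfl⟩ := QuotientGroup.mk_surjective a
      obtain ⟨y, rfl⟩ := QuotientGroup.mk_surjective b
      rw [← commutatorElement_eq_one_iff_mul_comm]
      refine (QuotientGroup.eq_one_iff ⁅x, y⁆).2 (mem_subgroupOf.2 ?_)
      show ⁅(x : Γ), (y : Γ)⁆ ∈ γ Γ 3
      exact comm_succ x.2 _
    letI : CommGroup (↥(γ Γ 2) ⧸ D) :=
      { (inferInstance : Group (↥(γ Γ 2) ⧸ D)) with mul_comm := hcomm }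
    have hsurj : Function.Surjective f := by
      intro a
      obtain ⟨⟨z, hz⟩, rfl⟩ := QuotientGroup.mk_surjective a
      let Y : Subgroup Γ :=
        (((powMonoidHom r : (↥(γ Γ 2) ⧸ D) →* _).range).comap (QuotientGroup.mk' D)).map (γ Γ 2).subtype
      have hle : Mk (Γ := Γ) 2 r ≤ Y := by
        refine sup_le ((closure_le _).2 ?_) fun w hw => ?_
        · rintro _ ⟨w, hw, rfl⟩
          exact ⟨⟨w, hw⟩ ^ r, ⟨QuotientGroup.mk' D ⟨w, hw⟩, (map_pow _ _ _).symm⟩, rfl⟩
        · refine ⟨⟨w, γ_antitone (by norm_num) hw⟩, ⟨1, ?_⟩, rfl⟩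
          rw [map_one]
          exact ((QuotientGroup.eq_one_iff _).2 (mem_subgroupOf.2 hw)).symm
      obtain ⟨w, ⟨b, hb⟩, hw⟩ := hle (e.ge hz)
      exact ⟨b, hb.trans (congrArg _ (Subtype.ext hw))⟩
    have hinj := (Finite.injective_iff_surjective (f := f)).2 hsurj
    have h1 := hinj (show f (QuotientGroup.mk ⟨g, hg⟩) = f 1 by
      simp only [hf, one_pow]
      rw [← hq]
      exact pow_orderOf_eq_one _)
    rw [h1, orderOf_one] at hq
    exact hr.one_lt.ne hq

variable {r : ℕ} (hr : r.Prime) (hr2 : r ≠ 2) (hrn : r ∣ expo C)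
include hr hr2 hrn

/-- In `Γ / γ₂^r γ₃`: the commutator with an `n`-th power is the power of the commutator. -/
theorem qm_two_comm_pow (x y : Γ) : qm 2 r ⁅x ^ expo C, y⁆ = qm 2 r ⁅x, y⁆ ^ expo C := by
  set c := qm 2 r ⁅x, y⁆ with hc
  set d := qm 2 r ⁅x, ⁅x, y⁆⁆ with hd
  have hdγ : ⁅x, ⁅x, y⁆⁆ ∈ γ Γ 2 := comm_mem_succ x (comm_one x y)
  have hdc : ∀ z : Γ, Commute d (qm 2 r z) := qm_central hdγ
  have hstep : ∀ m : ℕ, qm 2 r ⁅x ^ m, y⁆ = d ^ m.choose 2 * c ^ m := by
    intro m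
    induction m with
    | zero => simp
    | succ m ih =>
      have hxc : qm 2 r x * c * (qm 2 r x)⁻¹ = d * c := by
        rw [hd, hc, commutatorElement_def x ⁅x, y⁆, map_mul, map_mul, map_mul, map_inv, map_inv]
        group
      have hcd : Commute d c := hdc _
      rw [pow_succ', show ⁅x * x ^ m, y⁆ = x * ⁅x ^ m, y⁆ * x⁻¹ * ⁅x, y⁆ by
        simp only [commutatorElement_def]; group, map_mul, map_mul, map_mul, ih, map_inv, ← hc]
      have e1 : qm 2 r x * (d ^ m.choose 2 * c ^ m) * (qm 2 r x)⁻¹ = d ^ m.choose 2 * (d * c) ^ m := by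
        rw [← hxc, ← MulAut.conj_apply, map_mul, map_pow, map_pow, MulAut.conj_apply, MulAut.conj_apply,
          ← (hdc x).eq, mul_inv_cancel_right]
      rw [e1, hcd.mul_pow, ← mul_assoc, ← pow_add, mul_assoc, ← pow_succ,
        Nat.choose_succ_succ' m 1, Nat.choose_one_right, add_comm]
  rw [hstep]
  have hdvd : r ∣ (expo C).choose 2 := by
    have hcop : Nat.Coprime r 2 := (Nat.coprime_primes hr Nat.prime_two).2 hr2
    refine hcop.dvd_of_dvd_mul_right ?_
    rw [Nat.choose_two_right, Nat.div_mul_cancel (Nat.even_mul_pred_self _).two_dvd]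
    exact hrn.mul_right _
  obtain ⟨k, hk⟩ := hdvd
  rw [hk, pow_mul, qm_pow hdγ, one_pow, one_mul]

theorem pow_mul_two {a b : Γ} (ha : a ∈ γ Γ 1) (hb : b ∈ γ Γ 1) :
    qm 2 r ((a * b) ^ expo C) = qm 2 r (a ^ expo C) * qm 2 r (b ^ expo C) := by
  have hc : Commute (qm 2 r a) (qm 2 r b) := by
    rw [commute_iff_eq, ← commutatorElement_eq_one_iff_mul_comm, ← map_commutatorElement, qm_eq_one]
    exact succ_le_Mk (k := 2) (γ_antitone (m := 2 + 1) (n := 1 + 1 + 1) (by norm_num) (comm_mem ha hb))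
  rw [map_pow, map_mul, hc.mul_pow, map_pow, map_pow]

variable (hne2 : Mk (Γ := Γ) 2 r ≠ γ Γ 2)
include hne2

theorem mk_one_ne : Mk (Γ := Γ) 1 r ≠ γ Γ 1 := by
  intro e
  refine hne2 (le_antisymm (Mk_le 2 r) ?_)
  intro g hg
  rw [show γ Γ 2 = ⁅γ Γ 1, ⊤⁆ from rfl] at hg
  refine (show ⁅γ Γ 1, (⊤ : Subgroup Γ)⁆ ≤ Mk (Γ := Γ) 2 r from commutator_le.2 fun a ha b _ => ?_) hg
  rw [← qm_eq_one]
  exact qm_comm_Mk (e.ge ha) b

/-- `c ↦ c ^ n` is injective from `γ₁ / γ₁^r γ₂`. -/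
theorem pow_two_inj {c : Γ} (hc : c ∈ γ Γ 1) (h1 : qm 2 r (c ^ expo C) = 1) :
    c ∈ Mk (Γ := Γ) 1 r := by
  let f : ↥(γ Γ 1) →* Γ ⧸ Mk (Γ := Γ) 2 r :=
    MonoidHom.mk' (fun x => qm 2 r ((x : Γ) ^ expo C))
      fun a b => pow_mul_two h hr hr2 hrn a.2 b.2
  have hker : (Mk (Γ := Γ) 1 r).subgroupOf (γ Γ 1) ≤ f.ker := fun x hx =>
    pow_congr_Mk h hrn (Or.inr rfl) (mem_subgroupOf.1 hx) fun a ha b hb => pow_mul_two h hr hr2 hrn ha hb
  have hne1 := mk_one_ne h hr hr2 hrn hne2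
  have hrange : f.range = (γ Γ 2).map (qm 2 r) := by
    refine le_antisymm (by rintro _ ⟨x, rfl⟩; exact ⟨_, pow_expo_mem_succ h x.2, rfl⟩) ?_
    rw [map_le_iff_le_comap]
    show ⁅γ Γ 1, (⊤ : Subgroup Γ)⁆ ≤ _
    refine commutator_le.2 fun a ha b _ => mem_comap.2 ?_
    obtain ⟨x, hx⟩ := exists_pw h hr hr2 hrn ha
    refine ⟨⟨⁅x, b⁆, comm_one x b⟩, ?_⟩
    show qm 2 r (⁅x, b⁆ ^ expo C) = _
    rw [map_pow, ← qm_two_comm_pow h hr hr2 hrn]
    exact (qm_comm_congr (j := 1) ha hx.symm b).symm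
  have hidx : f.ker.index = r ^ p := by
    rw [index_ker, hrange, ← relIndex_ker, QuotientGroup.ker_mk']
    exact relIndex_eq h (inv_γ 2) (inv_Mk 2 r) (Mk_le 2 r) hr
      (fun c hc => pow_mem_Mk (mem_inf.1 hc).1) hne2
  have h0 : ((Mk (Γ := Γ) 1 r).subgroupOf (γ Γ 1)).index = r ^ p :=
    relIndex_eq h (inv_γ 1) (inv_Mk 1 r) (Mk_le 1 r) hr (fun c hc => pow_mem_Mk (mem_inf.1 hc).1) hne1
  have e : (Mk (Γ := Γ) 1 r).subgroupOf (γ Γ 1) = f.ker :=
    eq_of_le_of_card_ge hker (by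
      have e1 := f.ker.card_mul_index
      have e2 := ((Mk (Γ := Γ) 1 r).subgroupOf (γ Γ 1)).card_mul_index
      rw [hidx] at e1
      rw [h0, ← e1] at e2
      exact (Nat.eq_of_mul_eq_mul_right (pow_pos hr.pos p) e2).ge)
  have h2 : (⟨c, hc⟩ : ↥(γ Γ 1)) ∈ f.ker := h1
  rw [← e] at h2
  exact mem_subgroupOf.1 h2

theorem qm_two_pow_congr {a b : Γ} (ha : a ∈ γ Γ 1) (hb : b ∈ γ Γ 1) (e : qm 1 r a = qm 1 r b) :
    qm 2 r (a ^ expo C) = qm 2 r (b ^ expo C) := by
  have hm : a⁻¹ * b ∈ Mk (Γ := Γ) 1 r := by rw [← qm_eq_one, map_mul, map_inv, e, inv_mul_cancel]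
  have h1 := pow_congr_Mk h hrn (Or.inr rfl) hm fun a ha b hb => pow_mul_two h hr hr2 hrn ha hb
  rw [pow_mul_two h hr hr2 hrn (inv_mem ha) hb, inv_pow, map_inv, inv_mul_eq_one] at h1
  exact h1

omit hne2 in
theorem false_of_operator {s : ℕ} (hs : s.Prime) (α : MulAut Γ) (hord : ∀ x, (⇑α)^[s] x = x)
    (hfix : ∀ x, α x = x → x = 1) (hsr : r ≠ s) (hne2 : Mk (Γ := Γ) 2 r ≠ γ Γ 2) : False := by
  classical
  have hne := mk_one_ne h hr hr2 hrn hne2
  set π := pw h hr hr2 hrn with hπ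
  obtain ⟨β, hβ⟩ := exists_bracket h hr hr2 hrn hne
  have hcomm : ∀ a b : ↥π.range, a * b = b * a := by
    rintro ⟨_, x, rfl⟩ ⟨_, y, rfl⟩
    refine Subtype.ext ?_
    exact (qm_central (k := 1) (r := r) (pow_expo_mem h x) _).eq
  letI : CommGroup ↥π.range := { (inferInstance : Group ↥π.range) with mul_comm := hcomm }
  have hsurj : ∀ a : ↥π.range, ∃ x, (⟨π x, x, rfl⟩ : ↥π.range) = a := by
    rintro ⟨_, x, rfl⟩; exact ⟨x, rfl⟩
  have hmk : ∀ x y : Γ, (⟨π (x * y), x * y, rfl⟩ : ↥π.range) = ⟨π x, x, rfl⟩ * ⟨π y, y, rfl⟩ :=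
    fun x y => Subtype.ext (map_mul π x y)
  let br : Additive ↥π.range → Additive ↥π.range → Additive ↥π.range :=
    fun a b => Additive.ofMul (β (Additive.toMul a) (Additive.toMul b))
  letI : LieRing (Additive ↥π.range) :=
    { (inferInstance : AddCommGroup (Additive ↥π.range)) with
      bracket := br
      add_lie := fun a b c => by
        obtain ⟨x, hx⟩ := hsurj a.toMul
        obtain ⟨y, hy⟩ := hsurj b.toMul
        obtain ⟨z, hz⟩ := hsurj c.toMul
        apply Additive.toMul.injective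
        show β (a.toMul * b.toMul) c.toMul = β a.toMul c.toMul * β b.toMul c.toMul
        rw [← hx, ← hy, ← hz, ← hmk]
        refine Subtype.ext ?_
        rw [coe_mul, hβ, hβ, hβ, qm_comm_mul_left (comm_one y z)]
      lie_add := fun a b c => by
        obtain ⟨x, hx⟩ := hsurj a.toMul
        obtain ⟨y, hy⟩ := hsurj b.toMul
        obtain ⟨z, hz⟩ := hsurj c.toMul
        apply Additive.toMul.injective
        show β a.toMul (b.toMul * c.toMul) = β a.toMul b.toMul * β a.toMul c.toMul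
        rw [← hx, ← hy, ← hz, ← hmk]
        refine Subtype.ext ?_
        rw [coe_mul, hβ, hβ, hβ, qm_comm_mul_right (comm_one x z)]
      lie_self := fun a => by
        obtain ⟨x, hx⟩ := hsurj a.toMul
        apply Additive.toMul.injective
        show β a.toMul a.toMul = 1
        rw [← hx]
        refine Subtype.ext ?_
        rw [hβ, commutatorElement_self, map_one, OneMemClass.coe_one]
      leibniz_lie := fun a b c => by
        obtain ⟨x, hx⟩ := hsurj a.toMul
        obtain ⟨y, hy⟩ := hsurj b.toMul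
        obtain ⟨z, hz⟩ := hsurj c.toMul
        obtain ⟨u, hu⟩ := hsurj (β b.toMul c.toMul)
        obtain ⟨v, hv⟩ := hsurj (β a.toMul b.toMul)
        obtain ⟨w, hw⟩ := hsurj (β a.toMul c.toMul)
        apply Additive.toMul.injective
        show β a.toMul (β b.toMul c.toMul) = β (β a.toMul b.toMul) c.toMul * β b.toMul (β a.toMul c.toMul)
        have eu := congrArg Subtype.val hu
        have ev := congrArg Subtype.val hv
        have ew := congrArg Subtype.val hw
        rw [← hy, ← hz, hβ] at eu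
        rw [← hx, ← hy, hβ] at ev
        rw [← hx, ← hz, hβ] at ew
        rw [← hu, ← hv, ← hw, ← hx, ← hy, ← hz]
        refine Subtype.ext ?_
        rw [coe_mul, hβ, hβ, hβ, ← map_mul]
        -- compare in `γ₂`
        have hM : (⁅v, z⁆ * ⁅y, w⁆)⁻¹ * ⁅x, u⁆ ∈ γ Γ 1 :=
          mul_mem (inv_mem (mul_mem (comm_one _ _) (comm_one _ _))) (comm_one _ _)
        have key : qm 2 r (⁅x, u⁆ ^ expo C) = qm 2 r ((⁅v, z⁆ * ⁅y, w⁆) ^ expo C) := by
          have hright : ∀ s t : Γ, qm 2 r ⁅s, t ^ expo C⁆ = qm 2 r ⁅s, t⁆ ^ expo C := fun s t => by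
            rw [qm_comm_swap, qm_two_comm_pow h hr hr2 hrn, qm_comm_swap (x := s) (y := t), inv_pow]
          have hright' : ∀ (s : Γ) {t t' : Γ}, t ∈ γ Γ 1 → qm 1 r t = qm 1 r t' →
              qm 2 r ⁅s, t⁆ = qm 2 r ⁅s, t'⁆ := fun s t t' ht e => by
            rw [qm_comm_swap, qm_comm_congr (j := 1) ht e, ← qm_comm_swap]
          rw [pow_mul_two h hr hr2 hrn (comm_one _ _) (comm_one _ _), map_pow, map_pow, map_pow,
            ← hright x u, ← qm_two_comm_pow h hr hr2 hrn v z, ← hright y w,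
            hright' x (pow_expo_mem h u) eu, qm_comm_congr (j := 1) (pow_expo_mem h v) ev z,
            hright' y (pow_expo_mem h w) ew, ← map_mul]
          have hj := el_jacobi (i := 0) (j := 0) (k := 0) (g := x) (h := y) (l := z)
            (by rw [γ_zero]; exact mem_top _) (by rw [γ_zero]; exact mem_top _)
            (by rw [γ_zero]; exact mem_top _)
          have m1 : ⁅x, ⁅y, z⁆⁆ ∈ γ Γ 2 := comm_mem_succ x (comm_one y z)
          have m2 : ⁅⁅x, y⁆, z⁆ ∈ γ Γ 2 := comm_succ (comm_one x y) z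
          have m3 : ⁅y, ⁅x, z⁆⁆ ∈ γ Γ 2 := comm_mem_succ y (comm_one x z)
          simp only [show 0 + 0 + 0 + 2 = 2 from rfl] at hj
          rw [← el_mul m2 m3, ← sub_eq_zero, sub_eq_add_neg, ← el_inv (mul_mem m2 m3),
            ← el_mul m1 (inv_mem (mul_mem m2 m3)), el_eq_zero_iff (mul_mem m1 (inv_mem (mul_mem m2 m3)))] at hj
          have h3 := qm_eq_one.2 (succ_le_Mk (k := 2) (r := r) hj)
          rw [map_mul, map_inv, mul_inv_eq_one] at h3
          exact h3
        have hz1 := pow_two_inj h hr hr2 hrn hne2 hM (by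
          rw [pow_mul_two h hr hr2 hrn (inv_mem (mul_mem (comm_one _ _) (comm_one _ _))) (comm_one _ _),
            inv_pow, map_inv, key, inv_mul_cancel])
        rw [← qm_eq_one, map_mul, map_inv, inv_mul_eq_one] at hz1
        exact hz1.symm }
  -- the operator
  have hαwd : ∀ x y : Γ, π x = π y → π (α x) = π (α y) := fun x y e => by
    have hm : x⁻¹ * y ∈ π.ker := by rw [MonoidHom.mem_ker, map_mul, map_inv, e, inv_mul_cancel]
    have hm' : α (x⁻¹ * y) ∈ π.ker := by
      rw [hπ, ker_pw h hr hr2 hrn hne] at hm ⊢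
      exact inv_Mk 0 r α _ hm
    rw [MonoidHom.mem_ker, map_mul α, map_inv α, map_mul, map_inv, inv_mul_eq_one] at hm'
    exact hm'
  let A : Additive ↥π.range →+ Additive ↥π.range :=
    AddMonoidHom.mk' (fun a => Additive.ofMul ⟨π (α (hsurj a.toMul).choose), _, rfl⟩) fun a b => by
      apply Additive.toMul.injective
      refine Subtype.ext ?_
      show π (α _) = π (α _) * π (α _)
      rw [← map_mul, ← map_mul]
      refine hαwd _ _ ?_
      have e0 : π _ = ((a + b).toMul : ↥π.range).1 := congrArg Subtype.val (hsurj (a + b).toMul).choose_spec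
      have e1 : π _ = (a.toMul : ↥π.range).1 := congrArg Subtype.val (hsurj a.toMul).choose_spec
      have e2 : π _ = (b.toMul : ↥π.range).1 := congrArg Subtype.val (hsurj b.toMul).choose_spec
      exact e0.trans ((congrArg₂ (· * ·) e1 e2).symm.trans (map_mul π _ _).symm)
  have hA : ∀ x : Γ, A (Additive.ofMul ⟨π x, x, rfl⟩) = Additive.ofMul ⟨π (α x), α x, rfl⟩ := fun x => by
    apply Additive.toMul.injective
    exact Subtype.ext (hαwd _ _ (congrArg Subtype.val
      (hsurj (⟨π x, x, rfl⟩ : ↥π.range)).choose_spec))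
  have hlie : ∀ a b, A ⁅a, b⁆ = ⁅A a, A b⁆ := by
    intro a b
    obtain ⟨x, hx⟩ := hsurj a.toMul
    obtain ⟨y, hy⟩ := hsurj b.toMul
    obtain ⟨z, hz⟩ := hsurj (β a.toMul b.toMul)
    rw [show a = Additive.ofMul ⟨π x, x, rfl⟩ from congrArg Additive.ofMul hx.symm,
      show b = Additive.ofMul ⟨π y, y, rfl⟩ from congrArg Additive.ofMul hy.symm, hA, hA,
      show (⁅Additive.ofMul (⟨π x, x, rfl⟩ : ↥π.range), Additive.ofMul ⟨π y, y, rfl⟩⁆ :
        Additive ↥π.range) = Additive.ofMul ⟨π z, z, rfl⟩ by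
          show Additive.ofMul (β _ _) = _
          rw [hz, ← hx, ← hy]
          rfl, hA]
    apply Additive.toMul.injective
    refine Subtype.ext ?_
    show π (α z) = _
    have ez := congrArg Subtype.val hz
    rw [← hx, ← hy, hβ] at ez
    refine Eq.trans ?_ (hβ (α x) (α y)).symm
    -- apply `α` to `z ^ n ≡ ⁅x, y⁆`
    have hd : (z ^ expo C)⁻¹ * ⁅x, y⁆ ∈ Mk (Γ := Γ) 1 r := by
      rw [← qm_eq_one, map_mul, map_inv, ← ez]
      exact inv_mul_cancel (π z)
    have h2 := qm_eq_one.2 (inv_Mk 1 r α _ hd)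
    rw [map_mul α, map_inv α, map_pow α, map_commutatorElement, map_mul, map_inv, inv_mul_eq_one] at h2
    exact h2
  have hordA : ∀ a, (⇑A)^[s] a = a := by
    intro a
    obtain ⟨x, hx⟩ := hsurj a.toMul
    have hit : ∀ m : ℕ, (⇑A)^[m] (Additive.ofMul ⟨π x, x, rfl⟩) =
        Additive.ofMul (⟨π ((⇑α)^[m] x), _, rfl⟩ : ↥π.range) := by
      intro m
      induction m with
      | zero => rfl
      | succ m ih =>
        rw [Function.iterate_succ_apply', ih, hA]
        apply Additive.toMul.injective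
        refine Subtype.ext ?_
        show π (α ((⇑α)^[m] x)) = π ((⇑α)^[m + 1] x)
        rw [Function.iterate_succ_apply']
    rw [show a = Additive.ofMul ⟨π x, x, rfl⟩ from congrArg Additive.ofMul hx.symm, hit]
    apply Additive.toMul.injective
    exact Subtype.ext (congrArg π (hord x))
  have hfixA : ∀ a, A a = a → a = 0 := by
    intro a ha
    obtain ⟨x, hx⟩ := hsurj a.toMul
    rw [show a = Additive.ofMul ⟨π x, x, rfl⟩ from congrArg Additive.ofMul hx.symm] at ha ⊢
    rw [hA] at ha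
    have e : π (α x) = π x := congrArg Subtype.val (Additive.ofMul.injective ha)
    -- lift the fixed point
    let f : π.ker → π.ker := fun m => ⟨(m : Γ)⁻¹ * α m, mul_mem (inv_mem m.2) (by
      have hm : (m : Γ) ∈ Mk (Γ := Γ) 0 r := (ker_pw h hr hr2 hrn hne).le m.2
      exact (ker_pw h hr hr2 hrn hne).ge (inv_Mk 0 r α _ hm))⟩
    have hf : Function.Surjective f := Finite.injective_iff_surjective.1 fun m m' hmm => by
      have h1 : (m : Γ)⁻¹ * α m = (m' : Γ)⁻¹ * α m' := congrArg Subtype.val hmm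
      have h2 : α ((m : Γ) * (m' : Γ)⁻¹) = (m : Γ) * (m' : Γ)⁻¹ := by
        rw [inv_mul_eq_iff_eq_mul] at h1
        rw [map_mul, map_inv, h1]
        group
      exact Subtype.ext (mul_inv_eq_one.1 (hfix _ h2))
    obtain ⟨m, hm⟩ := hf ⟨x⁻¹ * α x, by rw [MonoidHom.mem_ker, map_mul, map_inv, e, inv_mul_cancel]⟩
    have h1 : (m : Γ)⁻¹ * α m = x⁻¹ * α x := congrArg Subtype.val hm
    have h2 := hfix (x * (m : Γ)⁻¹) (by
      rw [inv_mul_eq_iff_eq_mul] at h1
      rw [map_mul, map_inv, h1]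
      group)
    apply Additive.toMul.injective
    refine Subtype.ext ?_
    show π x = 1
    rw [mul_inv_eq_one.1 h2]
    exact m.2
  have hkill : ∀ a : Additive ↥π.range, r • a = 0 := by
    intro a
    obtain ⟨x, hx⟩ := hsurj a.toMul
    apply Additive.toMul.injective
    rw [toMul_nsmul, toMul_zero, ← hx]
    exact Subtype.ext (qm_pow (k := 1) (r := r) (pow_expo_mem h x))
  haveI := Fact.mk hs
  have hb := (CfsgLib.LieEigen.lcl_bounds s A hlie hordA hfixA
    ((Nat.coprime_primes hr hs).2 hsr) hkill).1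
  -- the bracket is perfect
  have hperf : GradedLie.lb (⊤ : AddSubgroup (Additive ↥π.range)) ⊤ = ⊤ := by
    refine eq_top_iff.2 fun a _ => ?_
    obtain ⟨x, hx⟩ := hsurj a.toMul
    set B := GradedLie.lb (⊤ : AddSubgroup (Additive ↥π.range)) ⊤
    have key : ∀ g ∈ γ Γ 1, g ∈ γ Γ 1 ∧ ∃ y, qm 1 r g = π y ∧
        Additive.ofMul (⟨π y, y, rfl⟩ : ↥π.range) ∈ B := by
      intro g hg
      rw [show γ Γ 1 = ⁅(⊤ : Subgroup Γ), ⊤⁆ from Subgroup.lowerCentralSeries_one] at hg
      induction hg using Subgroup.closure_induction with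
      | mem z hz =>
        obtain ⟨s', -, t', -, rfl⟩ := hz
        refine ⟨comm_one _ _, ?_⟩
        obtain ⟨y, hy⟩ := hsurj (β ⟨π s', s', rfl⟩ ⟨π t', t', rfl⟩)
        refine ⟨y, by rw [← hβ, ← hy], ?_⟩
        rw [hy]
        exact GradedLie.lie_mem_lb
          (AddSubgroup.mem_top (Additive.ofMul (⟨π s', s', rfl⟩ : ↥π.range)))
          (AddSubgroup.mem_top (Additive.ofMul (⟨π t', t', rfl⟩ : ↥π.range)))
      | one => exact ⟨one_mem _, 1, by rw [map_one, map_one], by
          convert zero_mem B using 1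
          apply Additive.toMul.injective
          exact Subtype.ext (map_one π)⟩
      | mul a b _ _ ha hb =>
        obtain ⟨ya, ea, hya⟩ := ha.2
        obtain ⟨yb, eb, hyb⟩ := hb.2
        refine ⟨mul_mem ha.1 hb.1, ya * yb, by rw [map_mul, ea, eb, map_mul], ?_⟩
        rw [hmk]
        exact add_mem hya hyb
      | inv a _ ha =>
        obtain ⟨ya, ea, hya⟩ := ha.2
        refine ⟨inv_mem ha.1, ya⁻¹, by rw [map_inv, ea, map_inv], ?_⟩
        convert neg_mem hya using 1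
        apply Additive.toMul.injective
        exact Subtype.ext (map_inv π ya)
    obtain ⟨y, hy, hyB⟩ := (key _ (pow_expo_mem h x)).2
    rw [show a = Additive.ofMul ⟨π x, x, rfl⟩ from congrArg Additive.ofMul hx.symm]
    rw [show (⟨π x, x, rfl⟩ : ↥π.range) = ⟨π y, y, rfl⟩ from Subtype.ext hy]
    exact hyB
  have htop : ∀ m, GradedLie.lcl (Additive ↥π.range) m = ⊤ := by
    intro m
    induction m with
    | zero => rfl
    | succ m ih => show GradedLie.lb _ ⊤ = ⊤; rw [ih, hperf]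
  rw [htop] at hb
  have hcard : Nat.card ↥π.range = r ^ p := card_range_pw h hr hr2 hrn hne
  haveI : Subsingleton ↥π.range := ⟨fun a b => by
    have hz : ∀ c : ↥π.range, c = 1 := fun c => by
      have := (AddSubgroup.mem_bot).1 (hb ▸ AddSubgroup.mem_top (Additive.ofMul c))
      exact Additive.ofMul.injective this
    rw [hz a, hz b]⟩
  rw [Nat.card_of_subsingleton (1 : ↥π.range)] at hcard
  exact (Nat.one_lt_pow h.pos.ne' hr.one_lt).ne hcard

omit hr hr2 hrn hne2 in
/-- `γ₂ = 1`. -/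
theorem gamma_two_eq_bot {s : ℕ} (hs : s.Prime) (hsΓ : ¬ s ∣ Nat.card Γ) (α : MulAut Γ)
    (hord : ∀ x, (⇑α)^[s] x = x) (hfix : ∀ x, α x = x → x = 1) : γ Γ 2 = ⊥ := by
  by_contra h2
  have h3 : γ Γ 3 ≠ γ Γ 2 := by
    intro e
    haveI := h.nilp
    obtain ⟨c, hc⟩ := Subgroup.nilpotent_iff_lowerCentralSeries.1 h.nilp
    have hst : ∀ k, γ Γ (2 + k) = γ Γ 2 := by
      intro k
      induction k with
      | zero => rfl
      | succ k ih =>
        show ⁅γ Γ (2 + k), (⊤ : Subgroup Γ)⁆ = _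
        rw [ih]
        exact e
    exact h2 (le_bot_iff.1 ((hst c).ge.trans ((γ_antitone (by omega)).trans hc.le)))
  obtain ⟨r, hr, hrn, hne⟩ := exists_prime_two h h3
  have hrΓ : r ∣ Nat.card Γ := (hrn.trans (relIndex_dvd_card _ _)).trans (card_subgroup_dvd_card C)
  refine false_of_operator h hr ?_ hrn hs α hord hfix ?_ hne
  · rintro rfl
    exact Nat.not_even_iff_odd.2 h.odd (even_iff_two_dvd.2 hrΓ)
  · rintro rfl
    exact hsΓ hrΓ

end CfsgLib.FT.FrobLayer
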