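import Cfsg.Agent.Lib.FT.TypeTwoData
import Cfsg.Agent.Lib.Char.CyclicTIConseq

/-!
# The type II side of a pair: linear characters of `Q` and their induced differences

`Df lam mu = Ind_Q^G (lam - mu)`; its inner products count the elements of `V W₂` carrying one linear
character to another.
-/

set_option autoImplicit false
set_option linter.unusedSectionVars false
set_option linter.style.haveILetI false

open Subgroup

namespace CfsgLib.FT.TwoSide

open scoped ComplexConjugate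
open Cfsg CfsgLib.Char

universe u

variable {G : Type u} [Group G] [Fintype G]

/-- `Ind_Q^G (lam - mu)`. -/
noncomputable def Df {Q : Subgroup G} (lam mu : ↥Q →* ℂˣ) : G → ℂ := indFun Q (lc lam - lc mu)

theorem Df_gen {Q : Subgroup G} (lam mu : ↥Q →* ℂˣ) : IsGeneralizedCharacter G (Df lam mu) :=
  isGeneralizedCharacter_indFun Q ⟨_, _, isCharacter_of_isIrr (isIrrCharacter_lc lam),
    isCharacter_of_isIrr (isIrrCharacter_lc mu), rfl⟩

theorem Df_one {Q : Subgroup G} (lam mu : ↥Q →* ℂˣ) : Df lam mu 1 = 0 := by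
  rw [Df, indFun_one]
  simp [lc]

theorem Df_add {Q : Subgroup G} (lam mu nu : ↥Q →* ℂˣ) : Df lam nu = Df lam mu + Df mu nu := by
  rw [Df, Df, Df, ← indFun_add, sub_add_sub_cancel]

theorem Df_vanish {Q : Subgroup G} (lam mu : ↥Q →* ℂˣ) {g : G} (hg : ∀ t : G, t * g * t⁻¹ ∉ Q) :
    Df lam mu g = 0 := by
  rw [Df, indFun, Finset.sum_eq_zero, mul_zero]
  intro x _
  refine extendByZero_not_mem Q _ ?_
  simpa using hg x⁻¹

theorem inner_Df {Q : Subgroup G} [Fintype Q] (lam mu : ↥Q →* ℂˣ) {f : G → ℂ} (hf : IsClassFunction G f) :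
    classInner f (Df lam mu) =
      classInner (fun x : Q => f x) (lc lam) - classInner (fun x : Q => f x) (lc mu) := by
  rw [Df, classInner_indFun_right _ _ _ hf, classInner_sub_right]

theorem Df_inner_one {Q : Subgroup G} [Fintype Q] {lam mu : ↥Q →* ℂˣ} (hl : lam ≠ 1) (hm : mu ≠ 1) :
    classInner (Df lam mu) (fun _ => 1) = 0 := by
  classical
  rw [Df, classInner_indFun _ _ _ (fun _ _ => rfl), classInner_sub_left,
    show (fun _ : Q => (1 : ℂ)) = lc (1 : ↥Q →* ℂˣ) from funext fun x => by simp [lc],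
    classInner_lc, classInner_lc, if_neg hl, if_neg hm, sub_zero]

theorem lc_conj {K : Type u} [Group K] [Finite K] (lam : K →* ℂˣ) (x : K) :
    conj (lc lam x) = lc lam⁻¹ x := by
  have hp : ((lam x : ℂˣ) : ℂ) ^ Nat.card K = 1 := by
    rw [← Units.val_pow_eq_pow_val, ← map_pow, pow_card_eq_one', map_one, Units.val_one]
  rw [lc_apply, lc_apply, conj_eq_inv_of_pow_eq_one Nat.card_pos.ne' hp, MonoidHom.inv_apply,
    Units.val_inv_eq_inv_val]

theorem Df_conj {Q : Subgroup G} (lam mu : ↥Q →* ℂˣ) :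
    Cfsg.conjFun (Df lam mu) = Df lam⁻¹ mu⁻¹ := by
  funext g
  show conj (indFun Q _ g) = indFun Q _ g
  simp only [indFun, map_mul, map_inv₀, Complex.conj_natCast, map_sum]
  congr 1
  refine Finset.sum_congr rfl fun x _ => ?_
  by_cases hx : x⁻¹ * g * x ∈ Q
  · rw [extendByZero_mem Q _ hx, extendByZero_mem Q _ hx, Pi.sub_apply, Pi.sub_apply, map_sub,
      lc_conj, lc_conj]
  · rw [extendByZero_not_mem Q _ hx, extendByZero_not_mem Q _ hx, map_zero]

namespace Data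

variable {T Q W₁ W₂ V : Subgroup G} {p : ℕ} (D : Data T Q W₁ W₂ V p)

/-- Conjugation of `Q` by an element of `V W₂`. -/
def conjQ (a : D.H) : ↥Q →* ↥Q where
  toFun x := ⟨(a : G)⁻¹ * x * a, by
    have := (mem_normalizer_iff.1 (D.normal (inv_mem (D.H_le a.2))) x).1 x.2
    simpa using this⟩
  map_one' := Subtype.ext (by simp)
  map_mul' x y := Subtype.ext (by simp [mul_assoc])

theorem conjQ_apply (a : D.H) (x : Q) : ((D.conjQ a x : Q) : G) = (a : G)⁻¹ * x * a := rfl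

/-- The action of `V W₂` on the linear characters of `Q`. -/
def tw (a : D.H) (lam : ↥Q →* ℂˣ) : ↥Q →* ℂˣ := lam.comp (D.conjQ a)

theorem tw_apply (a : D.H) (lam : ↥Q →* ℂˣ) (x : Q) : D.tw a lam x = lam (D.conjQ a x) := rfl

theorem tw_one (lam : ↥Q →* ℂˣ) : D.tw 1 lam = lam :=
  MonoidHom.ext fun x => congrArg lam (Subtype.ext (by simp [conjQ_apply]))

theorem tw_mul (a b : D.H) (lam : ↥Q →* ℂˣ) : D.tw (a * b) lam = D.tw a (D.tw b lam) :=
  MonoidHom.ext fun x => congrArg lam (Subtype.ext (by simp [conjQ_apply, mul_assoc]))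

theorem tw_inv_tw (a : D.H) (lam : ↥Q →* ℂˣ) : D.tw a⁻¹ (D.tw a lam) = lam := by
  rw [← tw_mul, inv_mul_cancel, tw_one]

theorem tw_triv (a : D.H) : D.tw a 1 = 1 := rfl

theorem tw_ne_one {a : D.H} {lam : ↥Q →* ℂˣ} (h : lam ≠ 1) : D.tw a lam ≠ 1 := fun e => h (by
  rw [← D.tw_inv_tw a lam, e, tw_triv])

theorem tw_inv (a : D.H) (lam : ↥Q →* ℂˣ) : D.tw a lam⁻¹ = (D.tw a lam)⁻¹ := rfl

/-- The stabilizer of a linear character. -/
def stab (lam : ↥Q →* ℂˣ) : Subgroup D.H where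
  carrier := {a | D.tw a lam = lam}
  one_mem' := D.tw_one lam
  mul_mem' := fun {a b} ha hb => by
    show D.tw (a * b) lam = lam
    rw [tw_mul, show D.tw b lam = lam from hb]
    exact ha
  inv_mem' := fun {a} ha => by
    show D.tw a⁻¹ lam = lam
    conv_lhs => rw [← show D.tw a lam = lam from ha]
    exact D.tw_inv_tw a lam

theorem mem_stab {lam : ↥Q →* ℂˣ} {a : D.H} : a ∈ D.stab lam ↔ D.tw a lam = lam := Iff.rfl

/-- Invariant under `W₂`. -/
def Fixed (lam : ↥Q →* ℂˣ) : Prop := ∀ a : D.H, (a : G) ∈ W₂ → D.tw a lam = lam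

/-- In the orbit of an invariant one. -/
def OrbFixed (lam : ↥Q →* ℂˣ) : Prop := ∃ a : D.H, D.Fixed (D.tw a lam)

theorem fixed_one : D.Fixed 1 := fun _ _ => rfl

theorem fixed_inv {lam : ↥Q →* ℂˣ} (h : D.Fixed lam) : D.Fixed lam⁻¹ := fun a ha => by
  rw [tw_inv, h a ha]

theorem orbFixed_inv {lam : ↥Q →* ℂˣ} (h : D.OrbFixed lam⁻¹) : D.OrbFixed lam := by
  obtain ⟨a, ha⟩ := h
  have h2 := D.fixed_inv ha
  rw [tw_inv] at h2
  refine ⟨a, ?_⟩
  rwa [show (D.tw a lam)⁻¹⁻¹ = D.tw a lam from MonoidHom.ext fun z => by simp] at h2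

/-- `V` acts freely on the non-principal linear characters. -/
theorem eq_one_of_tw {a : D.H} (ha : (a : G) ∈ V) {lam : ↥Q →* ℂˣ} (h : lam ≠ 1)
    (hfix : D.tw a lam = lam) : a = 1 := by
  by_contra hne
  apply h
  let f : Q → Q := fun x => x⁻¹ * D.conjQ a x
  have hf : Function.Bijective f := Finite.injective_iff_bijective.1 fun x y e => by
    have e' : (x : G)⁻¹ * ((a : G)⁻¹ * x * a) = (y : G)⁻¹ * ((a : G)⁻¹ * y * a) :=
      congrArg Subtype.val e
    have hm : (y : G) * (x : G)⁻¹ ∈ Q ⊓ centralizer ({(a : G)} : Set G) := by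
      refine mem_inf.2 ⟨mul_mem y.2 (inv_mem x.2), mem_centralizer_singleton_iff.2 ?_⟩
      calc (y : G) * (x : G)⁻¹ * a
          = a * ((a : G)⁻¹ * y * ((x : G)⁻¹ * a)) := by group
        _ = a * ((y : G) * ((y : G)⁻¹ * ((a : G)⁻¹ * y * a)) * (a : G)⁻¹ * (x : G)⁻¹ * a) := by
            group
        _ = a * ((y : G) * ((x : G)⁻¹ * ((a : G)⁻¹ * x * a)) * (a : G)⁻¹ * (x : G)⁻¹ * a) := by
            rw [e']
        _ = a * ((y : G) * (x : G)⁻¹) := by group
    rw [D.fpfV a ha (fun e => hne (Subtype.ext e)), mem_bot, mul_inv_eq_one] at hm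
    exact Subtype.ext hm.symm
  refine MonoidHom.ext fun z => ?_
  obtain ⟨x, rfl⟩ := hf.2 z
  show lam (x⁻¹ * D.conjQ a x) = 1
  rw [map_mul, ← tw_apply, hfix, map_inv, inv_mul_cancel]

theorem fixed_of_tw {lam : ↥Q →* ℂˣ} {a : D.H} (ha : (a : G) ∈ W₂) (ha1 : a ≠ 1)
    (h : D.tw a lam = lam) : D.Fixed lam := by
  intro b hb
  haveI := Fact.mk D.prime
  have hp : Nat.card W₂ = p := D.card₂
  have hb' : (⟨b, hb⟩ : W₂) ∈ zpowers (⟨a, ha⟩ : W₂) :=
    mem_zpowers_of_prime_card hp fun e => ha1 (Subtype.ext (congrArg (fun z : W₂ => (z : G)) e))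
  obtain ⟨k, hk⟩ := mem_zpowers_iff.1 hb'
  have hbk : b = a ^ k := Subtype.ext (by
    have := congrArg (fun z : W₂ => (z : G)) hk
    simpa using this.symm)
  rw [hbk]
  exact D.mem_stab.1 (zpow_mem (D.mem_stab.2 h) k)

theorem exists_eq_H (a : D.H) :
    ∃ g w : D.H, (g : G) ∈ V ∧ (w : G) ∈ W₂ ∧ a = g * w := by
  obtain ⟨g, hg, w, hw, e⟩ := D.exists_eq a.2
  exact ⟨⟨g, D.mem_HV hg⟩, ⟨w, D.mem_H₂ hw⟩, hg, hw, Subtype.ext e⟩

/-- The stabilizer of an invariant character is `W₂`. -/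
theorem stab_fixed {lam : ↥Q →* ℂˣ} (hf : D.Fixed lam) (h : lam ≠ 1) {a : D.H} :
    D.tw a lam = lam ↔ (a : G) ∈ W₂ := by
  refine ⟨fun e => ?_, hf a⟩
  obtain ⟨g, w, hg, hw, rfl⟩ := D.exists_eq_H a
  rw [tw_mul, hf w hw] at e
  rw [D.eq_one_of_tw hg h e, one_mul]
  exact hw

/-- An orbit contains at most one invariant character. -/
theorem fixed_unique {lam : ↥Q →* ℂˣ} (hf : D.Fixed lam) (h : lam ≠ 1) {a : D.H}
    (hfa : D.Fixed (D.tw a lam)) : D.tw a lam = lam := by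
  obtain ⟨g, w, hg, hw, rfl⟩ := D.exists_eq_H a
  rw [tw_mul, hf w hw] at hfa ⊢
  obtain ⟨u, hu, hu1, -⟩ := D.exists_gen
  set u' : D.H := ⟨u, D.mem_H₂ hu⟩ with hu'
  have e : D.tw (g⁻¹ * (u' * g * u'⁻¹)) lam = lam := by
    rw [tw_mul, tw_mul, tw_mul, hf u'⁻¹ (inv_mem hu), hfa u' hu, tw_inv_tw]
  have hmem : ((g⁻¹ * (u' * g * u'⁻¹) : D.H) : G) ∈ V :=
    mul_mem (inv_mem hg) (D.normV₂ hu hg)
  have e1 := D.eq_one_of_tw hmem h e
  have hc : (g : G) ∈ V ⊓ centralizer ({u} : Set G) := by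
    refine mem_inf.2 ⟨hg, mem_centralizer_singleton_iff.2 ?_⟩
    have h2 : (g : G)⁻¹ * (u * g * u⁻¹) = 1 := congrArg Subtype.val e1
    rw [inv_mul_eq_one] at h2
    calc (g : G) * u = u * g * u⁻¹ * u := by rw [← h2]
      _ = u * g := by group
  rw [D.fpfW u hu hu1, mem_bot] at hc
  rw [show g = 1 from Subtype.ext hc, tw_one]

/-- A character in no invariant orbit has trivial stabilizer. -/
theorem stab_free {lam : ↥Q →* ℂˣ} (h : ¬ D.OrbFixed lam) {a : D.H} (ha : D.tw a lam = lam) :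
    a = 1 := by
  have hne : lam ≠ 1 := fun e => h ⟨1, by rw [tw_one, e]; exact D.fixed_one⟩
  obtain ⟨g, w, hg, hw, rfl⟩ := D.exists_eq_H a
  by_cases hw1 : w = 1
  · rw [hw1, mul_one] at ha ⊢
    exact D.eq_one_of_tw hg hne ha
  exfalso
  obtain ⟨g₀, hg₀, e⟩ := D.exists_conj hg hw fun e => hw1 (Subtype.ext e)
  set k : D.H := ⟨g₀, D.mem_HV hg₀⟩ with hk
  have e' : g * w = k * w * k⁻¹ := Subtype.ext e
  refine h ⟨k⁻¹, D.fixed_of_tw hw hw1 ?_⟩
  rw [← tw_mul, show w * k⁻¹ = k⁻¹ * (g * w) by rw [e']; group, tw_mul, ha]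

theorem not_orbFixed_ne_one {lam : ↥Q →* ℂˣ} (h : ¬ D.OrbFixed lam) : lam ≠ 1 := fun e =>
  h ⟨1, by rw [tw_one, e]; exact D.fixed_one⟩

/-! ### Counting -/

open Classical in
/-- The number of elements of `V W₂` carrying `mu` to `lam`. -/
noncomputable def num (lam mu : ↥Q →* ℂˣ) : ℕ := Nat.card {a : D.H // D.tw a mu = lam}

theorem num_zero {lam mu : ↥Q →* ℂˣ} (h : ∀ a, D.tw a mu ≠ lam) : D.num lam mu = 0 := by
  haveI : IsEmpty {a : D.H // D.tw a mu = lam} := ⟨fun a => h a.1 a.2⟩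
  exact Nat.card_of_isEmpty

theorem num_triv : D.num 1 1 = p * Nat.card V := by
  rw [num, Nat.card_congr (Equiv.subtypeUnivEquiv fun a => D.tw_triv a), D.card_H]

theorem num_triv_left {mu : ↥Q →* ℂˣ} (h : mu ≠ 1) : D.num 1 mu = 0 :=
  D.num_zero fun _ => D.tw_ne_one h

theorem num_triv_right {lam : ↥Q →* ℂˣ} (h : lam ≠ 1) : D.num lam 1 = 0 :=
  D.num_zero fun _ e => h (e.symm.trans (D.tw_triv _))

theorem num_fixed_self {lam : ↥Q →* ℂˣ} (hf : D.Fixed lam) (h : lam ≠ 1) : D.num lam lam = p := by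
  rw [num, Nat.card_congr (Equiv.subtypeEquivRight fun a => D.stab_fixed hf h)]
  refine Eq.trans ?_ D.card₂
  exact Nat.card_congr
    { toFun := fun a => ⟨a.1, a.2⟩
      invFun := fun w => ⟨⟨w, D.mem_H₂ w.2⟩, w.2⟩
      left_inv := fun a => rfl
      right_inv := fun w => rfl }

theorem num_fixed_fixed {lam mu : ↥Q →* ℂˣ} (hl : D.Fixed lam) (hm : D.Fixed mu) (h : mu ≠ 1)
    (hne : lam ≠ mu) : D.num lam mu = 0 :=
  D.num_zero fun a e => hne (e.symm.trans (D.fixed_unique hm h (by rw [e]; exact hl)))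

theorem num_free_fixed {lam mu : ↥Q →* ℂˣ} (hl : ¬ D.OrbFixed lam) (hm : D.Fixed mu) :
    D.num lam mu = 0 :=
  D.num_zero fun a e => hl ⟨a⁻¹, by rw [← e, tw_inv_tw]; exact hm⟩

theorem num_fixed_free {lam mu : ↥Q →* ℂˣ} (hl : D.Fixed lam) (hm : ¬ D.OrbFixed mu) :
    D.num lam mu = 0 :=
  D.num_zero fun a e => hm ⟨a, by rw [e]; exact hl⟩

theorem num_free_self {lam : ↥Q →* ℂˣ} (h : ¬ D.OrbFixed lam) : D.num lam lam = 1 := by
  rw [num, Nat.card_eq_one_iff_exists]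
  exact ⟨⟨1, D.tw_one lam⟩, fun a => Subtype.ext (D.stab_free h a.2)⟩

/-! ### Induced functions on `Q` -/

variable (hQ : ∀ a ∈ Q, ∀ b ∈ Q, a * b = b * a)
include hQ

open Classical in
/-- The values on `Q#` of a function induced from `Q`. -/
theorem indFun_mem [Fintype D.H] (f : Q → ℂ) {x : Q} (hx : (x : G) ≠ 1) :
    indFun Q f x = ∑ a : D.H, f (D.conjQ a x) := by
  have hh : (Nat.card Q : ℂ) ≠ 0 := Nat.cast_ne_zero.2 Nat.card_pos.ne'
  rw [indFun, ← Finset.sum_filter_add_sum_filter_not Finset.univ (fun t : G => t ∈ T),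
    Finset.sum_eq_zero (s := Finset.univ.filter fun t : G => t ∉ T), add_zero,
    Finset.sum_subtype (p := fun t : G => t ∈ T) _ fun t => by simp]
  · rw [D.sum_T (fun t => extendByZero Q f (t⁻¹ * (x : G) * t)),
      Finset.sum_congr rfl (g := fun _ : Q => ∑ a : D.H, f (D.conjQ a x)) fun y _ =>
        Finset.sum_congr rfl fun a _ => by
          have hyx : (y : G)⁻¹ * (x * y) = x := by
            rw [hQ x x.2 y y.2]; group
          rw [show ((y : G) * a)⁻¹ * x * ((y : G) * a) = ((D.conjQ a x : Q) : G) by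
            rw [conjQ_apply]
            calc ((y : G) * a)⁻¹ * x * ((y : G) * a) = (a : G)⁻¹ * ((y : G)⁻¹ * (x * y)) * a := by group
              _ = _ := by rw [hyx]]
          rw [extendByZero_mem Q f (D.conjQ a x).2]]
    rw [Finset.sum_const, Finset.card_univ, nsmul_eq_mul, ← Nat.card_eq_fintype_card, ← mul_assoc,
      inv_mul_cancel₀ hh, one_mul]
  · intro t ht
    refine extendByZero_not_mem Q f fun hm => (Finset.mem_filter.1 ht).2 ?_
    have := inv_mem (D.ti t⁻¹ x x.2 hx (by simpa using hm))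
    simpa using this

open Classical in
/-- The inner product of two induced functions, the first vanishing at `1`. -/
theorem inner_indFun [Fintype Q] [Fintype D.H] (f g : Q → ℂ) (hf : f 1 = 0) :
    classInner (indFun Q f) (indFun Q g) =
      ∑ a : D.H, classInner f (fun x => g (D.conjQ a x)) := by
  rw [classInner_indFun _ _ _ (isClassFunction_indFun _ _)]
  simp only [classInner, ← Finset.mul_sum]
  congr 1
  rw [Finset.sum_comm]
  refine Finset.sum_congr rfl fun x _ => ?_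
  by_cases hx : (x : G) = 1
  · rw [show x = 1 from Subtype.ext hx, hf]
    simp
  · rw [D.indFun_mem hQ g hx, map_sum, Finset.mul_sum]

/-- The Gram formula for the differences. -/
theorem inner_Df_Df [Fintype Q] (lam mu al be : ↥Q →* ℂˣ) :
    classInner (Df lam mu) (Df al be) =
      (((D.num lam al : ℤ) - D.num lam be - D.num mu al + D.num mu be : ℤ) : ℂ) := by
  classical
  let _ := Fintype.ofFinite D.H
  rw [Df, Df, D.inner_indFun hQ _ _ (by simp [lc])]
  have e : ∀ (a : D.H) (nu : ↥Q →* ℂˣ), (fun x => lc nu (D.conjQ a x)) = lc (D.tw a nu) :=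
    fun a nu => rfl
  have hterm : ∀ a : D.H, classInner (lc lam - lc mu) (fun x => (lc al - lc be) (D.conjQ a x)) =
      (if D.tw a al = lam then 1 else 0) - (if D.tw a be = lam then 1 else 0) -
        (if D.tw a al = mu then 1 else 0) + (if D.tw a be = mu then 1 else 0) := by
    intro a
    rw [show (fun x => (lc al - lc be) (D.conjQ a x)) = lc (D.tw a al) - lc (D.tw a be) from rfl,
      classInner_sub_left, classInner_sub_right, classInner_sub_right, classInner_lc, classInner_lc,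
      classInner_lc, classInner_lc]
    simp only [eq_comm (a := lam), eq_comm (a := mu)]
    ring
  rw [Finset.sum_congr rfl fun a _ => hterm a]
  simp only [Finset.sum_add_distrib, Finset.sum_sub_distrib, Finset.sum_boole, num,
    Nat.card_eq_fintype_card, Fintype.card_subtype]
  push_cast
  ring

omit hQ in
/-- `Df` depends only on the orbits. -/
theorem Df_tw (a : D.H) (lam mu : ↥Q →* ℂˣ) : Df (D.tw a lam) mu = Df lam mu := by
  have h : indFun Q (lc (D.tw a lam)) = indFun Q (lc lam) := by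
    funext g
    simp only [indFun]
    congr 1
    refine Fintype.sum_bijective (fun x => x * (a : G)) (Group.mulRight_bijective _) _ _ fun x => ?_
    have hiff : x⁻¹ * g * x ∈ Q ↔ (x * a)⁻¹ * g * (x * a) ∈ Q := by
      rw [show (x * (a : G))⁻¹ * g * (x * a) = (a : G)⁻¹ * (x⁻¹ * g * x) * (a : G)⁻¹⁻¹ by group]
      exact mem_normalizer_iff.1 (D.normal (inv_mem (D.H_le a.2))) _
    by_cases hx : x⁻¹ * g * x ∈ Q
    · rw [extendByZero_mem Q _ hx, extendByZero_mem Q _ (hiff.1 hx)]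
      refine congrArg (lc lam) (Subtype.ext ?_)
      rw [conjQ_apply]
      group
    · rw [extendByZero_not_mem Q _ hx, extendByZero_not_mem Q _ fun h => hx (hiff.2 h)]
  rw [Df, Df, indFun_sub, indFun_sub, h]

/-! ### The invariant characters -/

/-- The projection of `Q` on `W₁`. -/
theorem exists_proj : ∃ π : ↥Q →* ↥W₁, (∀ x : Q, (hx : (x : G) ∈ W₁) → π x = ⟨x, hx⟩) ∧
    (∀ a : D.H, (a : G) ∈ W₂ → ∀ x, π (D.conjQ a x) = π x) ∧
    ∀ lam : ↥Q →* ℂˣ, D.Fixed lam → ∀ x, lam ⟨π x, D.leW₁ (π x).2⟩ = lam x := by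
  classical
  letI : CommGroup Q :=
    { (inferInstance : Group Q) with mul_comm := fun a b => Subtype.ext (hQ a a.2 b b.2) }
  let _ := Fintype.ofFinite W₂
  let ι : W₂ → D.H := fun w => ⟨w, D.mem_H₂ w.2⟩
  let N : ↥Q →* ↥Q := ∏ w : W₂, D.conjQ (ι w)
  have hN : ∀ x, N x = ∏ w : W₂, D.conjQ (ι w) x := fun x => MonoidHom.finsetProd_apply _ _ _
  have hNfix : ∀ (u : W₂) (x : Q), D.conjQ (ι u) (N x) = N x := by
    intro u x
    rw [hN, map_prod]
    refine Fintype.prod_bijective (fun w => w * u) (Group.mulRight_bijective _) _ _ fun w => ?_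
    exact Subtype.ext (by simp [conjQ_apply, ι, mul_assoc])
  have hNconj : ∀ (u : W₂) (x : Q), N (D.conjQ (ι u) x) = N x := by
    intro u x
    rw [hN, hN]
    refine Fintype.prod_bijective (fun w => u * w) (Group.mulLeft_bijective _) _ _ fun w => ?_
    exact Subtype.ext (by simp [conjQ_apply, ι, mul_assoc])
  have hNW : ∀ x, ((N x : Q) : G) ∈ W₁ := by
    intro x
    obtain ⟨w, hw, hw1, -⟩ := D.exists_gen
    rw [← D.fix w hw hw1]
    refine mem_inf.2 ⟨(N x).2, mem_centralizer_singleton_iff.2 ?_⟩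
    have h := congrArg Subtype.val (hNfix ⟨w, hw⟩ x)
    simp only [conjQ_apply, ι] at h
    calc ((N x : Q) : G) * w = w * (w⁻¹ * ((N x : Q) : G) * w) := by group
      _ = w * ((N x : Q) : G) := by rw [h]
  obtain ⟨k, hk⟩ : ∃ k : ℤ, ∀ x : Q, (x ^ p) ^ k = x := by
    have hcop : (Nat.card Q).Coprime p := Nat.Coprime.coprime_dvd_right (dvd_mul_right p _) D.cop
    refine ⟨(Nat.card Q).gcdB p, fun x => ?_⟩
    have := (powCoprime hcop).symm_apply_apply x
    rwa [powCoprime_apply, powCoprime_symm_apply] at this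
  refine ⟨((zpowGroupHom k).comp N).codRestrict (W₁.subgroupOf Q) (fun x => mem_subgroupOf.2 ?_) |>
    (subgroupOfEquivOfLe D.leW₁).toMonoidHom.comp, fun x hx => ?_, fun a ha x => ?_, fun lam hl x => ?_⟩
  · simpa using zpow_mem (hNW x) k
  · refine Subtype.ext ?_
    show (((N x) ^ k : Q) : G) = x
    have : N x = x ^ p := by
      rw [hN, Finset.prod_eq_pow_card (b := x) fun w _ => Subtype.ext ?_, Finset.card_univ,
        ← Nat.card_eq_fintype_card, D.card₂]
      have hc := D.comm₁ hx w.2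
      rw [conjQ_apply, mul_assoc, show (x : G) * (ι w : G) = (w : G) * x from hc]
      simp [ι]
    rw [this, hk]
  · refine Subtype.ext ?_
    show (((N (D.conjQ a x)) ^ k : Q) : G) = (((N x) ^ k : Q) : G)
    rw [show a = ι ⟨a, ha⟩ from rfl, hNconj]
  · show lam ((N x) ^ k) = lam x
    have : lam (N x) = lam x ^ p := by
      rw [hN, map_prod, Finset.prod_eq_pow_card (b := lam x) fun w _ => ?_, Finset.card_univ,
        ← Nat.card_eq_fintype_card, D.card₂]
      rw [← tw_apply, hl (ι w) w.2]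
    rw [map_zpow, this, ← map_pow, ← map_zpow, hk]

/-- The projection. -/
noncomputable def proj : ↥Q →* ↥W₁ := Classical.choose (D.exists_proj hQ)

/-- The invariant linear character over the restriction of `φ` to `W₁`. -/
noncomputable def lift (φ : ↥(W₁ ⊔ W₂) →* ℂˣ) : ↥Q →* ℂˣ :=
  (φ.comp (Subgroup.inclusion le_sup_left)).comp (D.proj hQ)

theorem lift_apply {φ : ↥(W₁ ⊔ W₂) →* ℂˣ} {x : Q} (hx : (x : G) ∈ W₁) :
    D.lift hQ φ x = φ ⟨x, mem_sup_left hx⟩ := by
  show φ (Subgroup.inclusion le_sup_left (D.proj hQ x)) = _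
  rw [proj, (Classical.choose_spec (D.exists_proj hQ)).1 x hx]
  rfl

theorem lift_fixed (φ : ↥(W₁ ⊔ W₂) →* ℂˣ) : D.Fixed (D.lift hQ φ) := fun a ha =>
  MonoidHom.ext fun x => congrArg (φ.comp (Subgroup.inclusion le_sup_left))
    ((Classical.choose_spec (D.exists_proj hQ)).2.1 a ha x)

theorem lift_one : D.lift hQ 1 = 1 := rfl

theorem lift_inv (φ : ↥(W₁ ⊔ W₂) →* ℂˣ) : D.lift hQ φ⁻¹ = (D.lift hQ φ)⁻¹ := rfl

theorem lift_inj {φ φ' : ↥(W₁ ⊔ W₂) →* ℂˣ} (hφ : φ ∈ trivOn _ W₂) (hφ' : φ' ∈ trivOn _ W₂)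
    (h : D.lift hQ φ = D.lift hQ φ') : φ = φ' := by
  refine MonoidHom.ext fun w => ?_
  obtain ⟨a, b, ha, hb, rfl⟩ := exists_decomp (snc_disj D.snc) (snc_comm D.snc) w
  rw [map_mul, map_mul, hφ b hb, hφ' b hb, mul_one, mul_one]
  have e := DFunLike.congr_fun h ⟨a, D.leW₁ ha⟩
  rwa [D.lift_apply hQ (x := ⟨a, D.leW₁ ha⟩) ha, D.lift_apply hQ (x := ⟨a, D.leW₁ ha⟩) ha] at e

theorem lift_ne_one {φ : ↥(W₁ ⊔ W₂) →* ℂˣ} (hφ : φ ∈ trivOn _ W₂) (h1 : φ ≠ 1) :
    D.lift hQ φ ≠ 1 := fun e => h1 (D.lift_inj hQ hφ (one_mem _) (by rw [e, lift_one]))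

theorem exists_lift {lam : ↥Q →* ℂˣ} (h : D.Fixed lam) :
    ∃ φ ∈ trivOn (W₁ ⊔ W₂) W₂, D.lift hQ φ = lam := by
  refine ⟨((lam.comp (Subgroup.inclusion D.leW₁))).comp (projFst (snc_disj D.snc) (snc_comm D.snc)),
    comp_projFst_mem _ _ _, MonoidHom.ext fun x => ?_⟩
  show lam (Subgroup.inclusion D.leW₁ (projFst _ _ (Subgroup.inclusion le_sup_left (D.proj hQ x)))) = _
  rw [projFst_of_mem (snc_disj D.snc) (snc_comm D.snc) (D.proj hQ x).2]
  exact (Classical.choose_spec (D.exists_proj hQ)).2.2 lam h x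

end Data

end CfsgLib.FT.TwoSide
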