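import Cfsg.Agent.Lib.FT.TypeTwoGroup
import Cfsg.Agent.Lib.FT.TypeTwoDual
import Cfsg.Agent.Lib.FT.FrobClass
import Cfsg.Agent.Lib.FT.FrobApply
import Cfsg.Agent.Lib.FT.FrobArith

/-!
# The type II kernel `Q` for an arbitrary `W₁` (`docs/FT.md` §3)

`Q` has class at most two, `e ≤ n²` and `|Q : Q'| = n ^ p` for `n = |W₁ : W₁ ∩ Q'|`.  If `Q' ≠ 1` then
`p ≥ 5` and `v` is small against `n ^ (p-2)`; if `Q' = 1` then `v + 1 ≤ r ^ p` for every prime `r ∣ e`.
-/

set_option autoImplicit false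
set_option linter.unusedSectionVars false
set_option linter.style.haveILetI false

open Subgroup

namespace CfsgLib.FT.TwoSide

open CfsgLib.GrLie CfsgLib.FT.FrobLayer

universe u

variable {G : Type u} [Group G] [Fintype G]

namespace Data

variable {T Q W₁ W₂ V : Subgroup G} {p : ℕ} (D : Data T Q W₁ W₂ V p)

/-- Conjugation of `Q` by `V W₂`, as automorphisms. -/
def conjAut : D.H →* MulAut ↥Q where
  toFun a :=
    { toFun := D.conjQ a⁻¹
      invFun := D.conjQ a
      left_inv := fun x => Subtype.ext (by simp [conjQ_apply, mul_assoc])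
      right_inv := fun x => Subtype.ext (by simp [conjQ_apply, mul_assoc])
      map_mul' := map_mul _ }
  map_one' := MulEquiv.ext fun x => Subtype.ext (by simp [conjQ_apply])
  map_mul' a b := MulEquiv.ext fun x => Subtype.ext (by simp [conjQ_apply, mul_assoc])

include D

theorem conjAut_apply (a : D.H) (x : Q) :
    ((D.conjAut a x : Q) : G) = (a : G) * x * (a : G)⁻¹ := by
  show ((D.conjQ a⁻¹ x : Q) : G) = _
  simp [conjQ_apply]

theorem conj_mem_of_inv {X : Subgroup ↥Q} (hX : FrobLayer.Inv X) {a : G} (ha : a ∈ D.H) :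
    a ∈ normalizer (X.map Q.subtype : Set G) := by
  have key : ∀ b ∈ D.H, ∀ y ∈ X.map Q.subtype, b * y * b⁻¹ ∈ X.map Q.subtype := by
    rintro b hb _ ⟨y, hy, rfl⟩
    exact ⟨_, hX (D.conjAut ⟨b, hb⟩) y hy, D.conjAut_apply _ _⟩
  refine mem_normalizer_iff.2 fun y => ⟨key a ha y, fun hy => ?_⟩
  simpa [mul_assoc] using key a⁻¹ (inv_mem ha) _ hy

variable (hcard : Nat.card Q = Nat.card W₁ ^ p) (hnil : Group.IsNilpotent Q) (hV1 : V ≠ ⊥)
include hcard hnil hV1

theorem frob_ctx : Ctx (W₁.subgroupOf Q) p := by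
  refine ⟨D.odd.of_dvd_nat (card_subgroup_dvd_card Q), D.prime.pos, ?_, hnil, fun X hX => ?_⟩
  · haveI : IsCyclic ↥W₁ := by
      haveI := D.snc.2.2.2.2.1
      exact isCyclic_of_injective (Subgroup.inclusion (le_sup_left : W₁ ≤ W₁ ⊔ W₂))
        (inclusion_injective _)
    exact isCyclic_of_injective (subgroupOfEquivOfLe D.leW₁).toMonoidHom
      (subgroupOfEquivOfLe D.leW₁).injective
  set Y := X.map Q.subtype with hY
  have hYQ : Y ≤ Q := map_subtype_le X
  have hYX : Nat.card Y = Nat.card X :=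
    (Nat.card_congr (X.equivMapOfInjective Q.subtype Q.subtype_injective).toEquiv).symm
  have hinf : Nat.card ↥(Y ⊓ W₁) = Nat.card ↥(X ⊓ W₁.subgroupOf Q) := by
    rw [show Y ⊓ W₁ = (X ⊓ W₁.subgroupOf Q).map Q.subtype by
      rw [map_inf X _ Q.subtype Q.subtype_injective, subgroupOf_map_subtype, inf_eq_left.2 D.leW₁]]
    exact (Nat.card_congr ((X ⊓ W₁.subgroupOf Q).equivMapOfInjective Q.subtype
      Q.subtype_injective).toEquiv).symm
  rw [← hYX, ← hinf]
  by_cases hY1 : Y = ⊥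
  · rw [hY1, bot_inf_eq, card_bot, one_pow]
  obtain ⟨w, hw, hw1, hwgen⟩ := D.exists_gen
  have hcent : Q ⊓ centralizer (W₂ : Set G) = W₁ := by
    rw [hwgen, CfsgLib.CFun.TauTwo.centralizer_zpowers]
    exact D.fix w hw hw1
  have hfix : ∀ x ∈ W₂, x ≠ 1 → Y ⊓ centralizer ({x} : Set G) = Y ⊓ centralizer (W₂ : Set G) :=
    fun x hx hx1 => le_antisymm
      (le_inf inf_le_left (fun y hy => by
        have : y ∈ Q ⊓ centralizer ({x} : Set G) := ⟨hYQ hy.1, hy.2⟩
        rw [D.fix x hx hx1, ← hcent] at this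
        exact this.2))
      (inf_le_inf_left _ (centralizer_le (Set.singleton_subset_iff.2 hx)))
  obtain ⟨-, hc, -⟩ := CfsgLib.CFun.FrobFix.frobenius_prime_action (K := V) (R := W₂) (M := Y) hV1
    (fun e => hw1 (by rw [e, mem_bot] at hw; exact hw))
    (le_bot_iff.1 fun x hx => by
      by_contra hne
      have hx1 : x ≠ 1 := fun e => hne (mem_bot.2 e)
      have hm : x ∈ V ⊓ centralizer ({x} : Set G) :=
        mem_inf.2 ⟨hx.1, mem_centralizer_singleton_iff.2 rfl⟩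
      rw [D.fpfW x hx.2 hx1] at hm
      exact hne hm)
    D.normV D.fpfW hY1 (CfsgLib.Coprime.isNilpotent_of_le hYQ hnil)
    (fun a ha => D.conj_mem_of_inv hX (D.mem_HV ha)) (fun a ha => D.conj_mem_of_inv hX (D.mem_H₂ ha))
    (by
      have := D.card_H
      rw [H, sup_comm] at this
      rw [this]
      exact (D.cop.coprime_dvd_left (card_dvd_of_le hYQ)).symm)
    (le_bot_iff.1 (by
      obtain ⟨g, hg, hg1⟩ := (bot_or_exists_ne_one V).resolve_left hV1
      exact ((inf_le_inf hYQ (centralizer_le (Set.singleton_subset_iff.2 hg))).trans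
        (D.fpfV g hg hg1).le)))
    hfix
  rw [D.card₂] at hc
  rw [hc, show Y ⊓ W₁ = Y ⊓ centralizer (W₂ : Set G) by
    rw [← hcent, ← inf_assoc, inf_eq_left.2 hYQ]]

omit hcard hnil in
/-- A fixed point free automorphism of prime order. -/
theorem exists_aut : ∃ (s : ℕ) (α : MulAut ↥Q), s.Prime ∧ ¬ s ∣ Nat.card Q ∧
    (∀ x, (⇑α)^[s] x = x) ∧ ∀ x, α x = x → x = 1 := by
  obtain ⟨s, hs, hsd⟩ := Nat.exists_prime_and_dvd (n := Nat.card V) fun e => hV1 (card_eq_one.1 e)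
  haveI := Fact.mk hs
  obtain ⟨g, hg⟩ := exists_prime_orderOf_dvd_card' s hsd
  have hg1 : (g : G) ≠ 1 := fun e => hs.one_lt.ne (by rw [← hg, show g = 1 from Subtype.ext e, orderOf_one])
  refine ⟨s, D.conjAut ⟨g, D.mem_HV g.2⟩, hs, fun hd => hs.one_lt.ne' (Nat.eq_one_of_dvd_coprimes
    D.cop hd (hsd.trans (dvd_mul_left _ _))), fun x => ?_, fun x hx => Subtype.ext ?_⟩
  · have e : ∀ k : ℕ, (⇑(D.conjAut ⟨g, D.mem_HV g.2⟩))^[k] x = D.conjAut (⟨g, D.mem_HV g.2⟩ ^ k) x := by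
      intro k
      induction k with
      | zero => simp
      | succ k ih => rw [Function.iterate_succ_apply', ih, pow_succ', map_mul]; rfl
    rw [e, show (⟨(g : G), D.mem_HV g.2⟩ : D.H) ^ s = 1 from Subtype.ext (by
      rw [SubmonoidClass.coe_pow, OneMemClass.coe_one, ← hg]
      exact congrArg Subtype.val (pow_orderOf_eq_one g)), map_one]
    rfl
  · exact D.isFpf.eq_one g.2 hg1 x.2 (by
      rw [← D.conjAut_apply ⟨g, D.mem_HV g.2⟩ x, hx])

/-- `Q` has class at most two. -/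
theorem gamma_two : γ ↥Q 2 = ⊥ := by
  obtain ⟨s, α, hs, hsQ, hord, hfix⟩ := D.exists_aut hV1
  exact gamma_two_eq_bot (D.frob_ctx hcard hnil hV1) hs hsQ α hord hfix

/-- `e = n |W₁ ∩ Q'| ≤ n²` and `|Q : Q'| = n ^ p`. -/
theorem card_le_sq : Nat.card W₁ ≤ expo (W₁.subgroupOf Q) ^ 2 ∧
    (commutator ↥Q).index = expo (W₁.subgroupOf Q) ^ p := by
  have h := D.frob_ctx hcard hnil hV1
  set C := W₁.subgroupOf Q with hC
  set n := expo C
  have hCW : Nat.card C = Nat.card W₁ := Nat.card_congr (subgroupOfEquivOfLe D.leW₁).toEquiv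
  set B := γ ↥Q 1 ⊓ C with hB
  have hn : Nat.card B * n = Nat.card W₁ :=
    (CfsgLib.Coprime.card_mul_relIndex (inf_le_right : B ≤ C)).trans hCW
  have hn0 : 0 < n := Nat.pos_of_ne_zero fun e => Nat.card_pos.ne' (hn.symm.trans (by rw [e, mul_zero]))
  haveI := h.cyclic
  haveI : IsCyclic B := isCyclic_of_injective (Subgroup.inclusion (inf_le_right : B ≤ C))
    (inclusion_injective _)
  have hle : Nat.card B ≤ n := by
    obtain ⟨b, hb⟩ := IsCyclic.exists_generator (α := B)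
    rw [← orderOf_eq_card_of_forall_mem_zpowers hb]
    refine orderOf_le_of_pow_eq_one hn0 (Subtype.ext ?_)
    have hm := pow_expo_mem_succ h (mem_inf.1 b.2).1
    rw [D.gamma_two hcard hnil hV1, mem_bot] at hm
    exact hm
  refine ⟨by rw [← hn, sq]; exact Nat.mul_le_mul_right _ hle, ?_⟩
  have hγ : γ ↥Q 1 = commutator ↥Q := Subgroup.top_lowerCentralSeries_one
  have h1 := h.card_eq _ (inv_γ 1)
  have h2 := (commutator ↥Q).card_mul_index
  rw [← hγ, h1, hcard, ← hn, mul_pow] at h2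
  rw [← hγ]
  exact Nat.eq_of_mul_eq_mul_left (pow_pos Nat.card_pos p) h2

/-- An element of `W₁` outside `Q'`. -/
theorem exists_mem_not_commutator :
    ∃ x : Q, (x : G) ∈ W₁ ∧ x ∉ commutator ↥Q := by
  have h := D.frob_ctx hcard hnil hV1
  by_contra hcon
  push Not at hcon
  haveI : Nontrivial Q := by
    refine Finite.one_lt_card_iff_nontrivial.1 ?_
    rw [hcard]
    exact Nat.one_lt_pow D.prime.ne_zero (Nat.one_lt_iff_ne_zero_and_ne_one.2
      ⟨Nat.card_pos.ne', fun e => D.snc.1 (card_eq_one.1 e)⟩)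
  haveI := hnil
  refine (Group.IsSolvable.commutator_lt_top_of_nontrivial ↥Q).ne ?_
  have hγ : γ ↥Q 1 = commutator ↥Q := Subgroup.top_lowerCentralSeries_one
  rw [← hγ]
  refine eq_of_inf_le h inv_top (inv_γ 1) le_top fun c hc => ?_
  rw [hγ]
  exact hcon c (mem_subgroupOf.1 (mem_inf.1 hc).2)

/-- `Q' ≠ 1`: `p ≥ 5` and `v` is small. -/
theorem bound_nonabelian (hVc : IsCyclic V) (hne : γ ↥Q 1 ≠ ⊥) :
    5 ≤ p ∧ ∃ r : ℕ, 3 ≤ r ∧ r ≤ expo (W₁.subgroupOf Q) ∧
      ((Nat.card V : ℝ) + 1 + 1 / (4 * (Nat.card V : ℝ))) * 50 ≤ 23 * (r : ℝ) ^ (p - 2) := by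
  classical
  have h := D.frob_ctx hcard hnil hV1
  set v := Nat.card V with hv
  haveI := hVc
  obtain ⟨g, hg⟩ := IsCyclic.exists_generator (α := V)
  have hgv : orderOf (g : G) = v := by
    rw [Subgroup.orderOf_coe]
    exact orderOf_eq_card_of_forall_mem_zpowers hg
  obtain ⟨w, hw, hw1, -⟩ := D.exists_gen
  obtain ⟨m, hm⟩ : ∃ m : ℕ, (g : G) ^ m = w * g * w⁻¹ := by
    obtain ⟨m, hm⟩ := (isOfFinOrder_of_finite g).mem_powers_iff_mem_zpowers.2 (hg ⟨_, D.normV₂ hw g.2⟩)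
    exact ⟨m, congrArg Subtype.val hm⟩
  have hwi : ∀ i : ℕ, w ^ i * (g : G) * (w ^ i)⁻¹ = (g : G) ^ (m ^ i) := by
    intro i
    induction i with
    | zero => simp
    | succ i ih =>
      rw [pow_succ', mul_inv_rev, show w * w ^ i * (g : G) * ((w ^ i)⁻¹ * w⁻¹) =
        w * (w ^ i * (g : G) * (w ^ i)⁻¹) * w⁻¹ by group, ih, ← conj_pow, ← hm, ← pow_mul, pow_succ']
  have hpowv : ∀ a b : ℕ, (g : G) ^ a = (g : G) ^ b ↔ (a : ZMod v) = b := fun a b => by
    rw [ZMod.natCast_eq_natCast_iff, ← hgv]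
    exact IsOfFinOrder.pow_eq_pow_iff_modEq (isOfFinOrder_of_finite _)
  have hv1 : 1 < v := by
    rw [hv]
    exact Finite.one_lt_card_iff_nontrivial.2 (nontrivial_iff_ne_bot _ |>.2 hV1)
  haveI := Fact.mk D.prime
  have hw' : ∀ i, 0 < i → i < p → w ^ i ≠ 1 := fun i hi hip =>
    pow_ne_one_of_lt_orderOf hi.ne' (by rwa [orderOf_eq_prime (D.pow_p hw) hw1])
  have hmne : ∀ i, 0 < i → i < p → (m : ZMod v) ^ i ≠ 1 := by
    intro i hi hip e
    rw [← Nat.cast_pow, ← Nat.cast_one, ← hpowv, pow_one, ← hwi] at e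
    have hmem : (g : G) ∈ V ⊓ centralizer ({w ^ i} : Set G) :=
      mem_inf.2 ⟨g.2, mem_centralizer_singleton_iff.2 (mul_inv_eq_iff_eq_mul.1 e).symm⟩
    rw [D.fpfW _ (pow_mem hw i) (hw' i hi hip), mem_bot] at hmem
    rw [hmem, orderOf_one] at hgv
    omega
  have hmp : (m : ZMod v) ^ p = 1 := by
    rw [← Nat.cast_pow, ← Nat.cast_one, ← hpowv, pow_one, ← hwi, D.pow_p hw]
    simp
  haveI : NeZero v := ⟨by omega⟩
  have hsum : ∑ k ∈ Finset.range p, (m : ZMod v) ^ k = 0 := by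
    set S := ∑ k ∈ Finset.range p, (m : ZMod v) ^ k with hS
    have h0 : ((m : ZMod v) - 1) * S = 0 := by rw [hS, mul_geom_sum, hmp, sub_self]
    have e : ((m * S.val : ℕ) : ZMod v) = (S.val : ℕ) := by
      rw [Nat.cast_mul, ZMod.natCast_val, ZMod.cast_id]
      linear_combination h0
    rw [← hpowv, pow_mul, hm, conj_pow] at e
    have hmem : (g : G) ^ S.val ∈ V ⊓ centralizer ({w} : Set G) :=
      mem_inf.2 ⟨pow_mem g.2 _, mem_centralizer_singleton_iff.2 (mul_inv_eq_iff_eq_mul.1 e).symm⟩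
    rw [D.fpfW w hw hw1, mem_bot, ← pow_zero (g : G), hpowv, ZMod.natCast_val, ZMod.cast_id,
      Nat.cast_zero] at hmem
    exact hmem
  set gH : D.H := ⟨g, D.mem_HV g.2⟩ with hgH
  set wH : D.H := ⟨w, D.mem_H₂ hw⟩ with hwH
  obtain ⟨r, hr, hr2, hrn, -, ⟨i, j, hi, hip, hj, hjp, hij, hrel⟩, t, ht⟩ :=
    exists_relation h (D.gamma_two hcard hnil hV1) hne D.prime.one_lt hv1 (D.conjAut gH) (D.conjAut wH)
      (by rw [← map_pow, show gH ^ v = 1 from Subtype.ext (by
            rw [SubmonoidClass.coe_pow, OneMemClass.coe_one, ← hgv]; exact pow_orderOf_eq_one _),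
          map_one])
      (fun k hk hkv x hx => Subtype.ext (D.isFpf.eq_one (pow_mem g.2 k)
        (pow_ne_one_of_lt_orderOf hk.ne' (by rwa [hgv])) x.2 (by
          rw [← map_pow] at hx
          have := D.conjAut_apply (gH ^ k) x
          rw [hx] at this
          exact this.symm)))
      (by rw [← map_pow, show wH ^ p = 1 from Subtype.ext (D.pow_p hw), map_one])
      (by
        rw [← map_mul, ← map_pow, ← map_mul]
        refine congrArg _ (Subtype.ext ?_)
        show w * (g : G) = (g : G) ^ m * w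
        rw [hm]
        group)
      hmne
  have hr3 : 3 ≤ r := by have := hr.two_le; omega
  obtain ⟨h5, hb⟩ := FrobArith.bound_of_relation D.prime (D.prime.odd_of_ne_two D.p_ne_two) hv1
    (D.odd.of_dvd_nat (card_subgroup_dvd_card V)) hr3 (hr.odd_of_ne_two hr2) hmp hsum hi hip hj hjp hij
    hrel ht
  refine ⟨h5, r, hr3, Nat.le_of_dvd ?_ hrn, hb⟩
  exact Nat.pos_of_ne_zero Subgroup.index_ne_zero_of_finite

/-- `Q' = 1`: `v + 1 ≤ r ^ p`. -/
theorem bound_abelian (hab : γ ↥Q 1 = ⊥) {r : ℕ} (hr : r.Prime) (hre : r ∣ Nat.card W₁) :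
    Nat.card V + 1 ≤ r ^ p := by
  classical
  have h := D.frob_ctx hcard hnil hV1
  have hcomm : ∀ a b : ↥Q, a * b = b * a := fun a b => by
    rw [← commutatorElement_eq_one_iff_mul_comm]
    have hm := comm_one a b
    rwa [hab, mem_bot] at hm
  letI : CommGroup ↥Q := { (inferInstance : Group ↥Q) with mul_comm := hcomm }
  set X : Subgroup ↥Q := (powMonoidHom r : ↥Q →* ↥Q).ker with hX
  have hXinv : FrobLayer.Inv X := fun φ x hx => by
    rw [hX, MonoidHom.mem_ker, powMonoidHom_apply] at hx ⊢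
    rw [← map_pow, hx, map_one]
  haveI := h.cyclic
  have hcardC : Nat.card ↥(X ⊓ W₁.subgroupOf Q) = r := by
    set C := W₁.subgroupOf Q
    haveI : IsCyclic ↥(X ⊓ C) := isCyclic_of_injective (Subgroup.inclusion (inf_le_right : X ⊓ C ≤ C))
      (inclusion_injective _)
    have hd : Nat.card ↥(X ⊓ C) ∣ r := by
      obtain ⟨b, hb⟩ := IsCyclic.exists_generator (α := ↥(X ⊓ C))
      rw [← orderOf_eq_card_of_forall_mem_zpowers hb]
      refine orderOf_dvd_of_pow_eq_one (Subtype.ext ?_)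
      exact (mem_inf.1 b.2).1
    refine ((Nat.dvd_prime hr).1 hd).resolve_left fun e => ?_
    haveI := Fact.mk hr
    obtain ⟨c, hc⟩ := exists_prime_orderOf_dvd_card' (G := C) r
      (by rwa [Nat.card_congr (subgroupOfEquivOfLe D.leW₁).toEquiv])
    have hm : (c : ↥Q) ∈ X ⊓ C := mem_inf.2 ⟨by
      rw [hX, MonoidHom.mem_ker, powMonoidHom_apply, ← SubmonoidClass.coe_pow, ← hc,
        pow_orderOf_eq_one, OneMemClass.coe_one], c.2⟩
    rw [card_eq_one.1 e, mem_bot] at hm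
    rw [show c = 1 from Subtype.ext hm, orderOf_one] at hc
    exact hr.one_lt.ne hc
  have hXc := h.card_eq X hXinv
  rw [hcardC] at hXc
  set Y := X.map Q.subtype with hY
  have hYc : Nat.card Y = r ^ p := by
    rw [← hXc]
    exact (Nat.card_congr (X.equivMapOfInjective Q.subtype Q.subtype_injective).toEquiv).symm
  have hmod := (D.isFpf.mono le_rfl (map_subtype_le X)).card_mod
    (fun a ha => D.conj_mem_of_inv hXinv (D.mem_HV ha))
  rw [hYc] at hmod
  have h1 : 1 ≤ r ^ p := Nat.one_le_pow _ _ hr.pos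
  have hd : Nat.card V ∣ r ^ p - 1 := (Nat.modEq_iff_dvd' h1).1 hmod.symm
  have := Nat.le_of_dvd (Nat.sub_pos_of_lt (Nat.one_lt_pow D.prime.ne_zero hr.one_lt)) hd
  omega

end Data

end CfsgLib.FT.TwoSide
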