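import Cfsg.Agent.Lib.Char.Induction
import Cfsg.Agent.Lib.Char.CoherenceBasic

/-!
# The measure `∫_X f = |G|⁻¹ Σ_{g ∈ X} f g` of `docs/FT.md`

* `mass_conjSet`: on the conjugates of a subset `A` of `L` with trivial intersections and normalizer
  `L`, the mass of a class function is the average of its values on `A` inside `L`;
* `mass_univ`: the mass of `|χ|² - Re χ` on all of `G`;
* `mass_union`, `mass_le_univ`: additivity.
-/

set_option autoImplicit false
set_option linter.unusedSectionVars false

namespace CfsgLib.FT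

open scoped ComplexConjugate
open Cfsg CfsgLib.Char

universe u

variable {G : Type u} [Group G] [Fintype G]

open Classical in
/-- `∫_X f = |G|⁻¹ Σ_{g ∈ X} f g`. -/
noncomputable def mass (X : Set G) (f : G → ℝ) : ℝ :=
  (Nat.card G : ℝ)⁻¹ * ∑ g : G, if g ∈ X then f g else 0

/-- The integrand `|χ|² - Re χ`. -/
noncomputable def slack (χ : G → ℂ) (g : G) : ℝ := ‖χ g‖ ^ 2 - (χ g).re

/-- The conjugates of the elements of `A`. -/
def conjSet (A : Set G) : Set G := {g | ∃ y : G, ∃ a ∈ A, g = y * a * y⁻¹}

theorem mass_union {X Y : Set G} (h : Disjoint X Y) (f : G → ℝ) :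
    mass (X ∪ Y) f = mass X f + mass Y f := by
  classical
  rw [mass, mass, mass, ← mul_add, ← Finset.sum_add_distrib]
  congr 1
  refine Finset.sum_congr rfl fun g _ => ?_
  by_cases hx : g ∈ X
  · simp [hx, Set.disjoint_left.1 h hx]
  · by_cases hy : g ∈ Y <;> simp [hx, hy]

theorem mass_univ {χ : G → ℂ} :
    mass Set.univ (slack χ) = (classInner χ χ).re - (classInner χ (fun _ => 1)).re := by
  classical
  simp only [mass, slack, Set.mem_univ, if_true, classInner, map_one, mul_one, Complex.mul_conj']
  rw [show ((Nat.card G : ℂ))⁻¹ = (((Nat.card G : ℝ)⁻¹ : ℝ) : ℂ) by push_cast; rfl,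
    Complex.re_ofReal_mul, Complex.re_ofReal_mul, Complex.re_sum, Complex.re_sum, ← mul_sub,
    ← Finset.sum_sub_distrib]
  congr 1
  exact Finset.sum_congr rfl fun g _ => by simp [← Complex.ofReal_pow]

/-- The mass of a class function on the conjugates of a trivial intersection set. -/
theorem mass_conjSet {L : Subgroup G} [Fintype L] {A : Set G} (hAL : A ⊆ (L : Set G))
    (hinv : ∀ l ∈ L, ∀ a ∈ A, l * a * l⁻¹ ∈ A)
    (hTI : ∀ g : G, ∀ a ∈ A, g * a * g⁻¹ ∈ A → g ∈ L)
    {f : G → ℝ} (hf : ∀ g h : G, f (h * g * h⁻¹) = f g) :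
    mass (conjSet A) f = mass (G := L) {x : L | (x : G) ∈ A} (fun x => f x) := by
  classical
  set α : L → ℂ := fun x => if (x : G) ∈ A then (f x : ℂ) else 0 with hα
  have hval : ∀ g : G, indFun L α g = if g ∈ conjSet A then (f g : ℂ) else 0 := by
    intro g
    by_cases hg : g ∈ conjSet A
    · obtain ⟨y, a, ha, rfl⟩ := hg
      rw [if_pos ⟨y, a, ha, rfl⟩, isClassFunction_indFun L α a y, indFun,
        Finset.sum_congr rfl (g := fun x => if x ∈ L then (f a : ℂ) else 0) fun x _ => by
          by_cases hx : x ∈ L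
          · rw [if_pos hx, extendByZero_mem L α (L.mul_mem (L.mul_mem (L.inv_mem hx) (hAL ha)) hx)]
            have hA : x⁻¹ * a * x ∈ A := by simpa using hinv x⁻¹ (L.inv_mem hx) a ha
            have hfa : f (x⁻¹ * a * x) = f a := by simpa using hf a x⁻¹
            simp only [hα]
            rw [if_pos hA, hfa]
          · rw [if_neg hx]
            by_cases hm : x⁻¹ * a * x ∈ L
            · rw [extendByZero_mem L α hm]
              simp only [hα]
              rw [if_neg]
              intro hA
              exact hx (by simpa using L.inv_mem (hTI x⁻¹ a ha (by simpa using hA)))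
            · exact extendByZero_not_mem L α hm,
        ← Finset.sum_filter, Finset.sum_const, nsmul_eq_mul, ← Fintype.card_subtype,
        ← Nat.card_eq_fintype_card, ← mul_assoc,
        inv_mul_cancel₀ (Nat.cast_ne_zero.2 Nat.card_pos.ne'), one_mul, hf]
    · rw [if_neg hg, indFun, Finset.sum_eq_zero fun x _ => ?_, mul_zero]
      by_cases hm : x⁻¹ * g * x ∈ L
      · rw [extendByZero_mem L α hm]
        simp only [hα]
        rw [if_neg]
        intro hA
        exact hg ⟨x, _, hA, by group⟩
      · exact extendByZero_not_mem L α hm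
  have key := classInner_indFun L α (fun _ => (1 : ℂ)) fun _ _ => rfl
  rw [funext hval] at key
  simp only [classInner, map_one, mul_one, hα] at key
  have key' := congrArg Complex.re key
  rw [show ((Nat.card G : ℂ))⁻¹ = (((Nat.card G : ℝ)⁻¹ : ℝ) : ℂ) by push_cast; rfl,
    show ((Nat.card L : ℂ))⁻¹ = (((Nat.card L : ℝ)⁻¹ : ℝ) : ℂ) by push_cast; rfl,
    Complex.re_ofReal_mul, Complex.re_ofReal_mul, Complex.re_sum, Complex.re_sum] at key'
  simp only [apply_ite Complex.re, Complex.ofReal_re, Complex.zero_re] at key'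
  simpa [mass] using key'

theorem slack_conj {χ : G → ℂ} (hχ : IsClassFunction G χ) (g h : G) :
    slack χ (h * g * h⁻¹) = slack χ g := by
  simp only [slack, hχ g h]

/-- Pairwise disjoint pieces with a non-negative rest. -/
theorem mass_add_le_univ {X : Set G} {χ : G → ℂ} (hrest : 0 ≤ mass Xᶜ (slack χ)) :
    mass X (slack χ) ≤ (classInner χ χ).re - (classInner χ (fun _ => 1)).re := by
  rw [← mass_univ, ← Set.union_compl_self X, mass_union disjoint_compl_right]
  linarith

end CfsgLib.FT
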