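import Cfsg.Agent.Lib.FT.TypeTwoShape
import Cfsg.Agent.Lib.FT.Mass

/-!
# The type II side of a pair: values on `Q#` and the three integral bounds (`docs/FT.md`, §3)

* `col_value`, `row_value`: `η_0j` is a constant integer on `Q#`, `η_i0` is `c ± S_i` with `S_i` an orbit sum;
* `int_of_orth`, `dvd_of_vanish`, `orth_of_two`: the other characters;
* `Theta φ = τ θ_T` and its properties;
* `bound_row`, `bound_sum`, `bound_col`: the masses of `|f|² - Re f` on the conjugates of `Q#`.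
-/

set_option autoImplicit false
set_option linter.unusedSectionVars false
set_option linter.style.haveILetI false

open Subgroup

namespace CfsgLib.FT.TwoSide

open scoped ComplexConjugate
open Cfsg CfsgLib.Char CfsgLib.Char.Signed CfsgLib.FT.Rect

universe u

/-! ### Fourier analysis on an abelian group -/

theorem sum_dual {A : Type u} [Group A] [Finite A] (hA : ∀ a b : A, a * b = b * a)
    [Fintype (A →* ℂˣ)] (z : A) [Decidable (z = 1)] :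
    ∑ ν : A →* ℂˣ, lc ν z = if z = 1 then (Nat.card A : ℂ) else 0 := by
  letI : CommGroup A := { (inferInstance : Group A) with mul_comm := hA }
  split_ifs with h
  · subst h
    rw [← CommGroup.card_monoidHom_of_hasEnoughRootsOfUnity A ℂ]
    simp [lc]
  · obtain ⟨θ, hθ⟩ := CommGroup.exists_apply_ne_one_of_hasEnoughRootsOfUnity A ℂ h
    set S := ∑ ν : A →* ℂˣ, lc ν z with hS
    have h' : ((θ z : ℂˣ) : ℂ) * S = S := by
      rw [hS, Finset.mul_sum]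
      exact Fintype.sum_equiv (Equiv.mulLeft θ) _ _ fun ν => by simp [lc]
    by_contra h0
    exact hθ (Units.ext (mul_right_cancel₀ h0 (h'.trans (one_mul S).symm)))

/-- A function on an abelian group is the sum of its Fourier components. -/
theorem eq_sum_dual {A : Type u} [Group A] [Fintype A] (hA : ∀ a b : A, a * b = b * a)
    [Fintype (A →* ℂˣ)] (f : A → ℂ) (x : A) :
    f x = ∑ ν : A →* ℂˣ, classInner f (lc ν) * lc ν x := by
  classical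
  have h : ∀ ν : A →* ℂˣ, classInner f (lc ν) * lc ν x =
      (Nat.card A : ℂ)⁻¹ * ∑ y : A, f y * lc ν (y⁻¹ * x) := fun ν => by
    rw [classInner, mul_assoc, Finset.sum_mul]
    congr 1
    refine Finset.sum_congr rfl fun y _ => ?_
    rw [lc_conj]
    simp [lc, mul_assoc]
  rw [Finset.sum_congr rfl fun ν _ => h ν, ← Finset.mul_sum, Finset.sum_comm]
  simp only [← Finset.mul_sum, sum_dual hA, inv_mul_eq_one, mul_ite, mul_zero, Finset.sum_ite_eq',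
    Finset.mem_univ, if_true]
  field_simp

variable {G : Type u} [Group G] [Fintype G]

theorem integer_bound {h v : ℝ} (hv : 0 ≤ v) (hvh : v ≤ h - 1) (C : ℤ) {δ : ℝ} (hδ : δ = 1 ∨ δ = -1) :
    0 ≤ (h - 1) * ((C : ℝ) ^ 2 - C) - δ * (2 * C - 1) * v + v := by
  obtain hc | hc : C ≤ -1 ∨ 0 ≤ C := by omega
  · have hc' : (C : ℝ) ≤ -1 := by exact_mod_cast hc
    have h1 : v * ((C : ℝ) ^ 2 - C) ≤ (h - 1) * ((C : ℝ) ^ 2 - C) :=
      mul_le_mul_of_nonneg_right hvh (by nlinarith)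
    rcases hδ with rfl | rfl
    · nlinarith
    · nlinarith [mul_nonneg hv (show (0 : ℝ) ≤ (C : ℝ) ^ 2 + C by nlinarith)]
  obtain hc0 | hc0 | hc0 : C = 0 ∨ C = 1 ∨ 2 ≤ C := by omega
  · subst hc0
    rcases hδ with rfl | rfl <;> norm_num <;> linarith
  · subst hc0
    rcases hδ with rfl | rfl <;> norm_num <;> linarith
  · have hc' : (2 : ℝ) ≤ (C : ℝ) := by exact_mod_cast hc0
    have h1 : v * ((C : ℝ) ^ 2 - C) ≤ (h - 1) * ((C : ℝ) ^ 2 - C) :=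
      mul_le_mul_of_nonneg_right hvh (by nlinarith)
    rcases hδ with rfl | rfl
    · nlinarith [mul_nonneg hv (show (0 : ℝ) ≤ ((C : ℝ) - 1) * ((C : ℝ) - 2) by nlinarith)]
    · nlinarith

namespace Data

variable {T Q W₁ W₂ V : Subgroup G} {p : ℕ} (D : Data T Q W₁ W₂ V p)
variable {χ : (↥(W₁ ⊔ W₂) →* ℂˣ) → (G → ℂ)} (hχ : IsCyclicTIFamily W₁ W₂ χ)

open Classical in
/-- The `V W₂`-orbit of a linear character. -/
noncomputable def orb (lam : ↥Q →* ℂˣ) : Finset (↥Q →* ℂˣ) :=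
  haveI := Fintype.ofFinite D.H
  Finset.univ.image fun a : D.H => D.tw a lam

/-- The orbit sum `S`. -/
noncomputable def orbSum (lam : ↥Q →* ℂˣ) (x : Q) : ℂ := ∑ ν ∈ D.orb lam, lc ν x

include D

theorem mem_orb {lam ν : ↥Q →* ℂˣ} : ν ∈ D.orb lam ↔ ∃ a : D.H, D.tw a lam = ν := by
  classical
  simp [orb]

theorem card_orb {lam : ↥Q →* ℂˣ} (hf : D.Fixed lam) (h : lam ≠ 1) :
    (D.orb lam).card = Nat.card V := by
  classical
  rw [← Nat.card_eq_finsetCard]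
  refine (Nat.card_congr (Equiv.ofBijective
    (fun g : V => (⟨D.tw ⟨g, D.mem_HV g.2⟩ lam, D.mem_orb.2 ⟨_, rfl⟩⟩ : D.orb lam))
    ⟨fun g g' e => ?_, fun ν => ?_⟩)).symm
  · have e' : D.tw ⟨g, D.mem_HV g.2⟩ lam = D.tw ⟨g', D.mem_HV g'.2⟩ lam := congrArg Subtype.val e
    have h1 : D.tw (⟨g', D.mem_HV g'.2⟩⁻¹ * ⟨g, D.mem_HV g.2⟩) lam = lam := by
      rw [tw_mul, e', tw_inv_tw]
    have h2 := congrArg Subtype.val (D.eq_one_of_tw (mul_mem (inv_mem g'.2) g.2) h h1)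
    exact Subtype.ext (inv_mul_eq_one.1 h2).symm
  · obtain ⟨a, ha⟩ := D.mem_orb.1 ν.2
    obtain ⟨g, w, hg, hw, rfl⟩ := D.exists_eq_H a
    exact ⟨⟨g, hg⟩, Subtype.ext (by rw [← ha, tw_mul, hf w hw])⟩

theorem one_not_mem_orb {lam : ↥Q →* ℂˣ} (h : lam ≠ 1) : (1 : ↥Q →* ℂˣ) ∉ D.orb lam := fun hm => by
  obtain ⟨a, ha⟩ := D.mem_orb.1 hm
  exact D.tw_ne_one h ha

variable (hQ : ∀ a ∈ Q, ∀ b ∈ Q, a * b = b * a)
include hQ

theorem h_le : Nat.card V + 1 ≤ Nat.card Q := by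
  classical
  obtain ⟨φ, hφ, h1, -⟩ := D.exists_ne 1
  haveI := finite_dual (K := ↥Q)
  let _ := Fintype.ofFinite (↥Q →* ℂˣ)
  letI : CommGroup Q :=
    { (inferInstance : Group Q) with mul_comm := fun a b => Subtype.ext (hQ a a.2 b b.2) }
  rw [← D.card_orb (D.lift_fixed hQ φ) (D.lift_ne_one hQ hφ h1),
    ← CommGroup.card_monoidHom_of_hasEnoughRootsOfUnity Q ℂ, Nat.card_eq_fintype_card]
  exact Finset.card_lt_univ_of_notMem (D.one_not_mem_orb (D.lift_ne_one hQ hφ h1))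

/-- A non-principal orbit is invariant or free. -/
theorem orbit_cases {ν : ↥Q →* ℂˣ} (hν : ν ≠ 1) :
    (∃ a : D.H, ∃ φ ∈ trivOn (W₁ ⊔ W₂) W₂, φ ≠ 1 ∧ D.tw a ν = D.lift hQ φ) ∨ ¬ D.OrbFixed ν := by
  by_cases h : D.OrbFixed ν
  · obtain ⟨a, ha⟩ := h
    obtain ⟨φ, hφ, e⟩ := D.exists_lift hQ ha
    refine Or.inl ⟨a, φ, hφ, fun e1 => D.tw_ne_one hν (a := a) ?_, e.symm⟩
    rw [← e, e1, lift_one]
  · exact Or.inr h

theorem mem_orb_lift {a : D.H} {ν : ↥Q →* ℂˣ} {φ φ₁ : ↥(W₁ ⊔ W₂) →* ℂˣ} (hφ : φ ∈ trivOn _ W₂)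
    (hφ₁ : φ₁ ∈ trivOn _ W₂) (h1 : φ₁ ≠ 1) (e : D.tw a ν = D.lift hQ φ) :
    ν ∈ D.orb (D.lift hQ φ₁) ↔ φ = φ₁ := by
  rw [D.mem_orb]
  constructor
  · rintro ⟨b, rfl⟩
    rw [← tw_mul] at e
    have h2 := D.fixed_unique (D.lift_fixed hQ φ₁) (D.lift_ne_one hQ hφ₁ h1) (a := a * b)
      (by rw [e]; exact D.lift_fixed hQ φ)
    rw [e] at h2
    exact D.lift_inj hQ hφ hφ₁ h2
  · rintro rfl
    exact ⟨a⁻¹, by rw [← e, tw_inv_tw]⟩

include hχ

/-- The columns get nothing from any difference. -/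
theorem col_coeff [Fintype Q] {β : ↥(W₁ ⊔ W₂) →* ℂˣ} (hβ : β ∈ trivOn _ W₁) {ν ν' : ↥Q →* ℂˣ}
    (hν : ν ≠ 1) (hν' : ν' ≠ 1) : iq (Df ν ν') (χ β) = 0 := by
  classical
  obtain ⟨φ₀, hφ₀, h0, -⟩ := D.exists_ne 1
  have key : ∀ ν : ↥Q →* ℂˣ, ν ≠ 1 → iq (Df ν (D.lift hQ φ₀)) (χ β) = 0 := by
    intro ν hν
    rcases D.orbit_cases hQ hν with ⟨a, φ, hφ, h1, e⟩ | hfree
    · rw [← D.Df_tw a, e]
      rcases eq_or_ne φ φ₀ with rfl | hne
      · exact iq_Df_self hχ _ _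
      · have h := D.pair_coeff hχ hQ hφ hφ₀ h1 h0 hne (one_mem (trivOn (W₁ ⊔ W₂) W₂)) hβ
        rwa [if_neg h1.symm, if_neg h0.symm, sub_zero,
          show (1 : ↥(W₁ ⊔ W₂) →* ℂˣ) * β = β from one_mul β] at h
    · rw [iq_Df_swap hχ, D.col_zero hχ hQ hφ₀ h0 hfree hβ, neg_zero]
  rw [iq_Df_add hχ ν (D.lift hQ φ₀) ν', key ν hν, iq_Df_swap hχ ν', key ν' hν']
  rfl

/-- The rows see exactly one invariant orbit. -/
theorem row_coeff [Fintype Q] {α : ↥(W₁ ⊔ W₂) →* ℂˣ} (hα : α ∈ trivOn _ W₂) (hα1 : α ≠ 1) :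
    ∃ ref : ↥Q →* ℂˣ, ref ≠ 1 ∧ ∃ δ : ℤ, ∃ φ₁ ∈ trivOn (W₁ ⊔ W₂) W₂, φ₁ ≠ 1 ∧ (δ = 1 ∨ δ = -1) ∧
      ∀ ν : ↥Q →* ℂˣ, ν ≠ 1 → ∀ [Decidable (ν ∈ D.orb (D.lift hQ φ₁))],
        iq (Df ν ref) (χ α) = if ν ∈ D.orb (D.lift hQ φ₁) then δ else 0 := by
  classical
  by_cases hex : ∃ mu : ↥Q →* ℂˣ, ¬ D.OrbFixed mu
  · obtain ⟨mu, hmu⟩ := hex
    obtain ⟨δ, φ₁, hφ₁, h11, hδ, hc⟩ := D.row_shape hχ hQ hα hα1 hmu
    refine ⟨mu, D.not_orbFixed_ne_one hmu, δ, φ₁, hφ₁, h11, hδ, fun ν hν _ => ?_⟩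
    rcases D.orbit_cases hQ hν with ⟨a, φ, hφ, h1, e⟩ | hfree
    · rw [← D.Df_tw a, e, hc φ hφ h1]
      exact if_congr (D.mem_orb_lift hQ hφ hφ₁ h11 e).symm rfl rfl
    · rw [D.free_free hχ hQ hfree hmu, if_neg]
      intro hm
      obtain ⟨b, hb⟩ := D.mem_orb.1 hm
      exact hfree ⟨b⁻¹, by rw [← hb, tw_inv_tw]; exact D.lift_fixed hQ φ₁⟩
  · push Not at hex
    obtain ⟨φ', hφ', h1', hne'⟩ := D.exists_ne α
    refine ⟨D.lift hQ φ', D.lift_ne_one hQ hφ' h1', 1, α, hα, hα1, Or.inl rfl, fun ν hν _ => ?_⟩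
    rcases D.orbit_cases hQ hν with ⟨a, φ, hφ, h1, e⟩ | hfree
    swap
    · exact absurd (hex ν) hfree
    rw [← D.Df_tw a, e]
    rcases eq_or_ne φ φ' with rfl | hne
    · rw [iq_Df_self hχ, if_neg fun hm => hne' ((D.mem_orb_lift hQ hφ hα hα1 e).1 hm)]
    · have h := D.pair_coeff hχ hQ hφ hφ' h1 h1' hne hα (one_mem (trivOn (W₁ ⊔ W₂) W₁))
      rw [show α * 1 = α from mul_one α, if_neg (Ne.symm hne'), sub_zero] at h
      rw [h]
      exact if_congr (eq_comm.trans (D.mem_orb_lift hQ hφ hα hα1 e).symm) rfl rfl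

omit hχ in
/-- A generalized character with the coefficients `c + δ [orbit]` on `Q`. -/
theorem value_of_coeff [Fintype Q] {f : G → ℂ} (hf : IsGeneralizedCharacter G f) {ref : ↥Q →* ℂˣ}
    (O : Finset (↥Q →* ℂˣ)) (hO : (1 : ↥Q →* ℂˣ) ∉ O) (δ : ℤ)
    (hc : ∀ ν : ↥Q →* ℂˣ, ν ≠ 1 → ∀ [Decidable (ν ∈ O)],
      iq (Df ν ref) f = if ν ∈ O then δ else 0) :
    ∃ c : ℤ, ((c : ℂ) = classInner f (Df 1 ref)) ∧
      ∀ x : Q, (x : G) ≠ 1 → f x = c + δ * ∑ ν ∈ O, lc ν x := by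
  classical
  haveI := finite_dual (K := ↥Q)
  let _ := Fintype.ofFinite (↥Q →* ℂˣ)
  have hcl := isClassFunction_of_isGeneralized hf
  refine ⟨iq (Df 1 ref) f, ?_, fun x hx => ?_⟩
  · rw [← classInner_conj, iq_spec (Df_gen _ _) hf, map_intCast]
  have hQc : ∀ a b : Q, a * b = b * a := fun a b => Subtype.ext (hQ a a.2 b b.2)
  set m := fun ν : ↥Q →* ℂˣ => classInner (fun y : Q => f y) (lc ν) with hm
  have hdiff : ∀ ν, m ν - m ref = (iq (Df ν ref) f : ℂ) := fun ν => by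
    rw [hm, ← inner_Df ν ref hcl, ← classInner_conj, iq_spec (Df_gen _ _) hf, map_intCast]
  have hterm : ∀ ν : ↥Q →* ℂˣ, m ν * lc ν x = m ref * lc ν x +
      ((if ν = 1 then (iq (Df 1 ref) f : ℂ) else 0) + (δ : ℂ) * if ν ∈ O then lc ν x else 0) := by
    intro ν
    have e : m ν = m ref + (iq (Df ν ref) f : ℂ) := by rw [← hdiff ν]; ring
    rcases eq_or_ne ν 1 with rfl | hν
    · rw [if_pos rfl, if_neg hO, e]
      simp [lc]
    · rw [if_neg hν, e, hc ν hν]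
      split_ifs <;> push_cast <;> ring
  have hx1 : x ≠ 1 := fun e => hx (by rw [e]; rfl)
  refine (eq_sum_dual hQc (fun y : Q => f y) x).trans ?_
  rw [Finset.sum_congr rfl fun ν _ => hterm ν,
    Finset.sum_add_distrib, Finset.sum_add_distrib, ← Finset.mul_sum, ← Finset.mul_sum,
    sum_dual hQc, if_neg hx1, mul_zero, zero_add, Finset.sum_ite_eq' Finset.univ (1 : ↥Q →* ℂˣ),
    if_pos (Finset.mem_univ _), Finset.sum_ite_mem, Finset.univ_inter]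

/-- A column is a constant integer on `Q#`. -/
theorem col_value [Fintype Q] {β : ↥(W₁ ⊔ W₂) →* ℂˣ} (hβ : β ∈ trivOn _ W₁) :
    ∃ c : ℤ, ∀ x : Q, (x : G) ≠ 1 → χ β x = c := by
  classical
  obtain ⟨φ₀, hφ₀, h0, -⟩ := D.exists_ne 1
  obtain ⟨c, -, hc⟩ := D.value_of_coeff hQ (sg_eta hχ β).gen (ref := D.lift hQ φ₀) ∅ (by simp) 0
    fun ν hν _ => by rw [D.col_coeff hχ hQ hβ hν (D.lift_ne_one hQ hφ₀ h0)]; simp
  exact ⟨c, fun x hx => by simpa using hc x hx⟩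

/-- A row is an integer plus or minus one orbit sum on `Q#`. -/
theorem row_value [Fintype Q] {α : ↥(W₁ ⊔ W₂) →* ℂˣ} (hα : α ∈ trivOn _ W₂) (hα1 : α ≠ 1) :
    ∃ c δ : ℤ, ∃ φ₁ ∈ trivOn (W₁ ⊔ W₂) W₂, φ₁ ≠ 1 ∧ (δ = 1 ∨ δ = -1) ∧
      ∀ x : Q, (x : G) ≠ 1 → χ α x = c + δ * D.orbSum (D.lift hQ φ₁) x := by
  classical
  obtain ⟨ref, -, δ, φ₁, hφ₁, h1, hδ, hc⟩ := D.row_coeff hχ hQ hα hα1
  obtain ⟨c, -, hv⟩ := D.value_of_coeff hQ (sg_eta hχ α).gen (ref := ref) _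
    (D.one_not_mem_orb (D.lift_ne_one hQ hφ₁ h1)) δ fun ν hν _ => by rw [hc ν hν]
  exact ⟨c, δ, φ₁, hφ₁, h1, hδ, hv⟩

omit hχ

/-- `τ θ_T`. -/
noncomputable def Theta (φ : ↥(W₁ ⊔ W₂) →* ℂˣ) : G → ℂ := Df 1 (D.lift hQ φ)

theorem Theta_gen (φ : ↥(W₁ ⊔ W₂) →* ℂˣ) : IsGeneralizedCharacter G (D.Theta hQ φ) := Df_gen _ _

/-- The other characters are integers on `Q#`. -/
theorem int_of_orth [Fintype Q] {f : G → ℂ} (hf : IsGeneralizedCharacter G f)
    (ho : ∀ lam mu : ↥Q →* ℂˣ, lam ≠ 1 → mu ≠ 1 → classInner f (Df lam mu) = 0)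
    {φ : ↥(W₁ ⊔ W₂) →* ℂˣ} (hφ : φ ∈ trivOn _ W₂) (h1 : φ ≠ 1) :
    ∃ z : ℤ, classInner f (D.Theta hQ φ) = z ∧ ∀ x : Q, (x : G) ≠ 1 → f x = z := by
  classical
  obtain ⟨c, hcv, hc⟩ := D.value_of_coeff hQ hf (ref := D.lift hQ φ) ∅ (by simp) 0 fun ν hν _ => by
    have h := ho ν _ hν (D.lift_ne_one hQ hφ h1)
    rw [iq_eq (0 : ℤ) (by rw [← classInner_conj, h, map_zero, Int.cast_zero])]
    simp
  exact ⟨c, hcv.symm, fun x hx => by simpa using hc x hx⟩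

/-- A constant on `Q#` of a character with a zero on `Ẑ` is divisible by `p`. -/
theorem dvd_of_vanish {f : G → ℂ} (hf : IsGeneralizedCharacter G f) {z : ℤ}
    (hz : ∀ x : Q, (x : G) ≠ 1 → f x = z) {a b : G} (ha : a ∈ W₁) (ha1 : a ≠ 1) (hb : b ∈ W₂)
    (h0 : f (a * b) = 0) : (p : ℤ) ∣ z := by
  have c := cong_mul_of_pow_prime D.prime hf (k := 1) (x := b) (y := a)
    (by rw [pow_one]; exact D.pow_p hb) (D.comm₁ ha hb).symm
  rw [← D.comm₁ ha hb, h0, hz ⟨a, D.leW₁ ha⟩ ha1] at c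
  have h := (show Cong p ((0 : ℤ) : ℂ) (z : ℂ) by simpa using c).dvd D.prime
  rwa [zero_sub, dvd_neg] at h

theorem Theta_one [Fintype Q] {φ : ↥(W₁ ⊔ W₂) →* ℂˣ} (hφ : φ ∈ trivOn _ W₂) (h1 : φ ≠ 1) :
    classInner (D.Theta hQ φ) (fun _ => 1) = 1 := by
  classical
  rw [Theta, Df, classInner_indFun _ _ _ (fun _ _ => rfl), classInner_sub_left,
    show (fun _ : Q => (1 : ℂ)) = lc (1 : ↥Q →* ℂˣ) from funext fun x => by simp [lc],
    classInner_lc, classInner_lc, if_pos rfl, if_neg (D.lift_ne_one hQ hφ h1), sub_zero]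

theorem Theta_norm [Fintype Q] {φ : ↥(W₁ ⊔ W₂) →* ℂˣ} (hφ : φ ∈ trivOn _ W₂) (h1 : φ ≠ 1) :
    classInner (D.Theta hQ φ) (D.Theta hQ φ) = ((p * (Nat.card V + 1) : ℕ) : ℂ) := by
  have hl := D.lift_ne_one hQ hφ h1
  rw [Theta, D.inner_Df_Df hQ, D.num_triv, D.num_triv_left hl, D.num_triv_right hl,
    D.num_fixed_self (D.lift_fixed hQ φ) hl]
  push_cast
  ring

theorem Theta_conj (φ : ↥(W₁ ⊔ W₂) →* ℂˣ) :
    Cfsg.conjFun (D.Theta hQ φ) = D.Theta hQ φ⁻¹ := by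
  rw [Theta, Theta, Df_conj, lift_inv]
  congr 1

include hχ

/-- `Ind_Q^G (λ_i - λ_l)` is the difference of the rows `i` and `l`. -/
theorem Df_lift_eq [Fintype Q] {φ φ' : ↥(W₁ ⊔ W₂) →* ℂˣ} (hφ : φ ∈ trivOn _ W₂)
    (hφ' : φ' ∈ trivOn _ W₂) (h1 : φ ≠ 1) (h1' : φ' ≠ 1) (hne : φ ≠ φ') :
    Df (D.lift hQ φ) (D.lift hQ φ') = rowSum χ φ - rowSum χ φ' := by
  classical
  set F := Df (D.lift hQ φ) (D.lift hQ φ') with hF
  set Ψ := dualFin (W₁ ⊔ W₂) W₁ with hΨ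
  set A := Ψ.image (φ * ·) with hA
  set B := Ψ.image (φ' * ·) with hB
  have hdisj : Disjoint A B := by
    rw [Finset.disjoint_left]
    intro x hx hx'
    obtain ⟨y, hy, rfl⟩ := Finset.mem_image.1 hx
    obtain ⟨y', hy', e⟩ := Finset.mem_image.1 hx'
    exact hne (trivOn_mul_inj (snc_disj D.snc) (snc_comm D.snc) hφ hφ' (mem_dualFin.1 hy)
      (mem_dualFin.1 hy') e.symm).1
  have eA : ∀ y ∈ Ψ, iq F (χ (φ * y)) = 1 := fun y hy => by
    rw [D.pair_coeff hχ hQ hφ hφ' h1 h1' hne hφ (mem_dualFin.1 hy), if_pos rfl, if_neg hne, sub_zero]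
  have eB : ∀ y ∈ Ψ, iq F (χ (φ' * y)) = -1 := fun y hy => by
    rw [D.pair_coeff hχ hQ hφ hφ' h1 h1' hne hφ' (mem_dualFin.1 hy), if_neg hne.symm, if_pos rfl,
      zero_sub]
  have hinjA : Set.InjOn (φ * ·) (Ψ : Set (↥(W₁ ⊔ W₂) →* ℂˣ)) := fun x _ y _ e => mul_left_cancel e
  have hinjB : Set.InjOn (φ' * ·) (Ψ : Set (↥(W₁ ⊔ W₂) →* ℂˣ)) := fun x _ y _ e => mul_left_cancel e
  have hsA : ∑ i ∈ A, iq F (χ i) ^ 2 = (p : ℤ) := by
    rw [hA, Finset.sum_image hinjA,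
      Finset.sum_congr rfl (g := fun _ => (1 : ℤ)) fun y hy => by rw [eA y hy]; norm_num,
      Finset.sum_const, hΨ, pair_coeff.card_dual₁ D, nsmul_one]
  have hsB : ∑ i ∈ B, iq F (χ i) ^ 2 = (p : ℤ) := by
    rw [hB, Finset.sum_image hinjB,
      Finset.sum_congr rfl (g := fun _ => (1 : ℤ)) fun y hy => by rw [eB y hy]; norm_num,
      Finset.sum_const, hΨ, pair_coeff.card_dual₁ D, nsmul_one]
  have htA : ∑ i ∈ A, (iq F (χ i) : ℂ) • χ i = rowSum χ φ := by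
    rw [hA, Finset.sum_image hinjA, rowSum]
    exact Finset.sum_congr rfl fun y hy => by rw [eA y hy, Int.cast_one, one_smul]
  have htB : ∑ i ∈ B, (iq F (χ i) : ℂ) • χ i = -rowSum χ φ' := by
    rw [hB, Finset.sum_image hinjB, rowSum, ← Finset.sum_neg_distrib]
    exact Finset.sum_congr rfl fun y hy => by
      rw [eB y hy, Int.cast_neg, Int.cast_one, neg_smul, one_smul]
  have hP := eq_proj_of_le (A ∪ B) χ (fun i _ => sg_eta hχ i) (fun i _ j _ h => iq_eta_ne hχ h)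
    (Df_gen (D.lift hQ φ) (D.lift hQ φ')) (by
      rw [D.norm_fixed_fixed hQ hφ hφ' h1 h1' hne, Finset.sum_union hdisj, ← hF, hsA, hsB]
      linarith)
  rw [← hF] at hP
  rw [hP, Finset.sum_union hdisj, htA, htB, sub_eq_add_neg]

theorem Theta_sub [Fintype Q] {φ φ' : ↥(W₁ ⊔ W₂) →* ℂˣ} (hφ : φ ∈ trivOn _ W₂)
    (hφ' : φ' ∈ trivOn _ W₂) (h1 : φ ≠ 1) (h1' : φ' ≠ 1) (hne : φ ≠ φ') :
    D.Theta hQ φ - D.Theta hQ φ' = rowSum χ φ' - rowSum χ φ := by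
  rw [Theta, Theta, Df_add 1 (D.lift hQ φ') (D.lift hQ φ), add_sub_cancel_left,
    D.Df_lift_eq hχ hQ hφ' hφ h1' h1 hne.symm]

/-- Two irreducibles outside the family with the same inner products with all differences are orthogonal
to all of them. -/
theorem orth_of_two [Fintype Q] {X X' : IrrCharacter G} (hne : X ≠ X')
    (hX : ∀ ω, classInner (X : G → ℂ) (χ ω) = 0) (hX' : ∀ ω, classInner (X' : G → ℂ) (χ ω) = 0)
    (hsame : ∀ lam mu : ↥Q →* ℂˣ, lam ≠ 1 → mu ≠ 1 →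
      classInner (X : G → ℂ) (Df lam mu) = classInner (X' : G → ℂ) (Df lam mu)) :
    ∀ lam mu : ↥Q →* ℂˣ, lam ≠ 1 → mu ≠ 1 →
      classInner (X : G → ℂ) (Df lam mu) = 0 ∧ classInner (X' : G → ℂ) (Df lam mu) = 0 := by
  classical
  have gX := (Sg.of_irr X).gen
  have gX' := (Sg.of_irr X').gen
  obtain ⟨φ₀, hφ₀, h0, -⟩ := D.exists_ne 1
  set r := D.lift hQ φ₀ with hr
  let u : (↥(W₁ ⊔ W₂) →* ℂˣ) ⊕ Bool → (G → ℂ) :=
    Sum.elim χ fun b => if b then (X : G → ℂ) else (X' : G → ℂ)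
  have hsg : ∀ i, Sg (u i) := by
    rintro (ω | _ | _)
    exacts [sg_eta hχ ω, Sg.of_irr X', Sg.of_irr X]
  have hir : ∀ Y Y' : IrrCharacter G, Y ≠ Y' → iq (Y : G → ℂ) (Y' : G → ℂ) = 0 := fun Y Y' h =>
    iq_eq 0 (by rw [classInner_irr_ne h, Int.cast_zero])
  have ho : ∀ i j, i ≠ j → iq (u i) (u j) = 0 := by
    rintro (ω | _ | _) (ω' | _ | _) h
    · exact iq_eta_ne hχ fun e => h (congrArg Sum.inl e)
    · exact (iq_comm (sg_eta hχ ω).gen gX').trans (iq_eq 0 (by rw [hX' ω, Int.cast_zero]))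
    · exact (iq_comm (sg_eta hχ ω).gen gX).trans (iq_eq 0 (by rw [hX ω, Int.cast_zero]))
    · exact iq_eq 0 ((hX' ω').trans Int.cast_zero.symm)
    · exact absurd rfl h
    · exact hir X' X hne.symm
    · exact iq_eq 0 ((hX ω').trans Int.cast_zero.symm)
    · exact hir X X' hne
    · exact absurd rfl h
  have main : ∀ lam mu : ↥Q →* ℂˣ, lam ≠ 1 → mu ≠ 1 →
      ∀ S : Finset (↥(W₁ ⊔ W₂) →* ℂˣ), iq (Df lam mu) (Df lam mu) ≤
        ∑ ω ∈ S, iq (Df lam mu) (χ ω) ^ 2 + 1 → iq (Df lam mu) (X : G → ℂ) = 0 := by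
    intro lam mu hl hm S hS
    have hle := sum_sq_le_norm (S.disjSum Finset.univ) u (fun i _ => hsg i) (fun i _ j _ h => ho i j h)
      (Df_gen lam mu)
    rw [Finset.sum_disjSum, Fintype.sum_bool] at hle
    have e : iq (Df lam mu) (X' : G → ℂ) = iq (Df lam mu) (X : G → ℂ) := by
      rw [iq_comm (Df_gen _ _) gX', iq_comm (Df_gen _ _) gX]
      simp only [iq, hsame lam mu hl hm]
    simp only [u, Sum.elim_inl, Sum.elim_inr, if_true, if_false, Bool.false_eq_true, e] at hle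
    by_contra hz
    have : 0 < iq (Df lam mu) (X : G → ℂ) ^ 2 := by positivity
    omega
  have key : ∀ ν : ↥Q →* ℂˣ, ν ≠ 1 → iq (Df ν r) (X : G → ℂ) = 0 := by
    intro ν hν
    rcases D.orbit_cases hQ hν with ⟨a, φ, hφ, h1, e⟩ | hfree
    · rw [← D.Df_tw a, e]
      rcases eq_or_ne φ φ₀ with rfl | hne'
      · exact iq_eq 0 (by rw [Df, sub_self, indFun_zero]; simp [classInner])
      have hF := D.Df_lift_eq hχ hQ hφ hφ₀ h1 h0 hne'
      refine iq_eq 0 ?_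
      rw [hr, hF, rowSum, rowSum, classInner_sub_left, classInner_sum_left, classInner_sum_left,
        Finset.sum_eq_zero fun y _ => ?_, Finset.sum_eq_zero fun y _ => ?_]
      · simp
      all_goals rw [← classInner_conj, hX, map_zero]
    · obtain ⟨β, hβ, hnz⟩ := D.exists_unit hχ hQ hφ₀ h0 hfree
      have h2 := main r ν (D.lift_ne_one hQ hφ₀ h0) hν
        ((dualFin (W₁ ⊔ W₂) W₁).image (β * ·)) (by
          rw [D.norm_fixed_free hQ hφ₀ h0 hfree, Finset.sum_image (fun x _ y _ e => mul_left_cancel e),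
            Finset.sum_congr rfl fun y hy => by
              rw [D.row_const hχ hQ hφ₀ h0 hfree hβ (mem_dualFin.1 hy)],
            Finset.sum_const, pair_coeff.card_dual₁ D, nsmul_eq_mul]
          have : 0 < iq (Df (D.lift hQ φ₀) ν) (χ β) ^ 2 := by positivity
          nlinarith)
      have e2 := congrArg (fun F => iq F (X : G → ℂ)) (Df_add ν r ν)
      simp only [iq_add_left (Df_gen _ _) (Df_gen _ _) gX] at e2
      rw [h2, show iq (Df ν ν) (X : G → ℂ) = 0 from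
        iq_eq 0 (by rw [Df, sub_self, indFun_zero]; simp [classInner])] at e2
      omega
  intro lam mu hl hm
  have hz : classInner (X : G → ℂ) (Df lam mu) = 0 := by
    rw [← classInner_conj, iq_spec (Df_gen _ _) gX, Df_add lam r mu,
      iq_add_left (Df_gen _ _) (Df_gen _ _) gX, key lam hl]
    have e2 := congrArg (fun F => iq F (X : G → ℂ)) (Df_add mu r mu)
    simp only [iq_add_left (Df_gen _ _) (Df_gen _ _) gX] at e2
    rw [key mu hm, show iq (Df mu mu) (X : G → ℂ) = 0 from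
      iq_eq 0 (by rw [Df, sub_self, indFun_zero]; simp [classInner])] at e2
    rw [show iq (Df r mu) (X : G → ℂ) = 0 by omega]
    simp
  exact ⟨hz, by rw [← hsame lam mu hl hm]; exact hz⟩

/-! ### The three integral bounds -/

omit hχ hQ in
open Classical in
/-- The mass on the conjugates of `Q#`. -/
theorem mass_Q [Fintype Q] {f : G → ℂ} (hf : IsClassFunction G f) :
    mass (conjSet ((Q : Set G) \ {1})) (slack f) =
      ((p : ℝ) * Nat.card V * Nat.card Q)⁻¹ * ∑ x : Q, if (x : G) = 1 then 0 else slack f x := by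
  classical
  let _ := Fintype.ofFinite T
  rw [mass_conjSet (L := T) (A := (Q : Set G) \ {1}) (fun a ha => D.le ha.1) (fun l hl a ha =>
      ⟨(mem_normalizer_iff.1 (D.normal hl) a).1 ha.1, fun h => ha.2 (by simpa using h)⟩)
    (fun g a ha h => D.ti g a ha.1 (fun e => ha.2 e) h.1) (fun g h => slack_conj hf g h), mass,
    show (Nat.card T : ℝ) = (p : ℝ) * Nat.card V * Nat.card Q by
      rw [D.card_T]; push_cast; ring]
  congr 1
  symm
  refine Finset.sum_bij_ne_zero (fun x _ _ => (⟨x, D.le x.2⟩ : T)) (fun _ _ _ => Finset.mem_univ _)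
    (fun x _ _ y _ _ e => Subtype.ext (congrArg (fun z : T => (z : G)) e)) ?_ ?_
  · intro t _ ht
    have hm : (t : G) ∈ (Q : Set G) \ {1} := by
      by_contra hm
      rw [if_neg (show t ∉ {x : T | (x : G) ∈ (Q : Set G) \ {1}} from hm)] at ht
      exact ht rfl
    refine ⟨⟨t, hm.1⟩, Finset.mem_univ _, ?_, Subtype.ext rfl⟩
    rw [if_pos (show t ∈ {x : T | (x : G) ∈ (Q : Set G) \ {1}} from hm)] at ht
    rw [if_neg (show ¬ (t : G) = 1 from hm.2)]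
    exact ht
  · intro x _ hx
    have h1 : (x : G) ≠ 1 := fun e => hx (by rw [if_pos e])
    rw [if_neg h1, if_pos (show (⟨x, D.le x.2⟩ : T) ∈ {x : T | (x : G) ∈ (Q : Set G) \ {1}} from
      ⟨x.2, h1⟩)]

omit hχ in
/-- The common form of the bound for `a` and `a + b`. -/
theorem bound_shape [Fintype Q] {φ₁ : ↥(W₁ ⊔ W₂) →* ℂˣ} (hφ₁ : φ₁ ∈ trivOn _ W₂) (h1 : φ₁ ≠ 1)
    {f : G → ℂ} (hf : IsClassFunction G f) (c δ : ℤ) (hδ : δ = 1 ∨ δ = -1)
    (hv : ∀ x : Q, (x : G) ≠ 1 → f x = c + δ * D.orbSum (D.lift hQ φ₁) x) :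
    1 / (p : ℝ) - ((Nat.card V : ℝ) + 1) / ((p : ℝ) * Nat.card Q) ≤
      mass (conjSet ((Q : Set G) \ {1})) (slack f) := by
  classical
  set lam := D.lift hQ φ₁ with hlam
  have hl : lam ≠ 1 := D.lift_ne_one hQ hφ₁ h1
  have hS1 : D.orbSum lam 1 = (Nat.card V : ℂ) := by
    rw [orbSum]
    simp [lc, hlam, D.card_orb (D.lift_fixed hQ φ₁) hl]
  have hlc : ∀ ν : ↥Q →* ℂˣ, ν ≠ 1 → ∑ x : Q, lc ν x = 0 := fun ν hν => by
    have h := classInner_lc ν (1 : ↥Q →* ℂˣ)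
    rw [if_neg hν, classInner] at h
    simp only [lc_apply, MonoidHom.one_apply, Units.val_one, map_one, mul_one, mul_eq_zero,
      inv_eq_zero, Nat.cast_eq_zero] at h
    exact h.resolve_left Nat.card_pos.ne'
  have hsum : ∑ x : Q, D.orbSum lam x = 0 := by
    simp only [orbSum]
    rw [Finset.sum_comm]
    exact Finset.sum_eq_zero fun ν hν => hlc ν fun e => D.one_not_mem_orb hl (e ▸ hν)
  have hsq : ∑ x : Q, ‖D.orbSum lam x‖ ^ 2 = (Nat.card Q : ℝ) * Nat.card V := by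
    have hcl : classInner (fun x => D.orbSum lam x) (fun x => D.orbSum lam x) = (Nat.card V : ℂ) := by
      have e : (fun x => D.orbSum lam x) = ∑ ν ∈ D.orb lam, lc ν := by
        funext x; simp [orbSum, Finset.sum_apply]
      rw [e, classInner_sum_left, Finset.sum_congr rfl fun ν hν => by
        rw [classInner_sum_right, Finset.sum_congr rfl fun mu _ => classInner_lc ν mu,
          Finset.sum_ite_eq, if_pos hν], Finset.sum_const, D.card_orb (D.lift_fixed hQ φ₁) hl,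
        nsmul_eq_mul, mul_one]
    rw [classInner_self] at hcl
    have h2 : (Nat.card Q : ℝ)⁻¹ * ∑ x : Q, ‖D.orbSum lam x‖ ^ 2 = Nat.card V := by exact_mod_cast hcl
    rw [← h2]
    field_simp
  have hterm : ∀ x : Q, (x : G) ≠ 1 → slack f x = ((c : ℝ) ^ 2 - c) +
      ((δ : ℝ) * (2 * c - 1)) * (D.orbSum lam x).re + ‖D.orbSum lam x‖ ^ 2 := by
    intro x hx
    rw [slack, hv x hx, ← Complex.normSq_eq_norm_sq, ← Complex.normSq_eq_norm_sq]
    simp only [Complex.normSq_apply, Complex.add_re, Complex.add_im, Complex.mul_re, Complex.mul_im,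
      Complex.intCast_re, Complex.intCast_im]
    rcases hδ with rfl | rfl <;> push_cast <;> ring
  rw [D.mass_Q hf]
  set h : ℝ := (Nat.card Q : ℝ) with hh
  set v : ℝ := (Nat.card V : ℝ) with hvd
  have htot : (∑ x : Q, if (x : G) = 1 then 0 else slack f x) =
      (h - 1) * ((c : ℝ) ^ 2 - c) - (δ : ℝ) * (2 * c - 1) * v + (h * v - v ^ 2) := by
    have e : ∀ x : Q, (if (x : G) = 1 then (0 : ℝ) else slack f x) =
        (((c : ℝ) ^ 2 - c) + ((δ : ℝ) * (2 * c - 1)) * (D.orbSum lam x).re + ‖D.orbSum lam x‖ ^ 2) -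
          if x = 1 then ((c : ℝ) ^ 2 - c) + ((δ : ℝ) * (2 * c - 1)) * v + v ^ 2 else 0 := by
      intro x
      by_cases hx : (x : G) = 1
      · have : x = 1 := Subtype.ext hx
        rw [if_pos hx, if_pos this, this, hS1, Complex.natCast_re, Complex.norm_natCast, sub_self]
      · rw [if_neg hx, if_neg (fun e => hx (by rw [e]; rfl)), sub_zero, hterm x hx]
    rw [Finset.sum_congr rfl fun x _ => e x, Finset.sum_sub_distrib, Finset.sum_add_distrib,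
      Finset.sum_add_distrib, ← Finset.mul_sum, ← Complex.re_sum, hsum, hsq, Finset.sum_ite_eq',
      if_pos (Finset.mem_univ _), Finset.sum_const, Finset.card_univ, nsmul_eq_mul,
      ← Nat.card_eq_fintype_card, Complex.zero_re, mul_zero]
    ring
  rw [htot]
  have hp : (0 : ℝ) < p := Nat.cast_pos.2 D.prime.pos
  have hv0 : 0 < v := Nat.cast_pos.2 Nat.card_pos
  have hh0 : 0 < h := Nat.cast_pos.2 Nat.card_pos
  have hvh : v ≤ h - 1 := by
    have : ((Nat.card V + 1 : ℕ) : ℝ) ≤ (Nat.card Q : ℝ) := by exact_mod_cast D.h_le hQ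
    push_cast at this
    linarith
  have key := integer_bound hv0.le hvh c (δ := (δ : ℝ)) (by rcases hδ with rfl | rfl <;> simp)
  rw [show 1 / (p : ℝ) - (v + 1) / ((p : ℝ) * h) = ((p : ℝ) * v * h)⁻¹ * (h * v - v ^ 2 - v) by
    field_simp; ring]
  refine mul_le_mul_of_nonneg_left ?_ (by positivity)
  linarith

/-- The bound for `a = η_i0`. -/
theorem bound_row [Fintype Q] {α : ↥(W₁ ⊔ W₂) →* ℂˣ} (hα : α ∈ trivOn _ W₂) (hα1 : α ≠ 1) :
    1 / (p : ℝ) - ((Nat.card V : ℝ) + 1) / ((p : ℝ) * Nat.card Q) ≤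
      mass (conjSet ((Q : Set G) \ {1})) (slack (χ α)) := by
  obtain ⟨c, δ, φ₁, hφ₁, h1, hδ, hv⟩ := D.row_value hχ hQ hα hα1
  exact D.bound_shape hQ hφ₁ h1 (isClassFunction_of_isGeneralized (sg_eta hχ α).gen) c δ hδ hv

/-- The bound for `a + b`. -/
theorem bound_sum [Fintype Q] {α β : ↥(W₁ ⊔ W₂) →* ℂˣ} (hα : α ∈ trivOn _ W₂) (hα1 : α ≠ 1)
    (hβ : β ∈ trivOn _ W₁) :
    1 / (p : ℝ) - ((Nat.card V : ℝ) + 1) / ((p : ℝ) * Nat.card Q) ≤
      mass (conjSet ((Q : Set G) \ {1})) (slack (χ α + χ β)) := by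
  obtain ⟨c, δ, φ₁, hφ₁, h1, hδ, hv⟩ := D.row_value hχ hQ hα hα1
  obtain ⟨c', hv'⟩ := D.col_value hχ hQ hβ
  refine D.bound_shape hQ hφ₁ h1 (isClassFunction_of_isGeneralized
    (isGeneralizedCharacter_add (sg_eta hχ α).gen (sg_eta hχ β).gen)) (c + c') δ hδ fun x hx => ?_
  rw [Pi.add_apply, hv x hx, hv' x hx]
  push_cast
  ring

/-- The bound for `b = η_0j`. -/
theorem bound_col [Fintype Q] {β : ↥(W₁ ⊔ W₂) →* ℂˣ} (hβ : β ∈ trivOn _ W₁) :
    0 ≤ mass (conjSet ((Q : Set G) \ {1})) (slack (χ β)) := by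
  obtain ⟨c, hv⟩ := D.col_value hχ hQ hβ
  rw [D.mass_Q (isClassFunction_of_isGeneralized (sg_eta hχ β).gen)]
  refine mul_nonneg (by positivity) (Finset.sum_nonneg fun x _ => ?_)
  split_ifs with hx
  · exact le_rfl
  · rw [slack, hv x hx]
    have h : (0 : ℝ) ≤ (c : ℝ) ^ 2 - c := by
      have : (0 : ℤ) ≤ c ^ 2 - c := by nlinarith
      exact_mod_cast this
    simpa [Complex.norm_intCast, sq_abs] using h

end Data

end CfsgLib.FT.TwoSide
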