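import Cfsg.Agent.Lib.FT.SlackFixed
import Cfsg.Agent.Lib.FT.TypeTwoSide

/-!
# The type II side without knowing that `Q` is abelian (`docs/FT.md` §3)

`bound_coset`: with `h₁ = |Q : Q'|` some `η_i0 + η_0j` has
`p ∫ (|·|² - Re ·) ≥ 1 - (v + 1 + 1/(4v))/h₁` on the conjugates of `Q#`.
-/

set_option autoImplicit false
set_option linter.unusedSectionVars false
set_option linter.style.haveILetI false

open Subgroup

namespace CfsgLib.FT.TwoSide

open scoped ComplexConjugate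
open Cfsg CfsgLib.Char CfsgLib.Char.Signed CfsgLib.FT.Rect

universe u

section generic

variable {K : Type u} [Group K] [Finite K]

theorem card_dual_index : Nat.card (K →* ℂˣ) = (commutator K).index := by
  rw [index_eq_card, show Nat.card (K ⧸ commutator K) = Nat.card (Abelianization K) from rfl,
    ← CommGroup.card_monoidHom_of_hasEnoughRootsOfUnity (Abelianization K) ℂ]
  exact Nat.card_congr Abelianization.lift

theorem sum_dual_commutator [Fintype (K →* ℂˣ)] (x : K) [Decidable (x ∈ commutator K)] :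
    ∑ lam : K →* ℂˣ, lc lam x = if x ∈ commutator K then ((commutator K).index : ℂ) else 0 := by
  classical
  haveI := finite_dual (K := Abelianization K)
  let _ := Fintype.ofFinite (Abelianization K →* ℂˣ)
  have h := sum_dual (A := Abelianization K) (fun a b => mul_comm a b) (Abelianization.of x)
  rw [show ∑ lam : K →* ℂˣ, lc lam x = ∑ ν : Abelianization K →* ℂˣ, lc ν (Abelianization.of x) from
    Fintype.sum_equiv Abelianization.lift _ _ fun lam => by simp [lc], h]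
  have hiff : Abelianization.of x = 1 ↔ x ∈ commutator K := QuotientGroup.eq_one_iff x
  rw [index_eq_card, show Nat.card (K ⧸ commutator K) = Nat.card (Abelianization K) from rfl]
  by_cases hx : x ∈ commutator K
  · rw [if_pos hx, if_pos (hiff.2 hx)]
  · rw [if_neg hx, if_neg (mt hiff.1 hx)]

/-- Two values apart on parts of size at least `v`. -/
theorem pair_bound {ι : Type*} [Fintype ι] [DecidableEq ι] (d : ι → ℤ) (A : Finset ι) {v : ℕ}
    (hne : ∀ a ∈ A, ∀ b ∉ A, d a ≠ d b) (h1 : v ≤ A.card) (h2 : v ≤ Aᶜ.card) :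
    (v : ℤ) * ((Fintype.card ι : ℤ) - v) ≤
      ((Fintype.card ι : ℤ) + 1) * (∑ a, d a ^ 2) - (∑ a, d a) ^ 2 + ∑ a, d a := by
  have hn : (Fintype.card ι : ℤ) = A.card + Aᶜ.card := by exact_mod_cast (A.card_add_card_compl).symm
  have hcross : (A.card : ℤ) * Aᶜ.card ≤ ∑ a ∈ A, ∑ b ∈ Aᶜ, (d a - d b) ^ 2 := by
    rw [← nsmul_eq_mul]
    refine Finset.card_nsmul_le_sum _ _ _ fun a ha => ?_
    rw [show (Aᶜ.card : ℤ) = Aᶜ.card • (1 : ℤ) by simp]
    refine Finset.card_nsmul_le_sum _ _ _ fun b hb => ?_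
    have h3 : d a - d b ≠ 0 := sub_ne_zero.2 (hne a ha b (Finset.mem_compl.1 hb))
    have : 0 < (d a - d b) ^ 2 := by positivity
    omega
  have hfull : ∑ a, ∑ b, (d a - d b) ^ 2 =
      2 * ((Fintype.card ι : ℤ) * (∑ a, d a ^ 2) - (∑ a, d a) ^ 2) := by
    simp only [sub_sq, Finset.sum_add_distrib, Finset.sum_sub_distrib, Finset.sum_const,
      Finset.card_univ, nsmul_eq_mul, ← Finset.mul_sum, ← Finset.sum_mul]
    ring
  have hsplit : 2 * ∑ a ∈ A, ∑ b ∈ Aᶜ, (d a - d b) ^ 2 ≤ ∑ a, ∑ b, (d a - d b) ^ 2 := by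
    rw [← A.sum_add_sum_compl (fun a => ∑ b, (d a - d b) ^ 2), two_mul]
    refine add_le_add ?_ ?_
    · exact Finset.sum_le_sum fun a _ =>
        Finset.sum_le_sum_of_subset_of_nonneg (Finset.subset_univ _) fun _ _ _ => sq_nonneg _
    · rw [Finset.sum_comm]
      refine Finset.sum_le_sum fun b _ => ?_
      rw [Finset.sum_congr rfl fun a _ => show (d a - d b) ^ 2 = (d b - d a) ^ 2 by ring]
      exact Finset.sum_le_sum_of_subset_of_nonneg (Finset.subset_univ _) fun _ _ _ => sq_nonneg _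
  have hpos : 0 ≤ (∑ a, d a ^ 2) + ∑ a, d a := by
    rw [← Finset.sum_add_distrib]
    refine Finset.sum_nonneg fun a _ => ?_
    rcases le_or_gt 0 (d a) with h | h <;> nlinarith
  have hv : (v : ℤ) * ((Fintype.card ι : ℤ) - v) ≤ (A.card : ℤ) * Aᶜ.card := by
    have e1 : (v : ℤ) ≤ A.card := by exact_mod_cast h1
    have e2 : (v : ℤ) ≤ Aᶜ.card := by exact_mod_cast h2
    rw [hn]
    nlinarith [mul_nonneg (sub_nonneg.2 e1) (sub_nonneg.2 e2)]
  linarith

end generic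

variable {G : Type u} [Group G] [Fintype G]

namespace Data

variable {T Q W₁ W₂ V : Subgroup G} {p : ℕ} (D : Data T Q W₁ W₂ V p)
include D

theorem classInner_tw [Fintype Q] {f : G → ℂ} (hf : IsClassFunction G f) (a : D.H) (lam : ↥Q →* ℂˣ) :
    classInner (fun x : Q => f x) (lc (D.tw a lam)) = classInner (fun x : Q => f x) (lc lam) := by
  simp only [classInner]
  congr 1
  refine Fintype.sum_bijective (D.conjQ a) (Finite.injective_iff_bijective.1 fun x y e => ?_) _ _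
    fun x => ?_
  · have e' : (a : G)⁻¹ * (x : G) * a = (a : G)⁻¹ * y * a := congrArg Subtype.val e
    exact Subtype.ext (mul_left_cancel (mul_right_cancel e'))
  · simp only [lc_apply, tw_apply, conjQ_apply]
    congr 1
    have := hf (x : G) (a : G)⁻¹
    rw [inv_inv] at this
    exact this.symm

/-- The `V`-orbit of a non-principal linear character has `v` elements. -/
theorem le_card_of_orbit [Fintype (↥Q →* ℂˣ)] (A : Finset {ν : ↥Q →* ℂˣ // ν ≠ 1}) {ν : ↥Q →* ℂˣ}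
    (hν : ν ≠ 1) (hA : ∀ a : D.H, (⟨D.tw a ν, D.tw_ne_one hν⟩ : {ν : ↥Q →* ℂˣ // ν ≠ 1}) ∈ A) :
    Nat.card V ≤ A.card := by
  classical
  rw [← Nat.card_eq_finsetCard]
  refine Nat.card_le_card_of_injective
    (fun g : V => (⟨_, hA ⟨g, D.mem_HV g.2⟩⟩ : A)) fun g g' e => ?_
  have e' : D.tw ⟨g, D.mem_HV g.2⟩ ν = D.tw ⟨g', D.mem_HV g'.2⟩ ν :=
    congrArg (fun z : A => (z.1 : ↥Q →* ℂˣ)) e
  have h1 : D.tw (⟨g', D.mem_HV g'.2⟩⁻¹ * ⟨g, D.mem_HV g.2⟩) ν = ν := by
    rw [tw_mul, e', tw_inv_tw]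
  have h2 := congrArg Subtype.val (D.eq_one_of_tw (mul_mem (inv_mem g'.2) g.2) hν h1)
  exact Subtype.ext (inv_mul_eq_one.1 h2).symm

/-- An element of `W₁` outside `Q'` is seen by a `W₂`-invariant linear character. -/
theorem exists_fixed_ne {x : Q} (hxW : (x : G) ∈ W₁) (hx : x ∉ commutator ↥Q) :
    ∃ lam : ↥Q →* ℂˣ, D.Fixed lam ∧ lam x ≠ 1 := by
  classical
  have hx' : Abelianization.of x ≠ 1 := fun e => hx ((QuotientGroup.eq_one_iff x).1 e)
  obtain ⟨θ, hθ⟩ := CommGroup.exists_apply_ne_one_of_hasEnoughRootsOfUnity (Abelianization ↥Q) ℂ hx'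
  set lam₀ : ↥Q →* ℂˣ := θ.comp Abelianization.of with hl₀
  let _ := Fintype.ofFinite W₂
  let ι : W₂ → D.H := fun w => ⟨w, D.mem_H₂ w.2⟩
  refine ⟨∏ w : W₂, D.tw (ι w) lam₀, fun a ha => MonoidHom.ext fun y => ?_, ?_⟩
  · rw [tw_apply, MonoidHom.finsetProd_apply, MonoidHom.finsetProd_apply]
    refine Fintype.prod_bijective (fun w => (⟨a, ha⟩ : W₂) * w) (Group.mulLeft_bijective _) _ _
      fun w => ?_
    rw [← tw_apply, ← tw_mul]
    rfl
  · rw [MonoidHom.finsetProd_apply, Finset.prod_eq_pow_card (b := lam₀ x) fun w _ => ?_,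
      Finset.card_univ, ← Nat.card_eq_fintype_card, D.card₂]
    · intro e
      apply hθ
      show lam₀ x = 1
      have h1 : lam₀ x ^ Nat.card ↥Q = 1 := by rw [← map_pow, pow_card_eq_one', map_one]
      have h2 := pow_gcd_eq_one.2 ⟨h1, e⟩
      rwa [Nat.coprime_iff_gcd_eq_one.1 (D.cop.coprime_dvd_right (dvd_mul_right p _)), pow_one] at h2
    · rw [tw_apply]
      refine congrArg lam₀ (Subtype.ext ?_)
      rw [conjQ_apply, mul_assoc, show (x : G) * (ι w : G) = (w : G) * x from D.comm₁ hxW w.2]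
      simp [ι]

variable {χ : (↥(W₁ ⊔ W₂) →* ℂˣ) → (G → ℂ)} (hχ : IsCyclicTIFamily W₁ W₂ χ)
include hχ

/-- The bound. -/
theorem bound_coset [Fintype Q] {x₁ : Q} (hx₁ : (x₁ : G) ∈ W₁) (hx₁' : x₁ ∉ commutator ↥Q) :
    ∃ φa ∈ trivOn (W₁ ⊔ W₂) W₂, φa ≠ 1 ∧ ∀ ψ₀ ∈ trivOn (W₁ ⊔ W₂) W₁,
      1 - ((Nat.card V : ℝ) + 1 + 1 / (4 * (Nat.card V : ℝ))) / ((commutator ↥Q).index : ℝ) ≤
        (p : ℝ) * mass (conjSet ((Q : Set G) \ {1})) (slack (χ φa + χ ψ₀)) := by
  classical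
  obtain ⟨lam, hlam, hlamx⟩ := D.exists_fixed_ne hx₁ hx₁'
  have hdisj := snc_disj D.snc
  have hcomm := snc_comm D.snc
  set θ : ↥W₁ →* ℂˣ := lam.comp (Subgroup.inclusion D.leW₁) with hθ
  set φa : ↥(W₁ ⊔ W₂) →* ℂˣ := θ.comp (projFst hdisj hcomm) with hφa
  have hφamem : φa ∈ trivOn (W₁ ⊔ W₂) W₂ := comp_projFst_mem _ _ _
  have hl : ∀ (x : G) (hx : x ∈ W₁), lam ⟨x, D.leW₁ hx⟩ = φa ⟨x, mem_sup_left hx⟩ := fun x hx => by
    show _ = θ (projFst hdisj hcomm _)
    rw [projFst_of_mem hdisj hcomm hx]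
    rfl
  have hl' : ∀ (x : G) (hx : x ∈ W₁), lam⁻¹ ⟨x, D.leW₁ hx⟩ = φa⁻¹ ⟨x, mem_sup_left hx⟩ := fun x hx => by
    rw [MonoidHom.inv_apply, MonoidHom.inv_apply, hl x hx]
  have hφa1 : φa ≠ 1 := fun e => hlamx (by
    have := hl x₁ hx₁
    rw [e, MonoidHom.one_apply] at this
    exact this)
  have hφi : φa⁻¹ ≠ φa := fun e => hφa1 (Rect.eq_one_of_eq_inv D.odd_sup e)
  refine ⟨φa, hφamem, hφa1, fun ψ₀ hψ₀ => ?_⟩
  haveI := finite_dual (K := ↥Q)
  let _ := Fintype.ofFinite (↥Q →* ℂˣ)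
  set f : G → ℂ := χ φa + χ ψ₀ with hf
  have hfg : IsGeneralizedCharacter G f :=
    isGeneralizedCharacter_add (sg_eta hχ _).gen (sg_eta hχ _).gen
  have hfc : IsClassFunction G f := isClassFunction_of_isGeneralized hfg
  have hfQ : IsGeneralizedCharacter ↥Q (fun x : Q => f x) := isGeneralizedCharacter_comp hfg Q.subtype
  choose m hm using fun ν : ↥Q →* ℂˣ => classInner_generalized_int hfQ
    (isGeneralizedCharacter_of_isCharacter (isCharacter_of_isIrr (isIrrCharacter_lc ν)))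
  obtain ⟨Dg, hD⟩ : ∃ z : ℤ, f 1 = (z : ℂ) := by
    obtain ⟨a, b, ha, hb, e⟩ := hfg
    obtain ⟨na, hna⟩ := isCharacter_degree ha
    obtain ⟨nb, hnb⟩ := isCharacter_degree hb
    exact ⟨(na : ℤ) - nb, by rw [e, Pi.sub_apply, hna, hnb]; push_cast; rfl⟩
  set fL : ↥Q → ℂ := fun x => ∑ ν, (m ν : ℂ) * lc ν x with hfL
  set g : ↥Q → ℂ := fun x => f x - fL x with hg
  set DL : ℤ := ∑ ν, m ν with hDL
  have hfL' : fL = ∑ ν, (m ν : ℂ) • lc ν := by funext x; simp [hfL, Finset.sum_apply]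
  have hgperp : ∀ ν, classInner g (lc ν) = 0 := fun ν => by
    rw [show g = (fun x : Q => f x) - fL from rfl, classInner_sub_left, hm, hfL', classInner_sum_left,
      Finset.sum_eq_single ν (fun μ _ hμ => by
        rw [classInner_smul_left, classInner_lc, if_neg hμ, mul_zero]) (by simp),
      classInner_smul_left, classInner_lc, if_pos rfl, mul_one, sub_self]
  set n : ℕ := Nat.card ↥Q with hn
  set n₁ : ℕ := (commutator ↥Q).index with hn₁
  set k : ℕ := Nat.card ↥(commutator ↥Q) with hk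
  have hnk : (k : ℝ) * n₁ = n := by exact_mod_cast (commutator ↥Q).card_mul_index
  have hn0 : (0 : ℝ) < n := Nat.cast_pos.2 Nat.card_pos
  have hk1 : (1 : ℝ) ≤ k := by exact_mod_cast (Nat.card_pos : 0 < k)
  -- the norm
  have hsq : ∑ x : Q, ‖f x‖ ^ 2 = (n : ℝ) * (∑ ν, (m ν : ℝ) ^ 2) + ∑ x : Q, ‖g x‖ ^ 2 := by
    have hgfL : classInner g fL = 0 := by
      rw [hfL', classInner_sum_right]
      exact Finset.sum_eq_zero fun ν _ => by rw [classInner_smul_right, hgperp, mul_zero]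
    have hLL : classInner fL fL = ∑ ν, (m ν : ℂ) ^ 2 := by
      rw [hfL', classInner_sum_left]
      refine Finset.sum_congr rfl fun ν _ => ?_
      rw [classInner_smul_left, classInner_sum_right, Finset.sum_eq_single ν (fun μ _ hμ => by
        rw [classInner_smul_right, classInner_lc, if_neg (Ne.symm hμ), mul_zero]) (by simp),
        classInner_smul_right, classInner_lc, if_pos rfl, map_intCast, mul_one, sq]
    have e : classInner (fun x : Q => f x) (fun x : Q => f x) =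
        classInner fL fL + classInner g g := by
      rw [show (fun x : Q => f x) = fL + g from by funext x; simp [hg], classInner_add_left,
        classInner_add_right, classInner_add_right, hgfL, ← classInner_conj g fL, hgfL, map_zero]
      ring
    rw [hLL, classInner_self, classInner_self] at e
    have e' : (n : ℝ)⁻¹ * ∑ x : Q, ‖f x‖ ^ 2 =
        (∑ ν, (m ν : ℝ) ^ 2) + (n : ℝ)⁻¹ * ∑ x : Q, ‖g x‖ ^ 2 := by exact_mod_cast e
    field_simp at e'
    linarith
  have hre : ∑ x : Q, (f x).re = (n : ℝ) * m 1 := by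
    have h := hm 1
    have e : lc (1 : ↥Q →* ℂˣ) = fun _ => (1 : ℂ) := funext fun x => by simp [lc]
    rw [e, classInner, inv_mul_eq_iff_eq_mul₀ (Nat.cast_ne_zero.2 Nat.card_pos.ne')] at h
    simp only [map_one, mul_one] at h
    have := congrArg Complex.re h
    rw [Complex.re_sum] at this
    rw [this]
    simp [hn]
  -- the cosets of `Q'`
  have hgsum : ∑ x : Q, (if x ∈ commutator ↥Q then g x else 0) = 0 := by
    have h : ∀ ν, ∑ x : Q, g x * conj (lc ν x) = 0 := fun ν => by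
      have := hgperp ν
      rwa [classInner, mul_eq_zero, or_iff_right (inv_ne_zero (Nat.cast_ne_zero.2 Nat.card_pos.ne'))]
        at this
    have h2 : ∑ ν : ↥Q →* ℂˣ, ∑ x : Q, g x * conj (lc ν x) = 0 := Finset.sum_eq_zero fun ν _ => h ν
    rw [Finset.sum_comm, Finset.sum_congr rfl (g := fun x =>
      ((commutator ↥Q).index : ℂ) * if x ∈ commutator ↥Q then g x else 0) fun x _ => by
        rw [← Finset.mul_sum, ← map_sum, sum_dual_commutator]
        split_ifs <;> simp [mul_comm], ← Finset.mul_sum] at h2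
    exact (mul_eq_zero.1 h2).resolve_left (Nat.cast_ne_zero.2 Subgroup.index_ne_zero_of_finite)
  have hg1 : g 1 = ((Dg - DL : ℤ) : ℂ) := by
    simp [hg, hfL, hDL, lc, hD]
  set g1 : ℝ := ((Dg - DL : ℤ) : ℝ) with hg1'
  have hg1n : ‖g 1‖ ^ 2 = g1 ^ 2 := by
    rw [hg1, Complex.norm_intCast, sq_abs]
  set G2 : ℝ := ∑ x : Q, ‖g x‖ ^ 2 with hG2
  have hCS : (k : ℝ) * g1 ^ 2 ≤ ((k : ℝ) - 1) * G2 := by
    set s := (Finset.univ.filter fun x : Q => x ∈ commutator ↥Q).erase 1 with hs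
    have hs' : (∑ x ∈ s, g x) = - g 1 := by
      rw [← Finset.sum_filter] at hgsum
      rw [← Finset.add_sum_erase _ _ (a := (1 : Q)) (by simp [one_mem])] at hgsum
      exact eq_neg_of_add_eq_zero_right hgsum
    have hcard : (s.card : ℝ) = (k : ℝ) - 1 := by
      have : s.card + 1 = k := by
        rw [hs, Finset.card_erase_add_one (by simp [one_mem]), hk, Nat.card_eq_fintype_card,
          Fintype.card_subtype]
      rw [← this]
      push_cast
      ring
    have h1 : ‖g 1‖ ^ 2 ≤ (s.card : ℝ) * ∑ x ∈ s, ‖g x‖ ^ 2 := by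
      rw [← norm_neg, ← hs']
      exact (pow_le_pow_left₀ (norm_nonneg _) (norm_sum_le _ _) 2).trans sq_sum_le_card_mul_sum_sq
    have h2 : ‖g 1‖ ^ 2 + ∑ x ∈ s, ‖g x‖ ^ 2 ≤ G2 := by
      rw [← Finset.sum_insert (by simp [hs]) (f := fun x => ‖g x‖ ^ 2)]
      exact Finset.sum_le_univ_sum_of_nonneg fun _ => sq_nonneg _
    rw [hg1n] at h1 h2
    rw [hcard] at h1
    nlinarith
  set SL : ℝ := ∑ ν, (m ν : ℝ) ^ 2 with hSL
  have hE : ∑ x : Q, (if (x : G) = 1 then 0 else slack f x) =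
      (n : ℝ) * SL + G2 - (n : ℝ) * m 1 - ((Dg : ℝ) ^ 2 - Dg) := by
    have : ∀ x : Q, (if (x : G) = 1 then 0 else slack f x) =
        (‖f x‖ ^ 2 - (f x).re) - if x = 1 then ((Dg : ℝ) ^ 2 - Dg) else 0 := by
      intro x
      by_cases hx : x = 1
      · subst hx
        simp [hD]
      · rw [if_neg (show ¬ (x : G) = 1 from fun e => hx (Subtype.ext e)), if_neg hx, sub_zero, slack]
    rw [Finset.sum_congr rfl fun x _ => this x, Finset.sum_sub_distrib, Finset.sum_sub_distrib, hsq,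
      hre, Finset.sum_ite_eq', if_pos (Finset.mem_univ _)]
  -- the linear part
  set d : {ν : ↥Q →* ℂˣ // ν ≠ 1} → ℤ := fun ν => m ν - m 1 with hd
  have hinv : ∀ a ν, m (D.tw a ν) = m ν := fun a ν => by
    have h1 := hm (D.tw a ν)
    rw [D.classInner_tw hfc, hm] at h1
    exact_mod_cast h1.symm
  have hlam1 : lam ≠ 1 := fun e => hlamx (by rw [e, MonoidHom.one_apply])
  have hlam1' : lam⁻¹ ≠ 1 := fun e => hlamx (by
    have := DFunLike.congr_fun e x₁
    simpa using this)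
  have hneq : m lam ≠ m lam⁻¹ := by
    intro e
    have key : ∀ α ∈ trivOn (W₁ ⊔ W₂) W₂, ∀ ψ ∈ trivOn (W₁ ⊔ W₂) W₁,
        (p : ℤ) ∣ iq (Df lam lam⁻¹) (χ (α * ψ)) -
          ((if α = φa then 1 else 0) - if α = φa⁻¹ then 1 else 0) := fun α hα ψ hψ =>
      D.dvd_coeff_fixed hχ hφamem (inv_mem hφamem) hlam (D.fixed_inv hlam) hl hl' hα hψ
    have k1 := key φa hφamem 1 (one_mem _)
    have k2 := key 1 (one_mem _) ψ₀ hψ₀
    rw [show φa * 1 = φa from mul_one φa, if_pos rfl, if_neg hφi.symm, sub_zero] at k1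
    rw [show (1 : ↥(W₁ ⊔ W₂) →* ℂˣ) * ψ₀ = ψ₀ from one_mul ψ₀, if_neg hφa1.symm, if_neg, sub_zero,
      sub_zero] at k2
    · have hsum : iq (Df lam lam⁻¹) (χ φa) + iq (Df lam lam⁻¹) (χ ψ₀) = 0 := by
        rw [← iq_add_right (Df_gen _ _) (sg_eta hχ _).gen (sg_eta hχ _).gen]
        refine iq_eq 0 ?_
        rw [← classInner_conj, inner_Df _ _ hfc, hm, hm, e, sub_self]
        simp
      have h3 : (p : ℤ) ∣ 1 := by
        have h4 := dvd_add k1 k2
        rw [show iq (Df lam lam⁻¹) (χ φa) - 1 + iq (Df lam lam⁻¹) (χ ψ₀) = -1 by linarith,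
          dvd_neg] at h4
        exact h4
      have := Int.le_of_dvd one_pos h3
      have := D.three_le
      omega
    · intro e1
      apply hφa1
      rw [← inv_inv φa, ← e1]
      exact MonoidHom.ext fun w => inv_one
  set A : Finset {ν : ↥Q →* ℂˣ // ν ≠ 1} := Finset.univ.filter fun ν => d ν = m lam - m 1 with hA
  have hb := pair_bound d A (v := Nat.card V) (fun a ha b hb e => by
      simp only [hA, Finset.mem_filter, Finset.mem_univ, true_and] at ha hb
      exact hb (e ▸ ha))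
    (D.le_card_of_orbit A hlam1 fun a => by simp [hA, hd, hinv])
    (D.le_card_of_orbit Aᶜ hlam1' fun a => by
      simp only [hA, hd, Finset.mem_compl, Finset.mem_filter, Finset.mem_univ, true_and, hinv]
      omega)
  have hcardι : (Fintype.card {ν : ↥Q →* ℂˣ // ν ≠ 1} : ℤ) = (n₁ : ℤ) - 1 := by
    have h1 : Fintype.card {ν : ↥Q →* ℂˣ // ν ≠ 1} + 1 = n₁ := by
      rw [hn₁, ← card_dual_index, Nat.card_eq_fintype_card, Fintype.card_subtype_compl,
        Fintype.card_subtype_eq, Nat.sub_add_cancel (Nat.one_le_iff_ne_zero.2 Fintype.card_ne_zero)]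
    omega
  have hsplit : ∀ F : (↥Q →* ℂˣ) → ℤ, ∑ ν, F ν = F 1 + ∑ ν : {ν : ↥Q →* ℂˣ // ν ≠ 1}, F ν := fun F => by
    rw [← Finset.sum_subtype (Finset.univ.erase (1 : ↥Q →* ℂˣ)) (by simp) F,
      Finset.add_sum_erase _ _ (Finset.mem_univ _)]
  have hE1 : (Nat.card V : ℤ) * ((n₁ : ℤ) - 1 - Nat.card V) ≤
      (n₁ : ℤ) * ((∑ ν, m ν ^ 2) - m 1) - DL ^ 2 + DL := by
    have hmd : ∀ ν : {ν : ↥Q →* ℂˣ // ν ≠ 1}, m ν = d ν + m 1 := fun ν => by simp [hd]
    rw [hcardι, sub_add_cancel] at hb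
    have e1 := hsplit fun ν => m ν ^ 2
    have e2 := hsplit m
    simp only [hmd, add_sq, Finset.sum_add_distrib, Finset.sum_const, Finset.card_univ, nsmul_eq_mul,
      ← Finset.mul_sum, ← Finset.sum_mul, hcardι] at e1 e2
    rw [hDL, e1, e2]
    linarith
  have hE1' : (Nat.card V : ℝ) * ((n₁ : ℝ) - 1 - Nat.card V) ≤
      (n₁ : ℝ) * (SL - m 1) - (DL : ℝ) ^ 2 + DL := by
    have := (Int.cast_le (R := ℝ)).2 hE1
    push_cast at this
    rw [hSL]
    exact this
  set v : ℝ := (Nat.card V : ℝ) with hv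
  have hv0 : 0 < v := Nat.cast_pos.2 Nat.card_pos
  have hn10 : (0 : ℝ) < n₁ := Nat.cast_pos.2 (Nat.pos_of_ne_zero Subgroup.index_ne_zero_of_finite)
  have hmain : (k : ℝ) * (v * ((n₁ : ℝ) - 1 - v)) - ((k : ℝ) - 1) / 4 ≤
      (n : ℝ) * SL + G2 - (n : ℝ) * m 1 - ((Dg : ℝ) ^ 2 - Dg) := by
    refine le_trans (sub_le_sub_right (mul_le_mul_of_nonneg_left hE1' (zero_le_one.trans hk1)) _) ?_
    set a : ℝ := (DL : ℝ) - 1 / 2 with ha
    have hq : 0 ≤ G2 - g1 ^ 2 - 2 * a * g1 + ((k : ℝ) - 1) * a ^ 2 := by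
      rcases hk1.eq_or_lt with e | hlt
      · rw [← e] at hCS ⊢
        have hz : g1 = 0 := by nlinarith
        rw [hz]
        have : 0 ≤ G2 := Finset.sum_nonneg fun _ _ => sq_nonneg _
        linarith
      · by_contra hneg
        nlinarith [mul_neg_of_pos_of_neg (sub_pos.2 hlt) (not_le.1 hneg),
          sq_nonneg (g1 - ((k : ℝ) - 1) * a)]
    have hDg : (Dg : ℝ) = g1 + DL := by rw [hg1']; push_cast; ring
    rw [hDg, ← hnk]
    rw [ha] at hq
    linarith
  have hfin : 1 - (v + 1 + 1 / (4 * v)) / (n₁ : ℝ) ≤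
      ((v : ℝ) * n)⁻¹ * ((n : ℝ) * SL + G2 - (n : ℝ) * m 1 - ((Dg : ℝ) ^ 2 - Dg)) := by
    rw [inv_mul_eq_div, le_div_iff₀ (mul_pos hv0 hn0)]
    refine le_trans ?_ hmain
    rw [← hnk]
    have e : (1 - (v + 1 + 1 / (4 * v)) / (n₁ : ℝ)) * (v * ((k : ℝ) * n₁)) =
        (k : ℝ) * (v * ((n₁ : ℝ) - 1 - v)) - (k : ℝ) / 4 := by
      field_simp
      ring
    rw [e]
    linarith
  rw [D.mass_Q hfc]
  refine hfin.trans (le_of_eq ?_)
  rw [hE, ← mul_assoc]
  congr 1
  have hp0 : (p : ℝ) ≠ 0 := Nat.cast_ne_zero.2 D.prime.ne_zero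
  field_simp
  ring

end Data

end CfsgLib.FT.TwoSide
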