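import Cfsg.Agent.Lib.FT.SlackFull
import Cfsg.Agent.Lib.FT.SlackCoset
import Cfsg.Agent.Lib.FT.FrobCtx

/-!
# `U = 1`: `|W₁|` is prime and `|V|` is full (`docs/FT.md` §3)

For a composite `e = |W₁|` the kernel `S_σ` is nilpotent; with `n = |W₁ : W₁ ∩ Q'|` one has `e ≤ n²` and
`|Q : Q'| = n ^ p` for `Q = T_σ`, and `v` is too small in both cases `Q' = 1` and `Q' ≠ 1`.
-/

set_option autoImplicit false
set_option linter.unusedSectionVars false
set_option linter.style.haveILetI false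

open Subgroup

namespace CfsgLib.FT

open Cfsg CfsgLib.Char CfsgLib.Char.Signed CfsgLib.FT.Rect
open CfsgLib.CFun CfsgLib.CFun.FifteenTwo

universe u

variable {G : Type u} [Group G] [Fintype G] {S T W₁ W₂ U V : Subgroup G}

/-- The bound of the S side for nilpotent `S_σ`. -/
theorem Pair.slack_S_nil (hG : IsMinSimpleOddOrder G) (hNB : NoBad G) (P : Pair S T W₁ W₂ U V)
    (hU : U = ⊥) (hnil : Group.IsNilpotent (Cfsg.sigmaCore S))
    {χ : (↥(W₁ ⊔ W₂) →* ℂˣ) → (G → ℂ)} (hχ : IsCyclicTIFamily W₁ W₂ χ)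
    {φa ψ₀ : ↥(W₁ ⊔ W₂) →* ℂˣ} (hφa : φa ∈ trivOn _ W₂) (hψ₀ : ψ₀ ∈ trivOn _ W₁) (hψ₀1 : ψ₀ ≠ 1) :
    Nat.card W₂ ≤ kZero S ∧ 2 * Nat.card W₁ + 1 ≤ kZero S ∧
      1 - (1 / ((Nat.card W₂ : ℝ) - 1) + 1 / (4 * (kZero S : ℝ))) ≤
        (Nat.card W₁ : ℝ) * mass (conjSet (sharp S)) (slack (χ φa + χ ψ₀)) := by
  classical
  subst hU
  have h := kappaS hG P
  have hp := (Pair.prime_card_sigmaT hG P).1
  obtain ⟨mu, sgn, C⟩ := h.exists_cols
  have hM := fpfAb_of_bot h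
  have he := eIndex_of_bot h rfl
  obtain ⟨d, hd0, hd⟩ := C.deg_nat h ψ₀
  have hall : ∀ ψ ∈ trivOn (W₁ ⊔ W₂) W₁, ψ ≠ 1 → mu ψ 1 = (d : ℂ) := fun ψ hψ hψ1 => by
    rw [C.deg_eq_of_prime h hp hψ₀ hψ₀1 hψ hψ1, hd]
  have hk : 2 * Nat.card W₁ + 1 ≤ kZero S := by
    haveI := member_finite hG hM
    rw [← member_card hG hM, he]
    exact Nat.add_le_add_right (Nat.mul_le_mul_right _ (two_le_card hG hM)) 1
  have key := slack_side h hNB hM C hχ hall he hψ₀ hψ₀1 hφa 1 (R := PEmpty.{u + 1})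
    (fun r => r.elim) ⟨fun r => r.elim, fun r => r.elim, fun r => r.elim, fun r => r.elim⟩
  have hb : χ ψ₀ + ((1 : ℤ) : ℂ) • χ φa = χ φa + χ ψ₀ := by
    rw [Int.cast_one, one_smul, add_comm]
  rw [hb, Fintype.card_pempty, Nat.cast_zero, mul_zero, add_zero] at key
  exact ⟨le_kZero_of_nilpotent h hnil, hk, by rw [← sub_sub]; exact key.1⟩

/-- `S_σ` is nilpotent unless `|W₁|` is prime. -/
theorem Pair.nilpotent_of_not_prime (hG : IsMinSimpleOddOrder G) (P : Pair S T W₁ W₂ U V)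
    (hnp : ¬ (Nat.card W₁).Prime) : Group.IsNilpotent (Cfsg.sigmaCore S) := by
  by_contra hnil
  have hne : Cfsg.fittingHallOf S ≠ Cfsg.sigmaCore S := fun e =>
    hnil (e ▸ Chain.isNilpotent_fittingHallOf S)
  obtain ⟨Q, D, sp⟩ := exists_split hG P.coatomS P.decompS hne
  exact hnp (Split.frobenius hG P.coatomS P.decompS sp).1

/-- `U = 1`: `|W₁|` is prime. -/
theorem Pair.prime_W₁ (hG : IsMinSimpleOddOrder G) (hNB : NoBad G) (P : Pair S T W₁ W₂ U V)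
    (hU : U = ⊥) : (Nat.card W₁).Prime := by
  classical
  by_contra hnp
  have hp := (Pair.prime_card_sigmaT hG P).1
  obtain ⟨hp2, he2, he3, hnd, hv1⟩ := P.basic hG hNB
  have hnil := P.nilpotent_of_not_prime hG hnp
  have D := Pair.twoSide hG P hNB
  let _ := Fintype.ofFinite ↥(Cfsg.sigmaCore T)
  have hcard := (Pair.prime_card_sigmaT hG P).2
  have hQn := Pair.nilpotent_sigmaT hG P
  obtain ⟨χ, hχ⟩ := (kappaS hG P).exists_family
  obtain ⟨φa', ψ₀, hφa', hφa1', hψ₀, hψ₀1⟩ := P.exists_eta hG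
  set e := Nat.card W₁ with he
  set p := Nat.card W₂ with hp'
  set v := Nat.card V with hv
  have he0 : (0 : ℝ) < e := Nat.cast_pos.2 Nat.card_pos
  have hp0 : (0 : ℝ) < p := Nat.cast_pos.2 Nat.card_pos
  by_cases hab : CfsgLib.GrLie.γ ↥(Cfsg.sigmaCore T) 1 = ⊥
  · -- `Q` abelian
    have hQ : ∀ a ∈ Cfsg.sigmaCore T, ∀ b ∈ Cfsg.sigmaCore T, a * b = b * a := fun a ha b hb => by
      have hm := FrobLayer.comm_one (⟨a, ha⟩ : ↥(Cfsg.sigmaCore T)) ⟨b, hb⟩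
      rw [hab, mem_bot, commutatorElement_eq_one_iff_mul_comm] at hm
      exact congrArg Subtype.val hm
    obtain ⟨hk1, hk2, hS⟩ := P.slack_S_nil hG hNB hU hnil hχ hφa' hψ₀ hψ₀1
    have hT : 1 - ((v : ℝ) + 1) / (e : ℝ) ^ p ≤
        (p : ℝ) * mass (conjSet (sharp T)) (slack (χ φa' + χ ψ₀)) := by
      have h := D.bound_sum hχ hQ hφa' hφa1' hψ₀
      rw [hcard, Nat.cast_pow] at h
      refine le_trans (le_of_eq ?_) (mul_le_mul_of_nonneg_left h hp0.le)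
      field_simp
      rfl
    have hmain := P.slack_ineq hG hχ hφa' hφa1' hψ₀ hψ₀1 hS hT
    rw [← mul_div_assoc] at hmain
    set r := e.minFac with hr
    have hr1 : r.Prime := Nat.minFac_prime (by omega)
    have hr2 : r ≠ 2 := fun h2 => Nat.not_even_iff_odd.2 he2 (even_iff_two_dvd.2 (h2 ▸ Nat.minFac_dvd e))
    refine no_composite (p := p) (e := e) (v := v) (k₀ := kZero S) (d := 0) (r := r)
      (err := 1 / ((p : ℝ) - 1) + 1 / (4 * (kZero S : ℝ))) hp hp2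
      (by have := hr1.two_le; omega) (fun h' => hnd (h' ▸ Nat.minFac_dvd e)) (hr1.odd_of_ne_two hr2)
      (Nat.minFac_sq_le_self (by omega) hnp) (D.bound_abelian hcard hQn P.neV hab hr1 (Nat.minFac_dvd e))
      (Or.inl ⟨rfl, hk1, hk2⟩) hmain
  · -- `Q` of class two
    obtain ⟨x₁, hx₁, hx₁'⟩ := D.exists_mem_not_commutator hcard hQn P.neV
    obtain ⟨φa, hφa, hφa1, hT'⟩ := D.bound_coset hχ hx₁ hx₁'
    have hT := hT' ψ₀ hψ₀
    obtain ⟨hesq, hidx⟩ := D.card_le_sq hcard hQn P.neV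
    obtain ⟨h5, r, hr3, hrn, hb⟩ := D.bound_nonabelian hcard hQn P.neV (Pair.isCyclic_V hG P hNB) hab
    rw [hidx, Nat.cast_pow] at hT
    set n := FrobLayer.expo (W₁.subgroupOf (Cfsg.sigmaCore T))
    obtain ⟨hk1, hk2, hS⟩ := P.slack_S_nil hG hNB hU hnil hχ hφa hψ₀ hψ₀1
    have hmain := P.slack_ineq hG hχ hφa hφa1 hψ₀ hψ₀1 hS hT
    have hv0 : (0 : ℝ) < v := Nat.cast_pos.2 Nat.card_pos
    set X : ℝ := (v : ℝ) + 1 + 1 / (4 * (v : ℝ)) with hX
    have hX0 : 0 ≤ X := by positivity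
    have hn0 : (0 : ℝ) < n := by exact_mod_cast (by omega : 0 < n)
    have hrn' : (r : ℝ) ≤ n := by exact_mod_cast hrn
    have h2 : (e : ℝ) * (X / (n : ℝ) ^ p) ≤ 23 / 50 := by
      rw [← mul_div_assoc, div_le_div_iff₀ (pow_pos hn0 p) (by norm_num)]
      have he' : (e : ℝ) ≤ (n : ℝ) ^ 2 := by exact_mod_cast hesq
      have hpow : (r : ℝ) ^ (p - 2) ≤ (n : ℝ) ^ (p - 2) := pow_le_pow_left₀ (Nat.cast_nonneg r) hrn' _
      calc (e : ℝ) * X * 50 ≤ (n : ℝ) ^ 2 * (X * 50) := by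
            rw [mul_assoc]; exact mul_le_mul_of_nonneg_right he' (by positivity)
        _ ≤ (n : ℝ) ^ 2 * (23 * (n : ℝ) ^ (p - 2)) := by
            refine mul_le_mul_of_nonneg_left (hb.trans ?_) (by positivity)
            linarith
        _ = 23 * (n : ℝ) ^ p := by
            conv_rhs => rw [show p = 2 + (p - 2) by omega, pow_add]
            ring
    have h1 : (p : ℝ) * (1 / ((p : ℝ) - 1) + 1 / (4 * (kZero S : ℝ))) ≤ 3 / 2 := by
      have hp5 : (5 : ℝ) ≤ p := by exact_mod_cast h5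
      have hk : (p : ℝ) ≤ (kZero S : ℝ) := by exact_mod_cast hk1
      rw [mul_add, ← mul_div_assoc, ← mul_div_assoc, mul_one]
      have a1 : (p : ℝ) / ((p : ℝ) - 1) ≤ 5 / 4 := by
        rw [div_le_div_iff₀ (by linarith) (by norm_num)]
        linarith
      have a2 : (p : ℝ) / (4 * (kZero S : ℝ)) ≤ 1 / 4 := by
        rw [div_le_div_iff₀ (by linarith) (by norm_num)]
        linarith
      linarith
    linarith

/-- `U = 1`: `|W₁|` is prime, different from `|W₂|`, and `|V|` is full. -/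
theorem Pair.full (hG : IsMinSimpleOddOrder G) (hNB : NoBad G) (P : Pair S T W₁ W₂ U V)
    (hU : U = ⊥) :
    (Nat.card W₁).Prime ∧ Nat.card W₁ ≠ Nat.card W₂ ∧
      Nat.card V = CfsgLib.FT.full (Nat.card W₁) (Nat.card W₂) ∧ ¬ Nat.card W₂ ∣ Nat.card W₁ - 1 ∧
      Nat.card V * (Nat.card W₁ - 1) + 1 = Nat.card W₁ ^ Nat.card W₂ := by
  have he := P.prime_W₁ hG hNB hU
  obtain ⟨hne, hv, hnd⟩ := P.full_of_prime hG hNB hU he
  refine ⟨he, hne, hv, hnd, ?_⟩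
  rw [hv, full_mul _ _ he.one_lt.le, Nat.sub_add_cancel (Nat.one_le_pow _ _ he.pos)]

end CfsgLib.FT
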