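import Cfsg.Agent.Lib.FT.AssemblyBot
import Cfsg.Agent.Lib.FT.SlackComposite

/-!
# No minimal simple group of odd order, from the absence of neighbours alone
-/

set_option autoImplicit false
set_option linter.style.haveILetI false

open Subgroup

namespace CfsgLib.FT

universe u

/-- The whole of the argument after `docs/FT.md` §1: with no neighbours there is no minimal simple group
of odd order. -/
theorem false_of_noBad {G : Type u} [Group G] [Finite G] (hG : Cfsg.IsMinSimpleOddOrder G)
    (hNB : NoBad G) : False := by
  have := Fintype.ofFinite G
  exact false_of_noBad_prime hG hNB fun S T W₁ W₂ V P => P.prime_W₁ hG hNB rfl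

end CfsgLib.FT
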