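import Cfsg.Prelude.Def_OddOrder
import Mathlib.GroupTheory.Solvable
import Mathlib.GroupTheory.Index
import Mathlib.GroupTheory.QuotientGroup.Basic
import Mathlib.Tactic.Linarith

/-!
# The reduction of the odd order theorem to minimal simple groups
-/

set_option autoImplicit false
set_option linter.style.haveILetI false

open Subgroup

namespace CfsgLib.FT

universe u

/-- If no minimal simple group of odd order exists then groups of odd order are solvable. -/
theorem isSolvable_of_no_minsimple
    (h : ∀ (K : Type u) [Group K] [Finite K], Cfsg.IsMinSimpleOddOrder K → False)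
    (n : ℕ) : ∀ (G : Type u) [Group G] [Finite G], Nat.card G = n → Odd n → Group.IsSolvable G := by
  induction n using Nat.strong_induction_on with
  | _ n ih =>
    intro G _ _ hn hodd
    by_cases hN : ∃ N : Subgroup G, N.Normal ∧ N ≠ ⊥ ∧ N ≠ ⊤
    · obtain ⟨N, hNn, hN1, hN2⟩ := hN
      haveI := hNn
      have h1 : 2 ≤ Nat.card N := (one_lt_card_iff_ne_bot N).2 hN1
      have h2 : 2 ≤ N.index := one_lt_index_of_ne_top hN2
      have h3 : Nat.card N * N.index = n := hn ▸ N.card_mul_index
      have hq : Nat.card (G ⧸ N) = N.index := N.index_eq_card.symm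
      haveI : Group.IsSolvable N := ih _ (by nlinarith) N rfl (hodd.of_dvd_nat (h3 ▸ dvd_mul_right _ _))
      haveI : Group.IsSolvable (G ⧸ N) :=
        ih _ (by nlinarith) (G ⧸ N) hq (hodd.of_dvd_nat (h3 ▸ dvd_mul_left _ _))
      exact solvable_of_ker_le_range N.subtype (QuotientGroup.mk' N)
        (by rw [QuotientGroup.ker_mk', range_subtype])
    push Not at hN
    by_cases hc : IsMulCommutative G
    · exact Group.isSolvable_of_comm fun a b => hc.is_comm.comm a b
    haveI : Nontrivial G := by
      by_contra hcon
      rw [not_nontrivial_iff_subsingleton] at hcon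
      exact hc ⟨⟨fun a b => Subsingleton.elim _ _⟩⟩
    haveI : IsSimpleGroup G := ⟨fun N hNn => (em (N = ⊥)).imp_right (hN N hNn)⟩
    refine (h G ⟨hn.symm ▸ hodd, inferInstance, hc, fun H hH => ?_⟩).elim
    refine ih _ ?_ H rfl (hodd.of_dvd_nat (hn ▸ card_subgroup_dvd_card H))
    have h2 : 2 ≤ H.index := one_lt_index_of_ne_top hH
    have h3 : Nat.card H * H.index = n := hn ▸ H.card_mul_index
    have := Nat.card_pos (α := H)
    nlinarith

/-- The same, in the form of the odd order theorem. -/
theorem solvable_of_odd_of_no_minsimple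
    (h : ∀ (K : Type u) [Group K] [Finite K], Cfsg.IsMinSimpleOddOrder K → False)
    (G : Type u) [Group G] [Finite G] (hG : Odd (Nat.card G)) : Group.IsSolvable G :=
  isSolvable_of_no_minsimple h (Nat.card G) G rfl hG

end CfsgLib.FT
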