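import Cfsg.Agent.Lib.FT.Meet
import Cfsg.Agent.Lib.FT.AssemblyPrime
import Cfsg.Agent.Lib.FT.OddOrderReduce

/-!
# The odd order theorem
-/

set_option autoImplicit false

namespace CfsgLib.FT

universe u

/-- There is no minimal simple group of odd order. -/
theorem no_minsimple (G : Type u) [Group G] [Finite G] (hG : Cfsg.IsMinSimpleOddOrder G) : False :=
  false_of_noBad hG (noBad hG)

/-- Groups of odd order are solvable. -/
theorem isSolvable_of_odd (G : Type u) [Group G] [Finite G] (hodd : Odd (Nat.card G)) :
    Group.IsSolvable G :=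
  isSolvable_of_no_minsimple (fun K _ _ hK => no_minsimple K hK) _ G rfl hodd

end CfsgLib.FT
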