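import Cfsg.Agent.Lib.FT.Partition
import Cfsg.Agent.Lib.CFun.OddTildeOrbit

/-!
# The pair `S`, `T` exists and carries all maximal subgroups with `κ ≠ ∅` (`docs/FT.md`, §3)
-/

set_option autoImplicit false
set_option linter.style.haveILetI false
set_option linter.unusedSectionVars false

open Subgroup
open CfsgLib.Coprime (conjBy conjBy_conjBy conjBy_one)

namespace CfsgLib.FT

open CfsgLib.CFun CfsgLib.CFun.TauTwo CfsgLib.CFun.Lines CfsgLib.CFun.Kappa CfsgLib.CFun.Partner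
open CfsgLib.CFun.Inter

universe u

variable {G : Type u} [Group G] [Finite G] (hG : Cfsg.IsMinSimpleOddOrder G)
include hG

/-- A maximal subgroup with `K ≠ ⊥` and its partner, the second of them of type II. -/
theorem exists_pair (hNB : NoBad G) : ∃ S T W₁ W₂ U V : Subgroup G, Pair S T W₁ W₂ U V := by
  obtain ⟨M, K, hM, hK, hK1⟩ := exists_kappa_ne_bot hG hNB
  obtain ⟨N, hN, hKN, hNH⟩ := exists_partner hG hM hK hK1
  obtain ⟨hKN', hm, hm', hne⟩ := of_hyp hG hM hK hK1 hN hKN hNH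
  have hKs := fixed_ne_bot hG hM hK
  have hnc : NotConj M N := hm.notConj hG hm' hne
  obtain ⟨U, d⟩ := Decomp.exists_decomp hG hM hK
  obtain ⟨UN, dN⟩ := Decomp.exists_decomp hG hN hNH
  by_cases hU : U = ⊥
  · obtain ⟨K₀, U₀, d₀, hU₀, -⟩ := CfsgLib.CFun.Pair.prime_of_pair hG hM d hK1 hU hN hKN hNH
    exact ⟨M, N, K, Cfsg.sigmaCore M ⊓ centralizer (K : Set G), U, UN,
      { coatomS := hM, coatomT := hN, decompS := d, decompT := dN, eqW₁ := hKN'.symm, eqW₂ := rfl,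
        neW₁ := hK1, neW₂ := hKs,
        neV := fun e => hU₀ (CfsgLib.CFun.Pair.eq_bot_of_eq_bot hG hN dN e d₀), notConj := hnc }⟩
  · exact ⟨N, M, Cfsg.sigmaCore M ⊓ centralizer (K : Set G), K, UN, U,
      { coatomS := hN, coatomT := hM, decompS := dN, decompT := d, eqW₁ := rfl, eqW₂ := hKN'.symm,
        neW₁ := hKs, neW₂ := hK1, neV := hU, notConj := hnc.symm }⟩

variable {S T W₁ W₂ U V : Subgroup G} (P : Pair S T W₁ W₂ U V)
include P

/-- `W₂` has prime order and `|T_σ| = |W₁| ^ |W₂|`. -/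
theorem Pair.prime_card_sigmaT :
    (Nat.card W₂).Prime ∧ Nat.card (Cfsg.sigmaCore T) = Nat.card W₁ ^ Nat.card W₂ := by
  obtain ⟨h1, h2⟩ := prime_of_U_ne_bot hG P.coatomT P.decompT P.neW₂ P.neV
  rw [P.eqW₁] at h2
  exact ⟨h1, h2⟩

/-- The hypotheses in the form of the partner lemmas, seen from `T`. -/
theorem Pair.partner_hyp :
    W₂ = Cfsg.sigmaCore S ⊓
        centralizer ((Cfsg.sigmaCore T ⊓ centralizer (W₂ : Set G)) : Set G) ∧
      Cfsg.IsPiHallOf (Cfsg.kappa S) (Cfsg.sigmaCore T ⊓ centralizer (W₂ : Set G)) S := by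
  rw [coe_inf', P.eqW₁]
  exact ⟨P.eqW₂.symm, P.decompS.hall⟩

/-- Every maximal subgroup with `κ ≠ ∅` is conjugate to `S` or to `T`. -/
theorem Pair.conj_of_kappa {M : Subgroup G} (hM : IsCoatom M) (hne : (Cfsg.kappa M).Nonempty) :
    ∃ g : G, conjBy g S = M ∨ conjBy g T = M := by
  obtain ⟨g, h⟩ := Zhat.kappa_conj hG P.coatomT P.decompT.hall P.neW₂ P.coatomS
    (Pair.partner_hyp hG P).1 hM hne
  exact ⟨g, h.symm⟩

/-- Every maximal subgroup with `K ≠ ⊥` is conjugate to `S` or to `T`. -/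
theorem Pair.conj_of_hall {M K : Subgroup G} (hM : IsCoatom M)
    (hK : Cfsg.IsPiHallOf (Cfsg.kappa M) K M) (hK1 : K ≠ ⊥) :
    ∃ g : G, conjBy g S = M ∨ conjBy g T = M := by
  obtain ⟨t, W, ht, hWK, hWc⟩ := exists_prime_line hK1
  exact Pair.conj_of_kappa hG P hM ⟨t, hK.2.1 t ht (hWc ▸ card_dvd_of_le hWK)⟩

/-- The sets `Ẑ` of `S` and `T` are the same. -/
theorem Pair.zhat_eq : Zhat.zhat S W₁ = Zhat.zhat T W₂ := by
  obtain ⟨h1, h2⟩ := Pair.partner_hyp hG P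
  have h := Cover.zhat_swap hG P.coatomT P.decompT.hall P.neW₂ P.coatomS h1 h2
  rwa [P.eqW₁] at h

/-- Every non-identity element is conjugate into some `M_σ` or into the orbit of `Ẑ`. -/
theorem Pair.cover (hNB : NoBad G) {g : G} (hg : g ≠ 1) :
    (∃ N : Subgroup G, IsCoatom N ∧ ∃ y : G, y * g * y⁻¹ ∈ Cfsg.sigmaCore N) ∨
      g ∈ Zhat.orbit T W₂ :=
  (CfsgLib.FT.cover hG hNB hg).imp id fun ⟨_, _, hN, hK, hK1, h⟩ =>
    Cover.orbit_subset hG P.coatomT P.decompT.hall P.neW₂ hN hK hK1 h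

end CfsgLib.FT
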