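import Cfsg.Agent.Lib.FT.FinalBoth
import Cfsg.Agent.Lib.FT.PairExists

/-!
# No minimal simple group of odd order, from the two pending parts
-/

set_option autoImplicit false
set_option linter.style.haveILetI false

open Subgroup

namespace CfsgLib.FT

universe u

/-- Every element of a core has no neighbours and `U = ⊥` is impossible in a pair: no minimal simple group
of odd order. -/
theorem false_of_parts {G : Type u} [Group G] [Finite G] (hG : Cfsg.IsMinSimpleOddOrder G) (hNB : NoBad G)
    (hbot : ∀ S T W₁ W₂ U V : Subgroup G, Pair S T W₁ W₂ U V → U ≠ ⊥) : False := by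
  classical
  obtain ⟨S, T, W₁, W₂, U, V, hP⟩ := exists_pair hG hNB
  have := Fintype.ofFinite G
  exact hbot S T W₁ W₂ U V hP (Final.not_both_typeTwo hG hNB hP)

end CfsgLib.FT
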