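import Mathlib.Algebra.CharP.Quotient
import Mathlib.Algebra.CharP.Lemmas
import Cfsg.Agent.Lib.Char.Zeros
import Cfsg.Agent.Lib.Char.RealChar
import Cfsg.Agent.Lib.Char.Virtual
import Cfsg.Agent.Lib.Char.NormTwo

/-!
# Tools for the short route to the odd order theorem (`docs/FT.md`, §0)

* `sum_norm_sq_sub_re_nonneg`: Galois positivity of `|χ|² - Re χ` on a set closed under powers;
* `card_ne_zero_le_sum_norm_sq`: `Σ |χ|² ≥ #{χ ≠ 0}` on such a set;
* `even_inner_of_real`: two real generalized characters of a group of odd order, one of them orthogonal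
  to `1`, have an even inner product;
* `Cong p a b`: `a - b` is nilpotent modulo `p` among algebraic integers, and
  `cong_mul_of_pow_prime`: `χ (x * y) ≡ χ y` for `x` of `p`-power order commuting with `y`.
-/

set_option autoImplicit false
set_option linter.unusedSectionVars false
set_option linter.style.haveILetI false

namespace CfsgLib.FT

open scoped ComplexConjugate
open Representation Module Cfsg CfsgLib.Char

universe u

variable {G : Type u} [Group G] [Finite G]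

/-- `X` is closed under the powers prime to the order of `G`. -/
def PowClosed (X : Set G) : Prop :=
  ∀ g ∈ X, ∀ m : ℕ, m.Coprime (Nat.card G) → g ^ m ∈ X

theorem generalized_twist (φ : Alg →ₐ[ℚ] ℂ) :
    ∃ m : ℕ, m.Coprime (Nat.card G) ∧ ∀ χ : G → ℂ, IsGeneralizedCharacter G χ → ∀ g : G, ∀ x : Alg,
      (x : ℂ) = χ g → φ x = χ (g ^ m) := by
  obtain ⟨m, hm, htw⟩ := exists_char_twist (G := G) φ
  refine ⟨m, hm, ?_⟩
  rintro _ ⟨a, b, ha, hb, rfl⟩ g x hx
  let va : Alg := ⟨a g, mem_alg_of_isIntegral (isCharacter_isIntegral ha g)⟩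
  let vb : Alg := ⟨b g, mem_alg_of_isIntegral (isCharacter_isIntegral hb g)⟩
  have hxab : x = va - vb := Subtype.ext (by simp [hx, va, vb])
  rw [hxab, map_sub, htw a ha g va rfl, htw b hb g vb rfl]
  rfl

/-- The number of non-zeros of a generalized character on a power closed set is at most the sum of the
squares of its absolute values there. -/
theorem card_ne_zero_le_sum_norm_sq {χ : G → ℂ} (hχ : IsGeneralizedCharacter G χ) (X : Finset G)
    (hX : PowClosed (X : Set G)) :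
    (({g ∈ X | χ g ≠ 0} : Finset G).card : ℝ) ≤ ∑ g ∈ X, ‖χ g‖ ^ 2 := by
  classical
  set s : Finset G := {g ∈ X | χ g ≠ 0} with hs
  set P : ℂ := ∏ g ∈ s, χ g * χ g⁻¹ with hP
  have hPint : IsIntegral ℤ P :=
    IsIntegral.prod _ fun g _ => (generalized_isIntegral hχ g).mul (generalized_isIntegral hχ _)
  have hfix : ∀ φ : Alg →ₐ[ℚ] ℂ, φ ⟨P, mem_alg_of_isIntegral hPint⟩ = P := by
    intro φ
    obtain ⟨m, hm, htw⟩ := generalized_twist (G := G) φ
    let v : G → Alg := fun g => ⟨χ g, mem_alg_of_isIntegral (generalized_isIntegral hχ g)⟩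
    have e : (⟨P, mem_alg_of_isIntegral hPint⟩ : Alg) = ∏ g ∈ s, v g * v g⁻¹ :=
      Subtype.ext (by simp [hP, v])
    rw [e, map_prod]
    have hb : Function.Bijective (fun g : G => g ^ m) := (powCoprime hm.symm).bijective
    have hmem : ∀ g ∈ s, g ^ m ∈ s := by
      intro g hg
      rw [hs, Finset.mem_filter] at hg ⊢
      refine ⟨hX g hg.1 m hm, fun h0 => hg.2 ?_⟩
      have h1 := htw χ hχ g (v g) rfl
      rw [h0] at h1
      exact congrArg Subtype.val (φ.injective (h1.trans (map_zero φ).symm))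
    have himg : s.image (fun g => g ^ m) = s :=
      Finset.eq_of_subset_of_card_le (fun y hy => by
        obtain ⟨g, hg, rfl⟩ := Finset.mem_image.1 hy
        exact hmem g hg) (Finset.card_image_of_injective _ hb.1).ge
    refine Finset.prod_bij (fun g _ => g ^ m) hmem (fun a _ b _ h => hb.1 h) (fun y hy => ?_)
      fun g _ => ?_
    · rw [← himg, Finset.mem_image] at hy
      obtain ⟨g, hg, rfl⟩ := hy
      exact ⟨g, hg, rfl⟩
    · rw [map_mul, htw χ hχ g (v g) rfl, htw χ hχ g⁻¹ (v g⁻¹) rfl, inv_pow]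
  obtain ⟨z, hz⟩ := exists_int_of_fixed hPint hfix
  have hP' : P = ((∏ g ∈ s, ‖χ g‖ ^ 2 : ℝ) : ℂ) := by
    rw [hP, Complex.ofReal_prod]
    exact Finset.prod_congr rfl fun g _ => by
      rw [generalized_inv hχ, Complex.mul_conj', Complex.ofReal_pow]
  have hpos : ∀ g ∈ s, 0 < ‖χ g‖ ^ 2 := fun g hg =>
    pow_pos (norm_pos_iff.mpr (Finset.mem_filter.1 hg).2) 2
  have hzr : (∏ g ∈ s, ‖χ g‖ ^ 2) = (z : ℝ) := by
    rw [hP'] at hz; exact_mod_cast hz
  have h1 : (1 : ℝ) ≤ ∏ g ∈ s, ‖χ g‖ ^ 2 := by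
    have h := Finset.prod_pos hpos
    rw [hzr] at h ⊢
    exact_mod_cast (show (1 : ℤ) ≤ z by exact_mod_cast h)
  exact (card_le_sum_of_one_le_prod s _ hpos h1).trans
    (Finset.sum_le_sum_of_subset_of_nonneg (Finset.filter_subset _ _) fun g _ _ => by positivity)

/-- Galois positivity. -/
theorem sum_norm_sq_sub_re_nonneg {χ : G → ℂ} (hχ : IsGeneralizedCharacter G χ) (X : Finset G)
    (hX : PowClosed (X : Set G)) : 0 ≤ ∑ g ∈ X, (‖χ g‖ ^ 2 - (χ g).re) := by
  classical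
  set s : Finset G := {g ∈ X | χ g ≠ 0} with hs
  have hcard := card_ne_zero_le_sum_norm_sq hχ X hX
  have hcs : (∑ g ∈ s, ‖χ g‖) ^ 2 ≤ (s.card : ℝ) * ∑ g ∈ s, ‖χ g‖ ^ 2 :=
    sq_sum_le_card_mul_sum_sq
  have hle : ∑ g ∈ s, ‖χ g‖ ^ 2 ≤ ∑ g ∈ X, ‖χ g‖ ^ 2 :=
    Finset.sum_le_sum_of_subset_of_nonneg (Finset.filter_subset _ _) fun g _ _ => by positivity
  have h0 : 0 ≤ ∑ g ∈ s, ‖χ g‖ ^ 2 := Finset.sum_nonneg fun g _ => by positivity
  have hY : (∑ g ∈ s, ‖χ g‖) ^ 2 ≤ (∑ g ∈ X, ‖χ g‖ ^ 2) ^ 2 :=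
    hcs.trans ((mul_le_mul hcard hle h0 (h0.trans hle)).trans_eq (pow_two _).symm)
  have hsum : ∑ g ∈ s, ‖χ g‖ ≤ ∑ g ∈ X, ‖χ g‖ ^ 2 := le_of_pow_le_pow_left₀ two_ne_zero
    (h0.trans hle) hY
  have hsX : ∑ g ∈ X, (χ g).re ≤ ∑ g ∈ s, ‖χ g‖ := by
    rw [hs, Finset.sum_filter]
    refine Finset.sum_le_sum fun g _ => ?_
    split_ifs with h
    · exact Complex.re_le_norm _
    · rw [not_not] at h
      simp [h]
  rw [Finset.sum_sub_distrib]
  linarith

/-- Two real generalized characters of a group of odd order, one orthogonal to `1`, have an even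
inner product. -/
theorem even_inner_of_real [Fintype G] (hodd : Odd (Nat.card G)) {f g : G → ℂ}
    (hf : IsGeneralizedCharacter G f) (hg : IsGeneralizedCharacter G g)
    (hfr : conjFun f = f) (hgr : conjFun g = g) (hf1 : classInner f (fun _ => 1) = 0) :
    ∃ k : ℤ, classInner f g = ((2 * k : ℤ) : ℂ) := by
  classical
  haveI := Fintype.ofFinite (IrrCharacter G)
  obtain ⟨m, hm, -, -⟩ := generalized_expand hf
  obtain ⟨n, hn, hgeq, -⟩ := generalized_expand hg
  have key : classInner f g = ((∑ ψ : IrrCharacter G, m ψ * n ψ : ℤ) : ℂ) := by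
    conv_lhs => rw [hgeq]
    rw [classInner_sum_right, Int.cast_sum]
    refine Finset.sum_congr rfl fun ψ _ => ?_
    rw [classInner_smul_right, hm, map_intCast, Int.cast_mul]
    ring
  let bar : IrrCharacter G → IrrCharacter G := fun ψ => ⟨_, isIrrCharacter_starFun ψ⟩
  have hbar : ∀ ψ, bar (bar ψ) = ψ := fun ψ => Subtype.ext (funext fun x => Complex.conj_conj _)
  have hinv : ∀ {F : G → ℂ} {c : IrrCharacter G → ℤ}, conjFun F = F →
      (∀ ψ : IrrCharacter G, classInner F (ψ : G → ℂ) = c ψ) → ∀ ψ, c (bar ψ) = c ψ := by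
    intro F c hF hc ψ
    have h := classInner_starFun F (ψ : G → ℂ)
    rw [hF, hc ψ, map_intCast] at h
    have h' : classInner F ((bar ψ : IrrCharacter G) : G → ℂ) = c ψ := h
    rw [hc] at h'
    exact_mod_cast h'
  have hmbar := hinv hfr hm
  have hnbar := hinv hgr hn
  have h2 : ((∑ ψ : IrrCharacter G, m ψ * n ψ : ℤ) : ZMod 2) = 0 := by
    rw [Int.cast_sum]
    refine Finset.sum_involution (fun ψ _ => bar ψ) (fun ψ _ => ?_) (fun ψ _ h => ?_)
      (fun ψ _ => Finset.mem_univ _) (fun ψ _ => hbar ψ)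
    · rw [hmbar, hnbar]
      exact CharTwo.add_self_eq_zero _
    · intro e
      apply h
      have hreal : ∀ x : G, conj ((ψ : G → ℂ) x) = (ψ : G → ℂ) x := fun x =>
        congrFun (congrArg Subtype.val e) x
      have h1 : m ψ = 0 := by
        have := hm ψ
        rw [irr_eq_one_of_real hodd ψ hreal, hf1] at this
        exact_mod_cast this.symm
      rw [h1, zero_mul, Int.cast_zero]
  obtain ⟨k, hk⟩ := (ZMod.intCast_zmod_eq_zero_iff_dvd _ 2).1 h2
  exact ⟨k, by rw [key, hk]; push_cast; ring⟩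

/-- `a - b` is nilpotent modulo `p` in the ring of algebraic integers. -/
def Cong (p : ℕ) (a b : ℂ) : Prop :=
  ∃ n : ℕ, ∃ w : ℂ, IsIntegral ℤ w ∧ (a - b) ^ (n + 1) = (p : ℂ) * w

theorem cong_iff (p : ℕ) (a b : integralClosure ℤ ℂ) :
    Cong p a b ↔ a - b ∈ (Ideal.span {(p : integralClosure ℤ ℂ)}).radical := by
  constructor
  · rintro ⟨n, w, hw, e⟩
    exact ⟨n + 1, Ideal.mem_span_singleton'.2 ⟨⟨w, hw⟩, Subtype.ext (by simp [e, mul_comm])⟩⟩
  · rintro ⟨n, hn⟩
    obtain ⟨w, e⟩ := Ideal.mem_span_singleton'.1 (Ideal.mul_mem_right (a - b) _ hn)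
    refine ⟨n, w, w.2, ?_⟩
    rw [pow_succ]
    simpa [mul_comm] using (congrArg Subtype.val e).symm

theorem cong_refl (p : ℕ) (a : ℂ) : Cong p a a :=
  ⟨0, 0, isIntegral_zero, by simp⟩

theorem Cong.symm {p : ℕ} {a b : ℂ} (h : Cong p a b) : Cong p b a := by
  obtain ⟨n, w, hw, e⟩ := h
  refine ⟨n, (-1) ^ (n + 1) * w, ((isIntegral_one.neg).pow _).mul hw, ?_⟩
  rw [show b - a = (-1) * (a - b) by ring, mul_pow, e]
  ring

theorem Cong.trans {p : ℕ} {a b c : ℂ} (ha : IsIntegral ℤ a) (hb : IsIntegral ℤ b)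
    (hc : IsIntegral ℤ c) (h : Cong p a b) (h' : Cong p b c) : Cong p a c := by
  have h1 := (cong_iff p ⟨a, ha⟩ ⟨b, hb⟩).1 h
  have h2 := (cong_iff p ⟨b, hb⟩ ⟨c, hc⟩).1 h'
  refine (cong_iff p ⟨a, ha⟩ ⟨c, hc⟩).2 ?_
  simpa using add_mem h1 h2

theorem Cong.add {p : ℕ} {a b c d : ℂ} (ha : IsIntegral ℤ a) (hb : IsIntegral ℤ b)
    (hc : IsIntegral ℤ c) (hd : IsIntegral ℤ d) (h : Cong p a b) (h' : Cong p c d) :
    Cong p (a + c) (b + d) := by
  have h1 := (cong_iff p ⟨a, ha⟩ ⟨b, hb⟩).1 h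
  have h2 := (cong_iff p ⟨c, hc⟩ ⟨d, hd⟩).1 h'
  refine (cong_iff p (⟨a, ha⟩ + ⟨c, hc⟩) (⟨b, hb⟩ + ⟨d, hd⟩)).2 ?_
  rw [add_sub_add_comm]
  exact add_mem h1 h2

theorem Cong.mul_left {p : ℕ} {a b c : ℂ} (hc : IsIntegral ℤ c) (h : Cong p a b) :
    Cong p (c * a) (c * b) := by
  obtain ⟨n, w, hw, e⟩ := h
  refine ⟨n, c ^ (n + 1) * w, (hc.pow _).mul hw, ?_⟩
  rw [← mul_sub, mul_pow, e]
  ring

/-- Congruent integers are congruent as integers. -/
theorem Cong.dvd {p : ℕ} (hp : p.Prime) {a b : ℤ} (h : Cong p a b) : (p : ℤ) ∣ a - b := by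
  obtain ⟨n, w, hw, e⟩ := h
  have hp0 : (p : ℂ) ≠ 0 := Nat.cast_ne_zero.2 hp.ne_zero
  have hq : w = algebraMap ℚ ℂ (((a - b : ℤ) : ℚ) ^ (n + 1) / p) := by
    rw [map_div₀, map_pow, map_intCast, map_natCast, eq_div_iff hp0, mul_comm, ← e]
    push_cast
    rfl
  rw [hq, isIntegral_algebraMap_iff (algebraMap ℚ ℂ).injective] at hw
  obtain ⟨z, hz⟩ := IsIntegrallyClosed.isIntegral_iff.mp hw
  rw [eq_intCast, eq_div_iff (Nat.cast_ne_zero.2 hp.ne_zero)] at hz
  have hdvd : (p : ℤ) ∣ (a - b) ^ (n + 1) := ⟨z, by exact_mod_cast (hz.symm.trans (mul_comm _ _))⟩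
  exact (Nat.prime_iff_prime_int.1 hp).dvd_of_dvd_pow hdvd

theorem natCast_mem_nonunits {p : ℕ} (hp : p.Prime) :
    (p : integralClosure ℤ ℂ) ∈ nonunits (integralClosure ℤ ℂ) := by
  intro hu
  obtain ⟨u, hu⟩ := hu
  have hc : Cong p ((1 : ℤ) : ℂ) ((0 : ℤ) : ℂ) :=
    ⟨0, ((u⁻¹ : (integralClosure ℤ ℂ)ˣ) : integralClosure ℤ ℂ), Subtype.property _, by
      have := congrArg (fun z : integralClosure ℤ ℂ => (z : ℂ)) u.mul_inv
      rw [hu] at this
      simpa using this.symm⟩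
  have := hc.dvd hp
  simp only [sub_zero] at this
  exact hp.ne_one (by exact_mod_cast Int.eq_one_of_dvd_one (Int.natCast_nonneg p) this)

/-- A character value as an algebraic integer. -/
noncomputable def charVal {χ : G → ℂ} (hχ : IsCharacter G χ) (g : G) : integralClosure ℤ ℂ :=
  ⟨χ g, isCharacter_isIntegral hχ g⟩

/-- A character value raised to the `p ^ k` is congruent to the value at the `p ^ k`-th power. -/
theorem char_pow_sub_mem {p : ℕ} [hp : Fact p.Prime] {χ : G → ℂ} (hχ : IsCharacter G χ) (g : G)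
    (k : ℕ) :
    charVal hχ g ^ p ^ k - charVal hχ (g ^ p ^ k) ∈
      Ideal.span {(p : integralClosure ℤ ℂ)} := by
  obtain ⟨n, ρ, hρ⟩ := id hχ
  obtain ⟨b, μ, h1, -, h3⟩ := exists_eigen_data ρ g
  rw [hρ] at h3
  have e := h3 1
  simp only [pow_one] at e
  let w : Fin (finrank ℂ (Fin n → ℂ)) → integralClosure ℤ ℂ := fun i =>
    ⟨μ i, isIntegral_of_pow_eq_one (orderOf_pos g).ne' (h1 i)⟩
  haveI := CharP.quotient (integralClosure ℤ ℂ) p (natCast_mem_nonunits hp.out)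
  rw [← Ideal.Quotient.eq, map_pow,
    show charVal hχ g = ∑ i, w i from Subtype.ext (by simp [charVal, e, w]),
    show charVal hχ (g ^ p ^ k) = ∑ i, w i ^ p ^ k from
      Subtype.ext (by simp [charVal, h3 (p ^ k), w]),
    map_sum, map_sum, sum_pow_char_pow]
  exact Finset.sum_congr rfl fun i _ => (map_pow _ _ _).symm

/-- Generalized character values at `x * y` and at `y` are congruent modulo `p` when `x` is a `p`-element
commuting with `y`. -/
theorem cong_mul_of_pow_prime {p : ℕ} (hp : p.Prime) {χ : G → ℂ}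
    (hχ : IsGeneralizedCharacter G χ) {x y : G} {k : ℕ} (hx : x ^ p ^ k = 1) (hxy : Commute x y) :
    Cong p (χ (x * y)) (χ y) := by
  haveI : Fact p.Prime := ⟨hp⟩
  haveI := CharP.quotient (integralClosure ℤ ℂ) p (natCast_mem_nonunits hp)
  obtain ⟨a, b, ha, hb, rfl⟩ := hχ
  have hpow : (x * y) ^ p ^ k = y ^ p ^ k := by rw [hxy.mul_pow, hx, one_mul]
  have key : ∀ {f : G → ℂ} (hf : IsCharacter G f),
      charVal hf (x * y) ^ p ^ k - charVal hf y ^ p ^ k ∈
          Ideal.span {(p : integralClosure ℤ ℂ)} := by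
    intro f hf
    have h1 := char_pow_sub_mem (p := p) hf (x * y) k
    have h2 := char_pow_sub_mem (p := p) hf y k
    rw [← Ideal.Quotient.eq] at h1 h2 ⊢
    rw [h1, h2]
    rw [hpow]
  refine (cong_iff p (charVal ha (x * y) - charVal hb (x * y))
    (charVal ha y - charVal hb y)).2 ⟨p ^ k, ?_⟩
  have h1 := Ideal.Quotient.eq.2 (key ha)
  have h2 := Ideal.Quotient.eq.2 (key hb)
  rw [← Ideal.Quotient.eq_zero_iff_mem, map_pow, map_sub, map_sub, map_sub, sub_pow_char_pow,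
    sub_pow_char_pow, sub_pow_char_pow, ← map_pow, ← map_pow, ← map_pow, ← map_pow, h1, h2, sub_self]

end CfsgLib.FT
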