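import Cfsg.Agent.Lib.FT.FamilyTau
import Cfsg.Agent.Lib.Char.InducedSet
import Cfsg.Agent.Lib.Char.PowTwist
import Cfsg.Agent.Lib.Char.RealChar

/-!
# The family induced from the linear characters of `M_σ` (`docs/FT.md`, §0)

For a maximal subgroup `M` whose complement acts fixed point freely on `M_σ / M_σ'` (`FpfAb M`) the
characters of `M` induced from the non-trivial linear characters of `M_σ` (`Member M`) are irreducible
of degree `e = |M : M_σ|`, there are `n = (k₀ - 1)/e ≥ 2` of them, none is real.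
-/

set_option autoImplicit false
set_option linter.unusedSectionVars false
set_option linter.style.haveILetI false

open Subgroup

namespace CfsgLib.FT

open CfsgLib.CFun CfsgLib.Char
open Cfsg (IsClassFunction IsGeneralizedCharacter IsCharacter IsIrrCharacter IrrCharacter classInner
  indFun sigmaCore IsMinSimpleOddOrder)
open scoped ComplexConjugate

universe u

variable {G : Type u} [Group G]

/-- `M_σ'`. -/
def sigmaDer (M : Subgroup G) : Subgroup G := ⁅sigmaCore M, sigmaCore M⁆

/-- `e = |M : M_σ|`. -/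
noncomputable def eIndex (M : Subgroup G) : ℕ := (sigmaCore M).relIndex M

/-- `k₀ = |M_σ : M_σ'|`. -/
noncomputable def kZero (M : Subgroup G) : ℕ := (sigmaDer M).relIndex (sigmaCore M)

/-- The complement of `M_σ` acts fixed point freely on `M_σ / M_σ'`. -/
structure FpfAb (M : Subgroup G) : Prop where
  coatom : IsCoatom M
  fpf : ∀ a ∈ M, a ∉ sigmaCore M → ∀ v ∈ sigmaCore M,
    a * v * a⁻¹ * v⁻¹ ∈ sigmaDer M → v ∈ sigmaDer M

/-- `M_σ` as a subgroup of `M`. -/
abbrev sigmaIn (M : Subgroup G) : Subgroup M := (sigmaCore M).subgroupOf M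

/-- The function induced from `M_σ` to `M`. -/
noncomputable def indSigma (M : Subgroup G) [Finite G] (θ : sigmaIn M → ℂ) : M → ℂ :=
  @indFun M _ (Fintype.ofFinite _) (sigmaIn M) θ

/-- Induced to `M` from a non-trivial linear character of `M_σ`. -/
def IsMember (M : Subgroup G) [Finite G] (φ : M → ℂ) : Prop :=
  ∃ lam : sigmaIn M →* ℂˣ, lam ≠ 1 ∧ φ = indSigma M (fun x => (lam x : ℂ))

/-- The family. -/
abbrev Member (M : Subgroup G) [Finite G] := {φ : M → ℂ // IsMember M φ}

/-- `Ind_{M_σ} 1 - φ`. -/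
noncomputable def theta (M : Subgroup G) [Finite G] (φ : Member M) : M → ℂ :=
  indSigma M (fun _ => 1) - φ.1

/-- A conjugate of a linear character. -/
def cjHom {M : Subgroup G} [(sigmaIn M).Normal] (x : M) (lam : sigmaIn M →* ℂˣ) : sigmaIn M →* ℂˣ :=
  lam.comp (MulAut.conjNormal x).toMonoidHom

theorem cjHom_apply {M : Subgroup G} [hN : (sigmaIn M).Normal] (x : M) (lam : sigmaIn M →* ℂˣ)
    (h : sigmaIn M) : cjHom x lam h = lam ⟨x * h * x⁻¹, hN.conj_mem h h.2 x⟩ :=
  congrArg lam (Subtype.ext (MulAut.conjNormal_apply x h))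

theorem cjHom_one' {M : Subgroup G} [(sigmaIn M).Normal] (x : M) :
    cjHom x (1 : sigmaIn M →* ℂˣ) = 1 := rfl

theorem cjHom_cjHom {M : Subgroup G} [(sigmaIn M).Normal] (x y : M) (lam : sigmaIn M →* ℂˣ) :
    cjHom x (cjHom y lam) = cjHom (y * x) lam := by
  refine MonoidHom.ext fun h => ?_
  rw [cjHom_apply, cjHom_apply, cjHom_apply]
  exact congrArg lam (Subtype.ext (by push_cast; group))

theorem cjHom_one {M : Subgroup G} [(sigmaIn M).Normal] (lam : sigmaIn M →* ℂˣ) :
    cjHom (1 : M) lam = lam := by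
  refine MonoidHom.ext fun h => ?_
  rw [cjHom_apply]
  exact congrArg lam (Subtype.ext (by simp))

theorem cjHom_mem {M : Subgroup G} [(sigmaIn M).Normal] {x : M} (hx : x ∈ sigmaIn M)
    (lam : sigmaIn M →* ℂˣ) : cjHom x lam = lam := by
  refine MonoidHom.ext fun h => ?_
  rw [cjHom_apply]
  rw [show (⟨x * h * x⁻¹, _⟩ : sigmaIn M) = ⟨x, hx⟩ * h * (⟨x, hx⟩ : sigmaIn M)⁻¹ from Subtype.ext rfl,
    map_mul, map_mul, map_inv, mul_inv_cancel_comm]

/-- The values of a linear character are unitary. -/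
theorem conj_hom {Γ : Type*} [Group Γ] [Finite Γ] (lam : Γ →* ℂˣ) (x : Γ) :
    conj (lam x : ℂ) = (lam⁻¹ x : ℂˣ) := by
  rw [conj_eq_inv_of_pow_eq_one (orderOf_pos x).ne' (by
    rw [← Units.val_pow_eq_pow_val, ← map_pow, pow_orderOf_eq_one, map_one, Units.val_one]),
    MonoidHom.inv_apply, Units.val_inv_eq_inv_val]

theorem sum_hom_eq {Γ : Type*} [Group Γ] [Finite Γ] [Fintype (Γ →* ℂˣ)] (x : Γ)
    [Decidable (x ∈ commutator Γ)] :
    ∑ f : Γ →* ℂˣ, (f x : ℂ) = if x ∈ commutator Γ then (Nat.card (Abelianization Γ) : ℂ) else 0 := by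
  split_ifs with hx
  · rw [Finset.sum_congr rfl (g := fun _ => (1 : ℂ)) fun f _ => by
      rw [show f x = 1 from Abelianization.commutator_subset_ker f hx, Units.val_one],
      Finset.sum_const, Finset.card_univ, nsmul_eq_mul, mul_one, ← Nat.card_eq_fintype_card,
      ← CommGroup.card_monoidHom_of_hasEnoughRootsOfUnity (Abelianization Γ) ℂ]
    exact congrArg _ (Nat.card_congr Abelianization.lift)
  · obtain ⟨φ, hφ⟩ := CommGroup.exists_apply_ne_one_of_hasEnoughRootsOfUnity (Abelianization Γ) ℂ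
      (a := Abelianization.of x) fun h => hx ((QuotientGroup.eq_one_iff x).1 h)
    have h : (φ (Abelianization.of x) : ℂ) * ∑ f : Γ →* ℂˣ, (f x : ℂ) = ∑ f : Γ →* ℂˣ, (f x : ℂ) := by
      rw [Finset.mul_sum]
      exact Fintype.sum_equiv (Equiv.mulLeft (φ.comp Abelianization.of)) _ _ fun f => by simp
    by_contra h0
    exact hφ (Units.ext ((mul_eq_right₀ h0).1 h))

theorem hom_ext_val {Γ : Type*} [Group Γ] {f g : Γ →* ℂˣ} (h : ∀ x, (f x : ℂ) = g x) : f = g :=
  MonoidHom.ext fun x => Units.ext (h x)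

theorem classInner_hom {Γ : Type u} [Group Γ] [Fintype Γ] (f g : Γ →* ℂˣ) [Decidable (f = g)] :
    classInner (fun x => (f x : ℂ)) (fun x => (g x : ℂ)) = if f = g then 1 else 0 := by
  classical
  rw [classInner_irr ⟨_, isIrrCharacter_lin f⟩ ⟨_, isIrrCharacter_lin g⟩]
  refine if_congr ⟨fun h => hom_ext_val fun x => ?_, fun h => by rw [h]⟩ rfl rfl
  exact congrFun (congrArg Subtype.val h) x

section Main

variable [Fintype G] (hG : IsMinSimpleOddOrder G) {M : Subgroup G}
include hG

theorem sigmaIn_normal : (sigmaIn M).Normal :=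
  ⟨fun n hn g => Subgroup.mem_subgroupOf.2 (by
    simpa using (mem_normalizer_iff.1 (TauTwo.sigmaCore_normal hG M g.2) (n : G)).1
      (Subgroup.mem_subgroupOf.1 hn))⟩

omit hG in
theorem sigmaIn_range : ((M.subtype).comp (sigmaIn M).subtype).range = sigmaCore M := by
  ext y
  constructor
  · rintro ⟨x, rfl⟩
    exact Subgroup.mem_subgroupOf.1 x.2
  · intro hy
    exact ⟨⟨⟨y, map_subtype_le _ hy⟩, hy⟩, rfl⟩

omit hG in
theorem commutator_map :
    (commutator (sigmaIn M)).map ((M.subtype).comp (sigmaIn M).subtype) = sigmaDer M := by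
  rw [commutator_def, map_commutator, ← MonoidHom.range_eq_map, sigmaIn_range]
  rfl

omit hG in
theorem mem_commutator_iff (x : sigmaIn M) :
    x ∈ commutator (sigmaIn M) ↔ ((x : M) : G) ∈ sigmaDer M := by
  rw [← commutator_map]
  refine ⟨fun h => ⟨x, h, rfl⟩, ?_⟩
  rintro ⟨y, hy, e⟩
  rwa [show y = x from Subtype.ext (Subtype.ext e)] at hy

omit hG in
theorem kZero_eq : kZero M = Nat.card (Abelianization (sigmaIn M)) := by
  have h1 : Nat.card (sigmaDer M) * kZero M = Nat.card (sigmaCore M) := by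
    have hle : sigmaDer M ≤ sigmaCore M := commutator_le_self _
    rw [kZero, relIndex, ← Nat.card_congr (subgroupOfEquivOfLe hle).toEquiv]
    exact card_mul_index _
  have hinj : Function.Injective ((M.subtype).comp (sigmaIn M).subtype) :=
    fun a b h => Subtype.ext (Subtype.ext h)
  have h2 : Nat.card (sigmaDer M) * Nat.card (Abelianization (sigmaIn M)) = Nat.card (sigmaCore M) := by
    rw [← commutator_map, Nat.card_congr ((commutator (sigmaIn M)).equivMapOfInjective _ hinj).toEquiv.symm]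
    show _ * Nat.card (sigmaIn M ⧸ commutator (sigmaIn M)) = _
    rw [← index_eq_card, card_mul_index]
    exact Nat.card_congr (subgroupOfEquivOfLe (map_subtype_le _)).toEquiv
  exact Nat.eq_of_mul_eq_mul_left Nat.card_pos (h1.trans h2.symm)

omit hG in
theorem eIndex_eq : eIndex M = (sigmaIn M).index := rfl

omit hG in
theorem eIndex_pos : 0 < eIndex M := by
  rw [eIndex_eq]
  exact Nat.pos_of_ne_zero index_ne_zero_of_finite

omit hG in
theorem kZero_pos : 0 < kZero M := by
  rw [kZero_eq]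
  exact Nat.card_pos

omit hG in
theorem indSigma_eq [Fintype M] (θ : sigmaIn M → ℂ) : indSigma M θ = indFun (sigmaIn M) θ := by
  rw [indSigma]
  congr
  exact Subsingleton.elim _ _

theorem indSigma_not_mem (θ : sigmaIn M → ℂ) {x : M} (hx : (x : G) ∉ sigmaCore M) :
    indSigma M θ x = 0 := by
  haveI := sigmaIn_normal hG (M := M)
  haveI := Fintype.ofFinite M
  rw [indSigma_eq]
  exact indFun_normal_not_mem _ _ fun h => hx (Subgroup.mem_subgroupOf.1 h)

theorem indSigma_hom_mem [Fintype M] [(sigmaIn M).Normal] (lam : sigmaIn M →* ℂˣ) (h : sigmaIn M) :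
    indSigma M (fun x => (lam x : ℂ)) h =
      (Nat.card (sigmaIn M) : ℂ)⁻¹ * ∑ x : M, (cjHom x lam h : ℂ) := by
  rw [indSigma_eq, indFun_normal_mem]
  simp_rw [cjHom_apply]

theorem inner_indSigma [Fintype M] [(sigmaIn M).Normal] (lam lam' : sigmaIn M →* ℂˣ) :
    classInner (indSigma M fun x => (lam x : ℂ)) (indSigma M fun x => (lam' x : ℂ)) =
      (Nat.card (sigmaIn M) : ℂ)⁻¹ * (Nat.card {x : M // cjHom x lam' = lam} : ℂ) := by
  classical
  haveI : Fintype (sigmaIn M) := Fintype.ofFinite _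
  rw [indSigma_eq (θ := fun x => (lam x : ℂ)), classInner_indFun _ _ _ (by
    rw [indSigma_eq]; exact isClassFunction_indFun _ _)]
  have hres : (fun h : sigmaIn M => indSigma M (fun x => (lam' x : ℂ)) h) =
      (Nat.card (sigmaIn M) : ℂ)⁻¹ • ∑ x : M, (fun h : sigmaIn M => (cjHom x lam' h : ℂ)) := by
    funext h
    rw [indSigma_hom_mem hG, Pi.smul_apply, Finset.sum_apply, smul_eq_mul]
  rw [hres, classInner_smul_right, classInner_sum_right, map_inv₀, map_natCast,
    Finset.sum_congr rfl fun x _ => classInner_hom lam (cjHom x lam'), ← Finset.sum_filter,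
    Finset.sum_const, nsmul_eq_mul, mul_one, ← Fintype.card_subtype, ← Nat.card_eq_fintype_card]
  congr 2
  exact Nat.card_congr (Equiv.subtypeEquivRight fun x => eq_comm)

theorem indSigma_cjHom [(sigmaIn M).Normal] (y : M) (lam : sigmaIn M →* ℂˣ) :
    indSigma M (fun x => (cjHom y lam x : ℂ)) = indSigma M (fun x => (lam x : ℂ)) := by
  haveI := Fintype.ofFinite M
  funext x
  by_cases hx : (x : G) ∈ sigmaCore M
  · rw [show x = ((⟨x, hx⟩ : sigmaIn M) : M) from rfl, indSigma_hom_mem hG, indSigma_hom_mem hG]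
    congr 1
    exact Fintype.sum_bijective (y * ·) (Group.mulLeft_bijective y) _ _ fun z => by rw [cjHom_cjHom]
  · rw [indSigma_not_mem hG _ hx, indSigma_not_mem hG _ hx]

theorem indOne_eq (x : M) [Decidable ((x : G) ∈ sigmaCore M)] :
    indSigma M (fun _ => 1) x = if (x : G) ∈ sigmaCore M then (eIndex M : ℂ) else 0 := by
  haveI := Fintype.ofFinite M
  haveI := sigmaIn_normal hG (M := M)
  split_ifs with hx
  · have h := indSigma_hom_mem hG (1 : sigmaIn M →* ℂˣ) ⟨x, hx⟩
    simp only [cjHom_one', MonoidHom.one_apply, Units.val_one, Finset.sum_const, Finset.card_univ,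
      nsmul_eq_mul, mul_one] at h
    rw [h, eIndex_eq, ← Nat.card_eq_fintype_card, ← (sigmaIn M).card_mul_index, Nat.cast_mul,
      inv_mul_cancel_left₀ (by exact_mod_cast Nat.card_pos.ne')]
  · exact indSigma_not_mem hG _ hx

variable (hM : FpfAb M)
include hM

theorem cjHom_fix [(sigmaIn M).Normal] {x : M} {lam : sigmaIn M →* ℂˣ} (h : cjHom x lam = lam)
    (hx : (x : G) ∉ sigmaCore M) : lam = 1 := by
  classical
  let f : Abelianization (sigmaIn M) →* Abelianization (sigmaIn M) :=
    Abelianization.map (MulAut.conjNormal x).toMonoidHom / MonoidHom.id _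
  have hinj : Function.Injective f := by
    rw [← MonoidHom.ker_eq_bot_iff, eq_bot_iff]
    intro v hv
    obtain ⟨v, rfl⟩ := QuotientGroup.mk_surjective v
    have hv' : Abelianization.of (MulAut.conjNormal x v) / Abelianization.of v = 1 := hv
    rw [← map_div, ← MonoidHom.mem_ker, Abelianization.ker_of, div_eq_mul_inv, mem_commutator_iff] at hv'
    refine Subgroup.mem_bot.2 ?_
    refine (QuotientGroup.eq_one_iff v).2 ((mem_commutator_iff v).2 ?_)
    refine hM.fpf x x.2 hx _ (Subgroup.mem_subgroupOf.1 v.2) ?_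
    simpa [MulAut.conjNormal_apply] using hv'
  have hsurj := Finite.injective_iff_surjective.1 hinj
  let L := Abelianization.lift lam
  have hL : ∀ v, L (f v) = 1 := by
    intro v
    obtain ⟨v, rfl⟩ := QuotientGroup.mk_surjective v
    show L (Abelianization.of (MulAut.conjNormal x v) / Abelianization.of v) = 1
    rw [map_div, Abelianization.lift_apply_of, Abelianization.lift_apply_of]
    have := DFunLike.congr_fun h v
    exact div_eq_one.2 this
  refine MonoidHom.ext fun v => ?_
  obtain ⟨w, hw⟩ := hsurj (Abelianization.of v)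
  rw [MonoidHom.one_apply, ← Abelianization.lift_apply_of lam v, ← hw]
  exact hL w

theorem fix_iff [(sigmaIn M).Normal] {lam : sigmaIn M →* ℂˣ} (hl : lam ≠ 1) (x : M) :
    cjHom x lam = lam ↔ x ∈ sigmaIn M :=
  ⟨fun h => by_contra fun hx => hl (cjHom_fix hG hM h fun hx' => hx hx'), fun h => cjHom_mem h lam⟩

theorem norm_indSigma [Fintype M] [(sigmaIn M).Normal] {lam : sigmaIn M →* ℂˣ} (hl : lam ≠ 1) :
    classInner (indSigma M fun x => (lam x : ℂ)) (indSigma M fun x => (lam x : ℂ)) = 1 := by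
  rw [inner_indSigma hG, Nat.card_congr (Equiv.subtypeEquivRight fun x => fix_iff hG hM hl x)]
  exact inv_mul_cancel₀ (by exact_mod_cast (Nat.card_pos (α := sigmaIn M)).ne')

theorem indSigma_eq_iff [(sigmaIn M).Normal] {lam lam' : sigmaIn M →* ℂˣ} (hl : lam ≠ 1) :
    indSigma M (fun x => (lam x : ℂ)) = indSigma M (fun x => (lam' x : ℂ)) ↔
      ∃ y : M, cjHom y lam' = lam := by
  haveI := Fintype.ofFinite M
  refine ⟨fun h => ?_, fun ⟨y, hy⟩ => by rw [← hy, indSigma_cjHom hG]⟩
  have h1 := norm_indSigma hG hM hl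
  conv_lhs at h1 => arg 2; rw [h]
  rw [inner_indSigma hG] at h1
  by_contra hne
  push Not at hne
  haveI : IsEmpty {x : M // cjHom x lam' = lam} := ⟨fun x => hne x.1 x.2⟩
  rw [(Nat.card_of_isEmpty : Nat.card {x : M // cjHom x lam' = lam} = 0), Nat.cast_zero, mul_zero] at h1
  exact zero_ne_one h1

theorem member_irr (φ : Member M) : IsIrrCharacter M φ.1 := by
  haveI := Fintype.ofFinite M
  haveI := sigmaIn_normal hG (M := M)
  obtain ⟨lam, hl, hφ⟩ := φ.2
  refine isIrr_of_isCharacter_norm_one ?_ (by rw [hφ]; exact norm_indSigma hG hM hl)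
  rw [hφ, indSigma_eq]
  exact isCharacter_indFun _ (isCharacter_of_isIrr (isIrrCharacter_lin lam))

omit hM in
theorem member_vanish (φ : Member M) {x : M} (hx : (x : G) ∉ sigmaCore M) : φ.1 x = 0 := by
  obtain ⟨lam, -, hφ⟩ := φ.2
  rw [hφ]
  exact indSigma_not_mem hG _ hx

omit hG hM in
theorem member_one (φ : Member M) : φ.1 1 = eIndex M := by
  haveI := Fintype.ofFinite M
  obtain ⟨lam, -, hφ⟩ := φ.2
  rw [hφ, indSigma_eq, indFun_one, map_one, Units.val_one, mul_one, eIndex_eq]

omit hM in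
theorem member_der (φ : Member M) {x : M} (hx : (x : G) ∈ sigmaDer M) : φ.1 x = eIndex M := by
  haveI := Fintype.ofFinite M
  haveI := sigmaIn_normal hG (M := M)
  have hxS : x ∈ sigmaIn M := Subgroup.mem_subgroupOf.2 (commutator_le_self (sigmaCore M) hx)
  obtain ⟨lam, -, hφ⟩ := φ.2
  rw [hφ, show x = ((⟨x, hxS⟩ : sigmaIn M) : M) from rfl, indSigma_hom_mem hG,
    Finset.sum_congr rfl (g := fun _ => (1 : ℂ)) fun y _ => by
      rw [show cjHom y lam ⟨x, hxS⟩ = 1 from Abelianization.commutator_subset_ker _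
        ((mem_commutator_iff _).2 hx), Units.val_one],
    Finset.sum_const, Finset.card_univ, nsmul_eq_mul, mul_one, eIndex_eq,
    ← Nat.card_eq_fintype_card, ← (sigmaIn M).card_mul_index, Nat.cast_mul,
    inv_mul_cancel_left₀ (by exact_mod_cast Nat.card_pos.ne')]

theorem member_orth [Fintype M] {φ ψ : Member M} (h : φ ≠ ψ) : classInner φ.1 ψ.1 = 0 :=
  classInner_irr_ne (χ := ⟨φ.1, member_irr hG hM φ⟩) (ψ := ⟨ψ.1, member_irr hG hM ψ⟩)
    fun e => h (Subtype.ext (congrArg Subtype.val e :))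

theorem member_self [Fintype M] (φ : Member M) : classInner φ.1 φ.1 = 1 :=
  classInner_irr_self ⟨φ.1, member_irr hG hM φ⟩

omit hM in
theorem indOne_inner_member [Fintype M] (φ : Member M) :
    classInner (indSigma M fun _ => 1) φ.1 = 0 := by
  haveI := sigmaIn_normal hG (M := M)
  obtain ⟨lam, hl, hφ⟩ := φ.2
  have h := inner_indSigma hG (1 : sigmaIn M →* ℂˣ) lam
  simp only [MonoidHom.one_apply, Units.val_one] at h
  haveI : IsEmpty {x : M // cjHom x lam = 1} := ⟨fun x => hl (by
    have := congrArg (cjHom (x.1)⁻¹) x.2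
    rw [cjHom_cjHom, mul_inv_cancel, cjHom_one, cjHom_one'] at this
    exact this)⟩
  rw [hφ, h, (Nat.card_of_isEmpty : Nat.card {x : M // cjHom x lam = 1} = 0), Nat.cast_zero, mul_zero]

omit hM in
theorem indOne_norm [Fintype M] :
    classInner (indSigma M fun _ => 1) (indSigma M fun _ => 1) = eIndex M := by
  haveI := sigmaIn_normal hG (M := M)
  have h := inner_indSigma hG (1 : sigmaIn M →* ℂˣ) 1
  simp only [MonoidHom.one_apply, Units.val_one] at h
  rw [h, Nat.card_congr (Equiv.subtypeUnivEquiv fun x : M => cjHom_one' x),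
    ← (sigmaIn M).card_mul_index, Nat.cast_mul, eIndex_eq,
    inv_mul_cancel_left₀ (by exact_mod_cast Nat.card_pos.ne')]

omit hM in
theorem indOne_inner_one [Fintype M] :
    classInner (indSigma M fun _ => 1) (fun _ => 1) = 1 := by
  haveI : Fintype (sigmaIn M) := Fintype.ofFinite _
  rw [indSigma_eq, classInner_indFun _ _ _ fun _ _ => rfl]
  exact classInner_irr_self ⟨_, isIrrCharacter_one⟩

omit hM in
theorem member_inner_one [Fintype M] (φ : Member M) : classInner φ.1 (fun _ => 1) = 0 := by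
  classical
  haveI : Fintype (sigmaIn M) := Fintype.ofFinite _
  obtain ⟨lam, hl, hφ⟩ := φ.2
  rw [hφ, indSigma_eq, classInner_indFun _ _ _ fun _ _ => rfl,
    show (fun _ : sigmaIn M => (1 : ℂ)) = fun x => ((1 : sigmaIn M →* ℂˣ) x : ℂ) by
      funext x; simp, classInner_hom, if_neg hl]

theorem member_card : Nat.card (Member M) * eIndex M + 1 = kZero M := by
  classical
  haveI := Fintype.ofFinite M
  haveI := sigmaIn_normal hG (M := M)
  haveI : Finite (sigmaIn M →* ℂˣ) :=
    Finite.of_equiv _ (Abelianization.lift (G := sigmaIn M) (A := ℂˣ)).symm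
  haveI := Fintype.ofFinite {lam : sigmaIn M →* ℂˣ // lam ≠ 1}
  let F : {lam : sigmaIn M →* ℂˣ // lam ≠ 1} → Member M :=
    fun l => ⟨indSigma M (fun x => (l.1 x : ℂ)), l.1, l.2, rfl⟩
  haveI : Finite (Member M) := Finite.of_surjective F fun φ => by
    obtain ⟨lam, hl, hφ⟩ := φ.2
    exact ⟨⟨lam, hl⟩, Subtype.ext hφ.symm⟩
  haveI := Fintype.ofFinite (Member M)
  have hfib : ∀ φ : Member M, Nat.card {l // F l = φ} = eIndex M := by
    intro φ
    obtain ⟨lam, hl, hφ⟩ := φ.2
    rw [eIndex_eq, index_eq_card]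
    symm
    refine Nat.card_eq_of_bijective (fun q : M ⧸ sigmaIn M =>
      (⟨⟨cjHom q.out lam, fun e => hl (by
        have := congrArg (cjHom q.out⁻¹) e
        rwa [cjHom_cjHom, mul_inv_cancel, cjHom_one, cjHom_one'] at this)⟩,
        Subtype.ext (by rw [hφ]; exact indSigma_cjHom hG _ _)⟩ : {l // F l = φ})) ⟨?_, ?_⟩
    · intro q r h
      have h' : cjHom q.out lam = cjHom r.out lam := congrArg (fun z => z.1.1) h
      have h1 := congrArg (cjHom r.out⁻¹) h'
      rw [cjHom_cjHom, cjHom_cjHom, mul_inv_cancel, cjHom_one, fix_iff hG hM hl] at h1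
      rw [← QuotientGroup.out_eq' q, ← QuotientGroup.out_eq' r, QuotientGroup.eq]
      have := (sigmaIn_normal hG).mem_comm h1
      simpa using inv_mem this
    · rintro ⟨⟨l, hl'⟩, hlF⟩
      have e : indSigma M (fun x => (l x : ℂ)) = indSigma M (fun x => (lam x : ℂ)) :=
        (congrArg Subtype.val hlF).trans hφ
      obtain ⟨y, hy⟩ := (indSigma_eq_iff hG hM hl').1 e
      refine ⟨(y : M ⧸ sigmaIn M), Subtype.ext (Subtype.ext ?_)⟩
      obtain ⟨s, hs⟩ := QuotientGroup.mk_out_eq_mul (sigmaIn M) y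
      show cjHom ((y : M ⧸ sigmaIn M)).out lam = l
      rw [hs, ← cjHom_cjHom, hy, cjHom_mem s.2]
  have hsum : Nat.card {lam : sigmaIn M →* ℂˣ // lam ≠ 1} = Nat.card (Member M) * eIndex M := by
    rw [← Nat.card_congr (Equiv.sigmaFiberEquiv F), Nat.card_sigma, Finset.sum_congr rfl fun φ _ => hfib φ,
      Finset.sum_const, Finset.card_univ, smul_eq_mul, Nat.card_eq_fintype_card]
  have hall : Nat.card (sigmaIn M →* ℂˣ) = kZero M := by
    rw [kZero_eq, ← CommGroup.card_monoidHom_of_hasEnoughRootsOfUnity (Abelianization (sigmaIn M)) ℂ]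
    exact Nat.card_congr Abelianization.lift
  haveI := Fintype.ofFinite (sigmaIn M →* ℂˣ)
  rw [← hsum, ← hall, Nat.card_eq_fintype_card, Nat.card_eq_fintype_card, Fintype.card_subtype_compl,
    Fintype.card_subtype_eq, Nat.sub_add_cancel Fintype.card_pos]

theorem member_finite : Finite (Member M) := by
  haveI := sigmaIn_normal hG (M := M)
  haveI : Finite (sigmaIn M →* ℂˣ) :=
    Finite.of_equiv _ (Abelianization.lift (G := sigmaIn M) (A := ℂˣ)).symm
  exact Finite.of_surjective (fun l : {lam : sigmaIn M →* ℂˣ // lam ≠ 1} =>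
    (⟨indSigma M (fun x => (l.1 x : ℂ)), l.1, l.2, rfl⟩ : Member M)) fun φ => by
      obtain ⟨lam, hl, hφ⟩ := φ.2
      exact ⟨⟨lam, hl⟩, Subtype.ext hφ.symm⟩

omit hM in
theorem isMember_conj {φ : M → ℂ} (h : IsMember M φ) : IsMember M (Cfsg.conjFun φ) := by
  haveI := Fintype.ofFinite M
  obtain ⟨lam, hl, rfl⟩ := h
  refine ⟨lam⁻¹, fun e => hl (MonoidHom.ext fun x => inv_eq_one.1 (DFunLike.congr_fun e x)), ?_⟩
  rw [indSigma_eq, indSigma_eq, star_indFun]
  exact congrArg _ (funext fun x => conj_hom lam x)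

omit hM in
/-- The complex conjugate member. -/
theorem isMember_pow {φ : M → ℂ} (h : IsMember M φ) {m : ℕ} (hm : m.Coprime (Nat.card G)) :
    IsMember M (fun x => φ (x ^ m)) := by
  haveI := Fintype.ofFinite M
  obtain ⟨lam, hl, rfl⟩ := h
  have hmM : Nat.Coprime (Nat.card M) m := (hm.coprime_dvd_right (card_subgroup_dvd_card M)).symm
  refine ⟨lam ^ m, fun e => hl (MonoidHom.ext fun x => ?_), funext fun x => ?_⟩
  · obtain ⟨j, hj⟩ := mem_zpowers_iff.1 (mem_zpowers_pow_of_coprime x
      ((hm.coprime_dvd_right (card_subgroup_dvd_card M)).coprime_dvd_right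
        (card_subgroup_dvd_card (sigmaIn M))))
    have h1 : lam (x ^ m) = 1 := by rw [map_pow, ← MonoidHom.pow_apply, e, MonoidHom.one_apply]
    rw [← hj, map_zpow, h1, one_zpow, MonoidHom.one_apply]
  · rw [indSigma_eq, indSigma_eq, indFun_powMap hmM]
    exact congrFun (congrArg _ (funext fun h => by rw [map_pow, MonoidHom.pow_apply])) x

end Main

end CfsgLib.FT
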