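import Cfsg.Agent.Lib.FT.RectFamily
import Cfsg.Agent.Lib.Char.TypePLikeExceptional
import Cfsg.Agent.Lib.Char.Vanish
import Cfsg.Agent.Lib.Char.InvariantAbove
import Cfsg.Agent.Lib.Char.PowTwist
import Cfsg.Agent.Lib.Char.OddType.Sets

/-!
# The characters `μ_ij` of a maximal subgroup with `κ(M) ≠ ∅` (docs/FT.md §3)

The linear characters of `W = W₁ ⊔ W₂` index them; `ψ` trivial on `W₁` is the column.
-/

set_option autoImplicit false
set_option linter.unusedSectionVars false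
set_option linter.style.haveILetI false

open Subgroup
open scoped commutatorElement

namespace CfsgLib.FT.Rect

open scoped ComplexConjugate
open Cfsg CfsgLib.Char

universe u

variable {G : Type u} [Group G] [Fintype G]

/-- A maximal subgroup `M` with `K = W₁ ≠ 1` and `W₂ = C_{M_σ}(W₁)`. -/
structure Kappa (M W₁ U W₂ : Subgroup G) : Prop where
  minSimple : Cfsg.IsMinSimpleOddOrder G
  coatom : IsCoatom M
  decomp : Cfsg.IsSigmaDecomposition M W₁ U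
  neW₁ : W₁ ≠ ⊥
  eqW₂ : Cfsg.sigmaCore M ⊓ centralizer (W₁ : Set G) = W₂

namespace Kappa

variable {M W₁ U W₂ : Subgroup G}

theorem sigma_le (h : Kappa M W₁ U W₂) : Cfsg.sigmaCore M ≤ ⁅M, M⁆ :=
  CfsgLib.CFun.KappaDerived.sigmaCore_le_derived h.minSimple h.coatom h.decomp h.neW₁

theorem le₁ (h : Kappa M W₁ U W₂) : W₁ ≤ M := h.decomp.hall.1

theorem le₂ (h : Kappa M W₁ U W₂) : W₂ ≤ Cfsg.sigmaCore M := h.eqW₂ ▸ inf_le_left

theorem le_sup (h : Kappa M W₁ U W₂) : W₁ ⊔ W₂ ≤ M :=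
  _root_.sup_le h.le₁ ((h.le₂.trans h.sigma_le).trans (commutator_le_self M))

theorem snc (h : Kappa M W₁ U W₂) : Cfsg.IsSelfNormalizingCyclic W₁ W₂ :=
  h.eqW₂ ▸ CfsgLib.CFun.TypeClass.selfNormalizing h.minSimple h.coatom h.decomp h.neW₁

theorem odd_sup (h : Kappa M W₁ U W₂) : Odd (Nat.card ↥(W₁ ⊔ W₂)) :=
  h.minSimple.1.of_dvd_nat (card_subgroup_dvd_card _)

theorem derived_le (_h : Kappa M W₁ U W₂) : ⁅M, M⁆ ≤ M := commutator_le_self M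

theorem normal_derived (h : Kappa M W₁ U W₂) : ((⁅M, M⁆).subgroupOf M).Normal := by
  refine normal_subgroupOf_of_le_normalizer fun m hm => ?_
  refine mem_normalizer_fintype fun x hx => ?_
  have e : (⁅M, M⁆ : Subgroup G).map (MulAut.conj m).toMonoidHom = ⁅M, M⁆ := by
    rw [map_commutator, ← CfsgLib.Coprime.conjBy, CfsgLib.Coprime.conjBy_eq_self_of_mem hm]
  exact e.le ⟨x, hx, rfl⟩

theorem sup_subgroupOf (h : Kappa M W₁ U W₂) :
    W₁.subgroupOf M ⊔ W₂.subgroupOf M = (W₁ ⊔ W₂).subgroupOf M :=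
  (Subgroup.subgroupOf_sup h.le₁ ((h.le₂.trans h.sigma_le).trans (commutator_le_self M))).symm

/-- `M = M' ⋊ W₁` with `C_{M'}(k) = W₂` for `k ∈ W₁#`. -/
theorem typePLike (h : Kappa M W₁ U W₂) :
    CfsgLib.Char.TypePLike ((⁅M, M⁆).subgroupOf M) (W₁.subgroupOf M) (W₂.subgroupOf M) := by
  obtain ⟨hDM, hKM, hinf, hprod⟩ :=
    CfsgLib.CFun.TypeClass.derived_compl h.minSimple h.coatom h.decomp h.neW₁
  have hW₂M : W₂ ≤ M := le_sup_right.trans h.le_sup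
  haveI := h.snc.2.2.2.2.1
  haveI hn := h.normal_derived
  have hc₁ : IsCyclic W₁ :=
    isCyclic_of_injective (Subgroup.inclusion (le_sup_left : W₁ ≤ W₁ ⊔ W₂)) (inclusion_injective _)
  have hc₂ : IsCyclic W₂ :=
    isCyclic_of_injective (Subgroup.inclusion (le_sup_right : W₂ ≤ W₁ ⊔ W₂)) (inclusion_injective _)
  refine ⟨hn, ?_, ?_, ?_, ?_, ?_, ?_, ?_, ?_, ?_⟩
  · rw [eq_bot_iff]
    rintro x ⟨hx, hx'⟩
    have : (x : G) ∈ ⁅M, M⁆ ⊓ W₁ := ⟨hx, hx'⟩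
    rw [hinf, mem_bot] at this
    exact mem_bot.2 (Subtype.ext this)
  · refine eq_top_iff.2 fun x _ => ?_
    obtain ⟨a, ha, b, hb, e⟩ := hprod x x.2
    have : x = (⟨a, hDM ha⟩ : M) * ⟨b, hKM hb⟩ := Subtype.ext e
    rw [this]
    exact mul_mem_sup ha hb
  · rw [Ne, subgroupOf_eq_bot, disjoint_iff, inf_eq_left.2 hKM]
    exact h.neW₁
  · exact isCyclic_of_surjective (subgroupOfEquivOfLe hKM).symm (MulEquiv.surjective _)
  · show Nat.Coprime (Nat.card (W₁.subgroupOf M)) (W₁.relIndex M)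
    rw [Nat.card_congr (subgroupOfEquivOfLe hKM).toEquiv]
    exact Nat.coprime_of_dvd fun p hp h1 h2 =>
      h.decomp.hall.2.2 p hp (h.decomp.hall.2.1 p hp h1) h2
  · rw [Ne, subgroupOf_eq_bot, disjoint_iff, inf_eq_left.2 hW₂M]
    exact h.snc.2.1
  · exact isCyclic_of_surjective (subgroupOfEquivOfLe hW₂M).symm (MulEquiv.surjective _)
  · exact fun x hx => h.le₂.trans h.sigma_le hx
  · intro x hx hx1
    have hd := CfsgLib.Char.OddType.derived_inf_centralizer h.minSimple h.coatom h.decomp h.neW₁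
      (k := (x : G)) hx fun e => hx1 (Subtype.ext e)
    rw [h.eqW₂] at hd
    refine Subgroup.ext fun y => ?_
    simp only [mem_inf, mem_subgroupOf, mem_centralizer_singleton_iff, Subtype.ext_iff, coe_mul]
    rw [← hd, mem_inf, mem_centralizer_singleton_iff]

end Kappa

/-- The characters `μ ω` of `M` and their signs. -/
structure IsCols (M W₁ W₂ : Subgroup G) (mu : (↥(W₁ ⊔ W₂) →* ℂˣ) → (↥M → ℂ))
    (sgn : (↥(W₁ ⊔ W₂) →* ℂˣ) → ℤ) : Prop where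
  inj : Function.Injective mu
  irr : ∀ ω, IsIrrCharacter ↥M (mu ω)
  sgn_cases : ∀ ω, sgn ω = 1 ∨ sgn ω = -1
  value : ∀ (ω : ↥(W₁ ⊔ W₂) →* ℂˣ) (w : ↥(W₁ ⊔ W₂)) (m : ↥M), (m : G) = w → (w : G) ∉ W₂ →
    mu ω m = (sgn ω : ℂ) * (ω w : ℂ)
  other : ∀ θ : ↥M → ℂ, IsIrrCharacter ↥M θ → (∀ ω, θ ≠ mu ω) →
    ∀ m : ↥M, (m : G) ∈ W₁ ⊔ W₂ → (m : G) ∉ W₂ → θ m = 0
  deg_mod : ∀ ω, ∃ n : ℤ, mu ω 1 - (sgn ω : ℂ) = n * (Nat.card W₁ : ℂ)

theorem Kappa.exists_cols {M W₁ U W₂ : Subgroup G} (h : Kappa M W₁ U W₂) :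
    ∃ mu sgn, IsCols M W₁ W₂ mu sgn := by
  classical
  have hT := h.typePLike
  have e := h.sup_subgroupOf
  let ι : ↥(W₁.subgroupOf M ⊔ W₂.subgroupOf M) ≃* ↥(W₁ ⊔ W₂) :=
    (MulEquiv.subgroupCongr e).trans (subgroupOfEquivOfLe h.le_sup)
  have hι : ∀ x, ((ι x : ↥(W₁ ⊔ W₂)) : G) = ((x : ↥M) : G) := fun x => rfl
  obtain ⟨μ, δ, hinj, hirr, hδ, -, hval, hoth, hdeg⟩ := hT.exists_exceptional (by
    rw [Nat.card_congr ι.toEquiv]; exact h.odd_sup)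
  let c : (↥(W₁ ⊔ W₂) →* ℂˣ) → (↥(W₁.subgroupOf M ⊔ W₂.subgroupOf M) →* ℂˣ) :=
    fun ω => ω.comp ι.toMonoidHom
  have hc : Function.Bijective c :=
    Function.bijective_iff_has_inverse.mpr ⟨fun ω => ω.comp ι.symm.toMonoidHom,
      fun ω => MonoidHom.ext fun w => congrArg ω (ι.apply_symm_apply w),
      fun ω => MonoidHom.ext fun w => congrArg ω (ι.symm_apply_apply w)⟩
  have hcast : ∀ ω, (((if δ (c ω) = 1 then (1 : ℤ) else -1) : ℤ) : ℂ) = δ (c ω) := fun ω => by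
    rcases hδ (c ω) with q | q <;> simp only [q] <;> norm_num
  refine ⟨fun ω => μ (c ω), fun ω => if δ (c ω) = 1 then 1 else -1, hinj.comp hc.1,
    fun ω => hirr _, fun ω => ?_, fun ω w m hm hw => ?_, fun θ hθ hne m hm hm2 => ?_, fun ω => ?_⟩
  · by_cases q : δ (c ω) = 1 <;> simp [q]
  · have hm' : m ∈ W₁.subgroupOf M ⊔ W₂.subgroupOf M := by
      rw [e, mem_subgroupOf, hm]; exact w.2
    have hv := hval (c ω) ⟨m, hm'⟩ (by rw [mem_subgroupOf, hm]; exact hw)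
    rw [hcast]
    refine hv.trans ?_
    show _ * ((ω (ι ⟨m, hm'⟩) : ℂˣ) : ℂ) = _
    rw [show ι ⟨m, hm'⟩ = w from Subtype.ext (by rw [hι]; exact hm)]
  · have hm' : m ∈ W₁.subgroupOf M ⊔ W₂.subgroupOf M := by rw [e, mem_subgroupOf]; exact hm
    refine hoth θ hθ (fun ω q => ?_) ⟨m, hm'⟩ (by rw [mem_subgroupOf]; exact hm2)
    obtain ⟨ω', rfl⟩ := hc.2 ω
    exact hne ω' q
  · obtain ⟨n, hn⟩ := hdeg (c ω)
    refine ⟨n, ?_⟩
    rw [hcast, ← Nat.card_congr (subgroupOfEquivOfLe h.le₁).toEquiv]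
    exact hn

/-! ### Consequences -/

namespace IsCols

variable {M W₁ U W₂ : Subgroup G} {mu : (↥(W₁ ⊔ W₂) →* ℂˣ) → (↥M → ℂ)}
  {sgn : (↥(W₁ ⊔ W₂) →* ℂˣ) → ℤ}
variable (h : Kappa M W₁ U W₂) (C : IsCols M W₁ W₂ mu sgn)

include h

omit C in
theorem exists_ne_one₁ : ∃ a : ↥(W₁ ⊔ W₂), (a : G) ∈ W₁ ∧ a ≠ 1 ∧ a * a ≠ 1 := by
  obtain ⟨a, ha, ha1⟩ := (bot_or_exists_ne_one W₁).resolve_left h.neW₁
  refine ⟨⟨a, mem_sup_left ha⟩, ha, fun e => ha1 (congrArg Subtype.val e), fun e => ha1 ?_⟩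
  have e' : a * a = 1 := congrArg Subtype.val e
  have h2 : a ^ 2 = 1 := by rwa [sq]
  obtain ⟨k, hk⟩ := h.minSimple.1
  have hn : a ^ Nat.card G = 1 := pow_card_eq_one'
  rwa [hk, pow_succ, pow_mul, h2, one_pow, one_mul] at hn

omit C in
theorem outside_mul {a b : ↥(W₁ ⊔ W₂)} (ha : (a : G) ∈ W₁) (ha1 : a ≠ 1) (hb : (b : G) ∈ W₂) :
    ((a * b : ↥(W₁ ⊔ W₂)) : G) ∉ W₂ := fun hc => by
  refine ha1 ?_
  have ha2 : (a : G) ∈ W₂ := by
    have := mul_mem hc (inv_mem hb)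
    simpa using this
  have : (a : G) ∈ W₁ ⊓ W₂ := ⟨ha, ha2⟩
  rw [snc_disj h.snc, mem_bot] at this
  exact Subtype.ext this

omit C in
/-- The values on `W \ W₂` determine the sign and the linear character. -/
theorem unique_index {a b : ↥(W₁ ⊔ W₂) →* ℂˣ} {s t : ℤ} (hs : s = 1 ∨ s = -1)
    (heq : ∀ w : ↥(W₁ ⊔ W₂), (w : G) ∉ W₂ → (s : ℂ) * (a w : ℂ) = (t : ℂ) * (b w : ℂ)) :
    a = b ∧ s = t := by
  obtain ⟨x, hx, hx1, hx2⟩ := exists_ne_one₁ h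
  have e1 : (s : ℂ) * (a x : ℂ) = t * (b x : ℂ) := by
    have := heq (x * 1) (outside_mul h hx hx1 (one_mem W₂))
    rwa [mul_one] at this
  have e2 : (s : ℂ) * (a (x * x) : ℂ) = t * (b (x * x) : ℂ) := by
    have := heq ((x * x) * 1) (outside_mul h (mul_mem hx hx) hx2 (one_mem W₂))
    rwa [mul_one] at this
  have hs0 : (s : ℂ) ≠ 0 := by rcases hs with rfl | rfl <;> norm_num
  rw [map_mul, map_mul, Units.val_mul, Units.val_mul, ← mul_assoc, ← mul_assoc, ← e1] at e2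
  have hab : (a x : ℂ) = b x := mul_left_cancel₀ (mul_ne_zero hs0 (Units.ne_zero _)) e2
  rw [hab] at e1
  have hst : s = t := by exact_mod_cast mul_right_cancel₀ (Units.ne_zero (b x)) e1
  subst hst
  have heq' : ∀ w : ↥(W₁ ⊔ W₂), (w : G) ∉ W₂ → a w = b w := fun w hw =>
    Units.ext (mul_left_cancel₀ hs0 (heq w hw))
  refine ⟨MonoidHom.ext fun w => ?_, rfl⟩
  by_cases hw : (w : G) ∈ W₂
  · have h1 := heq' (x * w) (outside_mul h hx hx1 hw)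
    rw [map_mul, map_mul, Units.ext hab] at h1
    exact mul_left_cancel h1
  · exact heq' w hw

include C

theorem mem_M (w : ↥(W₁ ⊔ W₂)) : (w : G) ∈ M := h.le_sup w.2

/-- An irreducible character with the values of `(s, a)` on `W \ W₂` is `μ a`. -/
theorem eq_mu {θ : ↥M → ℂ} (hθ : IsIrrCharacter ↥M θ) {a : ↥(W₁ ⊔ W₂) →* ℂˣ} {s : ℤ}
    (hs : s = 1 ∨ s = -1)
    (hv : ∀ (w : ↥(W₁ ⊔ W₂)) (m : ↥M), (m : G) = w → (w : G) ∉ W₂ → θ m = (s : ℂ) * (a w : ℂ)) :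
    θ = mu a ∧ sgn a = s := by
  by_cases hex : ∃ ω, θ = mu ω
  · obtain ⟨ω, rfl⟩ := hex
    obtain ⟨e, e'⟩ := unique_index h hs (a := a) (b := ω) fun w hw => by
      rw [← C.value ω w ⟨w, h.le_sup w.2⟩ rfl hw, ← hv w ⟨w, h.le_sup w.2⟩ rfl hw]
    exact ⟨by rw [e], by rw [e, e']⟩
  · push Not at hex
    exfalso
    obtain ⟨x, hx, hx1, -⟩ := exists_ne_one₁ h
    have hx2 := outside_mul h hx hx1 (b := 1) (one_mem W₂)
    rw [mul_one] at hx2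
    have h0 := C.other θ hθ hex ⟨x, h.le_sup x.2⟩ x.2 hx2
    rw [hv x _ rfl hx2] at h0
    rcases hs with rfl | rfl <;> simp at h0

theorem mu_one : mu 1 = (fun _ => 1) ∧ sgn 1 = 1 := by
  obtain ⟨e1, e2⟩ := C.eq_mu h (isIrrCharacter_one (G := ↥M)) (a := 1) (Or.inl rfl)
    fun w m _ _ => by simp
  exact ⟨e1.symm, e2⟩

/-- Multiplying by a linear character of `M` lifting `φ` moves along the column. -/
theorem exists_twist {φ : ↥(W₁ ⊔ W₂) →* ℂˣ} (hφ : φ ∈ trivOn _ W₂) :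
    ∃ lam : ↥M →* ℂˣ, (∀ m : ↥M, (m : G) ∈ ⁅M, M⁆ → lam m = 1) ∧
      ∀ ω, mu (φ * ω) = (fun m => (lam m : ℂ) * mu ω m) ∧ sgn (φ * ω) = sgn ω := by
  obtain ⟨π, hπ, hker⟩ := h.typePLike.exists_proj
  let ι : ↥(W₁.subgroupOf M) →* ↥(W₁ ⊔ W₂) :=
    (Subgroup.inclusion le_sup_left).comp (subgroupOfEquivOfLe h.le₁).toMonoidHom
  let lam : ↥M →* ℂˣ := φ.comp (ι.comp π)
  refine ⟨lam, fun m hm => ?_, fun ω => ?_⟩
  · show φ (ι (π m)) = 1
    rw [(hker m).2 (mem_subgroupOf.2 hm), map_one, map_one]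
  obtain ⟨e1, e2⟩ := C.eq_mu h (isIrrCharacter_mul_linear ⟨_, C.irr ω⟩ lam)
    (a := φ * ω) (C.sgn_cases ω) fun w m hm hw => by
    show (lam m : ℂ) * mu ω m = _
    have hl : lam m = φ w := by
      obtain ⟨a, b, ha, hb, rfl⟩ := exists_decomp (snc_disj h.snc) (snc_comm h.snc) w
      have hmm : m = (⟨a, h.le_sup a.2⟩ : ↥M) * ⟨b, h.le_sup b.2⟩ := Subtype.ext hm
      show φ (ι (π m)) = _
      rw [hmm, map_mul, (hker ⟨b, h.le_sup b.2⟩).2 (mem_subgroupOf.2 (h.le₂.trans h.sigma_le hb)), mul_one, map_mul,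
        hφ b hb, mul_one]
      refine congrArg φ (Subtype.ext ?_)
      have := hπ ⟨⟨a, h.le_sup a.2⟩, mem_subgroupOf.2 ha⟩
      show ((π ⟨a, h.le_sup a.2⟩ : ↥(W₁.subgroupOf M)) : ↥M).1 = a
      rw [this]
    rw [hl, C.value ω w m hm hw, MonoidHom.mul_apply, Units.val_mul]
    ring
  exact ⟨e1.symm, e2⟩

theorem deg_congr {φ : ↥(W₁ ⊔ W₂) →* ℂˣ} (hφ : φ ∈ trivOn _ W₂) (ω : ↥(W₁ ⊔ W₂) →* ℂˣ) :
    mu (φ * ω) 1 = mu ω 1 ∧ sgn (φ * ω) = sgn ω := by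
  obtain ⟨lam, -, hl⟩ := C.exists_twist h hφ
  obtain ⟨e, e'⟩ := hl ω
  exact ⟨by rw [e]; simp, e'⟩

theorem res_congr {φ : ↥(W₁ ⊔ W₂) →* ℂˣ} (hφ : φ ∈ trivOn _ W₂) (ω : ↥(W₁ ⊔ W₂) →* ℂˣ)
    {m : ↥M} (hm : (m : G) ∈ ⁅M, M⁆) : mu (φ * ω) m = mu ω m := by
  obtain ⟨lam, hl1, hl⟩ := C.exists_twist h hφ
  rw [(hl ω).1]
  simp [hl1 m hm]

theorem twist_pow {k : ℕ} (hk : Nat.Coprime (Nat.card M) k) (ω : ↥(W₁ ⊔ W₂) →* ℂˣ) :
    mu (ω ^ k) = (fun m => mu ω (m ^ k)) ∧ sgn (ω ^ k) = sgn ω := by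
  let _ := Fintype.ofFinite ↥M
  obtain ⟨e1, e2⟩ := C.eq_mu h (isIrrCharacter_powMap hk ⟨_, C.irr ω⟩) (a := ω ^ k)
    (C.sgn_cases ω) fun w m hm hw => by
    show mu ω (m ^ k) = _
    rw [C.value ω (w ^ k) (m ^ k) (by simp [hm]) fun hc => hw ?_, map_pow, MonoidHom.pow_apply]
    have hk' : (Nat.card W₂).Coprime k := hk.coprime_dvd_left
      (card_dvd_of_le (le_sup_right.trans h.le_sup))
    have hord : orderOf (w : G) ∣ Nat.card M := Subgroup.orderOf_dvd_natCard M (h.le_sup w.2)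
    obtain ⟨j, hj⟩ := exists_pow_eq_self_of_coprime (x := (w : G))
      (hk.symm.coprime_dvd_right hord)
    rw [← hj]
    exact pow_mem (by simpa using hc) j
  exact ⟨e1.symm, e2⟩

theorem deg_pow {k : ℕ} (hk : Nat.Coprime (Nat.card M) k) (ω : ↥(W₁ ⊔ W₂) →* ℂˣ) :
    mu (ω ^ k) 1 = mu ω 1 ∧ sgn (ω ^ k) = sgn ω := by
  obtain ⟨e1, e2⟩ := C.twist_pow h hk ω
  exact ⟨by rw [e1]; simp, e2⟩

theorem conj_mu (ω : ↥(W₁ ⊔ W₂) →* ℂˣ) :
    mu ω⁻¹ = Cfsg.conjFun (mu ω) ∧ sgn ω⁻¹ = sgn ω := by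
  let _ := Fintype.ofFinite ↥M
  obtain ⟨e1, e2⟩ := C.eq_mu h (isIrrCharacter_starFun ⟨_, C.irr ω⟩) (a := ω⁻¹)
    (C.sgn_cases ω) fun w m hm hw => by
    show conj (mu ω m) = _
    have hp : ((ω w : ℂˣ) : ℂ) ^ Nat.card ↥(W₁ ⊔ W₂) = 1 := by
      rw [← Units.val_pow_eq_pow_val, ← map_pow, pow_card_eq_one', map_one, Units.val_one]
    rw [C.value ω w m hm hw, map_mul, conj_eq_inv_of_pow_eq_one Nat.card_pos.ne' hp,
      MonoidHom.inv_apply, Units.val_inv_eq_inv_val, map_intCast]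
  exact ⟨e1.symm, e2⟩

/-- Every element of `M` outside `M'` is conjugate to an element of `W \ W₂`. -/
theorem cover {x : ↥M} (hx : (x : G) ∉ ⁅M, M⁆) :
    ∃ n : ↥M, ∃ w : ↥(W₁ ⊔ W₂), (w : G) ∉ W₂ ∧ ((n * x * n⁻¹ : ↥M) : G) = w := by
  classical
  have hT := h.typePLike
  haveI := hT.normal
  set D := (⁅M, M⁆).subgroupOf M with hD
  set V₂ := W₂.subgroupOf M with hV₂
  obtain ⟨k, hk, c, hc, hx'⟩ := hT.exists_factor x
  have hc1 : c ≠ 1 := fun e => hx (mem_subgroupOf.1 (by rw [hx', e, mul_one]; exact hk))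
  let f : ↥D × ↥V₂ → ↥M := fun p => (p.1 : ↥M) * ((p.2 : ↥M) * c) * (p.1 : ↥M)⁻¹
  have hf : ∀ p, f p * c⁻¹ ∈ D := fun p => by
    have e : f p * c⁻¹ = (p.1 : ↥M) * (p.2 : ↥M) * (c * (p.1 : ↥M)⁻¹ * c⁻¹) := by
      simp only [f]; group
    rw [e]
    exact mul_mem (mul_mem p.1.2 (hT.le p.2.2)) (hT.normal.conj_mem _ (inv_mem p.1.2) c)
  let S : Finset ↥M := (Finset.univ : Finset (↥D × ↥V₂)).image f
  let T : Finset ↥M := (Finset.univ : Finset ↥D).image fun d : ↥D => (d : ↥M) * c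
  have hST : S ⊆ T := fun y hy => by
    obtain ⟨p, -, rfl⟩ := Finset.mem_image.1 hy
    exact Finset.mem_image.2 ⟨⟨_, hf p⟩, Finset.mem_univ _, inv_mul_cancel_right _ _⟩
  have hcW : ∀ v : ↥V₂, (v : ↥M) * c ∈ W₁.subgroupOf M ⊔ V₂ := fun v =>
    mul_mem (mem_sup_right v.2) (mem_sup_left hc)
  have hout : ∀ v : ↥V₂, (v : ↥M) * c ∉ V₂ := fun v hv => hc1 (by
    have h2 : c ∈ V₂ := by simpa using mul_mem (inv_mem v.2) hv
    have : c ∈ W₁.subgroupOf M ⊓ V₂ := ⟨hc, h2⟩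
    rw [hT.disj_factors, mem_bot] at this
    exact this)
  have hfib : ∀ y ∈ S, (Finset.univ.filter fun p => f p = y).card ≤ Fintype.card ↥V₂ := by
    intro y hy
    obtain ⟨p₀, -, hp₀⟩ := Finset.mem_image.1 hy
    have hkey : ∀ p, f p = y → ((p₀.1 : ↥M))⁻¹ * (p.1 : ↥M) ∈ V₂ ∧ p.2 = p₀.2 := by
      intro p hp
      set g := ((p₀.1 : ↥M))⁻¹ * (p.1 : ↥M) with hg
      have e : g * ((p.2 : ↥M) * c) * g⁻¹ = (p₀.2 : ↥M) * c := by
        have := hp.trans hp₀.symm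
        simp only [f] at this
        rw [hg]
        calc _ = (p₀.1 : ↥M)⁻¹ * ((p.1 : ↥M) * ((p.2 : ↥M) * c) * (p.1 : ↥M)⁻¹) * p₀.1 := by group
          _ = _ := by rw [this]; group
      have hgW := hT.ti_outside (g := g) (hcW p.2) (hout p.2) (by rw [e]; exact hcW _)
        (by rw [e]; exact hout _)
      have hgD : g ∈ D := mul_mem (inv_mem p₀.1.2) p.1.2
      have hfix : g * ((p.2 : ↥M) * c) * g⁻¹ = (p.2 : ↥M) * c := by
        have := congrArg Subtype.val (hT.comm_sup ⟨g, hgW⟩ ⟨_, hcW p.2⟩)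
        simp only [coe_mul] at this
        rw [this, mul_inv_cancel_right]
      rw [hfix] at e
      refine ⟨?_, Subtype.ext (mul_right_cancel e)⟩
      obtain ⟨a, b, ha, hb, hab⟩ := exists_decomp hT.disj_factors hT.commute_factors ⟨g, hgW⟩
      have hab' : (a : ↥M) * b = g := congrArg Subtype.val hab
      have ha1 : (a : ↥M) ∈ D ⊓ W₁.subgroupOf M := ⟨by
        have := mul_mem hgD (inv_mem (hT.le hb))
        rwa [← hab', mul_inv_cancel_right] at this, ha⟩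
      rw [hT.disj, mem_bot] at ha1
      rw [← hab', ha1, one_mul]
      exact hb
    rw [← Finset.card_univ]
    refine Finset.card_le_card_of_injOn (fun p => if hp : f p = y then ⟨_, (hkey p hp).1⟩ else 1)
      (fun _ _ => Finset.mem_coe.2 (Finset.mem_univ _)) ?_
    intro p hp q hq e
    simp only [Finset.coe_filter, Finset.mem_univ, true_and, Set.mem_setOf_eq] at hp hq
    simp only [dif_pos hp, dif_pos hq, Subtype.mk.injEq, mul_right_inj] at e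
    exact Prod.ext (Subtype.ext e) ((hkey p hp).2.trans (hkey q hq).2.symm)
  have hcount := Finset.card_le_mul_card_image _ _ hfib
  rw [Finset.card_univ, Fintype.card_prod, mul_comm] at hcount
  have hS : T.card ≤ S.card := by
    have h1 : T.card ≤ Fintype.card ↥D := Finset.card_image_le.trans_eq Finset.card_univ
    exact h1.trans (Nat.le_of_mul_le_mul_left hcount Fintype.card_pos)
  have hxT : x ∈ T := Finset.mem_image.2 ⟨⟨k, hk⟩, Finset.mem_univ _, hx'.symm⟩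
  rw [← Finset.eq_of_subset_of_card_le hST hS] at hxT
  obtain ⟨p, -, hp⟩ := Finset.mem_image.1 hxT
  refine ⟨(p.1 : ↥M)⁻¹, ⟨((p.2 : ↥M) * c : ↥M), ?_⟩, fun hc' => hout p.2 (mem_subgroupOf.2 hc'), ?_⟩
  · have := hcW p.2
    rw [h.sup_subgroupOf, mem_subgroupOf] at this
    exact this
  · rw [← hp]
    simp only [f]
    congr 1
    group

/-- A column vanishes outside `M'`. -/
theorem col_eq_zero {ψ : ↥(W₁ ⊔ W₂) →* ℂˣ} {m : ↥M} (hm : (m : G) ∉ ⁅M, M⁆) :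
    colSum mu ψ m = 0 := by
  classical
  obtain ⟨n, w, hw, hnw⟩ := C.cover h hm
  haveI := finite_dual (K := ↥(W₁ ⊔ W₂))
  let _ := Fintype.ofFinite (trivOn (W₁ ⊔ W₂) W₂)
  have hterm : ∀ φ ∈ dualFin (W₁ ⊔ W₂) W₂,
      mu (φ * ψ) m = ((φ w : ℂˣ) : ℂ) * ((sgn ψ : ℂ) * ((ψ w : ℂˣ) : ℂ)) := by
    intro φ hφ
    rw [← isClassFunction_of_isCharacter (isCharacter_of_isIrr (C.irr (φ * ψ))) m n,
      C.value (φ * ψ) w _ hnw hw, (C.deg_congr h (mem_dualFin.1 hφ) ψ).2, MonoidHom.mul_apply,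
      Units.val_mul]
    ring
  rw [colSum, Finset.sum_apply, Finset.sum_congr rfl hterm, ← Finset.sum_mul,
    Finset.sum_subtype (dualFin (W₁ ⊔ W₂) W₂)
      (p := fun x => x ∈ trivOn (W₁ ⊔ W₂) W₂) (fun x => mem_dualFin)
      (fun φ => ((φ w : ℂˣ) : ℂ)),
    sum_trivOn_snd (snc_disj h.snc) (snc_comm h.snc) (snc_mul_comm_fst h.snc) hw, zero_mul]

/-- `μ ω` vanishes at the elements of `M'` that act regularly on `M_σ`, unless `ω` is trivial on `W₂`. -/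
theorem mu_eq_zero {ω : ↥(W₁ ⊔ W₂) →* ℂˣ} (hω : ω ∉ trivOn (W₁ ⊔ W₂) W₂) {x : ↥M}
    (hx : Cfsg.sigmaCore M ⊓ centralizer ({(x : G)} : Set G) = ⊥) : mu ω x = 0 := by
  obtain ⟨n, ρ, hρ, hχ⟩ := C.irr ω
  rw [← hχ]
  haveI := hρ
  haveI : ((Cfsg.sigmaCore M).subgroupOf M).Normal :=
    normal_subgroupOf_of_le_normalizer (CfsgLib.CFun.TauTwo.sigmaCore_normal h.minSimple M)
  refine char_eq_zero_of_fpf ρ ((Cfsg.sigmaCore M).subgroupOf M) ?_ x fun y hy hc => ?_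
  · by_contra hk
    push Not at hk
    refine hω fun w hw => ?_
    obtain ⟨a, ha, ha1, -⟩ := exists_ne_one₁ h
    have ha2 := outside_mul h ha ha1 hw
    have ha0 := outside_mul h ha ha1 (b := 1) (one_mem W₂)
    rw [mul_one] at ha0
    have e1 := C.value ω a ⟨a, h.le_sup a.2⟩ rfl ha0
    have e2 := C.value ω (a * w) (⟨a, h.le_sup a.2⟩ * ⟨w, h.le_sup w.2⟩) rfl ha2
    have hker := hk ⟨w, h.le_sup w.2⟩ (mem_subgroupOf.2 (h.le₂ hw))
    have e3 : mu ω (⟨a, h.le_sup a.2⟩ * ⟨w, h.le_sup w.2⟩) = mu ω ⟨a, h.le_sup a.2⟩ := by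
      rw [← hχ]
      simp only [Representation.character, map_mul, hker]
      rfl
    rw [e2, e1, map_mul, Units.val_mul, ← mul_assoc] at e3
    have hs0 : (sgn ω : ℂ) * (ω a : ℂ) ≠ 0 := by
      refine mul_ne_zero ?_ (Units.ne_zero _)
      rcases C.sgn_cases ω with q | q <;> simp [q]
    exact Units.ext ((mul_right_eq_self₀.mp e3).resolve_right hs0)
  · have : (y : G) ∈ Cfsg.sigmaCore M ⊓ centralizer ({(x : G)} : Set G) :=
      ⟨mem_subgroupOf.1 hy, mem_centralizer_singleton_iff.2 (congrArg Subtype.val hc)⟩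
    rw [hx, mem_bot] at this
    exact Subtype.ext this

end IsCols

end CfsgLib.FT.Rect
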