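import Cfsg.Agent.Lib.FT.NotTypeIIISplit
import Cfsg.Agent.Lib.FT.RectMu
import Cfsg.Agent.Lib.FT.Basic
import Cfsg.Agent.Lib.FT.FamilyBasic

/-!
# The degree of the exceptional columns for types III and IV

A character of `P` over `C_P(D)` fixed by `W` extends to `T W` and induces an irreducible character of
degree `ubar`; this degree being prime to `e`, it is one of the `μ_ij`, `j ≠ 0`.
-/

set_option autoImplicit false
set_option linter.unusedSectionVars false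
set_option linter.style.haveILetI false

namespace CfsgLib.FT

open Subgroup CfsgLib.Char Cfsg
open scoped ComplexConjugate

universe u

/-- Mackey's criterion for a linear character. -/
theorem isIrr_indFun_lc {L : Type u} [Group L] [Fintype L] (H : Subgroup L) [Fintype H]
    (χ : ↥H →* ℂˣ)
    (hsep : ∀ x : L, x ∉ H → ∃ (y : L) (hy : y ∈ H) (hy' : x⁻¹ * y * x ∈ H), χ ⟨y, hy⟩ ≠ χ ⟨_, hy'⟩) :
    IsIrrCharacter L (indFun H (lc χ)) := by
  classical
  have hc : IsCharacter L (indFun H (lc χ)) :=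
    isCharacter_indFun H (isCharacter_of_isIrr (isIrrCharacter_lc _))
  refine isIrr_of_isCharacter_norm_one hc ?_
  rw [classInner_indFun H _ _ (isClassFunction_of_isCharacter hc)]
  set F : L → ↥H → ℂ := fun x t => lc χ t * conj (extendByZero H (lc χ) (x⁻¹ * (t : L) * x)) with hF
  have hin : ∀ x ∈ H, ∀ t, F x t = 1 := by
    intro x hx t
    have hm : x⁻¹ * (t : L) * x ∈ H := mul_mem (mul_mem (inv_mem hx) t.2) hx
    simp only [hF, extendByZero_mem H _ hm, lc_apply]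
    rw [show (⟨x⁻¹ * (t : L) * x, hm⟩ : H) = ⟨x, hx⟩⁻¹ * t * ⟨x, hx⟩ from Subtype.ext rfl, map_mul,
      map_mul, map_inv, inv_mul_cancel_comm, conj_hom, MonoidHom.inv_apply, ← Units.val_mul,
      mul_inv_cancel, Units.val_one]
  have hout : ∀ x, x ∉ H → ∑ t, F x t = 0 := by
    intro x hx
    obtain ⟨y, hy, hy', hne⟩ := hsep x hx
    set c : ℂ := (χ ⟨y, hy⟩ : ℂ) * conj (χ ⟨_, hy'⟩ : ℂ) with hcdef
    have hc1 : c ≠ 1 := fun e => hne (Units.ext (by
      rw [hcdef, conj_hom, MonoidHom.inv_apply, Units.val_inv_eq_inv_val] at e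
      exact mul_inv_eq_one₀ (Units.ne_zero _) |>.1 e))
    have hstep : ∀ t, F x (t * ⟨y, hy⟩) = c * F x t := by
      intro t
      have e1 : x⁻¹ * ((t * ⟨y, hy⟩ : H) : L) * x = x⁻¹ * (t : L) * x * (x⁻¹ * y * x) := by
        rw [Subgroup.coe_mul]; group
      by_cases hm : x⁻¹ * (t : L) * x ∈ H
      · simp only [hF, e1, extendByZero_mem H _ hm, extendByZero_mem H _ (mul_mem hm hy'), lc_apply,
          map_mul, Units.val_mul]
        rw [show (⟨_, mul_mem hm hy'⟩ : H) = ⟨_, hm⟩ * ⟨_, hy'⟩ from Subtype.ext rfl, map_mul,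
          Units.val_mul, map_mul, hcdef]
        ring
      · have hm' : x⁻¹ * (t : L) * x * (x⁻¹ * y * x) ∉ H := fun h => hm ((mul_mem_cancel_right hy').1 h)
        simp only [hF, e1, extendByZero_not_mem H _ hm, extendByZero_not_mem H _ hm', map_zero, mul_zero]
    have e2 : ∑ t, F x t = c * ∑ t, F x t := by
      rw [Finset.mul_sum, ← Finset.sum_congr rfl fun t _ => hstep t]
      exact (Fintype.sum_equiv (Equiv.mulRight (⟨y, hy⟩ : H)) _ _ fun _ => rfl).symm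
    exact (mul_eq_zero.1 (show (c - 1) * ∑ t, F x t = 0 by linear_combination -e2)).resolve_left
      (sub_ne_zero.2 hc1)
  have hall : ∀ x, ∑ t, F x t = if x ∈ H then (Nat.card H : ℂ) else 0 := fun x => by
    split_ifs with hx
    · rw [Finset.sum_congr rfl fun t _ => hin x hx t, Finset.sum_const, Finset.card_univ, nsmul_one,
        Nat.card_eq_fintype_card]
    · exact hout x hx
  have e : ∑ t : H, lc χ t * conj (indFun H (lc χ) t) = Nat.card H := by
    simp only [indFun, map_mul, map_inv₀, map_natCast, map_sum]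
    rw [Finset.sum_congr rfl fun t _ =>
      show lc χ t * ((Nat.card H : ℂ)⁻¹ * ∑ x : L, conj (extendByZero H (lc χ) (x⁻¹ * (t : L) * x))) =
        (Nat.card H : ℂ)⁻¹ * ∑ x : L, F x t by rw [mul_left_comm, Finset.mul_sum (a := lc χ t)],
      ← Finset.mul_sum, Finset.sum_comm, Finset.sum_congr rfl fun x _ => hall x, Finset.sum_ite,
      Finset.sum_const, Finset.sum_const_zero, add_zero, nsmul_eq_mul,
      show (Finset.univ.filter fun x : L => x ∈ H).card = Nat.card H by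
        rw [Nat.card_eq_fintype_card, ← Fintype.card_subtype]]
    field_simp
  unfold classInner
  rw [e]
  exact inv_mul_cancel₀ (Nat.cast_ne_zero.2 Nat.card_pos.ne')

namespace Regular

variable {L : Type u} [Group L] [Finite L] {Kc W W₂ P D : Subgroup L} {p e : ℕ}
  (h : Sect Kc W W₂ P D p e)
include h

/-- A non-trivial character of `P` over `C_P(D)` fixed by `W`. -/
theorem Sect.exists_fixed : ∃ l ∈ secDual P D, l ≠ 1 ∧ ∀ c ∈ W, h.act c l = l := by
  classical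
  haveI : Fintype W := Fintype.ofFinite _
  obtain ⟨w, hw, hw1⟩ := (Subgroup.bot_or_exists_ne_one W₂).resolve_left h.like.ne₂
  have hwP : w ∈ P := h.fix hw
  obtain ⟨l₀, hl₀, hl₀w⟩ : ∃ l ∈ secDual P D, l (⟨w, hwP⟩ : P) ≠ 1 := by
    by_contra hc
    push Not at hc
    have hz : w ∈ W₂ ⊓ pZero P D := ⟨hw, h.dual_facts.2 ⟨w, hwP⟩ hc⟩
    rw [h.inf, mem_bot] at hz
    exact hw1 hz
  let φ : L → (↥P →* ℂˣ) →* (↥P →* ℂˣ) := fun c =>
    { toFun := h.act c, map_one' := h.act_map_one c, map_mul' := h.act_map_mul c }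
  refine ⟨∏ c : W, h.act c l₀, Subgroup.prod_mem _ fun c _ => h.act_mem c hl₀, fun e1 => hl₀w ?_,
    fun c hc => ?_⟩
  · have hval : ∀ c : W, h.act c l₀ ⟨w, hwP⟩ = l₀ ⟨w, hwP⟩ := fun c => by
      rw [h.act_apply]
      congr 1
      refine Subtype.ext ?_
      show (c : L)⁻¹ * w * c = w
      rw [mul_assoc, ← h.like.commute_factors c c.2 w hw, inv_mul_cancel_left]
    have e2 := DFunLike.congr_fun e1 ⟨w, hwP⟩
    rw [MonoidHom.finsetProd_apply, Finset.prod_congr rfl fun c _ => hval c, Finset.prod_const,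
      Finset.card_univ, ← Nat.card_eq_fintype_card, h.cardW, MonoidHom.one_apply] at e2
    have e3 : l₀ ⟨w, hwP⟩ ^ p = 1 := DFunLike.congr_fun (h.dual_pow hl₀) ⟨w, hwP⟩
    have hcop : e.Coprime p := by
      rw [← h.cardW, ← h.cardW₂]; exact h.like.coprime_card_two
    exact orderOf_eq_one_iff.1 (Nat.eq_one_of_dvd_coprimes hcop (orderOf_dvd_of_pow_eq_one e2)
      (orderOf_dvd_of_pow_eq_one e3))
  · refine (map_prod (φ c) _ _).trans ?_
    exact Fintype.prod_equiv (Equiv.mulLeft (⟨c, hc⟩ : W)) _ _ fun x => (h.act_mul c x l₀).symm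

/-- An irreducible character of degree `ubar`. -/
theorem Sect.exists_irr_ubar : ∃ θ : L → ℂ, IsIrrCharacter L θ ∧ θ 1 = (ubar P D : ℂ) := by
  classical
  haveI : Fintype L := Fintype.ofFinite _
  haveI := h.stab_normal
  obtain ⟨l, hl, hl1, hfix⟩ := h.exists_fixed
  obtain ⟨w, hw, hw1, -, -⟩ := h.exists_gen
  have hreg := h.ubar_facts.2.2.2.2.2 l hl hl1 w hw hw1 (hfix w hw)
  obtain ⟨L', hL', hL'D⟩ := h.exists_ext l
  have hinv : ∀ c ∈ W, ∀ t : h.stab, ∀ ht : c * (t : L) * c⁻¹ ∈ h.stab, L' ⟨_, ht⟩ = L' t := by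
    intro c hc t ht
    obtain ⟨a, ha, b, hb, hbC, hab⟩ := h.stab_decomp t.2
    have hbs : b ∈ h.stab := by
      rw [show b = a⁻¹ * (t : L) by rw [hab, inv_mul_cancel_left]]
      exact mul_mem (inv_mem (h.le_stab ha)) t.2
    have ha' : c * a * c⁻¹ ∈ P := h.normal.conj_mem a ha c
    have hb' : c * b * c⁻¹ ∈ D := (mem_normalizer_iff.1 (h.invD hc) b).1 hb
    have hbs' : c * b * c⁻¹ ∈ h.stab := h.stab_normal.conj_mem b hbs c
    rw [show (⟨_, ht⟩ : h.stab) = ⟨_, h.le_stab ha'⟩ * ⟨_, hbs'⟩ from Subtype.ext (by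
        show c * (t : L) * c⁻¹ = c * a * c⁻¹ * (c * b * c⁻¹)
        rw [hab]; group),
      show t = ⟨a, h.le_stab ha⟩ * ⟨b, hbs⟩ from Subtype.ext hab, map_mul, map_mul,
      hL'D ⟨_, hbs'⟩ hb', hL'D ⟨_, hbs⟩ hb, hL' ⟨_, ha'⟩, hL' ⟨a, ha⟩]
    have e1 := DFunLike.congr_fun (hfix c⁻¹ (inv_mem hc)) (⟨a, ha⟩ : P)
    rw [h.act_apply] at e1
    rw [← e1]
    congr 2
    exact Subtype.ext (show c * a * c⁻¹ = c⁻¹⁻¹ * a * c⁻¹ by rw [inv_inv])
  obtain ⟨π, hπ, hker⟩ := h.like.exists_proj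
  set H : Subgroup L := h.stab ⊔ W with hH
  have hπt : ∀ t ∈ h.stab, π t = 1 := fun t ht => (hker t).2 ht.1
  have hmem : ∀ x : H, (x : L) * ((π x : W) : L)⁻¹ ∈ h.stab := by
    rintro ⟨x, hx⟩
    obtain ⟨t, ht, c, hc, rfl⟩ := Subgroup.mem_sup_of_normal_left.1 hx
    show t * c * ((π (t * c) : W) : L)⁻¹ ∈ h.stab
    rw [map_mul, hπt t ht, one_mul, show π c = (⟨c, hc⟩ : W) from hπ ⟨c, hc⟩, mul_inv_cancel_right]
    exact ht
  let χ : ↥H →* ℂˣ :=
    { toFun := fun x => L' ⟨_, hmem x⟩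
      map_one' := by
        rw [show (⟨_, hmem 1⟩ : h.stab) = 1 from Subtype.ext (by simp), map_one]
      map_mul' := fun x y => by
        rw [← hinv ((π x : W) : L) (π x).2 ⟨_, hmem y⟩ (h.stab_normal.conj_mem _ (hmem y) _), ← map_mul]
        congr 1
        refine Subtype.ext ?_
        simp only [Subgroup.coe_mul, map_mul]
        group }
  have hPH : ∀ y ∈ P, y ∈ H := fun y hy => mem_sup_left (h.le_stab hy)
  have hχP : ∀ (y : L) (hy : y ∈ P), χ ⟨y, hPH y hy⟩ = l ⟨y, hy⟩ := by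
    intro y hy
    refine (congrArg L' (Subtype.ext ?_)).trans (hL' ⟨y, hy⟩)
    show y * ((π y : W) : L)⁻¹ = y
    rw [hπt y (h.le_stab hy)]
    simp
  haveI : Fintype H := Fintype.ofFinite _
  have hidx : H.index = ubar P D := by
    have e1 := Subgroup.relIndex_mul_index (H := h.stab) (K := H) le_sup_left
    rw [h.index_stab, hH, sup_comm, Subgroup.relIndex_sup_right, sup_comm,
      ← Subgroup.inf_relIndex_right, show h.stab ⊓ W = ⊥ from eq_bot_iff.2 fun x hx =>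
        h.like.disj.le ⟨hx.1.1, hx.2⟩, relIndex_bot_left, h.cardW] at e1
    exact Nat.eq_of_mul_eq_mul_left h.primeE.pos e1
  refine ⟨indFun H (lc χ), isIrr_indFun_lc H χ fun x hx => ?_, by
    rw [indFun_one, hidx]; simp [lc]⟩
  by_contra hc
  push Not at hc
  refine hx ?_
  have hax : h.act x l = l := MonoidHom.ext fun y => by
    have hy' : x⁻¹ * (y : L) * x ∈ P := by simpa using h.normal.conj_mem _ y.2 x⁻¹
    have := hc y (hPH y y.2) (hPH _ hy')
    rw [hχP _ y.2, hχP _ hy'] at this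
    rw [h.act_apply, this]
  obtain ⟨k, hk, c, hcW, rfl⟩ := h.like.exists_factor x
  rw [h.act_mul, hfix c hcW] at hax
  exact mul_mem (mem_sup_left ⟨hk, hreg.2.2 k hk hax⟩) (mem_sup_right hcW)

end Regular

namespace TypeIII

open Rect

variable {G : Type u} [Group G] [Fintype G] {S W₁ W₂ : Subgroup G}
variable {mu : (↥(W₁ ⊔ W₂) →* ℂˣ) → (↥S → ℂ)} {sgn : (↥(W₁ ⊔ W₂) →* ℂˣ) → ℤ}

/-- The facts used, with `d` the degree of the columns. -/
theorem side_facts (h : Kappa S W₁ ⊥ W₂) (hne : Cfsg.fittingHallOf S ≠ Cfsg.sigmaCore S)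
    (C : IsCols S W₁ W₂ mu sgn) :
    (Nat.card W₁).Prime ∧ (Nat.card W₂).Prime ∧ FpfAb S ∧ eIndex S = Nat.card W₁ ∧
    ∃ d : ℕ, Odd d ∧ 2 * Nat.card W₁ + 1 ≤ d ∧ d ≤ kZero S ∧
      (∀ ψ ∈ trivOn (W₁ ⊔ W₂) W₁, ψ ≠ 1 → mu ψ 1 = (d : ℂ)) ∧
      (d = ∑ i ∈ Finset.range (Nat.card W₁), Nat.card W₂ ^ i ∨
        ∃ (m : ℕ) (φ : Fin m → S → ℂ), Function.Injective φ ∧
          (∀ k, Cfsg.IsIrrCharacter S (φ k) ∧ φ k 1 = ((Nat.card W₁ * d : ℕ) : ℂ) ∧
            ∀ x : S, (x : G) ∉ Cfsg.sigmaCore S → φ k x = 0) ∧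
          3 * (Nat.card W₂ - 1) ≤ (Nat.card W₂ - 1) + Nat.card W₁ * m) := by
  classical
  obtain ⟨he, hp, P, D, hS⟩ := exists_sect h hne
  obtain ⟨hodd, hmod, h2e, hk, -, -⟩ := hS.ubar_facts
  haveI : Fintype S := Fintype.ofFinite _
  refine ⟨he, hp, TypeV.Parts.fpfAb h rfl he, TypeV.Parts.eIndex_eq₁ h, Regular.ubar P D, hodd, h2e, ?_,
    ?_, hS.full_or_chars⟩
  · refine hk.trans (le_of_eq ?_)
    have hσS : Cfsg.sigmaCore S ≤ S := map_subtype_le _
    rw [← relIndex_map_map_of_injective _ _ S.subtype_injective, map_commutator,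
      map_subgroupOf_eq_of_le hσS]
    rfl
  intro ψ hψ hψ1
  obtain ⟨θ, hθ, hθ1⟩ := hS.exists_irr_ubar
  obtain ⟨ω, rfl⟩ : ∃ ω, θ = mu ω := by
    by_contra hno
    push Not at hno
    obtain ⟨w, hw, hw1⟩ := (Subgroup.bot_or_exists_ne_one W₁).resolve_left h.neW₁
    have hwW₂ : w ∉ W₂ := fun hc => by
      have : w ∈ W₁ ⊓ W₂ := ⟨hw, hc⟩
      rw [snc_disj h.snc, mem_bot] at this
      exact hw1 this
    have h0 := C.other θ hθ hno ⟨w, h.le₁ hw⟩ (mem_sup_left hw) hwW₂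
    have c := cong_mul_of_pow_prime he (isGeneralizedCharacter_of_isCharacter (isCharacter_of_isIrr hθ))
      (k := 1) (x := (⟨w, h.le₁ hw⟩ : S)) (y := 1)
      (Subtype.ext (by
        rw [pow_one]
        simpa [-Nat.card_eq_fintype_card, -pow_card_eq_one', Subgroup.coe_pow] using
          congrArg Subtype.val (pow_card_eq_one' (x := (⟨w, hw⟩ : W₁)))))
      (Commute.one_right _)
    rw [mul_one, h0, hθ1] at c
    have hd := (show Cong (Nat.card W₁) ((0 : ℤ) : ℂ) ((Regular.ubar P D : ℤ) : ℂ) by simpa using c).dvd he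
    rw [zero_sub, dvd_neg, Int.natCast_dvd_natCast] at hd
    exact he.not_dvd_one ((Nat.ModEq.dvd_iff hmod dvd_rfl).1 hd)
  obtain ⟨a, ha, b, hb, rfl⟩ := exists_trivOn_mul (snc_disj h.snc) (snc_comm h.snc) ω
  rw [(C.deg_congr h ha b).1] at hθ1
  rcases eq_or_ne b 1 with rfl | hb1
  · rw [(C.mu_one h).1] at hθ1
    change (1 : ℂ) = _ at hθ1
    have : Regular.ubar P D = 1 := by exact_mod_cast hθ1.symm
    have := he.pos
    omega
  rw [C.deg_eq_of_prime h hp hb hb1 hψ hψ1, hθ1]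

end TypeIII

end CfsgLib.FT
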