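import Cfsg.Agent.Lib.FT.FamilyImage

/-!
# Parity for non-conjugate maximal subgroups, and larger members of a family (`docs/FT.md`, §0)
-/

set_option autoImplicit false
set_option linter.unusedSectionVars false
set_option linter.style.haveILetI false

open Subgroup

namespace CfsgLib.FT

open CfsgLib.CFun CfsgLib.Char
open Cfsg (IsClassFunction IsGeneralizedCharacter IsCharacter IsIrrCharacter IrrCharacter classInner
  sigmaCore IsMinSimpleOddOrder)
open scoped ComplexConjugate

universe u

variable {G : Type u} [Group G] [Fintype G]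

theorem conj_classInner_generalized {f g : G → ℂ} (hf : IsGeneralizedCharacter G f)
    (hg : IsGeneralizedCharacter G g) : classInner g f = classInner f g := by
  obtain ⟨z, hz⟩ := classInner_generalized_int hf hg
  rw [← classInner_conj f g, hz, map_intCast]

/-- For orthogonal `θ_i = 1 + Δ_i + ξ_i` with real `Δ_i`, `(ξ₁,θ₂) + (ξ₂,θ₁) - (ξ₁,ξ₂)` is odd. -/
theorem parity_core (hodd : Odd (Nat.card G)) {θ₁ θ₂ ξ₁ ξ₂ : G → ℂ}
    (h1 : IsGeneralizedCharacter G θ₁) (h2 : IsGeneralizedCharacter G θ₂)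
    (k1 : IsGeneralizedCharacter G ξ₁) (k2 : IsGeneralizedCharacter G ξ₂)
    (r1 : Cfsg.conjFun (θ₁ - ξ₁) = θ₁ - ξ₁) (r2 : Cfsg.conjFun (θ₂ - ξ₂) = θ₂ - ξ₂)
    (o1 : classInner θ₁ (fun _ => 1) = 1) (o2 : classInner θ₂ (fun _ => 1) = 1)
    (p1 : classInner ξ₁ (fun _ => 1) = 0) (p2 : classInner ξ₂ (fun _ => 1) = 0)
    (horth : classInner θ₁ θ₂ = 0) :
    ∃ z : ℤ, classInner ξ₁ θ₂ + classInner ξ₂ θ₁ - classInner ξ₁ ξ₂ = ((2 * z + 1 : ℤ) : ℂ) := by
  have hone : IsGeneralizedCharacter G (fun _ : G => (1 : ℂ)) :=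
    isGeneralizedCharacter_of_isCharacter (isCharacter_of_isIrr isIrrCharacter_one)
  let D₁ := θ₁ - ξ₁ - fun _ => 1
  let D₂ := θ₂ - ξ₂ - fun _ => 1
  have hg1 : IsGeneralizedCharacter G D₁ :=
    isGeneralizedCharacter_sub (isGeneralizedCharacter_sub h1 k1) hone
  have hg2 : IsGeneralizedCharacter G D₂ :=
    isGeneralizedCharacter_sub (isGeneralizedCharacter_sub h2 k2) hone
  have hr : ∀ {t x : G → ℂ}, Cfsg.conjFun (t - x) = t - x →
      Cfsg.conjFun (t - x - fun _ => 1) = t - x - fun _ => 1 := fun {t x} r => funext fun g => by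
    have := congrFun r g
    simp only [Cfsg.conjFun, Pi.sub_apply] at this ⊢
    rw [map_sub, this, map_one]
  have hD1 : classInner D₁ (fun _ => 1) = 0 := by
    simp only [D₁, classInner_sub_left, o1, p1, classInner_irr_self (⟨_, isIrrCharacter_one⟩ : IrrCharacter G)]
    ring
  obtain ⟨k, hk⟩ := even_inner_of_real hodd hg1 hg2 (hr r1) (hr r2) hD1
  refine ⟨-k - 1, ?_⟩
  have e1 : θ₁ = D₁ + ξ₁ + fun _ => 1 := by simp only [D₁]; abel
  have e2 : θ₂ = D₂ + ξ₂ + fun _ => 1 := by simp only [D₂]; abel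
  have hD2 : classInner (fun _ => (1 : ℂ)) D₂ = 0 := by
    rw [← classInner_conj]
    simp only [D₂, classInner_sub_left, o2, p2, classInner_irr_self (⟨_, isIrrCharacter_one⟩ : IrrCharacter G)]
    simp
  have hx1 : classInner (fun _ => (1 : ℂ)) ξ₂ = 0 := by rw [← classInner_conj, p2, map_zero]
  have h11 := classInner_irr_self (⟨_, isIrrCharacter_one⟩ : IrrCharacter G)
  rw [e1, e2] at horth
  simp only [classInner_add_left, classInner_add_right, hD1, p1, hD2, hx1, hk, h11] at horth
  conv_lhs => rw [e1, e2]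
  simp only [classInner_add_right, p1, p2, conj_classInner_generalized hg1 k2,
    conj_classInner_generalized k1 k2]
  push_cast
  push_cast at horth
  linear_combination horth

namespace Family

variable (hG : IsMinSimpleOddOrder G) {M : Subgroup G} (hM : FpfAb M) (FM : Family M)
include hG hM

theorem psi_even {f : G → ℂ} (hf : IsGeneralizedCharacter G f) (hr : Cfsg.conjFun f = f)
    (h1 : classInner f (fun _ => 1) = 0) (ho : classInner f FM.tht = 0) :
    ∃ z : ℤ, classInner FM.psi f = ((2 * z : ℤ) : ℂ) := by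
  obtain ⟨k, hk⟩ := even_inner_of_real hG.1 hf (FM.delta_gen hG hM) hr (FM.delta_conj hG hM) h1
  rw [FM.tht_eq, classInner_sub_right, classInner_add_right, classInner_smul_right, eps_conj, hk,
    show (1 : G → ℂ) = fun _ => 1 from rfl, h1, zero_add] at ho
  refine ⟨FM.ε * k, ?_⟩
  rw [conj_classInner_generalized hf FM.psi_gen]
  push_cast
  push_cast at ho
  linear_combination -(FM.ε : ℂ) * ho - classInner f FM.psi * FM.eps_sq

/-- `(μ_i, f) = 0` for anti-real, and independence of `i` for any function orthogonal to the differences. -/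
theorem inner_mu_const {f : G → ℂ} (ho : ∀ i l : Member M, classInner (tau M (i.1 - l.1)) f = 0)
    (i j : Member M) : classInner (FM.μ i : G → ℂ) f = classInner (FM.μ j : G → ℂ) f := by
  have h := ho i j
  rw [FM.image, classInner_smul_left, classInner_sub_left, mul_eq_zero, sub_eq_zero] at h
  exact h.resolve_left (left_ne_zero_of_mul_eq_one FM.eps_sq)

/-- `γ = τ(φ - p φ₀)` for a larger member `φ` has norm `p² + 1`, and pairs with the differences. -/
theorem exists_extra {φ : M → ℂ} (hφ : IsIrrCharacter M φ)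
    (hv : ∀ x : M, (x : G) ∉ sigmaCore M → φ x = 0) {p : ℕ} (hp : 2 ≤ p)
    (hd : φ 1 = (p : ℂ) * eIndex M) (hn : 2 * p < Nat.card (Member M)) :
    ∃ (δ : ℤ) (ν : IrrCharacter G), (δ = 1 ∨ δ = -1) ∧ ν ∉ Set.range FM.μ ∧
      (ν : G → ℂ) ≠ (fun _ => 1) ∧
      tau M (φ - (p : ℂ) • FM.base.1) = (δ : ℂ) • (ν : G → ℂ) - ((p : ℂ) * FM.ε) • FM.psi := by
  classical
  haveI := member_finite hG hM
  haveI := Fintype.ofFinite (Member M)
  haveI := Fintype.ofFinite M
  haveI := Fintype.ofFinite (IrrCharacter G)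
  set α := φ - (p : ℂ) • FM.base.1 with hα
  let φ' : IrrCharacter M := ⟨φ, hφ⟩
  have hαc : IsClassFunction M α := fun x y => by
    simp only [α, Pi.sub_apply, Pi.smul_apply, member_class hG FM.base x y,
      isClassFunction_irr φ' x y]
    exact congrArg₂ _ (isClassFunction_irr φ' x y) rfl
  have hαg : IsGeneralizedCharacter M α := by
    refine isGeneralizedCharacter_sub (isGeneralizedCharacter_of_isCharacter (isCharacter_irr φ')) ?_
    have := isGeneralizedCharacter_zsmul (member_gen hG FM.base) (p : ℤ)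
    rwa [Int.cast_natCast] at this
  have hαs : SharpSupp M α := by
    intro x hx
    by_cases hxs : (x : G) ∈ sigmaCore M
    · have hx1 : x = 1 := Subtype.ext (by_contra fun h => hx ⟨hxs, h⟩)
      simp [α, hx1, hd, member_one]
    · simp [α, hv x hxs, member_vanish hG FM.base hxs]
  have hne : ∀ i : Member M, classInner φ i.1 = 0 := fun i =>
    classInner_irr_ne (χ := φ') (ψ := ⟨i.1, member_irr hG hM i⟩) fun e => by
      have h := congrFun (congrArg Subtype.val e) 1
      change φ 1 = i.1 1 at h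
      rw [hd, member_one, mul_eq_right₀ (by exact_mod_cast eIndex_pos.ne')] at h
      norm_cast at h
      omega
  have hαn : classInner α α = (p : ℂ) ^ 2 + 1 := by
    simp only [α, classInner_sub_left, classInner_sub_right, classInner_smul_left, classInner_smul_right,
      hne, ← classInner_conj φ FM.base.1, member_self hG hM, map_zero, map_natCast,
      classInner_irr_self φ', show classInner φ φ = 1 from classInner_irr_self φ']
    ring
  have hγg := tau_gen hG hM.coatom hαg hαs
  have hγn : classInner (tau M α) (tau M α) = (p : ℂ) ^ 2 + 1 := by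
    rw [tau_inner hG hM.coatom hαc hαs hαc, hαn]
  obtain ⟨m, hm, hexp, hnorm⟩ := generalized_expand hγg
  have hμ : ∀ i, i ≠ FM.base → m (FM.μ i) = m (FM.μ FM.base) + FM.ε * p := by
    intro i hi
    have h := tau_inner hG hM.coatom hαc hαs (β := i.1 - FM.base.1) fun x y => by
      simp only [Pi.sub_apply, member_class hG i x y, member_class hG FM.base x y]
    rw [FM.image, classInner_smul_right, classInner_sub_right, hm, hm, eps_conj] at h
    simp only [α, classInner_sub_left, classInner_sub_right, classInner_smul_left, hne,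
      member_self hG hM, member_orth hG hM (Ne.symm hi)] at h
    apply Int.cast_injective (α := ℂ)
    push_cast
    linear_combination (FM.ε : ℂ) * h - ((m (FM.μ i) : ℂ) - m (FM.μ FM.base)) * FM.eps_sq
  set y := m (FM.μ FM.base) + FM.ε * p with hy
  have htot : ∑ χ, m χ ^ 2 = (p : ℤ) ^ 2 + 1 := by
    have h := hnorm.symm.trans hγn
    exact_mod_cast h
  set R : Finset (IrrCharacter G) := Finset.univ.image FM.μ with hR
  have hRsum : ∑ χ ∈ R, m χ ^ 2 = (Nat.card (Member M) : ℤ) * y ^ 2 - 2 * y * FM.ε * p + (p : ℤ) ^ 2 := by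
    have he : FM.ε * FM.ε = 1 := by rcases FM.sign with e | e <;> simp [e]
    rw [hR, Finset.sum_image fun a _ b _ h => FM.inj h, ← Finset.add_sum_erase _ _ (Finset.mem_univ FM.base),
      Finset.sum_congr rfl (g := fun _ => y ^ 2) fun i hi => by rw [hμ i (Finset.mem_erase.1 hi).1],
      Finset.sum_const, Finset.card_erase_of_mem (Finset.mem_univ _), Finset.card_univ, nsmul_eq_mul,
      ← Nat.card_eq_fintype_card, Nat.cast_sub (by omega)]
    rw [show m (FM.μ FM.base) = y - FM.ε * p by rw [hy]; ring]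
    push_cast
    linear_combination (p : ℤ) ^ 2 * he
  have hn2 : 2 * p + 2 ≤ Nat.card (Member M) := by
    obtain ⟨r, hr⟩ := even_card hG hM
    omega
  have hy0 : y = 0 := by
    by_contra hy0
    have hle : ∑ χ ∈ R, m χ ^ 2 ≤ (p : ℤ) ^ 2 + 1 := htot ▸
      Finset.sum_le_sum_of_subset_of_nonneg (Finset.subset_univ R) fun _ _ _ => sq_nonneg _
    rw [hRsum] at hle
    have h1 : (1 : ℤ) ≤ |y| := Int.one_le_abs hy0
    have h2 : y * FM.ε ≤ |y| := by
      rcases FM.sign with e | e <;> rw [e]
      · simpa using le_abs_self y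
      · simpa using neg_le_abs y
    have hn2' : (2 * p + 2 : ℤ) ≤ Nat.card (Member M) := by exact_mod_cast hn2
    have hp0 : (0 : ℤ) ≤ p := Int.natCast_nonneg p
    nlinarith [sq_abs y, mul_le_mul_of_nonneg_right hn2' (sq_nonneg y),
      mul_le_mul_of_nonneg_right h2 (by positivity : (0 : ℤ) ≤ 2 * p),
      mul_le_mul_of_nonneg_left h1 (mul_nonneg hp0 (abs_nonneg y))]
  have hrest : ∑ χ ∈ Finset.univ \ R, m χ ^ 2 = 1 := by
    rw [Finset.sum_sdiff_eq_sub (Finset.subset_univ R), htot, hRsum, hy0]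
    ring
  obtain ⟨ν, hνR, hν⟩ : ∃ ν ∈ Finset.univ \ R, m ν ≠ 0 := by
    by_contra hc
    push Not at hc
    rw [Finset.sum_eq_zero fun χ hχ => by rw [hc χ hχ]; norm_num] at hrest
    exact zero_ne_one hrest
  have hothers : ∀ χ ∈ Finset.univ \ R, χ ≠ ν → m χ = 0 := by
    intro χ hχ hne'
    by_contra hχ0
    have h := Finset.sum_le_sum_of_subset_of_nonneg (f := fun χ => m χ ^ 2)
      (show {χ, ν} ⊆ Finset.univ \ R by simp_all [Finset.insert_subset_iff]) fun _ _ _ => sq_nonneg _
    rw [Finset.sum_pair hne', hrest] at h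
    have a1 : 0 < m χ ^ 2 := by positivity
    have a2 : 0 < m ν ^ 2 := by positivity
    omega
  have hν1 : m ν = 1 ∨ m ν = -1 := by
    rw [Finset.sum_eq_single ν (fun b hb hb' => by rw [hothers b hb hb']; norm_num)
      (fun h => absurd hνR h)] at hrest
    exact sq_eq_one_iff.1 hrest
  refine ⟨m ν, ν, hν1, ?_, ?_, ?_⟩
  · rintro ⟨i, rfl⟩
    exact (Finset.mem_sdiff.1 hνR).2 (Finset.mem_image_of_mem _ (Finset.mem_univ i))
  · intro e
    have h := hm ν
    rw [e, tau_inner_one hG hM.coatom hαc hαs, classInner_sub_left, classInner_smul_left,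
      member_inner_one hG, mul_zero, sub_zero,
      classInner_irr_ne (χ := φ') (ψ := ⟨_, isIrrCharacter_one⟩) fun e' => by
        have h1 := congrFun (congrArg Subtype.val e') 1
        change φ 1 = 1 at h1
        rw [hd] at h1
        norm_cast at h1
        have := Nat.eq_one_of_mul_eq_one_right h1
        omega] at h
    exact hν (by exact_mod_cast h.symm)
  · rw [hexp, ← Finset.sum_sdiff (Finset.subset_univ R), sub_eq_add_neg]
    congr 1
    · exact Finset.sum_eq_single ν (fun b hb hb' => by rw [hothers b hb hb']; simp)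
        fun h => absurd hνR h
    · rw [hR, Finset.sum_image fun a _ b _ h => FM.inj h, Finset.sum_eq_single FM.base
        (fun i _ hi => by rw [hμ i hi, hy0]; simp) fun h => absurd (Finset.mem_univ _) h,
        show m (FM.μ FM.base) = -(FM.ε * p) by linarith [hy, hy0]]
      rw [psi, ← neg_smul]
      congr 1
      push_cast
      ring

/-- Different larger members have different images. -/
theorem extra_ne {φ φ' : M → ℂ} {p q : ℕ} {δ δ' : ℤ} {ν ν' : IrrCharacter G}
    (hφ : IsIrrCharacter M φ) (hφ' : IsIrrCharacter M φ') (hne : φ ≠ φ')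
    (hv : ∀ x : M, (x : G) ∉ sigmaCore M → φ x = 0) (hv' : ∀ x : M, (x : G) ∉ sigmaCore M → φ' x = 0)
    (hp : 2 ≤ p) (hq : 2 ≤ q) (hd : φ 1 = (p : ℂ) * eIndex M) (hd' : φ' 1 = (q : ℂ) * eIndex M)
    (hδ : δ = 1 ∨ δ = -1) (hδ' : δ' = 1 ∨ δ' = -1)
    (h : tau M (φ - (p : ℂ) • FM.base.1) = (δ : ℂ) • (ν : G → ℂ) - ((p : ℂ) * FM.ε) • FM.psi)
    (h' : tau M (φ' - (q : ℂ) • FM.base.1) = (δ' : ℂ) • (ν' : G → ℂ) - ((q : ℂ) * FM.ε) • FM.psi)
    (hr : ν ∉ Set.range FM.μ) (hr' : ν' ∉ Set.range FM.μ) : ν ≠ ν' := by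
  rintro rfl
  haveI := Fintype.ofFinite M
  have hcls : ∀ {f : M → ℂ}, IsIrrCharacter M f → ∀ z : ℂ,
      IsClassFunction M (f - z • FM.base.1) := fun {f} hf z x y => by
    simp only [Pi.sub_apply, Pi.smul_apply, member_class hG FM.base x y]
    exact congrArg₂ _ (isClassFunction_irr (⟨f, hf⟩ : IrrCharacter M) x y) rfl
  have hsupp : SharpSupp M (φ - (p : ℂ) • FM.base.1) := by
    intro x hx
    by_cases hxs : (x : G) ∈ sigmaCore M
    · have hx1 : x = 1 := Subtype.ext (by_contra fun h => hx ⟨hxs, h⟩)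
      simp [hx1, hd, member_one]
    · simp [hv x hxs, member_vanish hG FM.base hxs]
  have hb : ∀ {f : M → ℂ}, IsIrrCharacter M f → ∀ {r : ℕ}, 2 ≤ r → f 1 = (r : ℂ) * eIndex M →
      classInner f FM.base.1 = 0 := fun {f} hf {r} hr2 hf1 =>
    classInner_irr_ne (χ := ⟨f, hf⟩) (ψ := ⟨_, member_irr hG hM FM.base⟩) fun e => by
      have h := congrFun (congrArg Subtype.val e) 1
      change f 1 = FM.base.1 1 at h
      rw [hf1, member_one, mul_eq_right₀ (by exact_mod_cast eIndex_pos.ne')] at h
      norm_cast at h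
      omega
  have key := tau_inner hG hM.coatom (hcls hφ p) hsupp (hcls hφ' q)
  rw [h, h'] at key
  simp only [classInner_sub_left, classInner_sub_right, classInner_smul_left, classInner_smul_right,
    map_intCast, map_natCast, map_mul, hb hφ hp hd, ← classInner_conj φ' FM.base.1, hb hφ' hq hd',
    member_self hG hM, map_zero,
    classInner_irr_ne (χ := (⟨φ, hφ⟩ : IrrCharacter M)) (ψ := ⟨φ', hφ'⟩)
      (fun e => hne (congrArg Subtype.val e)),
    show classInner φ φ' = 0 from classInner_irr_ne (χ := (⟨φ, hφ⟩ : IrrCharacter M)) (ψ := ⟨φ', hφ'⟩)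
      (fun e => hne (congrArg Subtype.val e)),
    psi, classInner_irr_self, classInner_irr_ne (fun e : ν = FM.μ FM.base => hr ⟨_, e.symm⟩),
    classInner_irr_ne (fun e : FM.μ FM.base = ν => hr ⟨_, e⟩)] at key
  have hdd : (δ : ℂ) * δ' = 0 := by linear_combination key - (p : ℂ) * q * FM.eps_sq
  rcases hδ with e | e <;> rcases hδ' with e' | e' <;> simp [e, e'] at hdd

variable {L : Subgroup G} (hL : FpfAb L) (FL : Family L) (hnc : TauTwo.NotConj M L)
include hL hnc

theorem inner_tht_const (i j : Member L) :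
    classInner (FL.μ i : G → ℂ) FM.tht = classInner (FL.μ j : G → ℂ) FM.tht :=
  FL.inner_mu_const hG hL (fun a b => by
    rw [← classInner_conj, tht, tau_orth hG hM.coatom hL.coatom hnc, map_zero]) i j

theorem mu_ne_mu (i : Member M) (j : Member L) : FM.μ i ≠ FL.μ j := by
  intro e
  have e2 : FM.μ (i.conj hG) = FL.μ (j.conj hG) :=
    Subtype.ext (by rw [FM.mu_conj hG hM, FL.mu_conj hG hL, e])
  have h := tau_orth hG hM.coatom hL.coatom hnc (i.1 - (i.conj hG).1) (j.1 - (j.conj hG).1)
  rw [FM.image, FL.image, e, e2, classInner_smul_left, classInner_smul_right, eps_conj,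
    classInner_sub_left, classInner_sub_right, classInner_sub_right, classInner_irr_self,
    classInner_irr_self,
    classInner_irr_ne fun h => j.conj_ne hG hL (FL.inj h).symm,
    classInner_irr_ne fun h => j.conj_ne hG hL (FL.inj h)] at h
  rcases FM.sign with a | a <;> rcases FL.sign with b | b <;> rw [a, b] at h <;> norm_num at h

theorem parity : ∃ a b z : ℤ, classInner FL.psi FM.tht = a ∧ classInner FM.psi FL.tht = b ∧
    a + b = 2 * z + 1 := by
  obtain ⟨a, ha⟩ := classInner_generalized_int FL.psi_gen (FM.tht_gen hG hM)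
  obtain ⟨b, hb⟩ := classInner_generalized_int FM.psi_gen (FL.tht_gen hG hL)
  have hr : ∀ {N : Subgroup G} (F : Family N) (hN : FpfAb N),
      Cfsg.conjFun (F.tht - -(F.ε : ℂ) • F.psi) = F.tht - -(F.ε : ℂ) • F.psi := fun {N} F hN => by
    have h := F.delta_conj hG hN
    funext g
    have hg := congrFun h g
    simp only [Cfsg.conjFun, delta, Pi.sub_apply, Pi.add_apply, Pi.one_apply, Pi.smul_apply, smul_eq_mul,
      map_add, map_sub, map_one, map_mul, map_intCast, map_neg] at hg ⊢
    linear_combination hg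
  have hg : ∀ {N : Subgroup G} (F : Family N), IsGeneralizedCharacter G (-(F.ε : ℂ) • F.psi) :=
    fun {N} F => by
      have := isGeneralizedCharacter_zsmul F.psi_gen (-F.ε)
      rwa [Int.cast_neg] at this
  obtain ⟨k, hk⟩ := parity_core hG.1 (FM.tht_gen hG hM) (FL.tht_gen hG hL) (hg FM) (hg FL) (hr FM hM)
    (hr FL hL) (FM.tht_one hG hM) (FL.tht_one hG hL)
    (by rw [classInner_smul_left, FM.psi_one hG hM, mul_zero])
    (by rw [classInner_smul_left, FL.psi_one hG hL, mul_zero])
    (tau_orth hG hM.coatom hL.coatom hnc _ _)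
  rw [classInner_smul_left, classInner_smul_left, classInner_smul_left, classInner_smul_right, hb, ha,
    show classInner FM.psi FL.psi = 0 from
      classInner_irr_ne (mu_ne_mu hG hM FM hL FL hnc _ _)] at hk
  refine ⟨a, b, (a + b - 1) / 2, ha, hb, ?_⟩
  have h1 : ((-FM.ε * b + -FL.ε * a : ℤ) : ℂ) = ((2 * k + 1 : ℤ) : ℂ) := by
    push_cast
    push_cast at hk
    linear_combination hk
  have h2 : -FM.ε * b + -FL.ε * a = 2 * k + 1 := by exact_mod_cast h1
  rcases FM.sign with e | e <;> rcases FL.sign with e' | e' <;> rw [e, e'] at h2 <;> omega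

end Family

end CfsgLib.FT
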