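import Cfsg.Agent.Lib.FT.Setup
import Cfsg.Agent.Lib.CFun.OddUFixed
import Cfsg.Agent.Lib.CFun.OddSigmaTilde
import Cfsg.Agent.Lib.CFun.OddTypeTwoSource

/-!
# Consequences of `NoBad`: every `M_σ` is a TI-subgroup

When no element of an `M_σ` has neighbours (`CfsgLib.FT.NoBad`), every `M_σ` is TI with normalizer `M`,
the supports `R` are trivial, `U` acts fixed point freely, maximals with `K = 1` are Frobenius groups,
and the group is covered by the conjugates of the `M_σ` and of the sets `Ẑ`.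
-/

set_option autoImplicit false
set_option linter.style.haveILetI false
set_option linter.unusedSectionVars false

open Subgroup
open CfsgLib.Coprime (conjBy conjBy_conjBy conjBy_one conj_mem_conjBy IsHallIn IsPiNum)

namespace CfsgLib.FT

open CfsgLib.CFun CfsgLib.CFun.TauTwo CfsgLib.CFun.Lines CfsgLib.CFun.Kappa CfsgLib.CFun.Partner

universe u

variable {G : Type u} [Group G] [Finite G]
variable (hG : Cfsg.IsMinSimpleOddOrder G) (hNB : NoBad G) {M : Subgroup G} (hM : IsCoatom M)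
include hG hNB hM

/-- An element of `M_σ` whose conjugate by `g` lies in `M` forces `g ∈ M`. -/
theorem mem_of_conj_mem {x g : G} (hx : x ∈ Cfsg.sigmaCore M) (hx1 : x ≠ 1)
    (hg : g * x * g⁻¹ ∈ M) : g ∈ M := by
  obtain ⟨m, hm, c, hc, rfl⟩ := Cosets.fusion hG hM hx hx1 hg
  exact mul_mem hm (hNB M hM x hx hx1 hc)

/-- The normalizer of `M_σ`. -/
theorem normalizer_sigmaCore : normalizer (Cfsg.sigmaCore M : Set G) = M := by
  refine le_antisymm (fun g hg => ?_) (sigmaCore_normal hG M)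
  obtain ⟨x, hx, hx1⟩ := (bot_or_exists_ne_one _).resolve_left (sigmaCore_ne_bot hG hM)
  exact mem_of_conj_mem hG hNB hM hx hx1
    (map_subtype_le _ ((mem_normalizer_iff.1 hg x).1 hx))

/-- `M_σ` is TI. -/
theorem isTISubset_sigmaCore : Cfsg.IsTISubset (Cfsg.sigmaCore M : Set G) := by
  intro g hg x hx hgx
  by_contra hx1
  exact hg ((normalizer_sigmaCore hG hNB hM).ge
    (mem_of_conj_mem hG hNB hM hx hx1 (map_subtype_le _ hgx)))

/-- The supports are trivial. -/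
theorem supportR_eq_bot {x : G} (hx : x ∈ Cfsg.sigmaCore M) (hx1 : x ≠ 1) :
    Cfsg.supportR M x = ⊥ :=
  dif_neg fun h => h.1 (hNB M hM x hx hx1)

/-- `Ã` consists of the conjugates of `M_σ#`. -/
theorem mem_tildeOf_iff {g : G} :
    g ∈ Cfsg.tildeOf M ((Cfsg.sigmaCore M : Set G) \ {1}) ↔
      g ≠ 1 ∧ ∃ y : G, y * g * y⁻¹ ∈ Cfsg.sigmaCore M := by
  constructor
  · rintro ⟨a, ⟨ha, ha1⟩, r, hr, y, rfl⟩
    rw [Set.mem_singleton_iff] at ha1
    rw [supportR_eq_bot hG hNB hM ha ha1, mem_bot] at hr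
    rw [hr, mul_one]
    refine ⟨fun e => ha1 (conj_eq_one_iff.1 e), y⁻¹, ?_⟩
    rw [show y⁻¹ * (y * a * y⁻¹) * y⁻¹⁻¹ = a by group]
    exact ha
  · rintro ⟨hg1, y, hy⟩
    exact ⟨y * g * y⁻¹, ⟨hy, fun e => hg1 (conj_eq_one_iff.1 (Set.mem_singleton_iff.1 e))⟩, 1,
      one_mem _, y⁻¹, by group⟩

/-- `U` acts fixed point freely on `M_σ`. -/
theorem regular_U {K U : Subgroup G} (d : Cfsg.IsSigmaDecomposition M K U) {u : G} (hu : u ∈ U)
    (hu1 : u ≠ 1) : Cfsg.sigmaCore M ⊓ centralizer ({u} : Set G) = ⊥ := by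
  by_contra hne
  obtain ⟨r, hr, hrd⟩ := Nat.exists_prime_and_dvd fun e => hu1 (orderOf_eq_one_iff.1 e)
  haveI : Fact r.Prime := ⟨hr⟩
  set v := u ^ (orderOf u / r) with hv
  have hvo : orderOf v = r := orderOf_pow_orderOf_div (orderOf_pos u).ne' hrd
  have hv1 : v ≠ 1 := fun e => hr.ne_one (by rw [← hvo, e, orderOf_one])
  have hvU : v ∈ U := pow_mem hu _
  have hfix : Cfsg.sigmaCore M ⊓ centralizer ((zpowers v : Subgroup G) : Set G) ≠ ⊥ := by
    intro e
    apply hne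
    rw [eq_bot_iff, ← e]
    refine inf_le_inf_left _ ?_
    rw [centralizer_zpowers]
    exact fun c hc => mem_centralizer_singleton_iff.2
      ((show Commute c u from mem_centralizer_singleton_iff.1 hc).pow_right _).eq
  obtain ⟨hC, huniq⟩ := UFixed.centralizer_unique hG hM d (zpowers_le.2 hvU)
    (fun e => hv1 (zpowers_eq_bot.1 e)) hfix
  rw [centralizer_zpowers] at hC huniq
  obtain ⟨L, hL, hrL⟩ := Cover.exists_sigma hG (t := r)
    (hvo ▸ orderOf_dvd_natCard v)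
  obtain ⟨g, hg⟩ := sigma_conj_into hG hL (Y := zpowers v) (fun e => hv1 (zpowers_eq_bot.1 e))
    fun p hp hpd => by
      rw [Nat.card_zpowers, hvo] at hpd
      rwa [(Nat.prime_dvd_prime_iff_eq hp hr).1 hpd]
  have hvL : v ∈ Cfsg.sigmaCore (conjBy g⁻¹ L) := by
    have h := Tilde.conj_mem_sigmaCore hG hL g⁻¹ (hg (conj_mem_conjBy (mem_zpowers v)))
    rwa [show g⁻¹ * (g * v * g⁻¹) * g⁻¹⁻¹ = v by group] at h
  have hL' := isCoatom_conjBy g⁻¹ hL
  have heq := huniq _ hL' (hNB _ hL' v hvL hv1)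
  have hrσ : r ∈ Cfsg.sigma M := (sigmaCore_hall hG hM).1.2.1 r hr
    (hvo ▸ Subgroup.orderOf_dvd_natCard _ (heq ▸ hvL))
  exact (Decomp.primes hG hM d hr (hvo ▸ Subgroup.orderOf_dvd_natCard _ hvU)).1 hrσ

/-- A maximal subgroup with `K = 1` is a Frobenius group with kernel `M_σ`. -/
theorem centralizer_le_of_bot {K U : Subgroup G} (d : Cfsg.IsSigmaDecomposition M K U) (hK : K = ⊥)
    {h : G} (hh : h ∈ Cfsg.sigmaCore M) (hh1 : h ≠ 1) :
    M ⊓ centralizer ({h} : Set G) ≤ Cfsg.sigmaCore M := by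
  refine le_sigmaCore_of_isPiNum hG hM inf_le_left fun p hp hpd => ?_
  by_contra hpσ
  haveI : Fact p.Prime := ⟨hp⟩
  obtain ⟨⟨v, hv⟩, hvo⟩ := exists_prime_orderOf_dvd_card' p hpd
  rw [Subgroup.orderOf_mk] at hvo
  obtain ⟨hvM, hvc⟩ := mem_inf.1 hv
  have hv1 : v ≠ 1 := fun e => hp.ne_one (by rw [← hvo, e, orderOf_one])
  obtain ⟨m, hm, hmU⟩ := (compl_isHall hG hM (UFixed.compl_of_bot hG hM d hK)).exists_conj_le
    (ms_solvable hG hM.1) (zpowers_le.2 hvM) fun q hq hqd => by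
      rw [Nat.card_zpowers, hvo] at hqd
      rw [(Nat.prime_dvd_prime_iff_eq hq hp).1 hqd]
      exact hpσ
  have hreg := regular_U hG hNB hM d (hmU (conj_mem_conjBy (mem_zpowers v)))
    fun e => hv1 (conj_eq_one_iff.1 e)
  have hmem : m * h * m⁻¹ ∈ Cfsg.sigmaCore M ⊓ centralizer ({m * v * m⁻¹} : Set G) := by
    refine mem_inf.2 ⟨(mem_normalizer_iff.1 (sigmaCore_normal hG M hm) h).1 hh, ?_⟩
    rw [mem_centralizer_singleton_iff, show m * h * m⁻¹ * (m * v * m⁻¹) = m * (h * v) * m⁻¹ by group,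
      show m * v * m⁻¹ * (m * h * m⁻¹) = m * (v * h) * m⁻¹ by group,
      mem_centralizer_singleton_iff.1 hvc]
  rw [hreg, mem_bot] at hmem
  exact hh1 (conj_eq_one_iff.1 hmem)

omit hM in
/-- Every non-identity element is conjugate into some `M_σ` or lies in some orbit of a `Ẑ`. -/
theorem cover {g : G} (hg : g ≠ 1) :
    (∃ N : Subgroup G, IsCoatom N ∧ ∃ y : G, y * g * y⁻¹ ∈ Cfsg.sigmaCore N) ∨
      ∃ N K : Subgroup G, IsCoatom N ∧ Cfsg.IsPiHallOf (Cfsg.kappa N) K N ∧ K ≠ ⊥ ∧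
        g ∈ Zhat.orbit N K := by
  refine (Cover.cover hG hg).imp (fun ⟨N, hN, h⟩ => ⟨N, hN, ?_⟩) id
  exact ((mem_tildeOf_iff hG hNB hN).1 h).2

end CfsgLib.FT
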