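import Cfsg.Agent.Lib.FT.FamilyBasic

/-!
# Conjugates in the family, the functions `θ`, and Fourier inversion on the cosets of `M_σ'`
-/

set_option autoImplicit false
set_option linter.unusedSectionVars false
set_option linter.style.haveILetI false

open Subgroup

namespace CfsgLib.FT

open CfsgLib.CFun CfsgLib.Char
open Cfsg (IsClassFunction IsGeneralizedCharacter IsCharacter IsIrrCharacter IrrCharacter classInner
  indFun sigmaCore IsMinSimpleOddOrder)
open scoped ComplexConjugate

universe u

variable {G : Type u} [Group G] [Fintype G] (hG : IsMinSimpleOddOrder G) {M : Subgroup G}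
include hG

theorem odd_card_M : Odd (Nat.card M) := hG.1.of_dvd_nat (card_subgroup_dvd_card M)

theorem eIndex_odd : Odd (eIndex M) := by
  rw [eIndex_eq]
  exact (odd_card_M hG (M := M)).of_dvd_nat (index_dvd_card _)

theorem kZero_odd : Odd (kZero M) := by
  rw [kZero_eq]
  refine (odd_card_M hG (M := M)).of_dvd_nat (dvd_trans ?_ (card_subgroup_dvd_card (sigmaIn M)))
  exact card_quotient_dvd_card _

theorem sigmaDer_lt (hc : IsCoatom M) : ∃ v ∈ sigmaCore M, v ∉ sigmaDer M := by
  haveI : Group.IsSolvable (sigmaCore M) :=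
    ms_solvable hG fun h => hc.1 (top_le_iff.1 (h ▸ map_subtype_le _))
  haveI : Nontrivial (sigmaCore M) := (nontrivial_iff_ne_bot _).2 (TauTwo.sigmaCore_ne_bot hG hc)
  by_contra h
  push Not at h
  refine (Group.IsSolvable.commutator_lt_top_of_nontrivial (sigmaCore M)).ne
    (eq_top_iff.2 fun x _ => ?_)
  have hx := h x x.2
  rw [sigmaDer, ← map_subtype_commutator] at hx
  obtain ⟨y, hy, e⟩ := hx
  exact Subtype.ext e ▸ hy

theorem indSigma_class (θ : sigmaIn M → ℂ) : IsClassFunction M (indSigma M θ) := by
  haveI := Fintype.ofFinite M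
  rw [indSigma_eq]
  exact isClassFunction_indFun _ _

theorem indSigma_gen {θ : sigmaIn M → ℂ} (hθ : IsGeneralizedCharacter (sigmaIn M) θ) :
    IsGeneralizedCharacter M (indSigma M θ) := by
  haveI := Fintype.ofFinite M
  rw [indSigma_eq]
  exact isGeneralizedCharacter_indFun _ hθ

theorem inner_indSigma_right [Fintype M] [Fintype (sigmaIn M)] (θ : sigmaIn M → ℂ) {F : M → ℂ}
    (hF : IsClassFunction M F) :
    classInner (indSigma M θ) F = classInner θ (fun h : sigmaIn M => F h) := by
  rw [indSigma_eq, classInner_indFun _ _ _ hF]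

theorem member_class (φ : Member M) : IsClassFunction M φ.1 := by
  obtain ⟨lam, -, hφ⟩ := φ.2
  rw [hφ]
  exact indSigma_class hG _

theorem member_gen (φ : Member M) : IsGeneralizedCharacter M φ.1 := by
  obtain ⟨lam, -, hφ⟩ := φ.2
  rw [hφ]
  exact indSigma_gen hG (isGeneralizedCharacter_of_isCharacter (isCharacter_of_isIrr
    (isIrrCharacter_lin lam)))

/-- The complex conjugate member. -/
noncomputable def Member.conj (φ : Member M) : Member M := ⟨_, isMember_conj hG φ.2⟩

/-- The image of a member under a power map. -/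
noncomputable def Member.pow (φ : Member M) {m : ℕ} (hm : m.Coprime (Nat.card G)) : Member M :=
  ⟨_, isMember_pow hG φ.2 hm⟩

theorem Member.pow_val (φ : Member M) {m : ℕ} (hm : m.Coprime (Nat.card G)) :
    (φ.pow hG hm).1 = fun x => φ.1 (x ^ m) := rfl

theorem Member.conj_val (φ : Member M) : (φ.conj hG).1 = Cfsg.conjFun φ.1 := rfl

theorem Member.conj_conj (φ : Member M) : (φ.conj hG).conj hG = φ :=
  Subtype.ext (funext fun _ => Complex.conj_conj _)

theorem theta_class (φ : Member M) : IsClassFunction M (theta M φ) := fun x y => by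
  simp only [theta, Pi.sub_apply, indSigma_class hG _ x y, member_class hG φ x y]

theorem theta_gen (φ : Member M) : IsGeneralizedCharacter M (theta M φ) :=
  isGeneralizedCharacter_sub (indSigma_gen hG (isGeneralizedCharacter_of_isCharacter
    (isCharacter_of_isIrr isIrrCharacter_one))) (member_gen hG φ)

theorem diff_supp (φ ψ : Member M) : SharpSupp M (φ.1 - ψ.1) := by
  intro x hx
  by_cases hxs : (x : G) ∈ sigmaCore M
  · have hx1 : x = 1 := Subtype.ext (by
      by_contra h
      exact hx ⟨hxs, h⟩)
    rw [hx1, Pi.sub_apply, member_one, member_one, sub_self]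
  · rw [Pi.sub_apply, member_vanish hG φ hxs, member_vanish hG ψ hxs, sub_self]

theorem theta_der (φ : Member M) {x : M} (hx : (x : G) ∈ sigmaDer M) : theta M φ x = 0 := by
  classical
  rw [theta, Pi.sub_apply, indOne_eq hG, if_pos (commutator_le_self (sigmaCore M) hx),
    member_der hG φ hx, sub_self]

theorem theta_supp (φ : Member M) : SharpSupp M (theta M φ) := by
  classical
  intro x hx
  by_cases hxs : (x : G) ∈ sigmaCore M
  · refine theta_der hG φ ?_
    have h1 : (x : G) = 1 := by
      by_contra h
      exact hx ⟨hxs, h⟩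
    rw [h1]
    exact one_mem _
  · rw [theta, Pi.sub_apply, indOne_eq hG, if_neg hxs, member_vanish hG φ hxs, sub_self]

theorem theta_sub (φ ψ : Member M) : theta M φ - theta M ψ = ψ.1 - φ.1 := by
  simp only [theta]
  abel

theorem theta_inner_one [Fintype M] (φ : Member M) : classInner (theta M φ) (fun _ => 1) = 1 := by
  rw [theta, classInner_sub_left, indOne_inner_one hG, member_inner_one hG φ, sub_zero]

variable (hM : FpfAb M)
include hM

theorem exists_member : Nonempty (Member M) := by
  classical
  obtain ⟨v, hv, hv'⟩ := sigmaDer_lt hG hM.coatom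
  let x : sigmaIn M := ⟨⟨v, map_subtype_le _ hv⟩, hv⟩
  obtain ⟨φ, hφ⟩ := CommGroup.exists_apply_ne_one_of_hasEnoughRootsOfUnity
    (Abelianization (sigmaIn M)) ℂ (a := Abelianization.of x)
    fun h => hv' ((mem_commutator_iff x).1 ((QuotientGroup.eq_one_iff x).1 h))
  exact ⟨⟨_, φ.comp Abelianization.of, fun e => hφ (DFunLike.congr_fun e x), rfl⟩⟩

theorem Member.conj_ne (φ : Member M) : φ.conj hG ≠ φ := by
  intro h
  haveI := Fintype.ofFinite M
  have h1 := irr_eq_one_of_real (odd_card_M hG) ⟨φ.1, member_irr hG hM φ⟩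
    fun x => congrFun (congrArg Subtype.val h) x
  have h2 := member_inner_one hG φ
  rw [show φ.1 = fun _ => 1 from h1] at h2
  exact one_ne_zero ((classInner_irr_self ⟨_, isIrrCharacter_one⟩).symm.trans h2)

theorem two_le_card : 2 ≤ Nat.card (Member M) := by
  haveI := member_finite hG hM
  obtain ⟨φ⟩ := exists_member hG hM
  haveI : Nontrivial (Member M) := ⟨_, _, φ.conj_ne hG hM⟩
  exact Finite.one_lt_card

theorem even_card : Even (Nat.card (Member M)) := by
  have h := member_card hG hM
  have h1 : Odd (Nat.card (Member M) * eIndex M + 1) := h ▸ kZero_odd hG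
  rw [Nat.odd_add_one, Nat.not_odd_iff_even, Nat.even_mul] at h1
  exact h1.resolve_right (Nat.not_even_iff_odd.2 (eIndex_odd hG))

theorem theta_norm [Fintype M] (φ : Member M) :
    classInner (theta M φ) (theta M φ) = eIndex M + 1 := by
  rw [theta, classInner_sub_left, classInner_sub_right, classInner_sub_right, indOne_norm hG,
    indOne_inner_member hG φ, member_self hG hM φ, ← classInner_conj _ φ.1, indOne_inner_member hG φ,
    map_zero]
  ring

theorem diff_inner [Fintype M] [DecidableEq (Member M)] (a b c d : Member M) :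
    classInner (a.1 - b.1) (c.1 - d.1) =
      (if a = c then 1 else 0) - (if a = d then 1 else 0) -
        ((if b = c then 1 else 0) - (if b = d then 1 else 0)) := by
  have h : ∀ u w : Member M, classInner u.1 w.1 = if u = w then 1 else 0 := fun u w => by
    split_ifs with e
    · rw [e]; exact member_self hG hM w
    · exact member_orth hG hM e
  simp only [classInner_sub_left, classInner_sub_right, h]
  ring

theorem theta_inner_diff [Fintype M] [DecidableEq (Member M)] (a c d : Member M) :
    classInner (theta M a) (c.1 - d.1) = (if a = d then 1 else 0) - (if a = c then 1 else 0) := by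
  have h : ∀ u w : Member M, classInner u.1 w.1 = if u = w then 1 else 0 := fun u w => by
    split_ifs with e
    · rw [e]; exact member_self hG hM w
    · exact member_orth hG hM e
  simp only [theta, classInner_sub_left, classInner_sub_right, h, indOne_inner_member hG]
  ring

omit hM in
/-- A function orthogonal to every `1 - λ` sums to zero on every non-trivial coset of `M_σ'`. -/
theorem sum_coset_eq_zero [Fintype (sigmaIn M)] [Fintype (commutator (sigmaIn M))] (f : sigmaIn M → ℂ)
    (h : ∀ lam : sigmaIn M →* ℂˣ, ∑ u : sigmaIn M, f u * (1 - (lam u : ℂ)) = 0)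
    {v : sigmaIn M} (hv : v ∉ commutator (sigmaIn M)) :
    ∑ d : commutator (sigmaIn M), f (v * d) = 0 := by
  classical
  haveI : Finite (sigmaIn M →* ℂˣ) :=
    Finite.of_equiv _ (Abelianization.lift (G := sigmaIn M) (A := ℂˣ)).symm
  haveI := Fintype.ofFinite (sigmaIn M →* ℂˣ)
  have h0 : ∑ lam : sigmaIn M →* ℂˣ,
      (lam v⁻¹ : ℂ) * ∑ u : sigmaIn M, f u * (1 - (lam u : ℂ)) = 0 :=
    Finset.sum_eq_zero fun lam _ => by rw [h lam, mul_zero]
  have h1 : ∀ lam : sigmaIn M →* ℂˣ, (lam v⁻¹ : ℂ) * ∑ u : sigmaIn M, f u * (1 - (lam u : ℂ)) =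
      (∑ u : sigmaIn M, f u) * (lam v⁻¹ : ℂ) - ∑ u : sigmaIn M, f u * (lam (v⁻¹ * u) : ℂ) := fun lam => by
    simp only [mul_sub, mul_one, Finset.sum_sub_distrib, map_mul, Units.val_mul, Finset.mul_sum,
      Finset.sum_mul]
    congr 1
    · exact Finset.sum_congr rfl fun u _ => mul_comm _ _
    · exact Finset.sum_congr rfl fun u _ => by ring
  rw [Finset.sum_congr rfl fun lam _ => h1 lam, Finset.sum_sub_distrib, ← Finset.mul_sum,
    sum_hom_eq, if_neg (fun h => hv (inv_mem_iff.1 h)), mul_zero, zero_sub, neg_eq_zero,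
    Finset.sum_comm] at h0
  simp only [← Finset.mul_sum, sum_hom_eq, mul_ite, mul_zero] at h0
  rw [← Finset.sum_filter, ← Finset.sum_mul,
    mul_eq_zero, or_iff_left (by exact_mod_cast Nat.card_pos.ne')] at h0
  rw [← h0]
  refine Finset.sum_bij (fun d _ => v * d) (fun d _ => ?_) (fun a _ b _ e => Subtype.ext (mul_left_cancel e))
    (fun u hu => ⟨⟨v⁻¹ * u, (Finset.mem_filter.1 hu).2⟩, Finset.mem_univ _, mul_inv_cancel_left _ _⟩)
    fun d _ => rfl
  exact Finset.mem_filter.2 ⟨Finset.mem_univ _, by rw [inv_mul_cancel_left]; exact d.2⟩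

end CfsgLib.FT
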