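import Cfsg.Agent.Lib.FT.SignedImages
import Cfsg.Agent.Lib.FT.FamilyTheta
import Cfsg.Agent.Lib.FT.Basic

/-!
# The images of the family and `τθ_M = 1 + Δ - εψ` (`docs/FT.md`, §0)
-/

set_option autoImplicit false
set_option linter.unusedSectionVars false
set_option linter.style.haveILetI false

open Subgroup

namespace CfsgLib.FT

open CfsgLib.CFun CfsgLib.Char
open Cfsg (IsClassFunction IsGeneralizedCharacter IsCharacter IsIrrCharacter IrrCharacter classInner
  sigmaCore IsMinSimpleOddOrder)
open scoped ComplexConjugate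

universe u

variable {G : Type u} [Group G]

/-- Images of the family under the Dade map, with a chosen member. -/
structure Family (M : Subgroup G) [Finite G] where
  /-- the chosen member `φ₀` -/
  base : Member M
  /-- the sign -/
  ε : ℤ
  /-- the images -/
  μ : Member M → IrrCharacter G
  sign : ε = 1 ∨ ε = -1
  image : ∀ i l : Member M, tau M (i.1 - l.1) = (ε : ℂ) • ((μ i : G → ℂ) - (μ l : G → ℂ))
  inj : Function.Injective μ

namespace Family

variable [Fintype G] {M : Subgroup G} (F : Family M)

/-- `ψ = μ₀`. -/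
noncomputable def psi : G → ℂ := (F.μ F.base : G → ℂ)

/-- `τθ_M`. -/
noncomputable def tht : G → ℂ := tau M (theta M F.base)

/-- `Δ`, with `τθ_M = 1 + Δ - εψ`. -/
noncomputable def delta : G → ℂ := F.tht - 1 + (F.ε : ℂ) • F.psi

open Classical in
/-- `c = (ψ, τθ_M) + ε`. -/
noncomputable def c : ℤ := (Classical.epsilon fun z : ℤ => classInner F.psi F.tht = (z : ℂ)) + F.ε

theorem eps_sq : (F.ε : ℂ) * F.ε = 1 := by
  rcases F.sign with h | h <;> simp [h]

theorem eps_conj : conj (F.ε : ℂ) = F.ε := map_intCast _ _

theorem psi_gen : IsGeneralizedCharacter G F.psi :=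
  isGeneralizedCharacter_of_isCharacter (isCharacter_irr _)

theorem psi_class : IsClassFunction G F.psi := isClassFunction_irr _

theorem tht_eq : F.tht = 1 + F.delta - (F.ε : ℂ) • F.psi := by
  simp only [delta]
  abel

variable (hG : IsMinSimpleOddOrder G) (hM : FpfAb M)
include hG hM

theorem exists_family (b : Member M) : ∃ F : Family M, F.base = b := by
  classical
  haveI := member_finite hG hM
  haveI := Fintype.ofFinite M
  haveI : Nontrivial (Member M) := Finite.one_lt_card_iff_nontrivial.1 (two_le_card hG hM)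
  have hcl : ∀ i l : Member M, IsClassFunction M (i.1 - l.1) := fun i l x y => by
    simp only [Pi.sub_apply, member_class hG i x y, member_class hG l x y]
  obtain ⟨ε, μ, hε, hinj, hμ⟩ := exists_signed_images (G := G) (ι := Member M) inferInstance
    (fun i l => tau M (i.1 - l.1))
    (fun i l => tau_gen hG hM.coatom
      (isGeneralizedCharacter_sub (member_gen hG i) (member_gen hG l)) (diff_supp hG i l))
    (fun i l => tau_apply_one hG hM.coatom)
    (fun i j l => by rw [← tau_add, sub_add_sub_cancel])
    (fun i j hij => by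
      rw [tau_inner hG hM.coatom (hcl i j) (diff_supp hG i j) (hcl i j), diff_inner hG hM]
      simp [hij, hij.symm]
      norm_num)
    (fun i j l hij hil hjl => by
      rw [tau_inner hG hM.coatom (hcl i j) (diff_supp hG i j) (hcl i l), diff_inner hG hM]
      simp [hil, hij.symm, hjl])
  exact ⟨⟨b, ε, μ, hε, hμ, hinj⟩, rfl⟩

theorem image_inner_diff [DecidableEq (Member M)] [Fintype M] {α : M → ℂ} (hα : IsClassFunction M α)
    (i l : Member M) :
    classInner (tau M (i.1 - l.1)) (tau M α) = classInner (i.1 - l.1) α :=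
  tau_inner hG hM.coatom (fun x y => by
    simp only [Pi.sub_apply, member_class hG i x y, member_class hG l x y]) (diff_supp hG i l) hα

theorem mu_ne_one (i : Member M) : (F.μ i : G → ℂ) ≠ fun _ => 1 := by
  classical
  haveI := Fintype.ofFinite M
  haveI := member_finite hG hM
  haveI : Nontrivial (Member M) := Finite.one_lt_card_iff_nontrivial.1 (two_le_card hG hM)
  obtain ⟨l, hl⟩ := exists_ne i
  intro h
  have h1 := tau_inner_one hG hM.coatom (α := i.1 - l.1) (fun x y => by
    simp only [Pi.sub_apply, member_class hG i x y, member_class hG l x y]) (diff_supp hG i l)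
  rw [F.image, classInner_sub_left, member_inner_one hG i, member_inner_one hG l, sub_zero,
    classInner_smul_left, classInner_sub_left, ← h, classInner_irr_self,
    classInner_irr_ne (fun e => hl (F.inj e)), sub_zero, mul_one] at h1
  rcases F.sign with e | e <;> simp [e] at h1

theorem psi_one : classInner F.psi (fun _ => 1) = 0 :=
  classInner_irr_ne (χ := F.μ F.base) (ψ := ⟨_, isIrrCharacter_one⟩)
    fun e => F.mu_ne_one hG hM _ (congrArg Subtype.val e)

theorem mu_conj (i : Member M) : (F.μ (i.conj hG) : G → ℂ) = Cfsg.conjFun (F.μ i) := by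
  haveI := member_finite hG hM
  haveI : Nontrivial (Member M) := Finite.one_lt_card_iff_nontrivial.1 (two_le_card hG hM)
  obtain ⟨l, hl⟩ := exists_ne i
  have h : tau M ((i.conj hG).1 - (l.conj hG).1) = Cfsg.conjFun (tau M (i.1 - l.1)) := by
    rw [← tau_conjFun]
    congr 1
    funext x
    simp [Member.conj_val, Cfsg.conjFun]
  rw [F.image, F.image] at h
  have h2 : (F.μ (i.conj hG) : G → ℂ) - (F.μ (l.conj hG) : G → ℂ) =
      ((⟨_, isIrrCharacter_starFun (F.μ i)⟩ : IrrCharacter G) : G → ℂ) -
        ((⟨_, isIrrCharacter_starFun (F.μ l)⟩ : IrrCharacter G) : G → ℂ) := by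
    funext g
    have hg := congrFun h g
    simp only [Pi.smul_apply, Pi.sub_apply, smul_eq_mul, Cfsg.conjFun, map_mul, map_sub,
      map_intCast] at hg
    show (F.μ (i.conj hG) : G → ℂ) g - (F.μ (l.conj hG) : G → ℂ) g = conj _ - conj _
    exact mul_left_cancel₀ (left_ne_zero_of_mul_eq_one F.eps_sq) hg
  refine congrArg Subtype.val (irr_sub_eq (fun e => hl ?_) h2).1
  have := congrArg (Member.conj hG) (F.inj e)
  rw [Member.conj_conj, Member.conj_conj] at this
  exact this.symm

theorem mu_pow {m : ℕ} (hm : m.Coprime (Nat.card G)) (i : Member M) :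
    (F.μ (i.pow hG hm) : G → ℂ) = fun g => (F.μ i : G → ℂ) (g ^ m) := by
  haveI := member_finite hG hM
  haveI : Nontrivial (Member M) := Finite.one_lt_card_iff_nontrivial.1 (two_le_card hG hM)
  obtain ⟨l, hl⟩ := exists_ne i
  have h : (fun g => tau M (i.1 - l.1) (g ^ m)) = tau M ((i.pow hG hm).1 - (l.pow hG hm).1) := by
    funext g
    rw [tau_pow hG hM.coatom (fun x y => by
      simp only [Pi.sub_apply, member_class hG i x y, member_class hG l x y]) hm]
    rfl
  rw [F.image, F.image] at h
  let a' : IrrCharacter G := ⟨_, isIrrCharacter_powMap hm.symm (F.μ i)⟩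
  let b' : IrrCharacter G := ⟨_, isIrrCharacter_powMap hm.symm (F.μ l)⟩
  have h2 : (a' : G → ℂ) - (b' : G → ℂ) =
      (F.μ (i.pow hG hm) : G → ℂ) - (F.μ (l.pow hG hm) : G → ℂ) := by
    funext g
    exact mul_left_cancel₀ (left_ne_zero_of_mul_eq_one F.eps_sq) (congrFun h g)
  refine (congrArg Subtype.val (irr_sub_eq (fun e => hl (F.inj (Subtype.ext (funext fun g => ?_)))) h2).1).symm
  have := congrFun (congrArg Subtype.val e) ((powCoprime hm.symm).symm g)
  have hg : ((powCoprime hm.symm).symm g) ^ m = g := (powCoprime hm.symm).apply_symm_apply g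
  simp only [a', b', hg] at this
  exact this.symm

theorem tht_gen : IsGeneralizedCharacter G F.tht :=
  tau_gen hG hM.coatom (theta_gen hG _) (theta_supp hG _)

theorem tht_one : classInner F.tht (fun _ => 1) = 1 := by
  haveI := Fintype.ofFinite M
  rw [tht, tau_inner_one hG hM.coatom (theta_class hG _) (theta_supp hG _), theta_inner_one hG]

theorem tht_norm : classInner F.tht F.tht = eIndex M + 1 := by
  haveI := Fintype.ofFinite M
  rw [tht, tau_inner hG hM.coatom (theta_class hG _) (theta_supp hG _) (theta_class hG _),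
    theta_norm hG hM]

theorem psi_tht : classInner F.psi F.tht = (F.c : ℂ) - F.ε := by
  have h := Classical.epsilon_spec (classInner_generalized_int F.psi_gen (F.tht_gen hG hM))
  rw [c]
  push_cast
  linear_combination h

/-- `(μ_i, τθ_M) = c - ε δ_{i0}`. -/
theorem tht_base [DecidableEq (Member M)] (i : Member M) :
    classInner (F.μ i : G → ℂ) F.tht = (F.c : ℂ) - if i = F.base then (F.ε : ℂ) else 0 := by
  classical
  haveI := Fintype.ofFinite M
  have h := image_inner_diff hG hM (theta_class hG F.base) i F.base
  rw [← classInner_conj (theta M F.base) (i.1 - F.base.1), theta_inner_diff hG hM, F.image,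
    classInner_smul_left, classInner_sub_left] at h
  have h' : classInner (F.μ i : G → ℂ) F.tht - classInner F.psi F.tht =
      (F.ε : ℂ) * (1 - if i = F.base then 1 else 0) := by
    have h'' := congrArg (fun z : ℂ => (F.ε : ℂ) * z) h
    simp only [← mul_assoc, eps_sq, one_mul] at h''
    rw [psi, tht, h'']
    by_cases e : i = F.base
    · simp [e]
    · simp [e, Ne.symm e]
  rw [F.psi_tht hG hM] at h'
  rw [sub_eq_iff_eq_add.1 h']
  split_ifs <;> ring

theorem delta_gen : IsGeneralizedCharacter G F.delta :=
  isGeneralizedCharacter_add (isGeneralizedCharacter_sub (F.tht_gen hG hM)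
    (isGeneralizedCharacter_of_isCharacter (isCharacter_of_isIrr isIrrCharacter_one)))
    (isGeneralizedCharacter_zsmul F.psi_gen _)

theorem delta_one : classInner F.delta (fun _ => 1) = 0 := by
  rw [delta, classInner_add_left, classInner_sub_left, F.tht_one hG hM, classInner_smul_left,
    F.psi_one hG hM, show (1 : G → ℂ) = fun _ => 1 from rfl,
    classInner_irr_self ⟨_, isIrrCharacter_one⟩]
  simp

theorem delta_conj : Cfsg.conjFun F.delta = F.delta := by
  funext g
  have hb : tau M (theta M (F.base.conj hG)) = Cfsg.conjFun F.tht := by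
    rw [tht, ← tau_conjFun]
    congr 1
    classical
    funext x
    simp only [theta, Cfsg.conjFun, Pi.sub_apply, map_sub, Member.conj_val, indOne_eq hG]
    split_ifs <;> simp
  have h := congrFun (tau_sub (M := M) (α := theta M (F.base.conj hG)) (β := theta M F.base)) g
  rw [theta_sub hG, F.image, hb, F.mu_conj hG hM] at h
  simp only [Pi.smul_apply, Pi.sub_apply, smul_eq_mul, Cfsg.conjFun, tht] at h
  simp only [Cfsg.conjFun, delta, psi, tht, Pi.add_apply, Pi.sub_apply, Pi.one_apply, Pi.smul_apply,
    smul_eq_mul, map_add, map_sub, map_one, map_mul, map_intCast]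
  linear_combination -h

theorem delta_pow {m : ℕ} (hm : m.Coprime (Nat.card G)) (g : G) : F.delta (g ^ m) = F.delta g := by
  classical
  have hpow : (fun x : M => theta M F.base (x ^ m)) = theta M (F.base.pow hG hm) := by
    funext x
    have hiff : (((x ^ m : M) : G) ∈ sigmaCore M) ↔ (x : G) ∈ sigmaCore M := by
      refine ⟨fun h => ?_, fun h => by push_cast; exact pow_mem h m⟩
      obtain ⟨j, hj⟩ := mem_zpowers_iff.1 (mem_zpowers_pow_of_coprime (x : G) hm)
      rw [← hj]
      exact zpow_mem (by simpa using h) j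
    simp only [theta, Pi.sub_apply, Member.pow_val, indOne_eq hG]
    rw [if_congr hiff rfl rfl]
  have h1 : F.tht (g ^ m) = tau M (theta M (F.base.pow hG hm)) g := by
    rw [tht, tau_pow hG hM.coatom (theta_class hG _) hm, hpow]
  have h := congrFun (tau_sub (M := M) (α := theta M (F.base.pow hG hm)) (β := theta M F.base)) g
  rw [theta_sub hG, F.image, F.mu_pow hG hM hm, Pi.sub_apply, ← h1] at h
  simp only [Pi.smul_apply, Pi.sub_apply, smul_eq_mul, tht] at h
  simp only [delta, psi, Pi.add_apply, Pi.sub_apply, Pi.one_apply, Pi.smul_apply, smul_eq_mul, tht]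
  linear_combination -h

theorem delta_int (g : G) : ∃ z : ℤ, F.delta g = z := by
  refine exists_int_of_fixed (generalized_isIntegral (F.delta_gen hG hM) g) fun φ => ?_
  obtain ⟨m, hm, htw⟩ := generalized_twist (G := G) φ
  rw [htw _ (F.delta_gen hG hM) g _ rfl, F.delta_pow hG hM hm]

theorem inner_delta_mu (i : Member M) : classInner (F.μ i : G → ℂ) F.delta = (F.c : ℂ) := by
  classical
  have h1 : classInner (F.μ i : G → ℂ) (fun _ => 1) = 0 :=
    classInner_irr_ne (χ := F.μ i) (ψ := ⟨_, isIrrCharacter_one⟩)
      fun e => F.mu_ne_one hG hM i (congrArg Subtype.val e)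
  rw [delta, classInner_add_right, classInner_sub_right, classInner_smul_right, eps_conj, psi,
    F.tht_base hG hM, show (1 : G → ℂ) = fun _ => 1 from rfl, h1, classInner_irr]
  by_cases h : i = F.base
  · simp [h]
  · simp [h, F.inj.ne h]

end Family

end CfsgLib.FT
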