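import Cfsg.Agent.Lib.FT.RectMu
import Cfsg.Agent.Lib.FT.FamilyImage
import Cfsg.Agent.Lib.Char.CyclicTI
import Cfsg.Agent.Lib.Char.OddType.Support
import Cfsg.Agent.Lib.CFun.OddTildeOrbit

/-!
# The family of `M` vanishes on the orbit of `Ẑ` of any maximal subgroup (`docs/FT-meet-gap2.md`)

All members agree there because `μ_i - μ_l` is carried by `tilde M`; so no member is `± η`, hence each
is orthogonal to every `η` and vanishes on `Ẑ`.
-/

set_option autoImplicit false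
set_option linter.unusedSectionVars false
set_option linter.style.haveILetI false

open Subgroup

namespace CfsgLib.FT

open CfsgLib.CFun CfsgLib.Char CfsgLib.Char.Signed
open Cfsg (IsClassFunction IrrCharacter classInner sigmaCore IsMinSimpleOddOrder IsCyclicTIFamily)
open scoped ComplexConjugate

universe u

variable {G : Type u} [Group G] [Fintype G]

/-- A class function orthogonal to a cyclic TI family vanishes on `Ẑ`. -/
theorem zero_on_zhat_of_perp {W₁ W₂ : Subgroup G} (hW : Cfsg.IsSelfNormalizingCyclic W₁ W₂)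
    {χ : (↥(W₁ ⊔ W₂) →* ℂˣ) → (G → ℂ)} (hχ : IsCyclicTIFamily W₁ W₂ χ) {f : G → ℂ}
    (hf : IsClassFunction G f) (h : ∀ ω, classInner f (χ ω) = 0) (w : ↥(W₁ ⊔ W₂))
    (h1 : (w : G) ∉ W₁) (h2 : (w : G) ∉ W₂) : f w = 0 := by
  classical
  let _ : Fintype ↥(W₁ ⊔ W₂) := Fintype.ofFinite _
  refine vanish_of_perp_alpha hW (fun w : ↥(W₁ ⊔ W₂) => f w) (fun φ ψ hφ1 hψ1 hφ hψ => ?_) w h1 h2
  have e : (fun g => 1 - χ φ g - χ ψ g + χ (φ * ψ) g) = χ 1 - χ φ - χ ψ + χ (φ * ψ) := by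
    funext g
    simp [hχ.map_one]
  rw [← classInner_indFun_right _ _ _ hf]
  unfold alphaFun
  rw [hχ.induced_eq φ ψ hφ1 hψ1 hφ hψ, e]
  simp [classInner_add_right, classInner_sub_right, h]

variable (hG : IsMinSimpleOddOrder G) {M N K : Subgroup G} (hM : FpfAb M) (F : Family M)
  (hN : IsCoatom N) (hK : Cfsg.IsPiHallOf (Cfsg.kappa N) K N) (hK1 : K ≠ ⊥)
include hG hM hN hK hK1

/-- All members agree on the orbit of `Ẑ`. -/
theorem Family.mu_orbit_const (i l : Member M) {g : G} (hg : g ∈ Zhat.orbit N K) :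
    (F.μ i : G → ℂ) g = (F.μ l : G → ℂ) g := by
  have h0 : tau M (i.1 - l.1) g = 0 := tau_eq_zero' (Cover.orbit_not_tilde hG hN hK hK1 hM.coatom hg)
  rw [F.image, Pi.smul_apply, smul_eq_mul, Pi.sub_apply, mul_eq_zero, sub_eq_zero] at h0
  exact h0.resolve_left (left_ne_zero_of_mul_eq_one F.eps_sq)

/-- The members vanish on the orbit of `Ẑ`. -/
theorem Family.mu_orbit_zero (i : Member M) {g : G} (hg : g ∈ Zhat.orbit N K) :
    (F.μ i : G → ℂ) g = 0 := by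
  obtain ⟨U, d⟩ := Decomp.exists_decomp hG hN hK
  set W₂ := sigmaCore N ⊓ centralizer (K : Set G) with hW₂
  have hkap : Rect.Kappa N K U W₂ := ⟨hG, hN, d, hK1, rfl⟩
  obtain ⟨χ, hχ⟩ := exists_cyclic_ti_family hkap.snc hkap.odd_sup
  obtain ⟨y, z, hz, rfl⟩ := hg
  rw [isClassFunction_irr (F.μ i) z y]
  have hzK : z ∉ K := fun h => hz.2 (Or.inl h)
  have hzW : z ∉ W₂ := fun h => hz.2 (Or.inr h)
  refine zero_on_zhat_of_perp hkap.snc hχ (isClassFunction_irr _) (fun ω => ?_) ⟨z, hz.1⟩ hzK hzW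
  refine Rect.perp_of_conj hkap.snc hkap.odd_sup hχ (F.μ i).2 (F.mu_ne_one hG hM i) (fun w h1 h2 => ?_) ω
  have hw : (w : G) ∈ Zhat.orbit N K :=
    ⟨1, w, ⟨w.2, fun h => h.elim h1 h2⟩, by simp⟩
  exact (F.mu_orbit_const hG hM hN hK hK1 i (i.conj hG) hw).trans (congrFun (F.mu_conj hG hM i) _)

/-- `ψ(k w) = 0`. -/
theorem Family.mu_mul_zero (i : Member M) {k w : G} (hk : k ∈ K) (hk1 : k ≠ 1)
    (hw : w ∈ sigmaCore N) (hwK : w ∈ centralizer (K : Set G)) (hw1 : w ≠ 1) :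
    (F.μ i : G → ℂ) (k * w) = 0 :=
  F.mu_orbit_zero hG hM hN hK hK1 i
    ⟨1, k * w, Cover.mul_mem_zhat hG hN hK hk hk1 (mem_inf.2 ⟨hw, hwK⟩) hw1, by simp⟩

omit hM in
/-- `C(k) ∩ C(w) ≤ N`. -/
theorem centralizer_inf_le {k w c : G} (hk : k ∈ K) (hk1 : k ≠ 1) (hw : w ∈ sigmaCore N)
    (hwK : w ∈ centralizer (K : Set G)) (hw1 : w ≠ 1) (hck : c * k = k * c) (hcw : c * w = w * c) :
    c ∈ N := by
  obtain ⟨U, d⟩ := Decomp.exists_decomp hG hN hK
  refine OddType.zhat_centralizer hG hN d hK1 (one_mem N)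
    (Cover.mul_mem_zhat hG hN hK hk hk1 (mem_inf.2 ⟨hw, hwK⟩) hw1) ?_
  simp only [one_mul, inv_one, mul_one, mem_centralizer_singleton_iff]
  exact ((show Commute c k from hck).mul_right hcw).eq

end CfsgLib.FT
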