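import Cfsg.Agent.Lib.FT.Kernels
import Cfsg.Agent.Lib.Coprime.FpfAction
import Cfsg.Agent.S1435

/-!
# The last step of the short route to the odd order theorem: the maximal subgroup over `N(U)`

`S`, `T` partners with `U ≠ 1`, `T_σ` elementary abelian: the maximal subgroup `L` over `N(U)` is a
Frobenius group whose complement `E = L ∩ T` has order `q` or `p q`.
-/

set_option autoImplicit false
set_option linter.style.haveILetI false
set_option linter.unusedSectionVars false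

open Subgroup
open CfsgLib.Coprime (conjBy conjBy_conjBy conjBy_one conj_mem_conjBy)

namespace CfsgLib.FT

open CfsgLib.CFun CfsgLib.CFun.TauTwo CfsgLib.CFun.Lines CfsgLib.CFun.Kappa CfsgLib.CFun.Partner

universe u

variable {G : Type u} [Group G] [Finite G]

/-- The two members of a pair in the other order, when both are of type II. -/
theorem Pair.swap {S T W₁ W₂ U V : Subgroup G} (hP : Pair S T W₁ W₂ U V) (hU : U ≠ ⊥) :
    Pair T S W₂ W₁ V U :=
  ⟨hP.coatomT, hP.coatomS, hP.decompT, hP.decompS, hP.eqW₂, hP.eqW₁, hP.neW₂, hP.neW₁, hU,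
    hP.notConj.symm⟩

namespace Final

/-- What is known on a maximal subgroup over the normalizer of `U`. -/
structure Neighbour (S T W₁ W₂ U L E : Subgroup G) (p q : ℕ) : Prop where
  coatom : IsCoatom L
  kappaEmpty : Cfsg.kappa L = ∅
  compl : Cfsg.IsComplIn E (Cfsg.sigmaCore L) L
  frob : ∀ h ∈ Cfsg.sigmaCore L, h ≠ 1 → L ⊓ centralizer ({h} : Set G) ≤ Cfsg.sigmaCore L
  core : U ≤ Cfsg.sigmaCore L
  normU : normalizer (U : Set G) ≤ L
  eqE : E = L ⊓ T
  leE : W₁ ≤ E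
  notConjS : CfsgLib.CFun.TauTwo.NotConj S L
  notConjT : CfsgLib.CFun.TauTwo.NotConj T L
  cardE : Nat.card E = q ∨ Nat.card E = p * q
  conj : Nat.card E = p * q → ∃ y ∈ Cfsg.sigmaCore T, ∀ x ∈ W₂, y * x * y⁻¹ ∈ E
  ne : Nat.card (Cfsg.sigmaCore L) = Nat.card U → Nat.card E ≠ q

omit [Finite G] in
/-- An element normalising a line of order `q` whose order is prime to `q - 1` centralises it. -/
theorem centralizes_line {q : ℕ} [Fact q.Prime] {W : Subgroup G} (hW : Nat.card W = q) {g : G}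
    (hg : g ∈ normalizer (W : Set G)) (hcop : (orderOf g).Coprime (q - 1)) :
    g ∈ centralizer (W : Set G) := by
  haveI : IsCyclic W := isCyclic_of_prime_card hW
  haveI : Finite W := Nat.finite_of_card_ne_zero (by rw [hW]; exact (Fact.out : q.Prime).ne_zero)
  set f := normalizerMonoidHom W
  have hcard : Nat.card (MulAut W) = q - 1 := by
    rw [Nat.card_congr (IsCyclic.mulAutMulEquiv W).toEquiv, hW, Nat.card_eq_fintype_card,
      ZMod.card_units]
  have h1 : orderOf (f ⟨g, hg⟩) ∣ orderOf g := by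
    rw [← Subgroup.orderOf_mk g hg]
    exact orderOf_map_dvd f _
  have h2 : f ⟨g, hg⟩ = 1 := orderOf_eq_one_iff.1 (Nat.eq_one_of_dvd_coprimes hcop h1
    (hcard ▸ orderOf_dvd_natCard _))
  refine mem_centralizer_iff.2 fun w hw => ?_
  have h3 : g * w * g⁻¹ = w :=
    congrArg Subtype.val (congrArg (fun φ : MulAut W => φ ⟨w, hw⟩) h2)
  exact (mul_inv_eq_iff_eq_mul.1 h3).symm

variable (hG : Cfsg.IsMinSimpleOddOrder G) (hNB : NoBad G) {S T W₁ W₂ U V : Subgroup G} {p q : ℕ}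
include hG hNB

/-- In `T` the normalizer of `W₁` lies in `T_σ W₂`. -/
theorem normalizer_line_le (hP : Pair S T W₁ W₂ U V) [Fact q.Prime]
    (hQ : IsMulCommutative (Cfsg.sigmaCore T)) (hW₁ : Nat.card W₁ = q)
    (hcop : (Nat.card V).Coprime (q - 1)) :
    T ⊓ normalizer (W₁ : Set G) ≤ W₂ ⊔ Cfsg.sigmaCore T := by
  have hWQ : W₁ ≤ Cfsg.sigmaCore T := hP.eqW₁ ▸ inf_le_left
  have hC : W₂ ⊔ Cfsg.sigmaCore T ≤ centralizer (W₁ : Set G) :=
    sup_le (le_centralizer_iff.1 (hP.eqW₁ ▸ inf_le_right))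
      (fun t ht => mem_centralizer_iff.2 fun w hw =>
        congrArg Subtype.val (hQ.is_comm.comm (⟨w, hWQ hw⟩ : Cfsg.sigmaCore T) ⟨t, ht⟩))
  intro m hm
  obtain ⟨hmT, hmN⟩ := mem_inf.1 hm
  obtain ⟨v, hv, b, hb, rfl⟩ := hP.decompT.compl.2.2.2 m hmT
  have hbN : b ∈ normalizer (W₁ : Set G) :=
    CfsgLib.Coprime.centralizer_le_normalizer_self _ (hC hb)
  have hvN : v ∈ normalizer (W₁ : Set G) := by
    have := mul_mem hmN (inv_mem hbN)
    rwa [mul_inv_cancel_right] at this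
  have hvC := centralizes_line hW₁ hvN (hcop.coprime_dvd_left (Subgroup.orderOf_dvd_natCard V hv))
  obtain ⟨w, hw, hw1⟩ := (bot_or_exists_ne_one W₁).resolve_left hP.neW₁
  have hv1 : v = 1 := by
    by_contra hv1
    refine hw1 (mem_bot.1 (regular_U hG hNB hP.coatomT hP.decompT hv hv1 ▸ mem_inf.2 ⟨hWQ hw, ?_⟩))
    exact mem_centralizer_singleton_iff.2 (mem_centralizer_iff.1 hvC w hw)
  rwa [hv1, one_mul]

/-- The maximal subgroup over `N(U)`. -/
theorem exists_neighbour (hP : Pair S T W₁ W₂ U V) (hU : U ≠ ⊥) [hp : Fact p.Prime]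
    [hq : Fact q.Prime] (hne : p ≠ q) (hQ : Cfsg.IsElementaryAbelian q (Cfsg.sigmaCore T))
    (hW₁ : Nat.card W₁ = q) (hW₂ : Nat.card W₂ = p) (hcop : (Nat.card V).Coprime (q - 1)) :
    ∃ L E : Subgroup G, Neighbour S T W₁ W₂ U L E p q := by
  have hS := hP.coatomS
  obtain ⟨r, hr, hrU⟩ := Nat.exists_prime_and_dvd (fun e : Nat.card U = 1 => hU (card_eq_one.1 e))
  haveI : Fact r.Prime := ⟨hr⟩
  obtain ⟨hrσ, hrκ⟩ := Decomp.primes hG hS hP.decompS hr hrU
  have hrq : r ≠ q := fun e => hrκ (e ▸ hP.decompS.hall.2.1 q hq.out (hW₁ ▸ dvd_rfl))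
  haveI := Decomp.isMulCommutative hG hS hP.decompS hP.neW₁
  obtain ⟨R⟩ := (inferInstance : Nonempty (Sylow r U))
  haveI : (R : Subgroup U).Normal := ⟨fun a ha b => by rwa [mul_comm' b a, mul_inv_cancel_right]⟩
  haveI := Sylow.characteristic_of_normal R ‹_›
  have hR1 : (R : Subgroup U).map U.subtype ≠ ⊥ := fun e => by
    rw [map_eq_bot_iff_of_injective _ U.subtype_injective] at e
    exact R.ne_bot_of_dvd_card hrU e
  obtain ⟨L, hL, hNR⟩ := exists_coatom_normalizer hG hR1 fun e => hS.1 <| top_le_iff.1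
    (e ▸ (map_subtype_le _).trans hP.decompS.compl.1)
  have hNU : normalizer (U : Set G) ≤ L :=
    (CfsgLib.PGroup.normalizer_le_normalizer_map_char _ _).trans hNR
  have hKst : W₁ = Cfsg.sigmaCore T ⊓
      centralizer ((Cfsg.sigmaCore S ⊓ centralizer (W₁ : Set G)) : Set G) := by
    rw [Inter.coe_inf', hP.eqW₂, hP.eqW₁]
  have hKstH : Cfsg.IsPiHallOf (Cfsg.kappa T) (Cfsg.sigmaCore S ⊓ centralizer (W₁ : Set G)) T :=
    hP.eqW₂.symm ▸ hP.decompT.hall
  obtain ⟨hκ, hUσ, hinter, -, hWF, hcompl⟩ := Cfsg.Agent.S1435.result hG S hS W₁ U hP.decompS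
    hP.neW₁ hU T hP.coatomT hKst hKstH r hrU R L hL hNR
  have hncS : NotConj S L := fun g hg => hrσ (ElemCent.mem_sigma_conjBy hG hS (g := g)
    (hg.symm ▸ (sigmaCore_hall hG hL).1.2.1 r hr (hrU.trans (card_dvd_of_le hUσ))))
  have hncT : NotConj T L := fun g hg => by
    obtain ⟨x, hxo⟩ := exists_prime_orderOf_dvd_card' r hrU
    rw [← Subgroup.orderOf_coe] at hxo
    have hxL := hUσ x.2
    have h := Tilde.conj_mem_sigmaCore hG hL g⁻¹ hxL
    rw [← hg, conjBy_conjBy, inv_mul_cancel, conjBy_one] at h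
    have h1 : orderOf (g⁻¹ * (x : G) * g⁻¹⁻¹) = r := by
      rw [← hxo]; exact orderOf_injective (MulAut.conj g⁻¹).toMonoidHom (MulEquiv.injective _) _
    exact hrq ((Nat.prime_dvd_prime_iff_eq hr hq.out).1
      (h1 ▸ orderOf_dvd_of_pow_eq_one (hQ.2 _ h)))
  obtain ⟨KL, UL, dL⟩ := Chain.exists_decomposition hG hL
  have hKL : KL = ⊥ := by
    by_contra hne'
    obtain ⟨t, ht, htd⟩ := Nat.exists_prime_and_dvd (fun e : Nat.card KL = 1 => hne' (card_eq_one.1 e))
    have := dL.hall.2.1 t ht htd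
    rw [hκ] at this
    exact this
  have hfrob : ∀ h ∈ Cfsg.sigmaCore L, h ≠ 1 → L ⊓ centralizer ({h} : Set G) ≤ Cfsg.sigmaCore L :=
    fun h hh hh1 => centralizer_le_of_bot hG hNB hL dL hKL hh hh1
  set E := L ⊓ T with hE
  set Q := Cfsg.sigmaCore T with hQdef
  have hWE : W₁ ≤ E := hWF.trans (map_subtype_le _)
  have hWQ : W₁ ≤ Q := hP.eqW₁ ▸ inf_le_left
  -- `E ∩ T_σ = W₁`
  have hEQ : E ⊓ Q = W₁ := by
    haveI : IsMulCommutative ↥(E ⊓ Q) := ⟨⟨fun a b => Subtype.ext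
      (congrArg Subtype.val (hQ.1.is_comm.comm (⟨a, (mem_inf.1 a.2).2⟩ : Q) ⟨b, (mem_inf.1 b.2).2⟩) :)⟩⟩
    have hfpf : CfsgLib.Coprime.IsFpfOn (E ⊓ Q) (Cfsg.sigmaCore L) := fun a ha ha1 => by
      refine eq_bot_iff.2 fun h hh => ?_
      rw [mem_bot]
      by_contra hh1
      obtain ⟨hhσ, hhc⟩ := mem_inf.1 hh
      refine ha1 (mem_bot.1 (hcompl.2.2.1 ▸ mem_inf.2 ⟨(mem_inf.1 ha).1,
        hfrob h hhσ hh1 (mem_inf.2 ⟨(mem_inf.1 (mem_inf.1 ha).1).1, ?_⟩)⟩))
      exact mem_centralizer_singleton_iff.2 (mem_centralizer_singleton_iff.1 hhc).symm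
    haveI := hfpf.isCyclic ((inf_le_left.trans inf_le_left).trans (sigmaCore_normal hG L))
      (sigmaCore_ne_bot hG hL)
    obtain ⟨g, hg⟩ := IsCyclic.exists_generator (α := ↥(E ⊓ Q))
    have h1 : Nat.card ↥(E ⊓ Q) ∣ q := by
      rw [← orderOf_eq_card_of_forall_mem_zpowers hg, ← Subgroup.orderOf_coe]
      exact orderOf_dvd_of_pow_eq_one (hQ.2 _ (mem_inf.1 g.2).2)
    exact (eq_of_le_of_card_ge (le_inf hWE hWQ) (by rw [hW₁]; exact Nat.le_of_dvd hq.out.pos h1)).symm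
  have hEN : E ≤ T ⊓ normalizer (W₁ : Set G) := le_inf inf_le_right (hEQ ▸
    CfsgLib.Coprime.inf_le_normalizer le_normalizer (inf_le_right.trans (sigmaCore_normal hG T)))
  have hER : E ≤ W₂ ⊔ Q :=
    hEN.trans (normalizer_line_le hG hNB hP hQ.1 hW₁ hcop)
  have hW₂Q : W₂ ≤ normalizer (Q : Set G) := hP.decompT.hall.1.trans (sigmaCore_normal hG T)
  have hRcard : Nat.card ↥(W₂ ⊔ Q) ∣ p * Nat.card Q := by
    have := CfsgLib.Coprime.card_sup_dvd_of_le_normalizer hW₂Q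
    rwa [hW₂] at this
  -- the order of `E`
  have hcardE : Nat.card E = q ∨ Nat.card E = p * q := by
    haveI := normal_subgroupOf_of_le_normalizer (sup_le hW₂Q le_normalizer)
    have h1 : Q.relIndex E ∣ p := by
      have h2 : Q.relIndex E ∣ Q.relIndex (W₂ ⊔ Q) := by
        rw [← relIndex_subgroupOf hER]
        exact relIndex_dvd_index_of_normal _ _
      refine h2.trans (Nat.dvd_of_mul_dvd_mul_left (Nat.card_pos : 0 < Nat.card Q) ?_)
      rw [CfsgLib.Coprime.card_mul_relIndex le_sup_right, mul_comm]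
      exact hRcard
    have h3 : Nat.card E = q * Q.relIndex E := by
      rw [← inf_relIndex_right, inf_comm, hEQ, ← hW₁, CfsgLib.Coprime.card_mul_relIndex hWE]
    rcases (Nat.dvd_prime hp.out).1 h1 with h | h
    · left; rw [h3, h, mul_one]
    · right; rw [h3, h, mul_comm]
  refine ⟨L, E, hL, hκ, hcompl, hfrob, hUσ, hNU, rfl, hWE, hncS, hncT, hcardE, fun he => ?_,
    fun hl he => ?_⟩
  · obtain ⟨z, hz⟩ := exists_prime_orderOf_dvd_card' (G := ↥E) p (by rw [he]; exact dvd_mul_right p q)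
    have hzR : zpowers (z : G) ≤ W₂ ⊔ Q := zpowers_le.2 (hER z.2)
    have hQp : ¬ p ∣ Nat.card Q := fun hd => by
      obtain ⟨a, ha⟩ := exists_prime_orderOf_dvd_card' p hd
      rw [← Subgroup.orderOf_coe] at ha
      exact hne ((Nat.prime_dvd_prime_iff_eq hp.out hq.out).1
        (ha ▸ orderOf_dvd_of_pow_eq_one (hQ.2 _ a.2)))
    have hfac : (Nat.card ↥(W₂ ⊔ Q)).factorization p = 1 := by
      refine le_antisymm ?_ ?_
      · calc _ ≤ (p * Nat.card Q).factorization p :=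
              (Nat.factorization_le_iff_dvd Nat.card_pos.ne'
                (mul_ne_zero hp.out.ne_zero Nat.card_pos.ne')).2 hRcard p
          _ = 1 := by
              rw [Nat.factorization_mul hp.out.ne_zero Nat.card_pos.ne', Finsupp.add_apply,
                hp.out.factorization_self, Nat.factorization_eq_zero_of_not_dvd hQp]
      · exact hp.out.factorization_pos_of_dvd Nat.card_pos.ne' (hW₂ ▸ card_dvd_of_le le_sup_left)
    obtain ⟨g, hg, hgW⟩ := CfsgLib.Coprime.IsSylowIn.exists_conj (p := p)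
      (P := W₂) (Q := zpowers (z : G)) (K := W₂ ⊔ Q)
      ⟨le_sup_left, by rw [hfac, pow_one, hW₂]⟩
      ⟨hzR, by rw [hfac, pow_one, Nat.card_zpowers, Subgroup.orderOf_coe, hz]⟩
    obtain ⟨y, hy, w, hw, rfl⟩ := CfsgLib.Coprime.mem_sup_exists hW₂Q (sup_comm W₂ Q ▸ hg)
    refine ⟨y, hy, fun x hx => ?_⟩
    have hx' : w⁻¹ * x * w ∈ W₂ := mul_mem (mul_mem (inv_mem hw) hx) hw
    have h : y * w * (w⁻¹ * x * w) * (y * w)⁻¹ ∈ zpowers (z : G) := hgW ▸ conj_mem_conjBy hx'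
    rw [show y * x * y⁻¹ = y * w * (w⁻¹ * x * w) * (y * w)⁻¹ by group]
    exact zpowers_le.2 z.2 h
  · have hLS : L ≤ S := fun m hm => by
      obtain ⟨a, ha, b, hb, rfl⟩ := hcompl.2.2.2 m hm
      have hEW : E = W₁ := (eq_of_le_of_card_ge hWE (by rw [he, hW₁])).symm
      have hUL : U = Cfsg.sigmaCore L := eq_of_le_of_card_ge hUσ hl.le
      exact mul_mem (hP.decompS.hall.1 (hEW ▸ ha)) (hP.decompS.compl.1 (hUL ▸ hb))
    refine hncS 1 ?_
    rw [conjBy_one]
    exact ((hL.le_iff.1 hLS).resolve_left hS.1).symm ▸ rfl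

end Final

end CfsgLib.FT
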