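import Mathlib.Algebra.BigOperators.Ring.Nat
import Mathlib.Algebra.Field.GeomSum
import Mathlib.Algebra.Order.BigOperators.Group.Finset
import Mathlib.Data.Nat.Prime.Basic
import Mathlib.Data.ZMod.Basic
import Mathlib.FieldTheory.Finite.Basic
import Mathlib.Analysis.Real.Sqrt
import Mathlib.Tactic

/-!
# The arithmetic after the slack inequalities of `docs/FT.md`, §3

`both_full`: `(u+1)/p^{q-1} + (v+1)/q^{p-1} ≥ 2` makes `u` and `v` full.
`full_of_slack`: for a prime `e`, `p err + e (v+1)/e^p ≥ 2` makes `v` full.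
`no_composite`: it is impossible for a composite `e`.
-/

set_option autoImplicit false

namespace CfsgLib.FT

open Finset

/-- `1 + e + ⋯ + e ^ (p - 1)`. -/
def full (e p : ℕ) : ℕ := ∑ i ∈ range p, e ^ i

theorem full_mul (e p : ℕ) (he : 1 ≤ e) : full e p * (e - 1) = e ^ p - 1 := by
  have h := geom_sum_mul_add (e - 1) p
  rw [show e - 1 + 1 = e by omega] at h
  unfold full
  omega

theorem full_lt (e p : ℕ) (he : 1 ≤ e) : (full e p : ℝ) * ((e : ℝ) - 1) < (e : ℝ) ^ p := by
  have h := full_mul e p he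
  have h1 : ((full e p * (e - 1) : ℕ) : ℝ) = ((e ^ p - 1 : ℕ) : ℝ) := by rw [h]
  rw [Nat.cast_mul, Nat.cast_sub he, Nat.cast_sub (Nat.one_le_pow _ _ he)] at h1
  push_cast at h1
  linarith

theorem odd_full {e p : ℕ} (he : Odd e) (hp : Odd p) : Odd (full e p) := by
  rw [full, Finset.odd_sum_iff_odd_card_odd, Finset.filter_true_of_mem fun i _ => he.pow, card_range]
  exact hp

theorem sq_le_full {e p : ℕ} (hp : 3 ≤ p) : e ^ 2 ≤ full e p :=
  Finset.single_le_sum (f := fun i => e ^ i) (fun _ _ => Nat.zero_le _)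
    (Finset.mem_range.2 (by omega))

/-- A proper divisor of an odd number is at most a third of it. -/
theorem three_mul_le_of_dvd {u N : ℕ} (hN : Odd N) (hd : u ∣ N) (hne : u ≠ N) : 3 * u ≤ N := by
  obtain ⟨c, rfl⟩ := hd
  rcases c with _ | _ | _ | c
  · simp at hN
  · simp at hne
  · simp [Nat.odd_mul, show ¬ Odd 2 by decide] at hN
  · nlinarith

theorem full_mod_of_dvd {e p : ℕ} (he : 1 ≤ e) (h : p ∣ e - 1) : p ∣ full e p := by
  rw [full, ← ZMod.natCast_eq_zero_iff]
  push_cast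
  have : (e : ZMod p) = 1 := by
    have h1 : ((e - 1 : ℕ) : ZMod p) = 0 := (ZMod.natCast_eq_zero_iff _ _).2 h
    rw [Nat.cast_sub he, Nat.cast_one, sub_eq_zero] at h1
    exact h1
  simp [this]

theorem full_mod_of_not_dvd {e p : ℕ} (hp : p.Prime) (he : 1 ≤ e) (h : ¬ p ∣ e - 1) :
    full e p % p = 1 := by
  haveI := Fact.mk hp
  have h1 : ((full e p * (e - 1) : ℕ) : ZMod p) = ((e ^ p - 1 : ℕ) : ZMod p) := by rw [full_mul e p he]
  rw [Nat.cast_mul, Nat.cast_sub (Nat.one_le_pow _ _ he), Nat.cast_pow, ZMod.pow_card, Nat.cast_sub he,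
    Nat.cast_one] at h1
  have h2 : ((e : ZMod p) - 1) ≠ 0 := by
    have : ((e - 1 : ℕ) : ZMod p) ≠ 0 := fun hh => h ((ZMod.natCast_eq_zero_iff _ _).1 hh)
    rwa [Nat.cast_sub he, Nat.cast_one] at this
  have h3 : (full e p : ZMod p) = ((1 : ℕ) : ZMod p) := by
    rw [Nat.cast_one]
    exact mul_right_cancel₀ h2 (by rw [h1, one_mul])
  rw [ZMod.natCast_eq_natCast_iff', Nat.one_mod_eq_one.2 hp.ne_one] at h3
  exact h3

/-- The general bound `(u+1)/p^{q-1} ≤ p/(p-1) + 1/p^{q-1}`, divided by a cofactor `c`. -/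
theorem ratio_le {p q : ℕ} {u : ℕ} {c : ℝ} (hp : 2 ≤ p) (hq : 1 ≤ q) (hc : 0 < c)
    (h : (u : ℝ) * c ≤ full p q) :
    ((u : ℝ) + 1) / (p : ℝ) ^ (q - 1) ≤ (p : ℝ) / (c * ((p : ℝ) - 1)) + 1 / (p : ℝ) ^ (q - 1) := by
  have hp1 : (0 : ℝ) < (p : ℝ) - 1 := by
    have : (2 : ℝ) ≤ p := by exact_mod_cast hp
    linarith
  have hpow : (0 : ℝ) < (p : ℝ) ^ (q - 1) := by positivity
  rw [add_div]
  refine add_le_add ?_ le_rfl
  rw [div_le_div_iff₀ hpow (mul_pos hc hp1)]
  have h1 := full_lt p q (by omega)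
  rw [show (p : ℝ) ^ q = (p : ℝ) * (p : ℝ) ^ (q - 1) by
    rw [← pow_succ', Nat.sub_add_cancel hq]] at h1
  nlinarith

theorem one_div_pow_le {e p a b : ℕ} (ha : 1 ≤ a) (hae : a ≤ e) (hbp : b ≤ p - 1) :
    (1 : ℝ) / (e : ℝ) ^ (p - 1) ≤ 1 / (a : ℝ) ^ b := by
  have h1 : a ^ b ≤ e ^ (p - 1) :=
    (Nat.pow_le_pow_left hae b).trans (Nat.pow_le_pow_right (by omega) hbp)
  exact one_div_le_one_div_of_le (pow_pos (by exact_mod_cast (by omega : 0 < a)) _)
    (by exact_mod_cast h1)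

/-- `x/(c(x-1))` decreases in `c` and in `x`. -/
theorem div_mul_sub_le {x c : ℝ} {a b : ℝ} (ha : 1 < a) (hax : a ≤ x) (hb : 0 < b) (hbc : b ≤ c) :
    x / (c * (x - 1)) ≤ a / (b * (a - 1)) := by
  rw [div_le_div_iff₀ (mul_pos (lt_of_lt_of_le hb hbc) (by linarith)) (mul_pos hb (by linarith))]
  nlinarith [mul_le_mul_of_nonneg_right hbc (mul_nonneg (le_trans zero_le_one (ha.le.trans hax))
    (by linarith : (0 : ℝ) ≤ a - 1)), mul_nonneg (le_trans hb.le hbc) (by linarith : (0 : ℝ) ≤ x - a)]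

theorem both_full_left {p q u v : ℕ} (hp : p.Prime) (hq : q.Prime) (hp2 : Odd p) (hq2 : Odd q)
    (hne : p ≠ q) (hu : u ∣ full p q ∨ u ∣ p - 1) (hv : v ≤ full q p)
    (h : 2 ≤ ((u : ℝ) + 1) / (p : ℝ) ^ (q - 1) + ((v : ℝ) + 1) / (q : ℝ) ^ (p - 1)) :
    u = full p q := by
  by_contra hne'
  have hp3 : 3 ≤ p := by obtain ⟨k, hk⟩ := hp2; have := hp.two_le; omega
  have hq3 : 3 ≤ q := by obtain ⟨k, hk⟩ := hq2; have := hq.two_le; omega
  have h3u : 3 * u ≤ full p q := by
    rcases hu with hd | hd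
    · exact three_mul_le_of_dvd (odd_full hp2 hq2) hd hne'
    · have := Nat.le_of_dvd (by omega) hd
      have := sq_le_full (e := p) hq3
      have : u ≤ p := by omega
      nlinarith
  have h1 := ratio_le (p := p) (q := q) (u := u) (c := 3) (by omega) (by omega) (by norm_num)
    (by rw [mul_comm]; exact_mod_cast h3u)
  have h2 := ratio_le (p := q) (q := p) (u := v) (c := 1) (by omega) (by omega) one_pos
    (by rw [mul_one]; exact_mod_cast hv)
  by_cases hp5 : p = 3
  · have hq5 : 5 ≤ q := by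
      obtain ⟨k, hk⟩ := hq2
      omega
    have a1 := div_mul_sub_le (x := (p : ℝ)) (c := 3) (a := 3) (b := 3) (by norm_num)
      (by exact_mod_cast hp3) (by norm_num) le_rfl
    have a2 := div_mul_sub_le (x := (q : ℝ)) (c := 1) (a := 5) (b := 1) (by norm_num)
      (by exact_mod_cast hq5) one_pos le_rfl
    have b1 := one_div_pow_le (e := p) (p := q) (a := 3) (b := 4) (by norm_num) hp3 (by omega)
    have b2 := one_div_pow_le (e := q) (p := p) (a := 5) (b := 2) (by norm_num) hq5 (by omega)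
    norm_num at a1 a2 b1 b2 h1 h2 h
    linarith
  · have hp5' : 5 ≤ p := by
      obtain ⟨k, hk⟩ := hp2
      omega
    have a1 := div_mul_sub_le (x := (p : ℝ)) (c := 3) (a := 5) (b := 3) (by norm_num)
      (by exact_mod_cast hp5') (by norm_num) le_rfl
    have a2 := div_mul_sub_le (x := (q : ℝ)) (c := 1) (a := 3) (b := 1) (by norm_num)
      (by exact_mod_cast hq3) one_pos le_rfl
    have b1 := one_div_pow_le (e := p) (p := q) (a := 5) (b := 2) (by norm_num) hp5' (by omega)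
    have b2 := one_div_pow_le (e := q) (p := p) (a := 3) (b := 4) (by norm_num) hq3 (by omega)
    norm_num at a1 a2 b1 b2 h1 h2 h
    linarith

/-- Both type II: both complements are full. -/
theorem both_full {p q u v : ℕ} (hp : p.Prime) (hq : q.Prime) (hp2 : Odd p) (hq2 : Odd q)
    (hne : p ≠ q) (hu : u ∣ full p q ∨ u ∣ p - 1) (hu1 : u % q = 1)
    (hv : v ∣ full q p ∨ v ∣ q - 1) (hv1 : v % p = 1)
    (h : 2 ≤ ((u : ℝ) + 1) / (p : ℝ) ^ (q - 1) + ((v : ℝ) + 1) / (q : ℝ) ^ (p - 1)) :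
    u = full p q ∧ v = full q p ∧ ¬ q ∣ p - 1 ∧ ¬ p ∣ q - 1 := by
  have hp3 : 3 ≤ p := by obtain ⟨k, hk⟩ := hp2; have := hp.two_le; omega
  have hq3 : 3 ≤ q := by obtain ⟨k, hk⟩ := hq2; have := hq.two_le; omega
  have hu' : u ≤ full p q := by
    rcases hu with hd | hd
    · exact Nat.le_of_dvd ((odd_full hp2 hq2).pos) hd
    · have := Nat.le_of_dvd (by omega) hd
      have := sq_le_full (e := p) hq3
      have : u ≤ p := by omega
      nlinarith
  have hv' : v ≤ full q p := by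
    rcases hv with hd | hd
    · exact Nat.le_of_dvd ((odd_full hq2 hp2).pos) hd
    · have := Nat.le_of_dvd (by omega) hd
      have := sq_le_full (e := q) hp3
      have : v ≤ q := by omega
      nlinarith
  have eu := both_full_left hp hq hp2 hq2 hne hu hv' h
  have ev := both_full_left hq hp hq2 hp2 hne.symm hv hu' (by linarith)
  refine ⟨eu, ev, fun hd => ?_, fun hd => ?_⟩
  · have := full_mod_of_dvd (by omega : 1 ≤ p) hd
    rw [← eu, Nat.dvd_iff_mod_eq_zero] at this
    omega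
  · have := full_mod_of_dvd (by omega : 1 ≤ q) hd
    rw [← ev, Nat.dvd_iff_mod_eq_zero] at this
    omega

/-- The two forms of the error term of the S side. -/
def SlackErr (p e k₀ d : ℕ) (err : ℝ) : Prop :=
  (err = 1 / ((p : ℝ) - 1) + 1 / (4 * (k₀ : ℝ)) ∧ p ≤ k₀ ∧ 2 * e + 1 ≤ k₀) ∨
    (err = 1 / ((p : ℝ) - 1) + 1 / (4 * (k₀ : ℝ)) ∧ p = 3 ∧ 2 * e + 1 ≤ k₀) ∨
    (err = (1 + 1 / (2 * (d : ℝ))) ^ 2 / ((p : ℝ) - 1) ∧ 5 ≤ p ∧ 3 ≤ d)

theorem slackErr_le {p e k₀ d : ℕ} {err : ℝ} (hp3 : 3 ≤ p) (hp2 : Odd p)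
    (h : SlackErr p e k₀ d err) :
    (p = 3 ∧ (p : ℝ) * err ≤ 3 / 2 + 3 / (4 * (2 * (e : ℝ) + 1))) ∨
      (5 ≤ p ∧ (p : ℝ) * err ≤ 245 / 144) := by
  have hp1 : (0 : ℝ) < (p : ℝ) - 1 := by
    have : (3 : ℝ) ≤ p := by exact_mod_cast hp3
    linarith
  have general : err = 1 / ((p : ℝ) - 1) + 1 / (4 * (k₀ : ℝ)) → 2 * e + 1 ≤ k₀ → p = 3 →
      (p : ℝ) * err ≤ 3 / 2 + 3 / (4 * (2 * (e : ℝ) + 1)) := by
    rintro rfl hk rfl
    have hk' : (2 * (e : ℝ) + 1) ≤ k₀ := by exact_mod_cast hk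
    have : (1 : ℝ) / (4 * k₀) ≤ 1 / (4 * (2 * (e : ℝ) + 1)) :=
      one_div_le_one_div_of_le (by positivity) (by linarith)
    have e3 : (3 : ℝ) / (4 * (2 * (e : ℝ) + 1)) = 3 * (1 / (4 * (2 * (e : ℝ) + 1))) := by ring
    push_cast
    rw [e3]
    linarith
  have hfrac : 5 ≤ p → (p : ℝ) / ((p : ℝ) - 1) ≤ 5 / 4 := fun h5 => by
    have : (5 : ℝ) ≤ p := by exact_mod_cast h5
    rw [div_le_div_iff₀ hp1 (by norm_num)]
    linarith
  rcases h with ⟨he, hpk, hk⟩ | ⟨he, hp, hk⟩ | ⟨he, hp5, hd⟩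
  · by_cases h3 : p = 3
    · exact Or.inl ⟨h3, general he hk h3⟩
    · have hp5 : 5 ≤ p := by obtain ⟨k, hk⟩ := hp2; omega
      refine Or.inr ⟨hp5, ?_⟩
      subst he
      have hk0 : (0 : ℝ) < k₀ := by exact_mod_cast (by omega : 0 < k₀)
      have : (p : ℝ) * (1 / (4 * (k₀ : ℝ))) ≤ 1 / 4 := by
        rw [← mul_div_assoc, mul_one, div_le_div_iff₀ (by positivity) (by norm_num)]
        have : (p : ℝ) ≤ k₀ := by exact_mod_cast hpk
        linarith
      rw [mul_add, ← mul_div_assoc, mul_one]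
      linarith [hfrac hp5]
  · exact Or.inl ⟨hp, general he hk hp⟩
  · refine Or.inr ⟨hp5, ?_⟩
    subst he
    have hd' : (3 : ℝ) ≤ d := by exact_mod_cast hd
    have h1 : 1 / (2 * (d : ℝ)) ≤ 1 / 6 := one_div_le_one_div_of_le (by norm_num) (by linarith)
    have h2 : (1 + 1 / (2 * (d : ℝ))) ^ 2 ≤ 49 / 36 := by
      have h0 : (0 : ℝ) ≤ 1 / (2 * (d : ℝ)) := by positivity
      nlinarith
    rw [← mul_div_assoc, mul_comm, mul_div_assoc]
    calc (1 + 1 / (2 * (d : ℝ))) ^ 2 * ((p : ℝ) / ((p : ℝ) - 1)) ≤ 49 / 36 * (5 / 4) :=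
          mul_le_mul h2 (hfrac hp5) (by positivity) (by norm_num)
      _ = 245 / 144 := by norm_num

/-- A prime `e` with `p err + e (v+1)/e^p ≥ 2` makes `v` full. -/
theorem full_of_slack {p e v k₀ d : ℕ} {err : ℝ} (hp : p.Prime) (he : e.Prime) (hp2 : Odd p)
    (he2 : Odd e) (hne : p ≠ e) (hv : v ∣ full e p ∨ v ∣ e - 1) (hv1 : v % p = 1)
    (hE : SlackErr p e k₀ d err)
    (h : 2 ≤ (p : ℝ) * err + (e : ℝ) * ((v : ℝ) + 1) / (e : ℝ) ^ p) :
    v = full e p ∧ ¬ p ∣ e - 1 := by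
  have hp3 : 3 ≤ p := by obtain ⟨k, hk⟩ := hp2; have := hp.two_le; omega
  have he3 : 3 ≤ e := by obtain ⟨k, hk⟩ := he2; have := he.two_le; omega
  have hrw : (e : ℝ) * ((v : ℝ) + 1) / (e : ℝ) ^ p = ((v : ℝ) + 1) / (e : ℝ) ^ (p - 1) := by
    conv_lhs => rw [show p = p - 1 + 1 by omega, pow_succ', mul_div_mul_left _ _
      (show (e : ℝ) ≠ 0 by exact_mod_cast (by omega : e ≠ 0))]
  rw [hrw] at h
  have key : v = full e p := by
    by_contra hnf
    -- a cofactor
    have hcof : ∃ c : ℕ, v * c ≤ full e p ∧ 0 < c ∧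
        ((2 * p + 1 ≤ c) ∨ (p ≤ c ∧ 2 * p + 1 ≤ e)) := by
      rcases hv with hd | hd
      · by_cases hpe : p ∣ e - 1
        · have h1 := full_mod_of_dvd (by omega : 1 ≤ e) hpe
          have hcop : Nat.Coprime v p := (hp.coprime_iff_not_dvd.2 fun h' => by
            rw [Nat.dvd_iff_mod_eq_zero] at h'; omega).symm
          refine ⟨p, Nat.le_of_dvd (odd_full he2 hp2).pos (hcop.mul_dvd_of_dvd_of_dvd hd h1), hp.pos,
            Or.inr ⟨le_rfl, ?_⟩⟩
          obtain ⟨j, hj⟩ := hpe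
          obtain ⟨k, hk⟩ := hp2
          obtain ⟨l, hl⟩ := he2
          rcases j with _ | _ | j
          · omega
          · omega
          · have : p * 2 ≤ p * (j + 1 + 1) := Nat.mul_le_mul_left p (by omega)
            omega
        · obtain ⟨c, hc⟩ := hd
          have h1 := full_mod_of_not_dvd hp (by omega : 1 ≤ e) hpe
          rw [hc, Nat.mul_mod, hv1, one_mul, Nat.mod_mod] at h1
          have hcodd : Odd c := (Nat.odd_mul.1 (hc ▸ odd_full he2 hp2)).2
          have hc1 : c ≠ 1 := fun e1 => hnf (by rw [hc, e1, mul_one])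
          refine ⟨c, hc.ge, hcodd.pos, Or.inl ?_⟩
          obtain ⟨l, hl⟩ := hcodd
          have hdm := Nat.div_add_mod c p
          have hpodd := hp2
          obtain ⟨k, hk⟩ := hpodd
          rcases hj : c / p with _ | _ | j
          · rw [hj] at hdm; omega
          · rw [hj] at hdm; omega
          · rw [hj] at hdm; nlinarith
      · have hle := Nat.le_of_dvd (by omega) hd
        refine ⟨2 * p + 1, ?_, by omega, Or.inl le_rfl⟩
        -- `(e - 1) (2 p + 1) ≤ 1 + e + ⋯`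
        have hge : ∀ m : ℕ, 3 ≤ m → (e - 1) * (2 * m + 1) + 1 ≤ full e m + (if e = 3 then m else 0) := by
          intro m hm
          induction m, hm using Nat.le_induction with
          | base =>
            simp only [full, sum_range_succ, sum_range_zero, pow_zero, pow_one, zero_add]
            obtain ⟨a, rfl⟩ : ∃ a, e = a + 3 := ⟨e - 3, by omega⟩
            rw [show a + 3 - 1 = a + 2 by omega]
            split_ifs with ha
            · rw [show a = 0 by omega]
              norm_num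
            · have : 2 ≤ a := by
                obtain ⟨l, hl⟩ := he2
                omega
              nlinarith
          | succ m hm ih =>
            have hs : full e (m + 1) = full e m + e ^ m := sum_range_succ _ _
            have : e ^ 2 ≤ e ^ m := Nat.pow_le_pow_right (by omega) (by omega)
            rw [hs]
            split_ifs at ih ⊢ <;> nlinarith [Nat.sub_le e 1]
        by_cases he' : e = 3
        · subst he'
          have hv2 : v ≤ 2 := by simpa using hle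
          have hp5 : 5 ≤ p := by obtain ⟨k, hk⟩ := hp2; omega
          have hv1' : v = 1 := by
            rcases v with _ | _ | _ | v
            · simp at hv1
            · rfl
            · rw [Nat.mod_eq_of_lt (by omega)] at hv1; omega
            · omega
          subst hv1'
          have := hge p hp3
          simp only [if_true] at this
          have h9 := sq_le_full (e := 3) hp3
          omega
        · have := hge p hp3
          rw [if_neg he'] at this
          calc v * (2 * p + 1) ≤ (e - 1) * (2 * p + 1) := Nat.mul_le_mul hle le_rfl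
            _ ≤ full e p := by omega
    obtain ⟨c, hc, hc0, hcase⟩ := hcof
    have h1 := ratio_le (p := e) (q := p) (u := v) (c := (c : ℝ)) (by omega) (by omega)
      (by exact_mod_cast hc0) (by exact_mod_cast hc)
    rcases slackErr_le hp3 hp2 hE with ⟨h3, hb⟩ | ⟨hp5, hb⟩
    · subst h3
      have he5 : 5 ≤ e := by obtain ⟨l, hl⟩ := he2; omega
      have he5' : (5 : ℝ) ≤ e := by exact_mod_cast he5
      have b1 := one_div_pow_le (e := e) (p := 3) (a := 5) (b := 2) (by norm_num) he5 le_rfl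
      rcases hcase with hc7 | ⟨hc3, he7⟩
      · have a1 := div_mul_sub_le (x := (e : ℝ)) (c := (c : ℝ)) (a := 5) (b := 7) (by norm_num) he5'
          (by norm_num) (by exact_mod_cast hc7)
        have : (3 : ℝ) / (4 * (2 * (e : ℝ) + 1)) ≤ 3 / 44 :=
          div_le_div_of_nonneg_left (by norm_num) (by norm_num) (by linarith)
        norm_num at a1 b1 h1 h hb
        linarith
      · have he7' : (7 : ℝ) ≤ e := by exact_mod_cast he7
        have a1 := div_mul_sub_le (x := (e : ℝ)) (c := (c : ℝ)) (a := 7) (b := 3) (by norm_num) he7'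
          (by norm_num) (by exact_mod_cast hc3)
        have b2 := one_div_pow_le (e := e) (p := 3) (a := 7) (b := 2) (by norm_num) he7 le_rfl
        have : (3 : ℝ) / (4 * (2 * (e : ℝ) + 1)) ≤ 3 / 60 :=
          div_le_div_of_nonneg_left (by norm_num) (by norm_num) (by linarith)
        norm_num at a1 b2 h1 h hb
        linarith
    · have b1 := one_div_pow_le (e := e) (p := p) (a := 3) (b := 4) (by norm_num) he3 (by omega)
      rcases hcase with hc7 | ⟨hc3, he7⟩
      · have a1 := div_mul_sub_le (x := (e : ℝ)) (c := (c : ℝ)) (a := 3) (b := 11) (by norm_num)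
          (by exact_mod_cast he3) (by norm_num) (by exact_mod_cast (by omega : 11 ≤ c))
        norm_num at a1 b1 h1
        linarith
      · have a1 := div_mul_sub_le (x := (e : ℝ)) (c := (c : ℝ)) (a := 11) (b := 5) (by norm_num)
          (by exact_mod_cast (by omega : 11 ≤ e)) (by norm_num) (by exact_mod_cast (by omega : 5 ≤ c))
        norm_num at a1 b1 h1
        linarith
  refine ⟨key, fun hd => ?_⟩
  have := full_mod_of_dvd (by omega : 1 ≤ e) hd
  rw [← key, Nat.dvd_iff_mod_eq_zero] at this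
  omega

/-- A composite `e` is impossible: `r` is a prime with `r² ≤ e` and `v < r^p`. -/
theorem no_composite {p e v k₀ d r : ℕ} {err : ℝ} (hp : p.Prime) (hp2 : Odd p) (hr : 3 ≤ r)
    (hrp : r ≠ p) (hrodd : Odd r) (hre : r ^ 2 ≤ e) (hvr : v + 1 ≤ r ^ p)
    (hE : SlackErr p e k₀ d err)
    (h : 2 ≤ (p : ℝ) * err + (e : ℝ) * ((v : ℝ) + 1) / (e : ℝ) ^ p) : False := by
  have hp3 : 3 ≤ p := by obtain ⟨k, hk⟩ := hp2; have := hp.two_le; omega
  have he0 : 0 < e := by nlinarith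
  have h2 : (e : ℝ) * ((v : ℝ) + 1) / (e : ℝ) ^ p ≤ 1 / (r : ℝ) ^ (p - 2) := by
    have hv' : (v : ℝ) + 1 ≤ (r : ℝ) ^ p := by exact_mod_cast hvr
    have he' : (r : ℝ) ^ 2 ≤ e := by exact_mod_cast hre
    have hr0 : (0 : ℝ) < r := by exact_mod_cast (by omega : 0 < r)
    have he0' : (0 : ℝ) < e := by exact_mod_cast he0
    rw [div_le_div_iff₀ (pow_pos he0' p) (pow_pos hr0 _), one_mul]
    calc (e : ℝ) * ((v : ℝ) + 1) * (r : ℝ) ^ (p - 2) ≤ (e : ℝ) * (r : ℝ) ^ p * (r : ℝ) ^ (p - 2) := by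
          gcongr
      _ = (e : ℝ) * ((r : ℝ) ^ 2) ^ (p - 1) := by
          rw [mul_assoc, ← pow_add, ← pow_mul]
          congr 2
          omega
      _ ≤ (e : ℝ) * (e : ℝ) ^ (p - 1) := by gcongr
      _ = (e : ℝ) ^ p := by
          rw [← pow_succ', Nat.sub_add_cancel (by omega : 1 ≤ p)]
  rcases slackErr_le hp3 hp2 hE with ⟨h3, hb⟩ | ⟨hp5, hb⟩
  · subst h3
    have hr5 : 5 ≤ r := by obtain ⟨l, hl⟩ := hrodd; omega
    have hb2 := one_div_pow_le (e := r) (p := 3 - 1) (a := 5) (b := 1) (by norm_num) hr5 le_rfl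
    have : (3 : ℝ) / (4 * (2 * (e : ℝ) + 1)) ≤ 3 / 204 := by
      have : (25 : ℝ) ≤ e := by exact_mod_cast (by nlinarith : 25 ≤ e)
      exact div_le_div_of_nonneg_left (by norm_num) (by norm_num) (by linarith)
    norm_num at hb hb2 h h2
    linarith
  · have hb2 := one_div_pow_le (e := r) (p := p - 1) (a := 3) (b := 3) (by norm_num) hr (by omega)
    rw [show p - 1 - 1 = p - 2 by omega] at hb2
    norm_num at hb hb2 h h2
    linarith

end CfsgLib.FT
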