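import Mathlib.LinearAlgebra.FiniteDimensional.Basic
import Mathlib.LinearAlgebra.Dimension.Free
import Mathlib.GroupTheory.GroupAction.Quotient
import Mathlib.Algebra.Field.ZMod
import Mathlib.GroupTheory.OrderOfElement
import Mathlib.Algebra.BigOperators.Ring.Nat
import Mathlib.Algebra.Ring.GeomSum
import Mathlib.LinearAlgebra.Dimension.OrzechProperty
import Mathlib.Tactic

/-!
# An odd abelian group of automorphisms with an element of prime order acting on it without fixed points

`A` is an abelian group of odd order of automorphisms of a space `V` of prime dimension `e` over `ZMod p`,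
normalised by `g` with `g ^ e = 1`, which fixes no non-trivial element of `A`, and `V` is irreducible
under `A` and `g`.  Then the fixed vectors of `g` are regular for `A`, and either `|A|` is the full
`1 + p + ... + p ^ (e - 1)` or there are at least `3 (p - 1) |A|` regular vectors.
(Used in `docs/FT.md`, §4, for the types III and IV.)
-/

set_option autoImplicit false
set_option linter.unusedSectionVars false
set_option linter.style.haveILetI false

namespace CfsgLib.FT.Regular

open Module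

universe u

variable {p : ℕ} [hp : Fact p.Prime] {V : Type u} [AddCommGroup V] [Module (ZMod p) V] [Finite V]

/-- The hypotheses. -/
structure Frob (e : ℕ) (A : Subgroup (V ≃ₗ[ZMod p] V)) (g : V ≃ₗ[ZMod p] V) : Prop where
  prime : e.Prime
  oddE : Odd e
  oddP : Odd p
  finrank : Module.finrank (ZMod p) V = e
  comm : ∀ a ∈ A, ∀ b ∈ A, a * b = b * a
  odd : Odd (Nat.card A)
  pow : g ^ e = 1
  norm : ∀ a ∈ A, g * a * g⁻¹ ∈ A
  fpf : ∀ a ∈ A, g * a * g⁻¹ = a → a = 1
  irr : ∀ X : Submodule (ZMod p) V, (∀ x ∈ X, g x ∈ X) → (∀ a ∈ A, ∀ x ∈ X, a x ∈ X) →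
    X = ⊥ ∨ X = ⊤

/-- The regular vectors. -/
def regSet (A : Subgroup (V ≃ₗ[ZMod p] V)) : Set V :=
  {v | v ≠ 0 ∧ ∀ a ∈ A, a v = v → a = 1}

variable {e : ℕ} {A : Subgroup (V ≃ₗ[ZMod p] V)} {g : V ≃ₗ[ZMod p] V}

theorem eq_one_of_forall {a : V ≃ₗ[ZMod p] V} (h : ∀ v, a v = v) : a = 1 :=
  LinearEquiv.ext h

theorem Frob.pow_norm (F : Frob e A g) (i : ℕ) {a : V ≃ₗ[ZMod p] V} (ha : a ∈ A) :
    g ^ i * a * (g ^ i)⁻¹ ∈ A := by
  induction i with
  | zero => simpa using ha
  | succ i ih =>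
    have := F.norm _ ih
    rwa [show g * (g ^ i * a * (g ^ i)⁻¹) * g⁻¹ = g ^ (i + 1) * a * (g ^ (i + 1))⁻¹ by
      rw [pow_succ']; group] at this

theorem Frob.inv_eq (F : Frob e A g) : g⁻¹ = g ^ (e - 1) := by
  refine inv_eq_of_mul_eq_one_right ?_
  rw [← pow_succ', Nat.sub_add_cancel F.prime.one_lt.le, F.pow]

theorem Frob.inv_norm (F : Frob e A g) {a : V ≃ₗ[ZMod p] V} (ha : a ∈ A) : g⁻¹ * a * g ∈ A := by
  have := F.pow_norm (e - 1) ha
  rwa [← F.inv_eq, inv_inv] at this

theorem Frob.pow_inv_norm (F : Frob e A g) (i : ℕ) {a : V ≃ₗ[ZMod p] V} (ha : a ∈ A) :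
    (g ^ i)⁻¹ * a * g ^ i ∈ A := by
  induction i with
  | zero => simpa using ha
  | succ i ih =>
    have := F.inv_norm ih
    rwa [show g⁻¹ * ((g ^ i)⁻¹ * a * g ^ i) * g = (g ^ (i + 1))⁻¹ * a * g ^ (i + 1) by
      rw [pow_succ]; group] at this

/-- An automorphism in `A` fixing a non-zero vector whose stabiliser is normalised by `g` is trivial;
in particular the fixed vectors of `g` are regular. -/
theorem Frob.mem_regSet_of_fixed (F : Frob e A g) {v : V} (hv : v ≠ 0) (hgv : g v = v) :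
    v ∈ regSet A := by
  refine ⟨hv, fun a ha hav => ?_⟩
  let X : Submodule (ZMod p) V :=
    { carrier := {x | ∀ b ∈ A, b v = v → b x = x}
      add_mem' := fun hx hy b hb hbv => by rw [map_add, hx b hb hbv, hy b hb hbv]
      zero_mem' := fun b _ _ => map_zero b
      smul_mem' := fun c x hx b hb hbv => by rw [map_smul, hx b hb hbv] }
  have hXg : ∀ x ∈ X, g x ∈ X := by
    intro x hx b hb hbv
    have h1 := hx _ (F.inv_norm hb) (by
      show g⁻¹ (b (g v)) = v
      rw [hgv, hbv]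
      conv_lhs => rw [← hgv]
      exact g.symm_apply_apply v)
    change g.symm (b (g x)) = x at h1
    simpa using congrArg g h1
  have hXA : ∀ c ∈ A, ∀ x ∈ X, c x ∈ X := by
    intro c hc x hx b hb hbv
    show (b * c) x = c x
    rw [F.comm b hb c hc]
    exact congrArg c (hx b hb hbv)
  rcases F.irr X hXg hXA with h | h
  · have hvX : v ∈ X := fun b _ hbv => hbv
    rw [h, Submodule.mem_bot] at hvX
    exact absurd hvX hv
  · exact eq_one_of_forall fun x => (h.ge (Submodule.mem_top (x := x))) a ha hav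

/-- The span of all translates of a non-zero `A`-invariant subspace is everything. -/
theorem Frob.translates_top (F : Frob e A g) {W : Submodule (ZMod p) V} (hW : W ≠ ⊥)
    (hWA : ∀ a ∈ A, ∀ x ∈ W, a x ∈ W) {X : Submodule (ZMod p) V}
    (hX : ∀ i < e, W.map (g ^ i : V ≃ₗ[ZMod p] V).toLinearMap ≤ X) : X = ⊤ := by
  set Y : Submodule (ZMod p) V :=
    ⨆ i ∈ Finset.range e, W.map (g ^ i : V ≃ₗ[ZMod p] V).toLinearMap with hY
  have hle : ∀ i, W.map (g ^ i : V ≃ₗ[ZMod p] V).toLinearMap ≤ Y := fun i => by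
    rw [pow_eq_pow_mod i F.pow, hY]
    exact le_biSup (fun i => W.map (g ^ i : V ≃ₗ[ZMod p] V).toLinearMap)
      (Finset.mem_range.2 (Nat.mod_lt _ F.prime.pos))
  have hYX : Y ≤ X := iSup₂_le fun i hi => hX i (Finset.mem_range.1 hi)
  have hYg : ∀ x ∈ Y, g x ∈ Y := by
    have : Y ≤ Y.comap g.toLinearMap := iSup₂_le fun i _ => by
      rintro _ ⟨w, hw, rfl⟩
      refine hle (i + 1) ⟨w, hw, ?_⟩
      rw [pow_succ']
      rfl
    exact fun x hx => this hx
  have hYA : ∀ a ∈ A, ∀ x ∈ Y, a x ∈ Y := by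
    intro a ha
    have : Y ≤ Y.comap a.toLinearMap := iSup₂_le fun i _ => by
      rintro _ ⟨w, hw, rfl⟩
      refine hle i ⟨_, hWA _ (F.pow_inv_norm i ha) w hw, ?_⟩
      show (g ^ i * ((g ^ i)⁻¹ * a * g ^ i)) w = (a * g ^ i) w
      rw [show g ^ i * ((g ^ i)⁻¹ * a * g ^ i) = a * g ^ i by group]
    exact fun x hx => this hx
  rcases F.irr Y hYg hYA with h | h
  · refine absurd (le_bot_iff.1 (le_trans ?_ h.le)) hW
    simpa using hle 0
  · exact top_le_iff.1 (h.ge.trans hYX)

/-- A minimal `A`-invariant subspace has dimension `1` or is everything. -/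
theorem Frob.minimal_cases (F : Frob e A g) : (∃ v : V, v ≠ 0 ∧ ∀ a ∈ A, ∃ c : ZMod p, c • v = a v) ∨
    (∀ X : Submodule (ZMod p) V, (∀ a ∈ A, ∀ x ∈ X, a x ∈ X) → X = ⊥ ∨ X = ⊤) := by
  classical
  by_cases hall : ∀ X : Submodule (ZMod p) V, (∀ a ∈ A, ∀ x ∈ X, a x ∈ X) → X = ⊥ ∨ X = ⊤
  · exact Or.inr hall
  refine Or.inl ?_
  simp only [not_forall, not_or] at hall
  obtain ⟨X₀, hX₀A, hX₀b, hX₀t⟩ := hall
  obtain ⟨W, ⟨hWA, hWb⟩, hmin⟩ := wellFounded_lt.has_min
    {X : Submodule (ZMod p) V | (∀ a ∈ A, ∀ x ∈ X, a x ∈ X) ∧ X ≠ ⊥} ⟨X₀, hX₀A, hX₀b⟩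
  have hmin' : ∀ X : Submodule (ZMod p) V, (∀ a ∈ A, ∀ x ∈ X, a x ∈ X) → X ≤ W → X = ⊥ ∨ X = W :=
    fun X hXA hXW => by
      by_cases hXb : X = ⊥
      · exact Or.inl hXb
      · exact Or.inr (hXW.lt_or_eq.resolve_left (hmin X ⟨hXA, hXb⟩))
  set w := Module.finrank (ZMod p) W with hw
  obtain ⟨X, ⟨hXA, hXw⟩, hmax⟩ := wellFounded_gt.has_min
    {X : Submodule (ZMod p) V | (∀ a ∈ A, ∀ x ∈ X, a x ∈ X) ∧ w ∣ Module.finrank (ZMod p) X}
    ⟨W, hWA, dvd_rfl⟩
  have htop : X = ⊤ := by
    refine F.translates_top hWb hWA fun i _ => ?_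
    set T := W.map (g ^ i : V ≃ₗ[ZMod p] V).toLinearMap with hT
    have hTA : ∀ a ∈ A, ∀ x ∈ T, a x ∈ T := by
      rintro a ha _ ⟨y, hy, rfl⟩
      refine ⟨_, hWA _ (F.pow_inv_norm i ha) y hy, ?_⟩
      show (g ^ i * ((g ^ i)⁻¹ * a * g ^ i)) y = (a * g ^ i) y
      rw [show g ^ i * ((g ^ i)⁻¹ * a * g ^ i) = a * g ^ i by group]
    by_contra hTX
    have hinf : T ⊓ X = ⊥ := by
      set C := (T ⊓ X).comap (g ^ i : V ≃ₗ[ZMod p] V).toLinearMap with hC
      have hCA : ∀ a ∈ A, ∀ x ∈ C, a x ∈ C := by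
        intro a ha x hx
        have hb := F.pow_norm i ha
        have h1 : (g ^ i * a * (g ^ i)⁻¹) ((g ^ i : V ≃ₗ[ZMod p] V) x) ∈ T ⊓ X :=
          ⟨hTA _ hb _ hx.1, hXA _ hb _ hx.2⟩
        show (g ^ i * a) x ∈ T ⊓ X
        rwa [show g ^ i * a = g ^ i * a * (g ^ i)⁻¹ * g ^ i by group]
      have hCW : C ≤ W := by
        intro x hx
        obtain ⟨y, hy, hye⟩ := hx.1
        exact (g ^ i : V ≃ₗ[ZMod p] V).injective hye ▸ hy
      rcases hmin' C hCA hCW with h | h
      · refine eq_bot_iff.2 fun y hy => ?_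
        obtain ⟨z, -, rfl⟩ := hy.1
        have hz : z ∈ (⊥ : Submodule (ZMod p) V) := h ▸ hy
        rw [Submodule.mem_bot] at hz ⊢
        rw [hz, map_zero]
      · refine absurd ?_ hTX
        rintro _ ⟨y, hy, rfl⟩
        exact ((h.ge hy : _ ∈ T ⊓ X)).2
    have hsA : ∀ a ∈ A, ∀ x ∈ T ⊔ X, a x ∈ T ⊔ X := by
      intro a ha x hx
      obtain ⟨y, hy, z, hz, rfl⟩ := Submodule.mem_sup.1 hx
      rw [map_add]
      exact Submodule.add_mem_sup (hTA a ha y hy) (hXA a ha z hz)
    have hdim := Submodule.finrank_sup_add_finrank_inf_eq T X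
    rw [hinf, finrank_bot, add_zero, hT, LinearEquiv.finrank_map_eq] at hdim
    refine hmax (T ⊔ X) ⟨hsA, by rw [hdim]; exact dvd_add dvd_rfl hXw⟩ ?_
    exact lt_of_le_of_ne le_sup_right fun h => hTX (h ▸ le_sup_left)
  rw [htop, finrank_top, F.finrank] at hXw
  rcases F.prime.eq_one_or_self_of_dvd w hXw with h1 | h1
  · obtain ⟨v, hv0, hv⟩ := finrank_eq_one_iff'.1 h1
    refine ⟨(v : V), fun h => hv0 (Subtype.ext h), fun a ha => ?_⟩
    obtain ⟨c, hc⟩ := hv ⟨a v, hWA a ha v v.2⟩
    exact ⟨c, congrArg Subtype.val hc⟩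
  · have : W = ⊤ := Submodule.eq_top_of_finrank_eq (by rw [F.finrank]; exact h1)
    refine absurd ?_ hX₀t
    rcases hmin' X₀ hX₀A (this ▸ le_top) with h | h
    · exact absurd h hX₀b
    · exact h.trans this

theorem odd_geomSum (hpo : Odd p) (heo : Odd e) : Odd (∑ i ∈ Finset.range e, p ^ i) := by
  rw [Finset.odd_sum_iff_odd_card_odd]
  rw [Finset.filter_true_of_mem fun i _ => hpo.pow, Finset.card_range]
  exact heo

/-- If `A` alone is irreducible, its order divides the full one. -/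
theorem Frob.of_irreducible (F : Frob e A g)
    (hirr : ∀ X : Submodule (ZMod p) V, (∀ a ∈ A, ∀ x ∈ X, a x ∈ X) → X = ⊥ ∨ X = ⊤) :
    Nat.card A = ∑ i ∈ Finset.range e, p ^ i ∨
      3 * (p - 1) * Nat.card A ≤ Nat.card (regSet A) := by
  classical
  haveI : Finite (V ≃ₗ[ZMod p] V) := Finite.of_injective _ DFunLike.coe_injective
  have hreg : regSet A = {v : V | v ≠ 0} := by
    refine Set.ext fun v => ⟨fun h => h.1, fun hv => ⟨hv, fun a ha hav => ?_⟩⟩
    let X : Submodule (ZMod p) V := LinearMap.ker (a.toLinearMap - LinearMap.id)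
    have hXA : ∀ b ∈ A, ∀ x ∈ X, b x ∈ X := by
      intro b hb x hx
      have hxa : a x = x := sub_eq_zero.1 (by simpa [X] using hx)
      have : a (b x) = b x := by
        show (a * b) x = b x
        rw [F.comm a ha b hb]
        exact congrArg b hxa
      simp [X, this]
    rcases hirr X hXA with h | h
    · refine absurd ((Submodule.mem_bot _).1 (h.le ?_)) hv
      simp [X, hav]
    · refine eq_one_of_forall fun x => sub_eq_zero.1 ?_
      have := h.ge (Submodule.mem_top (x := x))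
      simpa [X] using this
  -- scalars times `A` act freely on the non-zero vectors
  letI act : MulAction ((ZMod p)ˣ × A) {v : V // v ≠ 0} :=
    { smul := fun x v => ⟨(x.1 : ZMod p) • (x.2 : V ≃ₗ[ZMod p] V) v.1, by
        simp [x.1.ne_zero, v.2]⟩
      one_smul := fun v => Subtype.ext (one_smul (ZMod p) v.1)
      mul_smul := fun x y v => Subtype.ext (by
        show ((x.1 * y.1 : (ZMod p)ˣ) : ZMod p) • (x.2 : V ≃ₗ[ZMod p] V) ((y.2 : V ≃ₗ[ZMod p] V) v.1)
          = (x.1 : ZMod p) • (x.2 : V ≃ₗ[ZMod p] V) ((y.1 : ZMod p) • (y.2 : V ≃ₗ[ZMod p] V) v.1)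
        rw [map_smul, Units.val_mul, mul_smul]) }
  have hfree : ∀ v : {v : V // v ≠ 0}, MulAction.stabilizer ((ZMod p)ˣ × A) v = ⊥ := by
    refine fun v => (Subgroup.eq_bot_iff_forall _).2 ?_
    rintro ⟨c, a, ha⟩ hx
    have hx' : (c : ZMod p) • a v.1 = v.1 := congrArg Subtype.val hx
    let X : Submodule (ZMod p) V := LinearMap.ker ((c : ZMod p) • a.toLinearMap - LinearMap.id)
    have hscal : ∀ x : V, (c : ZMod p) • a x = x := by
      have hXA : ∀ b ∈ A, ∀ x ∈ X, b x ∈ X := by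
        intro b hb x hxX
        have hxa : (c : ZMod p) • a x = x := sub_eq_zero.1 (by simpa [X] using hxX)
        have : (c : ZMod p) • a (b x) = b x := by
          show (c : ZMod p) • (a * b) x = b x
          rw [F.comm a ha b hb]
          show (c : ZMod p) • b (a x) = b x
          rw [← map_smul, hxa]
        simp [X, this]
      rcases hirr X hXA with h | h
      · refine absurd ((Submodule.mem_bot _).1 (h.le ?_)) v.2
        simp [X, hx']
      · intro x
        refine sub_eq_zero.1 ?_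
        simpa [X] using h.ge (Submodule.mem_top (x := x))
    have hcc : ∀ x : V, ((c⁻¹ : (ZMod p)ˣ) : ZMod p) • x = a x := fun x => by
      conv_lhs => rw [← hscal x]
      rw [smul_smul, Units.inv_mul, one_smul]
    have ha1 : a = 1 := F.fpf a ha (LinearEquiv.ext fun x => by
      show g (a (g.symm x)) = a x
      rw [← hcc, map_smul, g.apply_symm_apply, hcc])
    subst ha1
    have hc1 : (c : ZMod p) = 1 := by
      have h := hx'
      change (c : ZMod p) • v.1 = v.1 at h
      have : ((c : ZMod p) - 1) • v.1 = 0 := by rw [sub_smul, one_smul, h, sub_self]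
      exact sub_eq_zero.1 ((smul_eq_zero.1 this).resolve_right v.2)
    exact Prod.ext (Units.ext hc1) rfl
  have hdvd : (p - 1) * Nat.card A ∣ p ^ e - 1 := by
    have hcard : Nat.card {v : V // v ≠ 0} = p ^ e - 1 := by
      haveI := Fintype.ofFinite V
      rw [Nat.card_eq_fintype_card, Fintype.card_subtype_compl, Fintype.card_subtype_eq,
        ← Nat.card_eq_fintype_card, Module.natCard_eq_pow_finrank (K := ZMod p), F.finrank, Nat.card_zmod]
    rw [← hcard, Nat.card_congr
      (MulAction.selfEquivSigmaOrbitsQuotientStabilizer ((ZMod p)ˣ × A) {v : V // v ≠ 0})]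
    haveI := Fintype.ofFinite (Quotient (MulAction.orbitRel ((ZMod p)ˣ × A) {v : V // v ≠ 0}))
    rw [Nat.card_sigma]
    refine Finset.dvd_sum fun ω _ => ?_
    rw [hfree, Nat.card_congr (QuotientGroup.quotientBot).toEquiv, Nat.card_prod,
      Nat.card_eq_fintype_card (α := (ZMod p)ˣ), ZMod.card_units]
  have hgeom : (p - 1) * ∑ i ∈ Finset.range e, p ^ i = p ^ e - 1 :=
    (geom_sum_mul_of_one_le hp.out.one_lt.le e) ▸ mul_comm _ _
  have hp1 : 0 < p - 1 := Nat.sub_pos_of_lt hp.out.one_lt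
  obtain ⟨c, hc⟩ := hdvd
  have hfull : ∑ i ∈ Finset.range e, p ^ i = Nat.card A * c :=
    Nat.eq_of_mul_eq_mul_left hp1 (by rw [hgeom, hc, mul_assoc])
  obtain ⟨k, hk⟩ := (Nat.odd_mul.1 (hfull ▸ odd_geomSum F.oddP F.oddE)).2
  rcases Nat.eq_zero_or_pos k with hk0 | hk0
  · exact Or.inl (by rw [hfull, hk, hk0, mul_zero, zero_add, mul_one])
  · refine Or.inr ?_
    have hcard : Nat.card (regSet A) = p ^ e - 1 := by
      haveI := Fintype.ofFinite V
      rw [hreg]
      show Nat.card {v : V // v ≠ 0} = _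
      rw [Nat.card_eq_fintype_card, Fintype.card_subtype_compl, Fintype.card_subtype_eq,
        ← Nat.card_eq_fintype_card, Module.natCard_eq_pow_finrank (K := ZMod p), F.finrank, Nat.card_zmod]
    rw [hcard, hc]
    calc 3 * (p - 1) * Nat.card A = (p - 1) * Nat.card A * 3 := by ring
      _ ≤ (p - 1) * Nat.card A * c := Nat.mul_le_mul_left _ (by omega)

/-- If `A` fixes a line, the vectors with non-zero coordinates in the translates are regular. -/
theorem Frob.of_line (F : Frob e A g) {v : V} (hv : v ≠ 0)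
    (hline : ∀ a ∈ A, ∃ c : ZMod p, c • v = a v) :
    3 * (p - 1) * Nat.card A ≤ Nat.card (regSet A) := by
  classical
  haveI : Finite (V ≃ₗ[ZMod p] V) := Finite.of_injective _ DFunLike.coe_injective
  haveI : Fintype A := Fintype.ofFinite _
  choose c hc using hline
  have hc0 : ∀ a (ha : a ∈ A), c a ha ≠ 0 := fun a ha h0 => hv (a.injective (by
    rw [← hc a ha, h0, zero_smul, map_zero]))
  have hinjc : ∀ {x y : ZMod p}, x • v = y • v → x = y := fun {x y} h =>
    sub_eq_zero.1 ((smul_eq_zero.1 (by rw [sub_smul, h, sub_self] : (x - y) • v = 0)).resolve_right hv)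
  let χ : A →* (ZMod p)ˣ :=
    { toFun := fun a => Units.mk0 (c a a.2) (hc0 a a.2)
      map_one' := Units.ext (hinjc (by
        simp only [Units.val_mk0, Units.val_one, one_smul, hc]
        rfl))
      map_mul' := fun a b => Units.ext (hinjc (by
        simp only [Units.val_mk0, Units.val_mul, hc]
        show (a : V ≃ₗ[ZMod p] V) ((b : V ≃ₗ[ZMod p] V) v) = _
        rw [← hc b b.2, map_smul, ← hc a a.2, smul_smul, mul_comm])) }
  have hχ : ∀ a : A, (χ a : ZMod p) • v = (a : V ≃ₗ[ZMod p] V) v := fun a => hc a a.2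
  let σ : ℕ → A → A := fun i a => ⟨(g ^ i)⁻¹ * a * g ^ i, F.pow_inv_norm i a.2⟩
  have hσ : ∀ i (a : A), (χ (σ i a) : ZMod p) • (g ^ i : V ≃ₗ[ZMod p] V) v =
      (a : V ≃ₗ[ZMod p] V) ((g ^ i : V ≃ₗ[ZMod p] V) v) := by
    intro i a
    rw [← map_smul, hχ]
    show (g ^ i * ((g ^ i)⁻¹ * (a : V ≃ₗ[ZMod p] V) * g ^ i)) v = ((a : V ≃ₗ[ZMod p] V) * g ^ i) v
    rw [show g ^ i * ((g ^ i)⁻¹ * (a : V ≃ₗ[ZMod p] V) * g ^ i) = (a : V ≃ₗ[ZMod p] V) * g ^ i by group]
  have hσmul : ∀ i (a b : A), σ i (a * b) = σ i a * σ i b := fun i a b => Subtype.ext (by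
    show (g ^ i)⁻¹ * ((a : V ≃ₗ[ZMod p] V) * b) * g ^ i = _
    simp only [Subgroup.coe_mul, σ]
    group)
  -- the basis of translates
  have hspan : Submodule.span (ZMod p) (Set.range fun i : Fin e => (g ^ (i : ℕ) : V ≃ₗ[ZMod p] V) v) = ⊤ := by
    refine F.translates_top (W := Submodule.span (ZMod p) {v})
      (by simpa [Submodule.span_singleton_eq_bot] using hv) (fun a ha x hx => ?_) fun i hi => ?_
    · obtain ⟨r, rfl⟩ := Submodule.mem_span_singleton.1 hx
      exact Submodule.mem_span_singleton.2 ⟨r * c a ha, by rw [map_smul, ← hc a ha, smul_smul]⟩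
    · rw [Submodule.map_span, Set.image_singleton, Submodule.span_singleton_le_iff_mem]
      exact Submodule.subset_span ⟨⟨i, hi⟩, rfl⟩
  let b := basisOfTopLeSpanOfCardEqFinrank (R := ZMod p)
    (fun i : Fin e => (g ^ (i : ℕ) : V ≃ₗ[ZMod p] V) v) hspan.ge (by rw [Fintype.card_fin, F.finrank])
  have hb : ∀ i : Fin e, b i = (g ^ (i : ℕ) : V ≃ₗ[ZMod p] V) v := fun i => by simp [b]
  have hone : ∀ a : A, (∀ i : Fin e, χ (σ i a) = 1) → a = 1 := by
    intro a h
    refine Subtype.ext ?_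
    refine eq_one_of_forall fun x => ?_
    have : (a : V ≃ₗ[ZMod p] V).toLinearMap = LinearMap.id := b.ext fun i => by
      simp [hb, ← hσ, h]
    exact LinearMap.congr_fun this x
  -- the product of all coordinates is trivial
  let π : A → (ZMod p)ˣ := fun a => ∏ i ∈ Finset.range e, χ (σ i a)
  have hπmul : ∀ a b : A, π (a * b) = π a * π b := fun a b => by
    simp only [π, hσmul, map_mul, Finset.prod_mul_distrib]
  have hπσ : ∀ a, π (σ 1 a) = π a := by
    intro a
    have h1 : ∀ i, σ i (σ 1 a) = σ (i + 1) a := fun i => Subtype.ext (by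
      simp only [σ]; rw [pow_succ']; group)
    simp only [π, h1]
    have h2 : σ e a = σ 0 a := Subtype.ext (by simp only [σ, F.pow, pow_zero])
    have h3 := Finset.prod_range_succ (fun i => χ (σ i a)) e
    rw [Finset.prod_range_succ', h2] at h3
    exact mul_right_cancel h3
  have hπ : ∀ a, π a = 1 := by
    have hinj : Function.Injective fun a : A => σ 1 a * a⁻¹ := by
      intro x y h
      have h' : σ 1 (x * y⁻¹) * (x * y⁻¹)⁻¹ = 1 := by
        have e1 : σ 1 x * σ 1 y⁻¹ * (y * x⁻¹) = 1 := by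
          have e2 : σ 1 y * σ 1 y⁻¹ = 1 := by
            rw [← hσmul, mul_inv_cancel]
            exact Subtype.ext (by simp [σ])
          have hcm : ∀ r s : A, r * s = s * r := fun r s => Subtype.ext (F.comm _ r.2 _ s.2)
          calc σ 1 x * σ 1 y⁻¹ * (y * x⁻¹) = (σ 1 x * x⁻¹) * (σ 1 y⁻¹ * y) := by
                rw [hcm y x⁻¹, mul_assoc, mul_assoc, ← mul_assoc (σ 1 y⁻¹), hcm (σ 1 y⁻¹) x⁻¹, mul_assoc]
            _ = (σ 1 y * y⁻¹) * (σ 1 y⁻¹ * y) := congrArg (· * (σ 1 y⁻¹ * y)) h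
            _ = _ := by rw [hcm (σ 1 y⁻¹) y, mul_assoc, inv_mul_cancel_left, e2]
        rwa [hσmul, mul_inv_rev, inv_inv]
      have h'' : σ 1 (x * y⁻¹) = x * y⁻¹ := mul_inv_eq_one.1 h'
      have := congrArg Subtype.val h''
      simp only [σ, pow_one] at this
      refine mul_inv_eq_one.1 (Subtype.ext (F.fpf _ (x * y⁻¹).2 ?_))
      conv_lhs => rw [← this]
      group
    intro a
    obtain ⟨b, hb⟩ := (Finite.injective_iff_surjective.1 hinj) a
    have h1 : π a * π b = π b := by rw [← hπmul, ← hb, inv_mul_cancel_right, hπσ]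
    exact mul_eq_right.1 h1
  -- `|A| ≤ |H| ^ (e - 1)`
  have hA : Nat.card A ≤ Nat.card χ.range ^ (e - 1) := by
    rw [← Nat.card_fin (e - 1), ← Nat.card_fun]
    refine Nat.card_le_card_of_injective
      (fun a (i : Fin (e - 1)) => (⟨χ (σ i a), _, rfl⟩ : χ.range)) fun x y h => ?_
    have h' : ∀ i : Fin (e - 1), χ (σ i (x * y⁻¹)) = 1 := fun i => by
      have := congrArg Subtype.val (congrFun h i)
      simp only at this
      have hy : χ (σ i y⁻¹) = (χ (σ i y))⁻¹ := by
        refine (inv_eq_of_mul_eq_one_right ?_).symm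
        rw [← map_mul, ← hσmul, mul_inv_cancel, show σ i 1 = 1 from Subtype.ext (by simp [σ]), map_one]
      rw [hσmul, map_mul, hy, this, mul_inv_cancel]
    refine mul_inv_eq_one.1 (hone _ fun i => ?_)
    by_cases hi : (i : ℕ) < e - 1
    · exact h' ⟨i, hi⟩
    · have hi' : (i : ℕ) = e - 1 := by have := i.2; omega
      have hp1 := hπ (x * y⁻¹)
      simp only [π] at hp1
      rw [← Finset.prod_erase_mul _ _ (Finset.mem_range.2 i.2), Finset.prod_eq_one, one_mul] at hp1
      · exact hp1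
      · intro j hj
        rw [Finset.mem_erase, Finset.mem_range] at hj
        exact h' ⟨j, by omega⟩
  have hH : 2 * Nat.card χ.range ≤ p - 1 := by
    have hdvd : Nat.card χ.range ∣ p - 1 := by
      have := Subgroup.card_subgroup_dvd_card χ.range
      rwa [Nat.card_eq_fintype_card (α := (ZMod p)ˣ), ZMod.card_units] at this
    have hoddH : Odd (Nat.card χ.range) :=
      Odd.of_dvd_nat F.odd (Subgroup.card_range_dvd χ)
    obtain ⟨t, ht⟩ := hdvd
    have heven : Even (p - 1) := Nat.Odd.sub_odd F.oddP odd_one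
    rw [ht, Nat.even_mul] at heven
    obtain ⟨s, hs⟩ := heven.resolve_left (Nat.not_even_iff_odd.2 hoddH)
    rw [ht, mul_comm 2]
    refine Nat.mul_le_mul_left _ ?_
    rcases Nat.eq_zero_or_pos t with h | h
    · rw [h, mul_zero] at ht
      have := hp.out.two_le
      omega
    · omega
  have hR : (p - 1) ^ e ≤ Nat.card (regSet A) := by
    have hcard : Nat.card (Fin e → (ZMod p)ˣ) = (p - 1) ^ e := by
      rw [Nat.card_fun, Nat.card_fin, Nat.card_eq_fintype_card, ZMod.card_units]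
    rw [← hcard]
    refine Nat.card_le_card_of_injective (fun r => (⟨b.equivFun.symm fun i => (r i : ZMod p), ?_, ?_⟩ :
      regSet A)) fun r s h => ?_
    · intro h0
      have h1 := congrArg b.equivFun h0
      rw [LinearEquiv.apply_symm_apply, map_zero] at h1
      exact (r ⟨0, F.prime.pos⟩).ne_zero (congrFun h1 _)
    · intro a ha hfix
      refine congrArg Subtype.val (hone ⟨a, ha⟩ fun i => ?_)
      have hcoord : a (b.equivFun.symm fun i => (r i : ZMod p)) =
          b.equivFun.symm fun i => (r i : ZMod p) * χ (σ i ⟨a, ha⟩) := by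
        rw [Basis.equivFun_symm_apply, Basis.equivFun_symm_apply, map_sum]
        refine Finset.sum_congr rfl fun i _ => ?_
        rw [map_smul, hb, ← hσ i ⟨a, ha⟩, smul_smul]
      rw [hcoord] at hfix
      have := congrFun (b.equivFun.symm.injective hfix) i
      exact Units.ext (mul_left_cancel₀ (r i).ne_zero (this.trans (mul_one _).symm))
    · have := b.equivFun.symm.injective (congrArg Subtype.val h)
      exact funext fun i => Units.ext (congrFun this i)
  refine le_trans (le_trans (Nat.mul_le_mul_left _ hA) ?_) hR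
  set m := Nat.card χ.range with hm
  obtain ⟨k, hk⟩ := F.oddE
  have he3 : 3 ≤ e := by have := F.prime.two_le; omega
  calc 3 * (p - 1) * m ^ (e - 1) ≤ (p - 1) * (2 ^ (e - 1) * m ^ (e - 1)) := by
        have : 3 ≤ 2 ^ (e - 1) := le_trans (by norm_num) (Nat.pow_le_pow_right two_pos (by omega : 2 ≤ e - 1))
        rw [mul_comm 3, mul_assoc]
        exact Nat.mul_le_mul_left _ (Nat.mul_le_mul_right _ this)
    _ ≤ (p - 1) * (p - 1) ^ (e - 1) := by
        rw [← mul_pow]
        exact Nat.mul_le_mul_left _ (Nat.pow_le_pow_left hH _)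
    _ = (p - 1) ^ e := by rw [← pow_succ', Nat.sub_add_cancel F.prime.one_lt.le]

/-- Either `|A|` is full or there are many regular vectors. -/
theorem Frob.full_or_many (F : Frob e A g) :
    Nat.card A = ∑ i ∈ Finset.range e, p ^ i ∨
      3 * (p - 1) * Nat.card A ≤ Nat.card (regSet A) := by
  rcases F.minimal_cases with ⟨v, hv, hline⟩ | hirr
  · exact Or.inr (F.of_line hv hline)
  · exact F.of_irreducible hirr

end CfsgLib.FT.Regular
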