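import Cfsg.Agent.Lib.FT.MeetTools
import Cfsg.Prelude.Def_OddOrderLocal

/-!
# The type II side of a pair: data and group facts (`docs/FT.md`, §3, TYPE II SIDE)

`Q` is a TI subgroup with normalizer `T = Q V W₂`, `V` fixed point free on `Q`, `W₂` of prime order `p`
fixed point free on `V` with fixed group `W₁` on `Q`.
-/

set_option autoImplicit false
set_option linter.unusedSectionVars false
set_option linter.style.haveILetI false

open Subgroup

namespace CfsgLib.FT.TwoSide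

universe u

variable {G : Type u} [Group G] [Finite G]

/-- The data on the type II side. -/
structure Data (T Q W₁ W₂ V : Subgroup G) (p : ℕ) : Prop where
  odd : Odd (Nat.card G)
  prime : p.Prime
  card₂ : Nat.card W₂ = p
  le : Q ≤ T
  leV : V ≤ T
  le₂ : W₂ ≤ T
  normal : T ≤ normalizer (Q : Set G)
  normV : W₂ ≤ normalizer (V : Set G)
  card_T : Nat.card T = p * Nat.card V * Nat.card Q
  cop : (Nat.card Q).Coprime (p * Nat.card V)
  ti : ∀ g : G, ∀ x ∈ Q, x ≠ 1 → g * x * g⁻¹ ∈ Q → g ∈ T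
  fpfV : ∀ g ∈ V, g ≠ 1 → Q ⊓ centralizer ({g} : Set G) = ⊥
  fpfW : ∀ w ∈ W₂, w ≠ 1 → V ⊓ centralizer ({w} : Set G) = ⊥
  fix : ∀ w ∈ W₂, w ≠ 1 → Q ⊓ centralizer ({w} : Set G) = W₁
  snc : Cfsg.IsSelfNormalizingCyclic W₁ W₂

/-- Modulo `p` a sum over an invariant subgroup is the sum over the fixed points of an element of order
dividing `p`. -/
theorem cong_sum_fixed {p : ℕ} (hp : p.Prime) {w : G} (hw : w ^ p = 1) (A : Subgroup G) [Fintype A]
    (hA : ∀ x ∈ A, w * x * w⁻¹ ∈ A) (g : G → ℂ) (hg : ∀ x ∈ A, IsIntegral ℤ (g x))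
    (hinv : ∀ x ∈ A, g (w * x * w⁻¹) = g x) (B : Subgroup G) [Fintype B]
    (hB : A ⊓ centralizer ({w} : Set G) = B) :
    ∃ z : ℂ, IsIntegral ℤ z ∧ ∑ x : A, g x = ∑ x : B, g x + (p : ℂ) * z := by
  classical
  let σ : A → A := fun x => ⟨w * x * w⁻¹, hA x x.2⟩
  have hit : ∀ (n : ℕ) (x : A), ((σ^[n] x : A) : G) = w ^ n * x * (w ^ n)⁻¹ := by
    intro n
    induction n with
    | zero => simp
    | succ n ih =>
      intro x
      rw [Function.iterate_succ_apply', pow_succ']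
      show w * ((σ^[n] x : A) : G) * w⁻¹ = _
      rw [ih]
      group
  obtain ⟨z, hz, he⟩ := sum_sub_fixed hp σ (fun x => Subtype.ext (by rw [hit, hw]; simp))
    (fun x : A => g x) (fun x => hg x x.2) (fun x => hinv x x.2) Finset.univ fun x _ => Finset.mem_univ _
  refine ⟨z, hz, ?_⟩
  rw [he]
  congr 1
  refine Finset.sum_nbij' (i := fun x => if hx : (x : G) ∈ B then ⟨x, hx⟩ else 1)
    (j := fun y => ⟨y, (hB.ge y.2).1⟩) (fun _ _ => Finset.mem_univ _) ?_ ?_ ?_ ?_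
  · intro y _
    refine Finset.mem_filter.2 ⟨Finset.mem_univ _, Subtype.ext ?_⟩
    show w * (y : G) * w⁻¹ = y
    rw [← mem_centralizer_singleton_iff.1 (hB.ge y.2).2, mul_inv_cancel_right]
  · intro x hx
    have hx' : w * (x : G) * w⁻¹ = x := congrArg Subtype.val (Finset.mem_filter.1 hx).2
    have hxB : (x : G) ∈ B := hB ▸ mem_inf.2 ⟨x.2,
      mem_centralizer_singleton_iff.2 (mul_inv_eq_iff_eq_mul.1 hx').symm⟩
    simp [hxB]
  · intro y _
    simp [y.2]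
  · intro x hx
    have hx' : w * (x : G) * w⁻¹ = x := congrArg Subtype.val (Finset.mem_filter.1 hx).2
    have hxB : (x : G) ∈ B := hB ▸ mem_inf.2 ⟨x.2,
      mem_centralizer_singleton_iff.2 (mul_inv_eq_iff_eq_mul.1 hx').symm⟩
    simp [hxB]

/-- The orders of an invariant subgroup and of the fixed points are congruent. -/
theorem card_modEq_fixed {p : ℕ} (hp : p.Prime) {w : G} (hw : w ^ p = 1) (A : Subgroup G)
    (hA : ∀ x ∈ A, w * x * w⁻¹ ∈ A) (B : Subgroup G) (hB : A ⊓ centralizer ({w} : Set G) = B) :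
    (p : ℤ) ∣ (Nat.card A : ℤ) - Nat.card B := by
  let _ := Fintype.ofFinite A
  let _ := Fintype.ofFinite B
  obtain ⟨z, hz, he⟩ := cong_sum_fixed hp hw A hA (fun _ => 1) (fun _ _ => isIntegral_one)
    (fun _ _ => rfl) B hB
  simp only [Finset.sum_const, Finset.card_univ, nsmul_eq_mul, mul_one,
    ← Nat.card_eq_fintype_card] at he
  exact (cong_of_eq hz (a := ((Nat.card A : ℤ) : ℂ)) (b := ((Nat.card B : ℤ) : ℂ))
    (by push_cast; exact he)).dvd hp

namespace Data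

variable {T Q W₁ W₂ V : Subgroup G} {p : ℕ}

section
variable (D : Data T Q W₁ W₂ V p)
include D

theorem p_ne_two : p ≠ 2 := fun h => by
  have := D.odd.of_dvd_nat (D.card₂ ▸ card_subgroup_dvd_card W₂)
  rw [h] at this
  exact absurd this (by decide)

theorem three_le : 3 ≤ p := by
  have := D.prime.two_le
  have := D.p_ne_two
  omega

theorem pow_p {w : G} (hw : w ∈ W₂) : w ^ p = 1 := by
  have := pow_card_eq_one' (x := (⟨w, hw⟩ : W₂))
  rw [D.card₂] at this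
  exact congrArg Subtype.val this

theorem exists_gen : ∃ w ∈ W₂, w ≠ 1 ∧ W₂ = zpowers w := by
  haveI := Fact.mk D.prime
  obtain ⟨w, hw, hw1⟩ := (bot_or_exists_ne_one W₂).resolve_left fun e => by
    have := D.card₂
    rw [e, card_bot] at this
    exact D.prime.one_lt.ne this
  refine ⟨w, hw, hw1, ((eq_of_le_of_card_ge (zpowers_le.2 hw) ?_)).symm⟩
  rw [D.card₂, Nat.card_zpowers, orderOf_eq_prime (D.pow_p hw) hw1]

theorem norm₂ {w : G} (hw : w ∈ W₂) {x : G} (hx : x ∈ Q) : w * x * w⁻¹ ∈ Q :=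
  (mem_normalizer_iff.1 (D.normal (D.le₂ hw)) x).1 hx

theorem normV₂ {w : G} (hw : w ∈ W₂) {x : G} (hx : x ∈ V) : w * x * w⁻¹ ∈ V :=
  (mem_normalizer_iff.1 (D.normV hw) x).1 hx

theorem leW₁ : W₁ ≤ Q := by
  obtain ⟨w, hw, hw1, -⟩ := D.exists_gen
  exact (D.fix w hw hw1).ge.trans inf_le_left

theorem comm₁ {a b : G} (ha : a ∈ W₁) (hb : b ∈ W₂) : a * b = b * a := D.snc.2.2.2.1 a ha b hb

/-- `v ≡ 1` modulo `2 p`. -/
theorem card_V_mod : (2 * p : ℤ) ∣ (Nat.card V : ℤ) - 1 := by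
  obtain ⟨w, hw, hw1, -⟩ := D.exists_gen
  have h := card_modEq_fixed D.prime (D.pow_p hw) V (fun x hx => D.normV₂ hw hx) ⊥ (D.fpfW w hw hw1)
  rw [card_bot, Nat.cast_one] at h
  refine Int.isCoprime_iff_gcd_eq_one.2 ?_ |>.mul_dvd ?_ h
  · have hp : Odd p := D.prime.odd_of_ne_two D.p_ne_two
    exact (Nat.coprime_two_left.2 hp : Nat.Coprime 2 p)
  · obtain ⟨k, hk⟩ := D.odd.of_dvd_nat (card_subgroup_dvd_card V)
    exact ⟨k, by rw [hk]; push_cast; ring⟩

/-- `h ≡ e` modulo `p`. -/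
theorem card_Q_mod : (p : ℤ) ∣ (Nat.card Q : ℤ) - Nat.card W₁ := by
  obtain ⟨w, hw, hw1, -⟩ := D.exists_gen
  exact card_modEq_fixed D.prime (D.pow_p hw) Q (fun x hx => D.norm₂ hw hx) W₁ (D.fix w hw hw1)

theorem not_dvd_Q : ¬ p ∣ Nat.card Q := fun h =>
  D.prime.one_lt.ne' (Nat.eq_one_of_dvd_coprimes D.cop h (dvd_mul_right p _))

/-- An element of `Q` outside no conjugate: an element with order divisible by `p` is not conjugate into
`Q`. -/
theorem not_conj_mem {g : G} (hg : p ∣ orderOf g) (t : G) : t * g * t⁻¹ ∉ Q := fun h => by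
  refine D.not_dvd_Q ((hg.trans ?_).trans (Subgroup.orderOf_dvd_natCard _ h))
  rw [show orderOf (t * g * t⁻¹) = orderOf g from
    orderOf_injective (MulAut.conj t).toMonoidHom (MulAut.conj t).injective g]

/-- `p` divides the order of `a b`. -/
theorem dvd_orderOf {a b : G} (ha : a ∈ W₁) (hb : b ∈ W₂) (hb1 : b ≠ 1) : p ∣ orderOf (a * b) := by
  haveI := Fact.mk D.prime
  have hob : orderOf b = p := orderOf_eq_prime (D.pow_p hb) hb1
  have hcop : (orderOf a).Coprime (orderOf b) := by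
    rw [hob]
    refine (D.prime.coprime_iff_not_dvd.2 fun h => D.not_dvd_Q ?_).symm
    exact h.trans (Subgroup.orderOf_dvd_natCard _ (D.leW₁ ha))
  rw [Commute.orderOf_mul_eq_mul_orderOf_of_coprime (D.comm₁ ha hb) hcop, hob]
  exact dvd_mul_left p _

end

/-- The complement `V W₂`. -/
def H (_D : Data T Q W₁ W₂ V p) : Subgroup G := W₂ ⊔ V

variable (D : Data T Q W₁ W₂ V p)
include D

theorem H_le : D.H ≤ T := sup_le D.le₂ D.leV

theorem mem_H₂ {w : G} (hw : w ∈ W₂) : w ∈ D.H := mem_sup_left hw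

theorem mem_HV {g : G} (hg : g ∈ V) : g ∈ D.H := mem_sup_right hg

theorem exists_eq {a : G} (ha : a ∈ D.H) : ∃ g ∈ V, ∃ w ∈ W₂, a = g * w := by
  have ha' : a ∈ (↑(W₂ ⊔ V) : Set G) := ha
  rw [coe_mul_of_left_le_normalizer_right W₂ V D.normV] at ha'
  obtain ⟨w, hw, g, hg, rfl⟩ := ha'
  exact ⟨w * g * w⁻¹, D.normV₂ hw hg, w, hw, by group⟩

theorem eq_of_mul_eq {g g' w w' : G} (hg : g ∈ V) (hg' : g' ∈ V) (hw : w ∈ W₂) (hw' : w' ∈ W₂)
    (h : g * w = g' * w') : g = g' ∧ w = w' := by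
  have hm : g'⁻¹ * g = w' * w⁻¹ := by
    rw [eq_mul_inv_iff_mul_eq, mul_assoc, h]; group
  have hz : w' * w⁻¹ = 1 := by
    by_contra hne
    have hmem : g'⁻¹ * g ∈ V ⊓ centralizer ({w' * w⁻¹} : Set G) :=
      mem_inf.2 ⟨mul_mem (inv_mem hg') hg, mem_centralizer_singleton_iff.2 (by rw [hm])⟩
    rw [D.fpfW _ (mul_mem hw' (inv_mem hw)) hne, mem_bot] at hmem
    exact hne (hm ▸ hmem)
  have hww : w = w' := (mul_inv_eq_one.1 hz).symm
  subst hww
  exact ⟨mul_right_cancel h, rfl⟩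

theorem card_H : Nat.card D.H = p * Nat.card V := by
  suffices h : Nat.card D.H = Nat.card (V × W₂) by rw [h, Nat.card_prod, mul_comm, D.card₂]
  refine (Nat.card_congr (Equiv.ofBijective
    (fun x : V × W₂ => (⟨x.1 * x.2, mul_mem (D.mem_HV x.1.2) (D.mem_H₂ x.2.2)⟩ : D.H))
    ⟨fun x y h => ?_, fun a => ?_⟩)).symm
  · obtain ⟨e1, e2⟩ := D.eq_of_mul_eq x.1.2 y.1.2 x.2.2 y.2.2 (congrArg Subtype.val h)
    exact Prod.ext (Subtype.ext e1) (Subtype.ext e2)
  · obtain ⟨g, hg, w, hw, e⟩ := D.exists_eq a.2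
    exact ⟨(⟨g, hg⟩, ⟨w, hw⟩), Subtype.ext e.symm⟩

/-- In the Frobenius group `V W₂` every element outside `V` is conjugate into `W₂`. -/
theorem exists_conj {g w : G} (hg : g ∈ V) (hw : w ∈ W₂) (hw1 : w ≠ 1) :
    ∃ g₀ ∈ V, g * w = g₀ * w * g₀⁻¹ := by
  let f : V → V := fun y => ⟨(y : G) * (w * (y : G)⁻¹ * w⁻¹),
    mul_mem y.2 (D.normV₂ hw (inv_mem y.2))⟩
  have hf : Function.Bijective f := Finite.injective_iff_bijective.1 fun y z h => by
    have h' : (y : G) * (w * (y : G)⁻¹ * w⁻¹) = (z : G) * (w * (z : G)⁻¹ * w⁻¹) :=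
      congrArg Subtype.val h
    have hm : (z : G)⁻¹ * y ∈ V ⊓ centralizer ({w} : Set G) := by
      refine mem_inf.2 ⟨mul_mem (inv_mem z.2) y.2, mem_centralizer_singleton_iff.2 ?_⟩
      calc (z : G)⁻¹ * y * w = (z : G)⁻¹ * ((y : G) * (w * (y : G)⁻¹ * w⁻¹)) * w * y := by group
        _ = (z : G)⁻¹ * ((z : G) * (w * (z : G)⁻¹ * w⁻¹)) * w * y := by rw [h']
        _ = w * ((z : G)⁻¹ * y) := by group
    rw [D.fpfW w hw hw1, mem_bot, inv_mul_eq_one] at hm
    exact Subtype.ext hm.symm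
  obtain ⟨y, hy⟩ := hf.2 ⟨g, hg⟩
  refine ⟨y, y.2, ?_⟩
  rw [show g = (y : G) * (w * (y : G)⁻¹ * w⁻¹) from (congrArg Subtype.val hy).symm]
  group

/-- `T = Q ⋊ V W₂`. -/
theorem bijective_mul :
    Function.Bijective fun x : Q × D.H => (⟨x.1 * x.2, mul_mem (D.le x.1.2) (D.H_le x.2.2)⟩ : T) := by
  have hinj : Function.Injective fun x : Q × D.H =>
      (⟨x.1 * x.2, mul_mem (D.le x.1.2) (D.H_le x.2.2)⟩ : T) := by
    intro x y h
    have h' : (x.1 : G) * x.2 = y.1 * y.2 := congrArg Subtype.val h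
    have hm : (y.1 : G)⁻¹ * x.1 = y.2 * (x.2 : G)⁻¹ := by
      rw [eq_mul_inv_iff_mul_eq, mul_assoc, h']; group
    have hd : orderOf ((y.1 : G)⁻¹ * x.1) = 1 := by
      refine Nat.eq_one_of_dvd_coprimes D.cop
        (Subgroup.orderOf_dvd_natCard _ (mul_mem (inv_mem y.1.2) x.1.2)) ?_
      rw [hm, ← D.card_H]
      exact Subgroup.orderOf_dvd_natCard _ (mul_mem y.2.2 (inv_mem x.2.2))
    rw [orderOf_eq_one_iff, inv_mul_eq_one] at hd
    have e1 : x.1 = y.1 := Subtype.ext hd.symm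
    rw [e1] at h'
    exact Prod.ext e1 (Subtype.ext (mul_left_cancel h'))
  refine (Nat.bijective_iff_injective_and_card _).2 ⟨hinj, ?_⟩
  rw [Nat.card_prod, D.card_H, D.card_T, mul_comm]

/-- A sum over `T`. -/
theorem sum_T {R : Type*} [AddCommMonoid R] [Fintype T] [Fintype Q] [Fintype D.H] (f : G → R) :
    ∑ t : T, f t = ∑ x : Q, ∑ a : D.H, f ((x : G) * a) := by
  rw [← Fintype.sum_prod_type']
  exact (Fintype.sum_bijective _ D.bijective_mul _ _ fun _ => rfl).symm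

end Data

end CfsgLib.FT.TwoSide
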