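import Cfsg.Agent.Lib.FT.Kernels
import Cfsg.Agent.Lib.FT.PairExists
import Cfsg.Agent.Lib.FT.TypeTwoData
import Cfsg.Agent.Lib.FT.NotTypeIIIModule
import Cfsg.Agent.Lib.CFun.OddTypeClasses
import Cfsg.Agent.Lib.Coprime.FpfAction
import Cfsg.Agent.Lib.Coprime.PGroupFrattini
import Cfsg.Agent.Lib.PGroup.FpfSections
import Mathlib.Algebra.Module.ZMod

/-!
# The type II side of a pair: the group facts (`docs/FT.md`, §3, TYPE II SIDE)

* `Pair.twoSide`: the data for `Q = T_σ` (of order `e ^ p`, `Pair.prime_card_sigmaT`);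
* `cyclic_V`; `card_V_mod` is in `TypeTwoData`;
* for `e` prime: `Q` elementary abelian, `v ∣ e - 1` or `v` prime to `e - 1` and dividing `1 + ... + e ^ (p-1)`;
* a full `v` forces `p ∤ e - 1`.
-/

set_option autoImplicit false
set_option linter.unusedSectionVars false
set_option linter.style.haveILetI false

open Subgroup

namespace CfsgLib.FT.TwoSide

open CfsgLib.FT.Regular in
/-- When `A` alone is irreducible, `A` and the scalars act freely. -/
theorem scalar_free {p e : ℕ} [hp : Fact p.Prime] {V : Type*} [AddCommGroup V] [Module (ZMod p) V]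
    [Finite V] {A : Subgroup (V ≃ₗ[ZMod p] V)} {g : V ≃ₗ[ZMod p] V} (F : Frob e A g)
    (hirr : ∀ X : Submodule (ZMod p) V, (∀ a ∈ A, ∀ x ∈ X, a x ∈ X) → X = ⊥ ∨ X = ⊤) :
    (p - 1) * Nat.card A ∣ p ^ e - 1 := by
  classical
  haveI : Finite (V ≃ₗ[ZMod p] V) := Finite.of_injective _ DFunLike.coe_injective
  -- scalars times `A` act freely on the non-zero vectors
  letI act : MulAction ((ZMod p)ˣ × A) {v : V // v ≠ 0} :=
    { smul := fun x v => ⟨(x.1 : ZMod p) • (x.2 : V ≃ₗ[ZMod p] V) v.1, by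
        simp [x.1.ne_zero, v.2]⟩
      one_smul := fun v => Subtype.ext (one_smul (ZMod p) v.1)
      mul_smul := fun x y v => Subtype.ext (by
        show ((x.1 * y.1 : (ZMod p)ˣ) : ZMod p) • (x.2 : V ≃ₗ[ZMod p] V) ((y.2 : V ≃ₗ[ZMod p] V) v.1)
          = (x.1 : ZMod p) • (x.2 : V ≃ₗ[ZMod p] V) ((y.1 : ZMod p) • (y.2 : V ≃ₗ[ZMod p] V) v.1)
        rw [map_smul, Units.val_mul, mul_smul]) }
  have hfree : ∀ v : {v : V // v ≠ 0}, MulAction.stabilizer ((ZMod p)ˣ × A) v = ⊥ := by
    refine fun v => (Subgroup.eq_bot_iff_forall _).2 ?_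
    rintro ⟨c, a, ha⟩ hx
    have hx' : (c : ZMod p) • a v.1 = v.1 := congrArg Subtype.val hx
    let X : Submodule (ZMod p) V := LinearMap.ker ((c : ZMod p) • a.toLinearMap - LinearMap.id)
    have hscal : ∀ x : V, (c : ZMod p) • a x = x := by
      have hXA : ∀ b ∈ A, ∀ x ∈ X, b x ∈ X := by
        intro b hb x hxX
        have hxa : (c : ZMod p) • a x = x := sub_eq_zero.1 (by simpa [X] using hxX)
        have : (c : ZMod p) • a (b x) = b x := by
          show (c : ZMod p) • (a * b) x = b x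
          rw [F.comm a ha b hb]
          show (c : ZMod p) • b (a x) = b x
          rw [← map_smul, hxa]
        simp [X, this]
      rcases hirr X hXA with h | h
      · refine absurd ((Submodule.mem_bot _).1 (h.le ?_)) v.2
        simp [X, hx']
      · intro x
        refine sub_eq_zero.1 ?_
        simpa [X] using h.ge (Submodule.mem_top (x := x))
    have hcc : ∀ x : V, ((c⁻¹ : (ZMod p)ˣ) : ZMod p) • x = a x := fun x => by
      conv_lhs => rw [← hscal x]
      rw [smul_smul, Units.inv_mul, one_smul]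
    have ha1 : a = 1 := F.fpf a ha (LinearEquiv.ext fun x => by
      show g (a (g.symm x)) = a x
      rw [← hcc, map_smul, g.apply_symm_apply, hcc])
    subst ha1
    have hc1 : (c : ZMod p) = 1 := by
      have h := hx'
      change (c : ZMod p) • v.1 = v.1 at h
      have : ((c : ZMod p) - 1) • v.1 = 0 := by rw [sub_smul, one_smul, h, sub_self]
      exact sub_eq_zero.1 ((smul_eq_zero.1 this).resolve_right v.2)
    exact Prod.ext (Units.ext hc1) rfl
  have hcard : Nat.card {v : V // v ≠ 0} = p ^ e - 1 := by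
    haveI := Fintype.ofFinite V
    rw [Nat.card_eq_fintype_card, Fintype.card_subtype_compl, Fintype.card_subtype_eq,
      ← Nat.card_eq_fintype_card, Module.natCard_eq_pow_finrank (K := ZMod p), F.finrank, Nat.card_zmod]
  rw [← hcard, Nat.card_congr
    (MulAction.selfEquivSigmaOrbitsQuotientStabilizer ((ZMod p)ˣ × A) {v : V // v ≠ 0})]
  haveI := Fintype.ofFinite (Quotient (MulAction.orbitRel ((ZMod p)ˣ × A) {v : V // v ≠ 0}))
  rw [Nat.card_sigma]
  refine Finset.dvd_sum fun ω _ => ?_
  rw [hfree, Nat.card_congr (QuotientGroup.quotientBot).toEquiv, Nat.card_prod,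
    Nat.card_eq_fintype_card (α := (ZMod p)ˣ), ZMod.card_units]

universe u

variable {G : Type u} [Group G] [Finite G] {T Q W₁ W₂ V : Subgroup G} {p : ℕ}

namespace Data

variable (D : Data T Q W₁ W₂ V p)
include D

theorem isFpf : CfsgLib.Coprime.IsFpfOn V Q := fun g hg hg1 => D.fpfV g hg hg1

/-- An abelian `V` is cyclic. -/
theorem isCyclic_V (hV : IsMulCommutative V) : IsCyclic V := by
  refine D.isFpf.isCyclic (D.leV.trans D.normal) fun e => D.snc.1 (le_bot_iff.1 ?_)
  exact D.leW₁.trans e.le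

/-- A full `v` forces `p ∤ e - 1`. -/
theorem not_dvd_of_full
    (hfull : Nat.card V = ∑ i ∈ Finset.range p, Nat.card W₁ ^ i) : ¬ p ∣ Nat.card W₁ - 1 := by
  intro hd
  haveI := Fact.mk D.prime
  have h1 : ((Nat.card W₁ : ℕ) : ZMod p) = 1 := by
    have h := (ZMod.natCast_eq_zero_iff (Nat.card W₁ - 1) p).2 hd
    rw [Nat.cast_sub Nat.card_pos, Nat.cast_one, sub_eq_zero] at h
    exact h
  have h2 : ((Nat.card V : ℤ) : ZMod p) = 1 := by
    have h := (dvd_mul_left (p : ℤ) 2).trans D.card_V_mod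
    rw [← ZMod.intCast_eq_intCast_iff_dvd_sub 1 (Nat.card V : ℤ) p] at h
    simpa using h.symm
  rw [Int.cast_natCast, hfull] at h2
  push_cast at h2
  simp [h1] at h2

variable (hcard : Nat.card Q = Nat.card W₁ ^ p) (hnil : Group.IsNilpotent Q)
  (he : (Nat.card W₁).Prime) (hV1 : V ≠ ⊥)
include hcard hnil he hV1

/-- `V W₂` acts irreducibly on `Q`. -/
theorem eq_of_invariant {Y : Subgroup G} (hY : Y ≤ Q) (hY1 : Y ≠ ⊥)
    (hVY : V ≤ normalizer (Y : Set G)) (hWY : W₂ ≤ normalizer (Y : Set G)) : Y = Q := by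
  obtain ⟨w, hw, hw1, hwgen⟩ := D.exists_gen
  have hcent : Q ⊓ centralizer (W₂ : Set G) = W₁ := by
    rw [hwgen, CfsgLib.CFun.TauTwo.centralizer_zpowers]
    exact D.fix w hw hw1
  obtain ⟨hp, hc, -⟩ := CfsgLib.CFun.FrobFix.frobenius_prime_action (K := V) (R := W₂) (M := Y) hV1
    (fun e => hw1 (by rw [e, mem_bot] at hw; exact hw))
    (le_bot_iff.1 fun x hx => by
      by_contra hne
      have hx1 : x ≠ 1 := fun e => hne (mem_bot.2 e)
      have hm : x ∈ V ⊓ centralizer ({x} : Set G) :=
        mem_inf.2 ⟨hx.1, mem_centralizer_singleton_iff.2 rfl⟩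
      rw [D.fpfW x hx.2 hx1] at hm
      exact hne hm)
    D.normV D.fpfW hY1 (CfsgLib.Coprime.isNilpotent_of_le hY hnil) hVY hWY
    (by
      have := D.card_H
      rw [H, sup_comm] at this
      rw [this]
      exact (D.cop.coprime_dvd_left (card_dvd_of_le hY)).symm)
    (le_bot_iff.1 (by
      obtain ⟨g, hg, hg1⟩ := (bot_or_exists_ne_one V).resolve_left hV1
      exact ((inf_le_inf hY (centralizer_le (Set.singleton_subset_iff.2 hg))).trans
        (D.fpfV g hg hg1).le)))
    (fun x hx hx1 => le_antisymm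
      (le_inf inf_le_left (fun y hy => by
        have : y ∈ Q ⊓ centralizer ({x} : Set G) := ⟨hY hy.1, hy.2⟩
        rw [D.fix x hx hx1, ← hcent] at this
        exact this.2))
      (inf_le_inf_left _ (centralizer_le (Set.singleton_subset_iff.2 hx))))
  rw [D.card₂] at hc
  have hd : Nat.card ↥(Y ⊓ centralizer (W₂ : Set G)) ∣ Nat.card W₁ :=
    card_dvd_of_le ((inf_le_inf_right _ hY).trans hcent.le)
  rcases he.eq_one_or_self_of_dvd _ hd with h | h
  · rw [h, one_pow] at hc
    exact absurd (card_eq_one.1 hc) hY1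
  · rw [h, ← hcard] at hc
    exact eq_of_le_of_card_ge hY hc.ge

/-- `Q` is elementary abelian. -/
theorem elementary :
    (∀ a ∈ Q, ∀ b ∈ Q, a * b = b * a) ∧ ∀ x ∈ Q, x ^ Nat.card W₁ = 1 := by
  haveI := Fact.mk he
  have hpg : IsPGroup (Nat.card W₁) Q := IsPGroup.of_card hcard
  haveI : Nontrivial Q := (Finite.one_lt_card_iff_nontrivial).1 (by
    rw [hcard]; exact Nat.one_lt_pow D.prime.ne_zero he.one_lt)
  set Φ := (frattini Q).map Q.subtype with hΦ
  have hN : T ≤ normalizer (Φ : Set G) :=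
    D.normal.trans (CfsgLib.PGroup.normalizer_le_normalizer_frattini Q)
  have h0 : frattini Q = ⊥ := by
    by_contra hne
    have h := eq_of_invariant D hcard hnil he hV1 (map_subtype_le (frattini Q))
      (fun e => hne ((map_eq_bot_iff_of_injective _ Q.subtype_injective).1 e))
      (D.leV.trans hN) (D.le₂.trans hN)
    have htop : frattini Q = ⊤ :=
      map_injective Q.subtype_injective (h.trans (by rw [← MonoidHom.range_eq_map, range_subtype]))
    obtain ⟨M, hM, -⟩ := (IsCoatomic.eq_top_or_exists_le_coatom (⊥ : Subgroup Q)).resolve_left bot_ne_top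
    exact hM.1 (top_le_iff.1 (htop ▸ frattini_le_coatom hM))
  refine ⟨fun a ha b hb => ?_, fun x hx => ?_⟩
  · have h := CfsgLib.Coprime.commutator_le_frattini hpg
      (commutator_mem_commutator (mem_top (⟨a, ha⟩ : Q)) (mem_top (⟨b, hb⟩ : Q)))
    rw [h0, mem_bot, commutatorElement_eq_one_iff_mul_comm] at h
    exact congrArg Subtype.val h
  · have h := CfsgLib.Coprime.pow_mem_frattini hpg (⟨x, hx⟩ : Q)
    rw [h0, mem_bot] at h
    exact congrArg Subtype.val h

/-- `v ∣ e - 1`, or `v` is prime to `e - 1` and divides `1 + e + ... + e ^ (p-1)`. -/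
theorem dvd_cases (hVc : IsMulCommutative V) : Nat.card V ∣ Nat.card W₁ - 1 ∨
    (Nat.card V).Coprime (Nat.card W₁ - 1) ∧
      Nat.card V ∣ ∑ i ∈ Finset.range p, Nat.card W₁ ^ i := by
  classical
  haveI := Fact.mk he
  set e := Nat.card W₁ with hedef
  obtain ⟨hQc, hQe⟩ := elementary D hcard hnil he hV1
  letI : CommGroup Q :=
    { (inferInstance : Group Q) with mul_comm := fun a b => Subtype.ext (hQc a a.2 b b.2) }
  haveI : Module (ZMod e) (Additive Q) := AddCommGroup.zmodModule fun x => by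
    show Additive.ofMul (Additive.toMul x ^ e) = Additive.ofMul 1
    exact congrArg Additive.ofMul (Subtype.ext (hQe _ (Additive.toMul x).2))
  haveI : Finite (Additive Q) := inferInstanceAs (Finite Q)
  haveI : FiniteDimensional (ZMod e) (Additive Q) := Module.Finite.of_finite
  have hH : D.H ≤ normalizer (Q : Set G) := D.H_le.trans D.normal
  have hm1 : ∀ (a : D.H) (x : Q), (a : G) * x * (a : G)⁻¹ ∈ Q := fun a x =>
    (mem_normalizer_iff.1 (hH a.2) x).1 x.2
  have hm2 : ∀ (a : D.H) (x : Q), (a : G)⁻¹ * x * a ∈ Q := fun a x =>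
    (mem_normalizer_iff''.1 (hH a.2) x).1 x.2
  let cj : D.H → (Q ≃* Q) := fun a =>
    { toFun := fun x => ⟨(a : G) * x * (a : G)⁻¹, hm1 a x⟩
      invFun := fun x => ⟨(a : G)⁻¹ * x * a, hm2 a x⟩
      left_inv := fun x => Subtype.ext (by simp [mul_assoc])
      right_inv := fun x => Subtype.ext (by simp [mul_assoc])
      map_mul' := fun x y => Subtype.ext (by simp [mul_assoc]) }
  let ρ : D.H →* (Additive Q ≃ₗ[ZMod e] Additive Q) :=
    { toFun := fun a => (MulEquiv.toAdditive (cj a)).toLinearEquiv fun c x =>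
        ZMod.map_smul (MulEquiv.toAdditive (cj a)) c x
      map_one' := LinearEquiv.ext fun x => Additive.toMul.injective (Subtype.ext (by
        show ((1 : D.H) : G) * (Additive.toMul x : Q) * ((1 : D.H) : G)⁻¹ = (Additive.toMul x : Q)
        simp))
      map_mul' := fun a b => LinearEquiv.ext fun x => Additive.toMul.injective (Subtype.ext (by
        show ((a * b : D.H) : G) * (Additive.toMul x : Q) * ((a * b : D.H) : G)⁻¹
          = (a : G) * ((b : G) * (Additive.toMul x : Q) * (b : G)⁻¹) * (a : G)⁻¹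
        simp [mul_assoc])) }
  have hρ : ∀ (a : D.H) (x : Q),
      ((Additive.toMul (ρ a (Additive.ofMul x)) : Q) : G) = (a : G) * x * (a : G)⁻¹ := fun _ _ => rfl
  have hQ1 : Q ≠ ⊥ := fun e' => by
    have := hcard
    rw [e', card_bot] at this
    exact (Nat.one_lt_pow D.prime.ne_zero he.one_lt).ne this
  obtain ⟨x₀, hx₀, hx₀1⟩ := (bot_or_exists_ne_one Q).resolve_left hQ1
  have hfaith : ∀ a : D.H, (a : G) ∈ V → ρ a = 1 → (a : G) = 1 := by
    intro a ha h
    by_contra hne
    refine hx₀1 (D.isFpf.eq_one ha hne hx₀ ?_)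
    rw [← hρ a ⟨x₀, hx₀⟩, h]
    rfl
  set A : Subgroup (Additive Q ≃ₗ[ZMod e] Additive Q) := (V.subgroupOf D.H).map ρ with hA
  have hVH : V ≤ D.H := fun x hx => D.mem_HV hx
  have hinj : Function.Injective (ρ.comp (V.subgroupOf D.H).subtype) := by
    rw [injective_iff_map_eq_one]
    intro a h
    exact Subtype.ext (Subtype.ext (hfaith a a.2 h))
  have hAcard : Nat.card A = Nat.card V := by
    rw [show A = (ρ.comp (V.subgroupOf D.H).subtype).range by
        rw [MonoidHom.range_comp, range_subtype],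
      ← Nat.card_congr (MonoidHom.ofInjective hinj).toEquiv,
      Nat.card_congr (subgroupOfEquivOfLe hVH).toEquiv]
  obtain ⟨w, hw, hw1, hwgen⟩ := D.exists_gen
  set wH : D.H := ⟨w, D.mem_H₂ hw⟩ with hwH
  have hAc : ∀ a ∈ A, ∀ b ∈ A, a * b = b * a := by
    rintro _ ⟨a, ha, rfl⟩ _ ⟨b, hb, rfl⟩
    rw [← map_mul, ← map_mul]
    refine congrArg ρ (Subtype.ext ?_)
    have h := congrArg Subtype.val (IsMulCommutative.is_comm.comm (⟨a, ha⟩ : V) ⟨b, hb⟩)
    exact h
  have hfinr : Module.finrank (ZMod e) (Additive Q) = p := by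
    have h := Module.natCard_eq_pow_finrank (K := ZMod e) (V := Additive Q)
    rw [Nat.card_zmod, show Nat.card (Additive Q) = e ^ p from hcard] at h
    exact (Nat.pow_right_injective he.two_le h).symm
  have F : CfsgLib.FT.Regular.Frob p A (ρ wH) :=
    { prime := D.prime
      oddE := D.prime.odd_of_ne_two D.p_ne_two
      oddP := D.odd.of_dvd_nat (card_subgroup_dvd_card W₁)
      finrank := hfinr
      comm := hAc
      odd := hAcard ▸ D.odd.of_dvd_nat (card_subgroup_dvd_card V)
      pow := by rw [← map_pow, show wH ^ p = 1 from Subtype.ext (D.pow_p hw), map_one]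
      norm := by
        rintro _ ⟨a, ha, rfl⟩
        refine ⟨wH * a * wH⁻¹, D.normV₂ hw ha, ?_⟩
        rw [map_mul, map_mul, map_inv]
      fpf := by
        rintro _ ⟨a, ha, rfl⟩ h
        have h1 : ρ ((wH * a * wH⁻¹) * a⁻¹) = 1 := by
          rw [map_mul, map_mul, map_mul, map_inv, h, map_inv, mul_inv_cancel]
        have h2 := hfaith _ (show w * (a : G) * w⁻¹ * (a : G)⁻¹ ∈ V from
          mul_mem (D.normV₂ hw ha) (inv_mem ha)) h1
        have h3 : (a : G) ∈ V ⊓ centralizer ({w} : Set G) :=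
          mem_inf.2 ⟨ha, mem_centralizer_singleton_iff.2
            (mul_inv_eq_iff_eq_mul.1 (mul_inv_eq_one.1 h2)).symm⟩
        rw [D.fpfW w hw hw1, mem_bot] at h3
        rw [show a = 1 from Subtype.ext h3, map_one]
      irr := by
        intro X hXg hXA
        let Y : Subgroup G := (AddSubgroup.toSubgroup' X.toAddSubgroup).map Q.subtype
        have hYmem : ∀ x : Q, (x : G) ∈ Y ↔ Additive.ofMul x ∈ X := fun x =>
          ⟨fun ⟨y, hy, hyx⟩ => by rwa [← Subtype.ext hyx], fun h => ⟨x, h, rfl⟩⟩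
        have hYn : ∀ a : D.H, (∀ x ∈ X, ρ a x ∈ X) → (a : G) ∈ normalizer (Y : Set G) := by
          intro a ha
          have hmap : ∀ y ∈ Y, (a : G) * y * (a : G)⁻¹ ∈ Y := by
            rintro _ ⟨y, hy, rfl⟩
            exact ⟨cj a y, ha (Additive.ofMul y) hy, rfl⟩
          exact mem_normalizer_iff.2 fun y => ⟨hmap y, fun hy => by
            have hbij : Function.Surjective
                (fun y : Y => (⟨(a : G) * y * (a : G)⁻¹, hmap y y.2⟩ : Y)) :=
              Finite.injective_iff_surjective.1 fun u v huv =>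
                Subtype.ext (mul_left_cancel (mul_right_cancel (congrArg Subtype.val huv)))
            obtain ⟨z, hz⟩ := hbij ⟨_, hy⟩
            rw [← mul_left_cancel (mul_right_cancel (congrArg Subtype.val hz))]
            exact z.2⟩
        have hXpow : ∀ n : ℕ, ∀ x ∈ X, (ρ wH ^ n : Additive Q ≃ₗ[ZMod e] Additive Q) x ∈ X := by
          intro n
          induction n with
          | zero => exact fun x hx => hx
          | succ n ih => exact fun x hx => by rw [pow_succ]; exact ih _ (hXg x hx)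
        by_cases hY1 : Y = ⊥
        · refine Or.inl ((Submodule.eq_bot_iff _).2 fun x hx => ?_)
          have h := (hYmem (Additive.toMul x)).2 hx
          rw [hY1, mem_bot] at h
          exact Additive.toMul.injective (Subtype.ext h)
        · have h := eq_of_invariant D hcard hnil he hV1 (map_subtype_le _) hY1
            (fun g hg => hYn ⟨g, hVH hg⟩ (hXA _ ⟨⟨g, hVH hg⟩, hg, rfl⟩))
            (fun g hg => hYn ⟨g, D.mem_H₂ hg⟩ (by
              rw [hwgen] at hg
              obtain ⟨n, rfl⟩ := (isOfFinOrder_of_finite w).mem_powers_iff_mem_zpowers.2 hg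
              rw [show (⟨w ^ n, D.mem_H₂ (pow_mem hw n)⟩ : D.H) = wH ^ n from Subtype.ext rfl, map_pow]
              exact hXpow n))
          refine Or.inr (Submodule.eq_top_iff'.2 fun x => ?_)
          exact (hYmem (Additive.toMul x)).1 (h.ge (Additive.toMul x).2) }
  rcases F.minimal_cases with ⟨x, hx, hline⟩ | hirr
  · refine Or.inl ?_
    let W : Submodule (ZMod e) (Additive Q) :=
      { carrier := {y | ∀ a ∈ A, (a ^ (e - 1) : Additive Q ≃ₗ[ZMod e] Additive Q) y = y}
        add_mem' := fun h1 h2 a ha => by rw [map_add, h1 a ha, h2 a ha]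
        zero_mem' := fun a _ => map_zero _
        smul_mem' := fun c y hy a ha => by rw [map_smul, hy a ha] }
    have hxW : x ∈ W := by
      intro a ha
      obtain ⟨c, hc⟩ := hline a ha
      have hc0 : c ≠ 0 := fun h0 => hx (a.injective (by rw [← hc, h0, zero_smul, map_zero]))
      have hpow : ∀ n : ℕ, (a ^ n : Additive Q ≃ₗ[ZMod e] Additive Q) x = c ^ n • x := by
        intro n
        induction n with
        | zero => rw [pow_zero, pow_zero, one_smul]; rfl
        | succ n ih =>
          rw [pow_succ', pow_succ]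
          show a ((a ^ n : Additive Q ≃ₗ[ZMod e] Additive Q) x) = _
          rw [ih, map_smul, ← hc, smul_smul]
      rw [hpow, ZMod.pow_card_sub_one_eq_one hc0, one_smul]
    have hWg : ∀ y ∈ W, ρ wH y ∈ W := by
      intro y hy a ha
      show (a ^ (e - 1) * ρ wH) y = ρ wH y
      rw [show a ^ (e - 1) * ρ wH = ρ wH * ((ρ wH)⁻¹ * a * ρ wH) ^ (e - 1) by
        have hcp := conj_pow (i := e - 1) (a := (ρ wH)⁻¹) (b := a)
        rw [inv_inv] at hcp
        rw [hcp, ← mul_assoc, ← mul_assoc, mul_inv_cancel, one_mul]]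
      exact congrArg (ρ wH) (hy _ (F.inv_norm ha))
    have hWA : ∀ b ∈ A, ∀ y ∈ W, b y ∈ W := by
      intro b hb y hy a ha
      show (a ^ (e - 1) * b) y = b y
      rw [hAc _ (pow_mem ha _) b hb]
      exact congrArg b (hy a ha)
    rcases F.irr W hWg hWA with h | h
    · rw [h, Submodule.mem_bot] at hxW
      exact absurd hxW hx
    · haveI := hVc
      haveI := D.isCyclic_V hVc
      obtain ⟨a, ha⟩ := IsCyclic.exists_generator (α := V)
      have h1 : ρ (⟨(a : G), hVH a.2⟩ ^ (e - 1)) = 1 := by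
        rw [map_pow]
        exact LinearEquiv.ext fun y => (h.ge (Submodule.mem_top (x := y))) _ ⟨_, a.2, rfl⟩
      have h2 := hfaith _ (show (a : G) ^ (e - 1) ∈ V from pow_mem a.2 _) h1
      rw [← orderOf_eq_card_of_forall_mem_zpowers ha]
      exact orderOf_dvd_of_pow_eq_one (Subtype.ext h2)
  · refine Or.inr ?_
    have hdvd := scalar_free F hirr
    rw [hAcard] at hdvd
    have hgeom : (e - 1) * ∑ i ∈ Finset.range p, e ^ i = e ^ p - 1 :=
      (geom_sum_mul_of_one_le he.one_lt.le p) ▸ mul_comm _ _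
    have hv : Nat.card V ∣ ∑ i ∈ Finset.range p, e ^ i := by
      rw [← hgeom] at hdvd
      exact Nat.dvd_of_mul_dvd_mul_left (Nat.sub_pos_of_lt he.one_lt) hdvd
    refine ⟨Nat.coprime_of_dvd fun s hs h1 h2 => ?_, hv⟩
    haveI := Fact.mk hs
    have he1 : ((e : ℕ) : ZMod s) = 1 := by
      have h := (ZMod.natCast_eq_zero_iff (e - 1) s).2 h2
      rwa [Nat.cast_sub he.one_lt.le, Nat.cast_one, sub_eq_zero] at h
    have hsum := (ZMod.natCast_eq_zero_iff _ s).2 (h1.trans hv)
    push_cast at hsum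
    simp [he1] at hsum
    have hsp : s = p := (Nat.prime_dvd_prime_iff_eq hs D.prime).1 ((ZMod.natCast_eq_zero_iff p s).1 hsum)
    have hd := (dvd_mul_left (p : ℤ) 2).trans D.card_V_mod
    have hd2 : (p : ℤ) ∣ (Nat.card V : ℤ) := Int.natCast_dvd_natCast.2 (hsp ▸ h1)
    have := Int.le_of_dvd one_pos ((dvd_sub_right hd2).1 hd)
    have := D.three_le
    omega

end Data

end CfsgLib.FT.TwoSide

namespace CfsgLib.FT.Pair

open CfsgLib.CFun CfsgLib.CFun.TauTwo CfsgLib.CFun.Lines CfsgLib.CFun.Kappa CfsgLib.CFun.Partner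

universe u

variable {G : Type u} [Group G] [Finite G] (hG : Cfsg.IsMinSimpleOddOrder G)
  {S T W₁ W₂ U V : Subgroup G} (P : Pair S T W₁ W₂ U V)
include hG P

/-- `T_σ` is nilpotent. -/
theorem nilpotent_sigmaT : Group.IsNilpotent (Cfsg.sigmaCore T) :=
  (nilpotent_of_U_ne_bot hG P.coatomT P.decompT P.neV).1

/-- `V` is abelian. -/
theorem isMulCommutative_V : IsMulCommutative V :=
  Decomp.isMulCommutative hG P.coatomT P.decompT P.neW₂

/-- The data on the type II side of a pair. -/
theorem twoSide (hNB : NoBad G) :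
    TwoSide.Data T (Cfsg.sigmaCore T) W₁ W₂ V (Nat.card W₂) := by
  obtain ⟨hp, -⟩ := Pair.prime_card_sigmaT hG P
  have hκσ : Nat.card W₂ ∉ Cfsg.sigma T := (P.decompT.hall.2.1 _ hp dvd_rfl).2.2.1
  exact
    { odd := hG.1
      prime := hp
      card₂ := rfl
      le := Subgroup.map_subtype_le _
      leV := P.decompT.compl.1
      le₂ := P.decompT.hall.1
      normal := sigmaCore_normal hG T
      normV := P.decompT.normal
      card_T := by rw [Decomp.card_eq hG P.coatomT P.decompT]; ring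
      cop := Nat.coprime_of_dvd fun t ht h1 h2 => by
        have h3 := (sigmaCore_hall hG P.coatomT).1.2.1 t ht h1
        rcases ht.dvd_mul.1 h2 with h | h
        · exact hκσ ((Nat.prime_dvd_prime_iff_eq ht hp).1 h ▸ h3)
        · exact (Decomp.primes hG P.coatomT P.decompT ht h).1 h3
      ti := fun g x hx hx1 hg => mem_of_conj_mem hG hNB P.coatomT hx hx1 (Subgroup.map_subtype_le _ hg)
      fpfV := fun g hg hg1 => regular_U hG hNB P.coatomT P.decompT hg hg1
      fpfW := fun w hw hw1 => Decomp.fpf hG P.coatomT P.decompT hw hw1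
      fix := fun w hw hw1 => (fixed_eq hG P.coatomT P.decompT.hall hw hw1).trans P.eqW₁
      snc := by
        have h := TypeClass.selfNormalizing hG P.coatomS P.decompS P.neW₁
        rwa [P.eqW₂] at h }

/-- `V` is cyclic. -/
theorem isCyclic_V (hNB : NoBad G) : IsCyclic V :=
  TwoSide.Data.isCyclic_V (twoSide hG P hNB) (isMulCommutative_V hG P)

/-- `T_σ` is elementary abelian when `|W₁|` is prime. -/
theorem elementary_sigmaT (hNB : NoBad G) (he : (Nat.card W₁).Prime) :
    (∀ a ∈ Cfsg.sigmaCore T, ∀ b ∈ Cfsg.sigmaCore T, a * b = b * a) ∧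
      ∀ x ∈ Cfsg.sigmaCore T, x ^ Nat.card W₁ = 1 :=
  TwoSide.Data.elementary (twoSide hG P hNB) (Pair.prime_card_sigmaT hG P).2 (nilpotent_sigmaT hG P)
    he P.neV

/-- `v ∣ e - 1`, or `v` is prime to `e - 1` and divides the full value. -/
theorem dvd_cases_V (hNB : NoBad G) (he : (Nat.card W₁).Prime) :
    Nat.card V ∣ Nat.card W₁ - 1 ∨
      (Nat.card V).Coprime (Nat.card W₁ - 1) ∧
        Nat.card V ∣ ∑ i ∈ Finset.range (Nat.card W₂), Nat.card W₁ ^ i :=
  TwoSide.Data.dvd_cases (twoSide hG P hNB) (Pair.prime_card_sigmaT hG P).2 (nilpotent_sigmaT hG P)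
    he P.neV (isMulCommutative_V hG P)

end CfsgLib.FT.Pair
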