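import Cfsg.Agent.Lib.FT.RectInd
import Cfsg.Agent.Lib.FT.Basic
import Cfsg.Agent.Lib.CFun.OddSigmaDisjoint
import Cfsg.Agent.Lib.CFun.OddElementCentralizer
import Mathlib.RingTheory.IntegralDomain

/-!
# Z-PART (docs/FT.md §3)

For `a = η_i0`, `b = η_0j`, `s = a + b` and a power closed set `X` with no element conjugate into `Ẑ`:
`∫_X slack b ≤ 1/e`, `∫_X slack a ≤ 1/p` and `∫_X slack s ≤ 1/p + 1/e - 2/(pe)`.
-/

set_option autoImplicit false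
set_option linter.unusedSectionVars false
set_option linter.style.haveILetI false

open Subgroup

namespace CfsgLib.FT.Rect

open scoped ComplexConjugate
open Cfsg CfsgLib.Char CfsgLib.Char.Signed CfsgLib.CFun

universe u

variable {G : Type u} [Group G]

/-- `Ẑ = W \ (W₁ ∪ W₂)`. -/
def zSet (W₁ W₂ : Subgroup G) : Set G := {z | z ∈ W₁ ⊔ W₂ ∧ z ∉ W₁ ∧ z ∉ W₂}

section powers

variable [Finite G]

theorem exists_pow_inv {m : ℕ} (hm : m.Coprime (Nat.card G)) (g : G) :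
    ∃ j : ℕ, (g ^ m) ^ j = g :=
  exists_pow_eq_self_of_coprime (hm.coprime_dvd_right (orderOf_dvd_natCard g))

theorem powClosed_compl {X : Set G} (hX : PowClosed X) : PowClosed Xᶜ := by
  intro g hg m hm hgm
  refine hg ?_
  have := hX _ hgm (m ^ ((Nat.card G).totient - 1)) (hm.pow_left _)
  rwa [← pow_mul, ← pow_succ', Nat.sub_add_cancel (Nat.totient_pos.2 Nat.card_pos),
    ← pow_mod_natCard, Nat.ModEq.pow_totient hm, pow_mod_natCard, pow_one] at this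

theorem powClosed_union {X Y : Set G} (hX : PowClosed X) (hY : PowClosed Y) : PowClosed (X ∪ Y) :=
  fun g hg m hm => hg.imp (fun h => hX g h m hm) fun h => hY g h m hm

theorem powClosed_conjSet {A : Set G} (hA : PowClosed A) : PowClosed (conjSet A) := by
  rintro _ ⟨y, a, ha, rfl⟩ m hm
  exact ⟨y, a ^ m, hA a ha m hm, conj_pow⟩

theorem powClosed_sharp (H : Subgroup G) : PowClosed ((H : Set G) \ {1}) := by
  rintro g ⟨hg, hg1⟩ m hm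
  refine ⟨pow_mem hg m, fun e => hg1 ?_⟩
  obtain ⟨j, hj⟩ := exists_pow_inv hm g
  rw [Set.mem_singleton_iff] at e ⊢
  rw [← hj, e, one_pow]

theorem powClosed_zSet (W₁ W₂ : Subgroup G) : PowClosed (zSet W₁ W₂) := by
  rintro g ⟨hg, h1, h2⟩ m hm
  obtain ⟨j, hj⟩ := exists_pow_inv hm g
  exact ⟨pow_mem hg m, fun e => h1 (hj ▸ pow_mem e j), fun e => h2 (hj ▸ pow_mem e j)⟩

end powers

variable [Fintype G] {M W₁ U W₂ : Subgroup G}

theorem Kappa.zSet_eq (h : Kappa M W₁ U W₂) : zSet W₁ W₂ = Zhat.zhat M W₁ :=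
  Set.ext fun _ => h.mem_zhat.symm

theorem Kappa.conjSet_zSet (h : Kappa M W₁ U W₂) : conjSet (zSet W₁ W₂) = Zhat.orbit M W₁ := by
  rw [h.zSet_eq]
  rfl

/-- No element of a conjugate of `Ẑ` lies in some `N_σ`. -/
theorem Kappa.zSet_notMem_sigma (h : Kappa M W₁ U W₂) {N : Subgroup G} (hN : IsCoatom N) {y z : G}
    (hz : z ∈ zSet W₁ W₂) : y * z * y⁻¹ ∉ Cfsg.sigmaCore N := fun hmem => by
  have hG := h.minSimple
  obtain ⟨a, b, -, ha, ha1, hb, hb1, -, haz, hbz⟩ :=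
    Inter.exists_parts hG h.coatom h.decomp.hall (z := z) (h.zSet_eq.le hz)
  obtain ⟨r, hr, hrd⟩ := Nat.exists_prime_and_dvd fun e => ha1 (orderOf_eq_one_iff.1 e)
  obtain ⟨q, hq, hqd⟩ := Nat.exists_prime_and_dvd fun e => hb1 (orderOf_eq_one_iff.1 e)
  have hord : orderOf (y * z * y⁻¹) = orderOf z := (MulAut.conj y).orderOf_eq z
  have hσN : ∀ t : ℕ, t.Prime → t ∣ orderOf z → t ∈ Cfsg.sigma N := fun t ht htd =>
    Cosets.sigma_of_mem hG hN hmem ht (by rwa [hord])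
  have hrN := hσN r hr (hrd.trans (orderOf_dvd_of_mem_zpowers haz))
  have hqN := hσN q hq (hqd.trans (orderOf_dvd_of_mem_zpowers hbz))
  obtain ⟨g, rfl⟩ := Disjoint.exists_conj_of_sigma hG h.coatom hN
    (Cosets.sigma_of_mem hG h.coatom hb.1 hq hqd) hqN
  haveI := Fact.mk hr
  exact (h.decomp.hall.2.1 r hr (hrd.trans (Subgroup.orderOf_dvd_natCard _ ha))).2.2.1
    (ElemCent.mem_sigma_conjBy hG h.coatom hrN)

theorem Kappa.disjoint_sigma_zSet (h : Kappa M W₁ U W₂) {N : Subgroup G} (hN : IsCoatom N) :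
    Disjoint (conjSet ((Cfsg.sigmaCore N : Set G) \ {1})) (conjSet (zSet W₁ W₂)) := by
  rw [Set.disjoint_left]
  rintro _ ⟨y, a, ha, rfl⟩ ⟨y', z, hz, e⟩
  refine h.zSet_notMem_sigma hN (y := y⁻¹ * y') hz ?_
  rw [show y⁻¹ * y' * z * (y⁻¹ * y')⁻¹ = y⁻¹ * (y' * z * y'⁻¹) * y by group, ← e,
    show y⁻¹ * (y * a * y⁻¹) * y = a by group]
  exact ha.1

/-- The slack on a power closed set is non-negative. -/
theorem mass_slack_nonneg {f : G → ℂ} (hf : IsGeneralizedCharacter G f) {X : Set G}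
    (hX : PowClosed X) : 0 ≤ mass X (slack f) := by
  classical
  refine mul_nonneg (inv_nonneg.2 (Nat.cast_nonneg _)) ?_
  have := sum_norm_sq_sub_re_nonneg hf X.toFinset (by simpa using hX)
  rw [← Finset.sum_filter]
  refine this.trans_eq (Finset.sum_congr ?_ fun g _ => rfl)
  ext g
  simp

/-- The rest of `G` carries a non-negative mass. -/
theorem mass_le_sub {f : G → ℂ} (hf : IsGeneralizedCharacter G f) {X Z : Set G} (hX : PowClosed X)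
    (hZ : PowClosed Z) (hd : Disjoint X Z) :
    mass X (slack f) ≤
      (classInner f f).re - (classInner f (fun _ => 1)).re - mass Z (slack f) := by
  have h := mass_add_le_univ (X := X ∪ Z) (mass_slack_nonneg hf (powClosed_compl (powClosed_union hX hZ)))
  rw [mass_union hd] at h
  linarith

/-! ### Sums over `Ẑ` -/

/-- The sum of a linear character of `W` over `Ẑ`. -/
noncomputable def zSum [Fintype ↥(W₁ ⊔ W₂)] (ω : ↥(W₁ ⊔ W₂) →* ℂˣ) : ℂ :=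
  haveI := Classical.decPred fun w : ↥(W₁ ⊔ W₂) => (w : G) ∉ W₁ ∧ (w : G) ∉ W₂
  ∑ w : ↥(W₁ ⊔ W₂), if (w : G) ∉ W₁ ∧ (w : G) ∉ W₂ then (ω w : ℂ) else 0

theorem sum_mem_hom {W K : Subgroup G} [Fintype ↥W] (hK : K ≤ W) (ω : ↥W →* ℂˣ)
    [DecidablePred fun w : ↥W => (w : G) ∈ K] [Decidable (ω ∈ trivOn W K)] :
    (∑ w : ↥W, if (w : G) ∈ K then (ω w : ℂ) else 0) =
      if ω ∈ trivOn W K then (Nat.card K : ℂ) else 0 := by
  classical
  rw [← Finset.sum_filter, Finset.sum_subtype (p := fun w : ↥W => w ∈ K.subgroupOf W) _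
    (fun w => by simp [mem_subgroupOf])]
  let f : ↥(K.subgroupOf W) →* ℂ := (Units.coeHom ℂ).comp (ω.comp (K.subgroupOf W).subtype)
  have hf : f = 1 ↔ ω ∈ trivOn W K :=
    ⟨fun e w hw => Units.ext (show f ⟨w, mem_subgroupOf.2 hw⟩ = 1 by rw [e]; rfl),
      fun e => MonoidHom.ext fun w => by
        show ((ω w : ℂˣ) : ℂ) = 1
        rw [e w (mem_subgroupOf.1 w.2), Units.val_one]⟩
  show ∑ w, f w = _
  rw [sum_hom_units f, Nat.card_congr (subgroupOfEquivOfLe hK).toEquiv.symm,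
    Nat.card_eq_fintype_card]
  by_cases q : f = 1
  · rw [if_pos q, if_pos (hf.1 q)]
  · rw [if_neg q, if_neg fun e => q (hf.2 e), Nat.cast_zero]

theorem zSum_eq [Fintype ↥(W₁ ⊔ W₂)] (hW : IsSelfNormalizingCyclic W₁ W₂) (ω : ↥(W₁ ⊔ W₂) →* ℂˣ)
    [Decidable (ω = 1)] [Decidable (ω ∈ trivOn (W₁ ⊔ W₂) W₁)]
    [Decidable (ω ∈ trivOn (W₁ ⊔ W₂) W₂)] :
    zSum ω = (if ω = 1 then (Nat.card W₁ : ℂ) * Nat.card W₂ else 0) -
      (if ω ∈ trivOn _ W₁ then (Nat.card W₁ : ℂ) else 0) -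
      (if ω ∈ trivOn _ W₂ then (Nat.card W₂ : ℂ) else 0) + 1 := by
  classical
  have hall : ∑ w : ↥(W₁ ⊔ W₂), (ω w : ℂ) =
      if ω = 1 then (Nat.card W₁ : ℂ) * Nat.card W₂ else 0 := by
    have e := sum_mem_hom (le_refl (W₁ ⊔ W₂)) ω
    simp only [SetLike.coe_mem, if_true, snc_card hW, Nat.cast_mul] at e
    rw [e]
    refine if_congr ⟨fun q => MonoidHom.ext fun w => q w w.2, ?_⟩ rfl rfl
    rintro rfl
    exact one_mem _
  have hpt : ∀ w : ↥(W₁ ⊔ W₂), (if (w : G) ∉ W₁ ∧ (w : G) ∉ W₂ then (ω w : ℂ) else 0) =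
      (ω w : ℂ) - (if (w : G) ∈ W₁ then (ω w : ℂ) else 0) - (if (w : G) ∈ W₂ then (ω w : ℂ) else 0) +
        if w = 1 then 1 else 0 := by
    intro w
    by_cases q1 : (w : G) ∈ W₁ <;> by_cases q2 : (w : G) ∈ W₂
    · have e : w = 1 := by
        have : (w : G) ∈ W₁ ⊓ W₂ := ⟨q1, q2⟩
        rw [snc_disj hW, mem_bot] at this
        exact Subtype.ext this
      simp [e]
    · have e : w ≠ 1 := fun e => q2 (by rw [e]; exact one_mem _)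
      simp [q1, q2, e]
    · have e : w ≠ 1 := fun e => q1 (by rw [e]; exact one_mem _)
      simp [q1, q2, e]
    · have e : w ≠ 1 := fun e => q1 (by rw [e]; exact one_mem _)
      simp [q1, q2, e]
  have hz : zSum ω = ∑ w : ↥(W₁ ⊔ W₂), _ := Finset.sum_congr rfl fun w _ => Eq.trans (by
    split_ifs <;> rfl) (hpt w)
  rw [hz, Finset.sum_add_distrib, Finset.sum_sub_distrib,
    Finset.sum_sub_distrib, hall, sum_mem_hom le_sup_left ω, sum_mem_hom le_sup_right ω,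
    Finset.sum_ite_eq', if_pos (Finset.mem_univ _)]

theorem ite_add_ite_zero (p : Prop) [Decidable p] (a b : ℝ) :
    (if p then a + b else 0) = (if p then a else 0) + if p then b else 0 := by
  split_ifs <;> simp

theorem conj_val {W : Subgroup G} (ω : ↥W →* ℂˣ) (w : ↥W) :
    conj ((ω w : ℂˣ) : ℂ) = ((ω⁻¹ w : ℂˣ) : ℂ) := by
  have hp : ((ω w : ℂˣ) : ℂ) ^ Nat.card ↥W = 1 := by
    rw [← Units.val_pow_eq_pow_val, ← map_pow, pow_card_eq_one', map_one, Units.val_one]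
  rw [conj_eq_inv_of_pow_eq_one Nat.card_pos.ne' hp, MonoidHom.inv_apply, Units.val_inv_eq_inv_val]

theorem norm_val {W : Subgroup G} (ω : ↥W →* ℂˣ) (w : ↥W) : ‖((ω w : ℂˣ) : ℂ)‖ = 1 := by
  refine Complex.norm_eq_one_of_pow_eq_one (n := Nat.card ↥W) ?_ Nat.card_pos.ne'
  rw [← Units.val_pow_eq_pow_val, ← map_pow, pow_card_eq_one', map_one, Units.val_one]

/-! ### The bounds -/

section bounds

variable {χ : (↥(W₁ ⊔ W₂) →* ℂˣ) → (G → ℂ)}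
variable (h : Kappa M W₁ U W₂) (hχ : IsCyclicTIFamily W₁ W₂ χ)
include h

/-- The mass on the conjugates of `Ẑ`. -/
theorem mass_zSet [Fintype ↥(W₁ ⊔ W₂)] {f : G → ℂ} (hf : IsClassFunction G f)
    {v : ↥(W₁ ⊔ W₂) → ℝ} (hv : ∀ w : ↥(W₁ ⊔ W₂), (w : G) ∉ W₁ → (w : G) ∉ W₂ → slack f w = v w)
    [DecidablePred fun w : ↥(W₁ ⊔ W₂) => (w : G) ∉ W₁ ∧ (w : G) ∉ W₂] :
    mass (conjSet (zSet W₁ W₂)) (slack f) = ((Nat.card W₁ : ℝ) * Nat.card W₂)⁻¹ *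
      ∑ w : ↥(W₁ ⊔ W₂), if (w : G) ∉ W₁ ∧ (w : G) ∉ W₂ then v w else 0 := by
  classical
  rw [mass_conjSet (L := W₁ ⊔ W₂) (fun z hz => hz.1) (fun l hl a ha => by
      have e : l * a * l⁻¹ = a := by
        have := congrArg Subtype.val (snc_mul_comm h.snc ⟨l, hl⟩ ⟨a, ha.1⟩)
        simp only [coe_mul] at this
        rw [this, mul_inv_cancel_right]
      rwa [e])
    (fun g a ha hga => by
      have := Inter.zhat_transporter h.minSimple h.coatom h.decomp.hall h.neW₁ (g := g) (z := a)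
        (h.zSet_eq.le ha) (h.zSet_eq.le hga)
      rwa [h.eqW₂] at this)
    (slack_conj hf), mass, snc_card h.snc, Nat.cast_mul]
  congr 1
  refine Finset.sum_congr rfl fun w _ => ?_
  by_cases q : (w : G) ∉ W₁ ∧ (w : G) ∉ W₂
  · rw [if_pos q, if_pos (show w ∈ {x : ↥(W₁ ⊔ W₂) | (x : G) ∈ zSet W₁ W₂} from ⟨w.2, q.1, q.2⟩),
      hv w q.1 q.2]
  · rw [if_neg q, if_neg fun hw : w ∈ {x : ↥(W₁ ⊔ W₂) | (x : G) ∈ zSet W₁ W₂} => q ⟨hw.2.1, hw.2.2⟩]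

theorem zSum_re [Fintype ↥(W₁ ⊔ W₂)] (ω : ↥(W₁ ⊔ W₂) →* ℂˣ) (c : ℝ)
    [DecidablePred fun w : ↥(W₁ ⊔ W₂) => (w : G) ∉ W₁ ∧ (w : G) ∉ W₂] :
    (∑ w : ↥(W₁ ⊔ W₂), if (w : G) ∉ W₁ ∧ (w : G) ∉ W₂ then c * (ω w : ℂ).re else 0) =
      c * (zSum ω).re := by
  rw [zSum, Complex.re_sum, Finset.mul_sum]
  refine Finset.sum_congr rfl fun w _ => ?_
  split_ifs <;> simp

include hχ

theorem eta_norm {ω : ↥(W₁ ⊔ W₂) →* ℂˣ} (hω : ω ≠ 1) :
    (classInner (χ ω) (χ ω)).re = 1 ∧ (classInner (χ ω) (fun _ => 1)).re = 0 := by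
  classical
  rw [← hχ.map_one, hχ.orthonormal, hχ.orthonormal, if_pos rfl, if_neg hω]
  simp

/-- `∫_X slack η(ω) ≤ 1 - ∫_Ẑ`, computed. -/
theorem single_bound [Fintype ↥(W₁ ⊔ W₂)] {ω : ↥(W₁ ⊔ W₂) →* ℂˣ} (hω : ω ≠ 1) {X : Set G} (hX : PowClosed X)
    (hd : _root_.Disjoint X (conjSet (zSet W₁ W₂))) :
    mass X (slack (χ ω)) ≤
      1 - ((Nat.card W₁ : ℝ) * Nat.card W₂)⁻¹ * ((zSum (1 : ↥(W₁ ⊔ W₂) →* ℂˣ)).re - (zSum ω).re) := by
  classical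
  have hg := (sg_eta hχ ω).gen
  have h0 := mass_le_sub hg hX (powClosed_conjSet (powClosed_zSet W₁ W₂)) hd
  have hm := mass_zSet h (isClassFunction_of_isGeneralized hg)
    (v := fun w => 1 * ((1 : ↥(W₁ ⊔ W₂) →* ℂˣ) w : ℂ).re + (-1) * (ω w : ℂ).re) fun w h1 h2 => by
    rw [slack, hχ.eq_on ω w h1 h2, norm_val]
    simp
    ring
  rw [Finset.sum_congr rfl fun (w : ↥(W₁ ⊔ W₂)) _ => ite_add_ite_zero _ _ _,
    Finset.sum_add_distrib, zSum_re h, zSum_re h] at hm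
  obtain ⟨e1, e2⟩ := eta_norm h hχ hω
  rw [e1, e2, hm] at h0
  linarith [h0]

omit hχ in
theorem zSum_values [Fintype ↥(W₁ ⊔ W₂)] {φ ψ : ↥(W₁ ⊔ W₂) →* ℂˣ} (hφ : φ ∈ trivOn _ W₂) (hφ1 : φ ≠ 1)
    (hψ : ψ ∈ trivOn _ W₁) (hψ1 : ψ ≠ 1) :
    zSum φ = 1 - (Nat.card W₂ : ℂ) ∧ zSum ψ = 1 - (Nat.card W₁ : ℂ) ∧ zSum (φ * ψ⁻¹) = 1 ∧
      zSum (1 : ↥(W₁ ⊔ W₂) →* ℂˣ) =
        (Nat.card W₁ : ℂ) * Nat.card W₂ - Nat.card W₁ - Nat.card W₂ + 1 := by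
  classical
  have hW := h.snc
  have m1 : ∀ x : ↥(W₁ ⊔ W₂) →* ℂˣ, x * 1 = x := fun x => mul_one x
  have m2 : ∀ x : ↥(W₁ ⊔ W₂) →* ℂˣ, 1 * x = x := fun x => one_mul x
  have key : ∀ {a b : ↥(W₁ ⊔ W₂) →* ℂˣ}, a ∈ trivOn _ W₂ → b ∈ trivOn _ W₁ →
      (a * b ∈ trivOn (W₁ ⊔ W₂) W₁ ↔ a = 1) ∧ (a * b ∈ trivOn (W₁ ⊔ W₂) W₂ ↔ b = 1) := by
    intro a b ha hb
    refine ⟨⟨fun hc => (trivOn_mul_inj (snc_disj hW) (snc_comm hW) (one_mem _) ha hc hb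
      (one_mul _)).1.symm, fun e => by rw [e, m2]; exact hb⟩,
      ⟨fun hc => (trivOn_mul_inj (snc_disj hW) (snc_comm hW) hc ha (one_mem _) hb
      (mul_one _)).2.symm, fun e => by rw [e, m1]; exact ha⟩⟩
  have n1 : φ ∉ trivOn (W₁ ⊔ W₂) W₁ := fun hc => hφ1 ((key hφ (one_mem _)).1.1 (by rwa [m1]))
  have n2 : ψ ∉ trivOn (W₁ ⊔ W₂) W₂ := fun hc => hψ1 ((key (one_mem _) hψ).2.1 (by rwa [m2]))
  have hψi : ψ⁻¹ ≠ 1 := fun e => hψ1 (MonoidHom.ext fun w => inv_eq_one.1 (DFunLike.congr_fun e w :))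
  have n3 : φ * ψ⁻¹ ∉ trivOn (W₁ ⊔ W₂) W₁ := fun hc => hφ1 ((key hφ (inv_mem hψ)).1.1 hc)
  have n4 : φ * ψ⁻¹ ∉ trivOn (W₁ ⊔ W₂) W₂ := fun hc => hψi ((key hφ (inv_mem hψ)).2.1 hc)
  have n5 : φ * ψ⁻¹ ≠ 1 := fun e => n3 (e ▸ one_mem _)
  refine ⟨?_, ?_, ?_, ?_⟩
  · rw [zSum_eq hW, if_neg hφ1, if_neg n1, if_pos hφ]; ring
  · rw [zSum_eq hW, if_neg hψ1, if_pos hψ, if_neg n2]; ring
  · rw [zSum_eq hW, if_neg n5, if_neg n3, if_neg n4]; ring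
  · rw [zSum_eq hW, if_pos rfl, if_pos (one_mem _), if_pos (one_mem _)]

/-- `∫_X slack η_i0 ≤ 1/p`. -/
theorem a_bound {φ : ↥(W₁ ⊔ W₂) →* ℂˣ} (hφ : φ ∈ trivOn _ W₂) (hφ1 : φ ≠ 1) {X : Set G}
    (hX : PowClosed X) (hd : _root_.Disjoint X (conjSet (zSet W₁ W₂))) :
    mass X (slack (χ φ)) ≤ 1 / (Nat.card W₂ : ℝ) := by
  classical
  let _ := Fintype.ofFinite ↥(W₁ ⊔ W₂)
  have e0 : (1 : ↥(W₁ ⊔ W₂) →* ℂˣ) ∈ trivOn (W₁ ⊔ W₂) W₁ := one_mem _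
  have hW := h.snc
  have h1 := single_bound h hχ hφ1 hX hd
  rw [zSum_eq hW, zSum_eq hW φ, if_pos rfl, if_pos (one_mem _), if_pos (one_mem _), if_neg hφ1,
    if_neg fun hc => hφ1 (trivOn_mul_inj (snc_disj hW) (snc_comm hW) hφ (one_mem _) (one_mem _) hc
      ((mul_one _).trans (one_mul _).symm)).1, if_pos hφ] at h1
  simp only [Complex.add_re, Complex.sub_re, Complex.mul_re, Complex.one_re, Complex.natCast_re,
    Complex.natCast_im, Complex.zero_re, mul_zero, sub_zero] at h1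
  refine h1.trans (le_of_eq ?_)
  have : (Nat.card W₁ : ℝ) ≠ 0 := Nat.cast_ne_zero.2 Nat.card_pos.ne'
  have : (Nat.card W₂ : ℝ) ≠ 0 := Nat.cast_ne_zero.2 Nat.card_pos.ne'
  field_simp
  ring

/-- `∫_X slack η_0j ≤ 1/e`. -/
theorem b_bound {ψ : ↥(W₁ ⊔ W₂) →* ℂˣ} (hψ : ψ ∈ trivOn _ W₁) (hψ1 : ψ ≠ 1) {X : Set G}
    (hX : PowClosed X) (hd : _root_.Disjoint X (conjSet (zSet W₁ W₂))) :
    mass X (slack (χ ψ)) ≤ 1 / (Nat.card W₁ : ℝ) := by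
  classical
  let _ := Fintype.ofFinite ↥(W₁ ⊔ W₂)
  have hW := h.snc
  have h1 := single_bound h hχ hψ1 hX hd
  rw [zSum_eq hW, zSum_eq hW ψ, if_pos rfl, if_pos (one_mem _), if_pos (one_mem _), if_neg hψ1,
    if_pos hψ, if_neg fun hc => hψ1 (trivOn_mul_inj (snc_disj hW) (snc_comm hW) (one_mem _) hc hψ
      (one_mem _) ((one_mul _).trans (mul_one _).symm)).2] at h1
  simp only [Complex.add_re, Complex.sub_re, Complex.mul_re, Complex.one_re, Complex.natCast_re,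
    Complex.natCast_im, Complex.zero_re, mul_zero, sub_zero] at h1
  refine h1.trans (le_of_eq ?_)
  have : (Nat.card W₁ : ℝ) ≠ 0 := Nat.cast_ne_zero.2 Nat.card_pos.ne'
  have : (Nat.card W₂ : ℝ) ≠ 0 := Nat.cast_ne_zero.2 Nat.card_pos.ne'
  field_simp
  ring

/-- `∫_X slack (η_i0 + η_0j) ≤ 1/p + 1/e - 2/(pe)`. -/
theorem s_bound {φ ψ : ↥(W₁ ⊔ W₂) →* ℂˣ} (hφ : φ ∈ trivOn _ W₂) (hφ1 : φ ≠ 1)
    (hψ : ψ ∈ trivOn _ W₁) (hψ1 : ψ ≠ 1) {X : Set G}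
    (hX : PowClosed X) (hd : _root_.Disjoint X (conjSet (zSet W₁ W₂))) :
    mass X (slack (χ φ + χ ψ)) ≤ 1 / (Nat.card W₂ : ℝ) + 1 / (Nat.card W₁ : ℝ) -
      2 / ((Nat.card W₂ : ℝ) * Nat.card W₁) := by
  classical
  let _ := Fintype.ofFinite ↥(W₁ ⊔ W₂)
  have hne : φ ≠ ψ := fun e => hφ1 (trivOn_mul_inj (snc_disj h.snc) (snc_comm h.snc) hφ (one_mem _)
    (one_mem _) hψ ((mul_one _).trans (e.trans (one_mul _).symm))).1
  have hg : Gen (χ φ + χ ψ) := isGeneralizedCharacter_add (sg_eta hχ φ).gen (sg_eta hχ ψ).gen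
  have h0 := mass_le_sub hg hX (powClosed_conjSet (powClosed_zSet W₁ W₂)) hd
  have hm := mass_zSet h (isClassFunction_of_isGeneralized hg)
    (v := fun w => (2 * ((1 : ↥(W₁ ⊔ W₂) →* ℂˣ) w : ℂ).re + 2 * ((φ * ψ⁻¹) w : ℂ).re) +
      ((-1) * (φ w : ℂ).re + (-1) * (ψ w : ℂ).re)) fun w h1 h2 => by
    rw [slack, Pi.add_apply, hχ.eq_on φ w h1 h2, hχ.eq_on ψ w h1 h2, MonoidHom.mul_apply,
      Units.val_mul, ← conj_val, Complex.sq_norm, Complex.normSq_add, ← Complex.sq_norm,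
      ← Complex.sq_norm, norm_val, norm_val]
    simp
    ring
  simp only [Finset.sum_congr rfl fun (w : ↥(W₁ ⊔ W₂)) _ => ite_add_ite_zero _ _ _,
    Finset.sum_add_distrib, zSum_re h] at hm
  obtain ⟨e1, e2, e3, e4⟩ := zSum_values h hφ hφ1 hψ hψ1
  rw [e1, e2, e3, e4] at hm
  simp only [Complex.add_re, Complex.sub_re, Complex.mul_re, Complex.one_re, Complex.natCast_re,
    Complex.natCast_im, mul_zero, sub_zero] at hm
  have hnorm : (classInner (χ φ + χ ψ) (χ φ + χ ψ)).re = 2 ∧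
      (classInner (χ φ + χ ψ) (fun _ => 1)).re = 0 := by
    rw [← hχ.map_one]
    simp only [classInner_add_left, classInner_add_right, hχ.orthonormal, if_pos, if_neg hne,
      if_neg hne.symm, if_neg hφ1, if_neg hψ1]
    norm_num
  rw [hnorm.1, hnorm.2, hm] at h0
  refine h0.trans (le_of_eq ?_)
  have : (Nat.card W₁ : ℝ) ≠ 0 := Nat.cast_ne_zero.2 Nat.card_pos.ne'
  have : (Nat.card W₂ : ℝ) ≠ 0 := Nat.cast_ne_zero.2 Nat.card_pos.ne'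
  field_simp
  ring

end bounds

end CfsgLib.FT.Rect
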