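import Cfsg.Agent.Lib.FT.SlackSide
import Cfsg.Agent.Lib.FT.SlackNum
import Cfsg.Agent.Lib.FT.ZPart
import Cfsg.Agent.Lib.FT.TypeTwoSide
import Cfsg.Agent.Lib.FT.TypeTwoGroup
import Cfsg.Agent.Lib.FT.FinalNeighbour

/-!
# The pair against `Ẑ` (`docs/FT.md` §3): the slack inequality and the case of two sides of type II

`Pair.slack_ineq`: the bounds of `a + b` on the conjugates of `S_σ#` and `T_σ#` and Z-PART give
`2 ≤ p err + e tT`.  `Pair.both_typeII`: if `U ≠ 1` both `u` and `v` are full.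
-/

set_option autoImplicit false
set_option linter.unusedSectionVars false
set_option linter.style.haveILetI false

open Subgroup

namespace CfsgLib.FT

open Cfsg CfsgLib.Char CfsgLib.Char.Signed CfsgLib.FT.Rect
open CfsgLib.CFun

universe u

variable {G : Type u} [Group G] [Fintype G] {S T W₁ W₂ U V : Subgroup G}

/-- The conjugates of the two `M_σ#` do not meet. -/
theorem Pair.disjoint_conjSet (hG : IsMinSimpleOddOrder G) (P : Pair S T W₁ W₂ U V) :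
    Disjoint (conjSet (sharp S)) (conjSet (sharp T)) := by
  rw [Set.disjoint_left]
  rintro g ⟨y, a, ha, rfl⟩ ⟨z, b, hb, e⟩
  have hab : orderOf a = orderOf b := by
    rw [← (MulAut.conj y).orderOf_eq a, ← (MulAut.conj z).orderOf_eq b]
    exact congrArg orderOf e
  obtain ⟨r, hr, hrd⟩ := Nat.exists_prime_and_dvd fun e1 => ha.2 (orderOf_eq_one_iff.1 e1)
  obtain ⟨t, ht⟩ := Disjoint.exists_conj_of_sigma hG P.coatomS P.coatomT
    (Cosets.sigma_of_mem hG P.coatomS ha.1 hr hrd)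
    (Cosets.sigma_of_mem hG P.coatomT hb.1 hr (hab ▸ hrd))
  exact P.notConj t ht

/-- The bounds on the two sides against Z-PART. -/
theorem Pair.slack_ineq (hG : IsMinSimpleOddOrder G) (P : Pair S T W₁ W₂ U V)
    {χ : (↥(W₁ ⊔ W₂) →* ℂˣ) → (G → ℂ)} (hχ : IsCyclicTIFamily W₁ W₂ χ)
    {φa ψ₀ : ↥(W₁ ⊔ W₂) →* ℂˣ} (hφa : φa ∈ trivOn _ W₂) (hφa1 : φa ≠ 1)
    (hψ₀ : ψ₀ ∈ trivOn _ W₁) (hψ₀1 : ψ₀ ≠ 1) {err tT : ℝ}
    (hS : 1 - err ≤ (Nat.card W₁ : ℝ) * mass (conjSet (sharp S)) (slack (χ φa + χ ψ₀)))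
    (hT : 1 - tT ≤ (Nat.card W₂ : ℝ) * mass (conjSet (sharp T)) (slack (χ φa + χ ψ₀))) :
    2 ≤ (Nat.card W₂ : ℝ) * err + (Nat.card W₁ : ℝ) * tT := by
  have h := kappaS hG P
  have hX : PowClosed (conjSet (sharp S) ∪ conjSet (sharp T)) :=
    powClosed_union (powClosed_conjSet (powClosed_sharp _)) (powClosed_conjSet (powClosed_sharp _))
  have hd : _root_.Disjoint (conjSet (sharp S) ∪ conjSet (sharp T)) (conjSet (zSet W₁ W₂)) :=
    Disjoint.union_left (h.disjoint_sigma_zSet P.coatomS) (h.disjoint_sigma_zSet P.coatomT)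
  have hb := s_bound h hχ hφa hφa1 hψ₀ hψ₀1 hX hd
  rw [mass_union (P.disjoint_conjSet hG)] at hb
  set x := mass (conjSet (sharp S)) (slack (χ φa + χ ψ₀))
  set y := mass (conjSet (sharp T)) (slack (χ φa + χ ψ₀))
  set e := (Nat.card W₁ : ℝ) with he
  set p := (Nat.card W₂ : ℝ) with hp
  have he0 : 0 < e := Nat.cast_pos.2 Nat.card_pos
  have hp0 : 0 < p := Nat.cast_pos.2 Nat.card_pos
  have h1 := mul_le_mul_of_nonneg_left hb (mul_pos hp0 he0).le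
  have h2 := mul_le_mul_of_nonneg_left hS hp0.le
  have h3 := mul_le_mul_of_nonneg_left hT he0.le
  rw [show p * e * (1 / p + 1 / e - 2 / (p * e)) = e + p - 2 by field_simp] at h1
  nlinarith [h1, h2, h3]

/-- Characters `η_i0`, `η_0j` with `i, j ≠ 0`. -/
theorem Pair.exists_eta (hG : IsMinSimpleOddOrder G) (P : Pair S T W₁ W₂ U V) :
    ∃ φa ψ₀ : ↥(W₁ ⊔ W₂) →* ℂˣ, φa ∈ trivOn _ W₂ ∧ φa ≠ 1 ∧ ψ₀ ∈ trivOn _ W₁ ∧ ψ₀ ≠ 1 := by
  classical
  have h := kappaS hG P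
  haveI := finite_dual (K := ↥(W₁ ⊔ W₂))
  have key : ∀ K : Subgroup G, 2 ≤ (dualFin (W₁ ⊔ W₂) K).card →
      ∃ ω ∈ trivOn (W₁ ⊔ W₂) K, ω ≠ 1 := fun K hK => by
    obtain ⟨ω, hω, hne⟩ := Finset.exists_mem_ne (s := dualFin (W₁ ⊔ W₂) K) (by omega) 1
    exact ⟨ω, mem_dualFin.1 hω, hne⟩
  have h1 := h.three_le
  obtain ⟨φa, h2, h3⟩ := key W₂ (by rw [card_dualFin h.snc]; omega)
  obtain ⟨ψ₀, h4, h5⟩ := key W₁ (by
    have e : (dualFin (W₁ ⊔ W₂) W₁).card = Nat.card W₂ := by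
      rw [← card_trivOn_fst (snc_disj h.snc) (snc_comm h.snc) (snc_mul_comm_snd h.snc),
        ← Nat.card_eq_finsetCard]
      exact Nat.card_congr (Equiv.subtypeEquivRight fun _ => mem_dualFin)
    rw [e]
    exact (Pair.prime_card_sigmaT hG P).1.two_le)
  exact ⟨φa, ψ₀, h2, h3, h4, h5⟩

/-- `p ≠ |W₁|`, both odd, and `v ≡ 1 mod p`. -/
theorem Pair.basic (hG : IsMinSimpleOddOrder G) (hNB : NoBad G) (P : Pair S T W₁ W₂ U V) :
    Odd (Nat.card W₂) ∧ Odd (Nat.card W₁) ∧ 3 ≤ Nat.card W₁ ∧ ¬ Nat.card W₂ ∣ Nat.card W₁ ∧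
      Nat.card V % Nat.card W₂ = 1 := by
  have D := Pair.twoSide hG P hNB
  refine ⟨hG.1.of_dvd_nat (card_subgroup_dvd_card _), hG.1.of_dvd_nat (card_subgroup_dvd_card _),
    (kappaS hG P).three_le, fun hd => D.not_dvd_Q ?_, ?_⟩
  · exact hd.trans (card_dvd_of_le D.leW₁)
  · have h := (dvd_mul_left (Nat.card W₂ : ℤ) 2).trans D.card_V_mod
    have hv : 1 ≤ Nat.card V := Nat.card_pos
    rw [show (Nat.card V : ℤ) - 1 = ((Nat.card V - 1 : ℕ) : ℤ) by omega,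
      Int.natCast_dvd_natCast] at h
    have hp := (Pair.prime_card_sigmaT hG P).1.two_le
    conv_lhs => rw [show Nat.card V = Nat.card V - 1 + 1 by omega]
    rw [Nat.add_mod, Nat.mod_eq_zero_of_dvd h, zero_add, Nat.mod_mod, Nat.one_mod_eq_one.2 (by omega)]

/-- The type II side when `|W₁|` is prime. -/
theorem Pair.bound_T (hG : IsMinSimpleOddOrder G) (hNB : NoBad G) (P : Pair S T W₁ W₂ U V)
    (he : (Nat.card W₁).Prime) {χ : (↥(W₁ ⊔ W₂) →* ℂˣ) → (G → ℂ)}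
    (hχ : IsCyclicTIFamily W₁ W₂ χ) {φa ψ₀ : ↥(W₁ ⊔ W₂) →* ℂˣ} (hφa : φa ∈ trivOn _ W₂)
    (hφa1 : φa ≠ 1) (hψ₀ : ψ₀ ∈ trivOn _ W₁) :
    1 - ((Nat.card V : ℝ) + 1) / (Nat.card W₁ : ℝ) ^ Nat.card W₂ ≤
      (Nat.card W₂ : ℝ) * mass (conjSet (sharp T)) (slack (χ φa + χ ψ₀)) := by
  classical
  let _ := Fintype.ofFinite ↥(sigmaCore T)
  have D := Pair.twoSide hG P hNB
  have h := D.bound_sum hχ (Pair.elementary_sigmaT hG P hNB he).1 hφa hφa1 hψ₀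
  rw [(Pair.prime_card_sigmaT hG P).2, Nat.cast_pow] at h
  have hp : (0 : ℝ) < Nat.card W₂ := Nat.cast_pos.2 Nat.card_pos
  refine le_trans (le_of_eq ?_) (mul_le_mul_of_nonneg_left h hp.le)
  field_simp

/-- Both sides of type II: both complements are full. -/
theorem Pair.both_typeII (hG : IsMinSimpleOddOrder G) (hNB : NoBad G) (P : Pair S T W₁ W₂ U V)
    (hU : U ≠ ⊥) :
    (Nat.card W₁).Prime ∧ (Nat.card W₂).Prime ∧ Nat.card W₁ ≠ Nat.card W₂ ∧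
      Nat.card U = full (Nat.card W₂) (Nat.card W₁) ∧ Nat.card V = full (Nat.card W₁) (Nat.card W₂) ∧
      ¬ Nat.card W₁ ∣ Nat.card W₂ - 1 ∧ ¬ Nat.card W₂ ∣ Nat.card W₁ - 1 := by
  classical
  have Q := P.swap hU
  have hq := (Pair.prime_card_sigmaT hG Q).1
  have hp := (Pair.prime_card_sigmaT hG P).1
  obtain ⟨hp2, hq2, -, hnd, hv1⟩ := P.basic hG hNB
  obtain ⟨-, -, -, -, hu1⟩ := Q.basic hG hNB
  have hne : Nat.card W₁ ≠ Nat.card W₂ := fun e => hnd (e ▸ dvd_rfl)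
  obtain ⟨χ, hχ⟩ := (kappaS hG P).exists_family
  obtain ⟨φa, ψ₀, hφa, hφa1, hψ₀, hψ₀1⟩ := P.exists_eta hG
  set e := MulEquiv.subgroupCongr (sup_comm W₁ W₂) with he
  set f : (↥(W₁ ⊔ W₂) →* ℂˣ) → (↥(W₂ ⊔ W₁) →* ℂˣ) := fun ω => ω.comp e.symm.toMonoidHom with hf
  have hχf : ∀ ω, swapFamily χ (f ω) = χ ω := fun ω => congrArg χ (MonoidHom.ext fun w => by
    show ω (e.symm (e w)) = ω w
    rw [e.symm_apply_apply])
  have hS := Q.bound_T hG hNB hp (isCyclicTIFamily_swap hχ) (φa := f ψ₀) (ψ₀ := f φa)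
    (fun w hw => hψ₀ (e.symm w) hw)
    (fun h1 => hψ₀1 (MonoidHom.ext fun w => by
      have := DFunLike.congr_fun h1 (e w)
      simp only [hf, MonoidHom.coe_comp, Function.comp_apply, MulEquiv.coe_toMonoidHom,
        e.symm_apply_apply, MonoidHom.one_apply] at this
      exact this))
    (fun w hw => hφa (e.symm w) hw)
  rw [hχf, hχf, add_comm (χ ψ₀)] at hS
  have hT := P.bound_T hG hNB hq hχ hφa hφa1 hψ₀
  have hmain := P.slack_ineq hG hχ hφa hφa1 hψ₀ hψ₀1 hS hT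
  have conv : ∀ a b : ℕ, 1 ≤ b → 0 < a → ∀ x : ℝ,
      (a : ℝ) * (x / (a : ℝ) ^ b) = x / (a : ℝ) ^ (b - 1) := fun a b hb ha x => by
    have : (a : ℝ) ≠ 0 := Nat.cast_ne_zero.2 ha.ne'
    conv_lhs => rw [show b = b - 1 + 1 by omega, pow_succ']
    field_simp
  rw [conv _ _ hq.one_le hp.pos, conv _ _ hp.one_le hq.pos] at hmain
  obtain ⟨h1, h2, h3, h4⟩ := both_full hp hq hp2 hq2 hne.symm
    ((Pair.dvd_cases_V hG Q hNB hp).symm.imp_left fun h => h.2) hu1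
    ((Pair.dvd_cases_V hG P hNB hq).symm.imp_left fun h => h.2) hv1 hmain
  exact ⟨hq, hp, hne, h1, h2, h3, h4⟩

end CfsgLib.FT
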