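import Cfsg.Agent.Lib.FT.NotTypeVTheta
import Cfsg.Agent.Lib.FT.MeetZhat
import Cfsg.Agent.Lib.FT.Kernels
import Cfsg.Agent.Lib.FT.TypeTwoSide
import Cfsg.Agent.Lib.FT.TypeTwoGroup
import Cfsg.Agent.Lib.FT.FamilyParity
import Cfsg.Agent.Lib.FT.SlackPair

/-!
# The case `A = 1` for types III and IV (`docs/FT.md`, §4)

The rows of `τθ_S` then are empty, and `(μ_i, τθ_T)` is the same odd multiple `z` of `|W₂|` on the whole
family; so `n z² ≤ ‖τθ_T‖² = |W₂| (|V| + 1)`.
-/

set_option autoImplicit false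
set_option linter.unusedSectionVars false
set_option linter.style.haveILetI false

open Subgroup

namespace CfsgLib.FT.TypeIII

open scoped ComplexConjugate
open Cfsg (IsClassFunction IsGeneralizedCharacter IrrCharacter classInner indFun IsIrrCharacter
  IsSelfNormalizingCyclic IsCyclicTIFamily sigmaCore IsMinSimpleOddOrder supportR)
open CfsgLib.Char CfsgLib.Char.Signed CfsgLib.FT.Rect CfsgLib.CFun

universe u

variable {G : Type u} [Group G] [Fintype G]

/-- Without neighbours the Dade map is induction. -/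
theorem tau_eq_indFun (hG : IsMinSimpleOddOrder G) (hNB : NoBad G) {M : Subgroup G} (hM : IsCoatom M)
    {α : M → ℂ} (hα : IsClassFunction M α) (hS : SharpSupp M α) : tau M α = indFun M α := by
  classical
  funext g
  have key : ∀ (a : M), (a : G) ∈ sharp M → ∀ x : G, x * g * x⁻¹ = a →
      indFun M α g = α a := by
    intro a ha x hx
    have hval : ∀ y : G, Cfsg.extendByZero M α (y⁻¹ * g * y) =
        if x * y ∈ M then α a else 0 := by
      intro y
      have e : y⁻¹ * g * y = (x * y)⁻¹ * (a : G) * (x * y) := by rw [← hx]; group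
      by_cases hm : x * y ∈ M
      · rw [if_pos hm, e, extendByZero_mem M α (mul_mem (mul_mem (inv_mem hm) a.2) hm)]
        convert (hα a ⟨x * y, hm⟩⁻¹) using 2
        exact Subtype.ext (by simp)
      · rw [if_neg hm, e]
        by_cases hc : (x * y)⁻¹ * (a : G) * (x * y) ∈ M
        · refine absurd ?_ hm
          have := CfsgLib.FT.mem_of_conj_mem hG hNB hM ha.1 ha.2 (g := (x * y)⁻¹) (by rwa [inv_inv])
          simpa using inv_mem this
        · exact extendByZero_not_mem M α hc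
    rw [indFun, Finset.sum_congr rfl fun y _ => hval y, Finset.sum_ite, Finset.sum_const,
      Finset.sum_const_zero, add_zero, nsmul_eq_mul,
      show (Finset.univ.filter fun y : G => x * y ∈ M).card = Nat.card M by
        rw [Nat.card_eq_fintype_card, ← Fintype.card_subtype]
        exact Fintype.card_congr ((Equiv.mulLeft x).subtypeEquiv fun _ => Iff.rfl),
      ← mul_assoc, inv_mul_cancel₀ (Nat.cast_ne_zero.2 Nat.card_pos.ne'), one_mul]
  rw [tau, Cfsg.dadeIsometry]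
  split_ifs with h
  · obtain ⟨ha, x, u, hu, hx⟩ := Classical.choose_spec h
    rw [supportR_eq_bot hG hNB hM ha.1 ha.2, mem_bot] at hu
    rw [hu, mul_one] at hx
    exact (key _ ha x hx).symm
  · rw [indFun, Finset.sum_eq_zero, mul_zero]
    intro y _
    by_cases hm : y⁻¹ * g * y ∈ M
    · rw [extendByZero_mem M α hm]
      refine hS _ fun hs => h ⟨⟨_, hm⟩, hs, y⁻¹, 1, one_mem _, by simp⟩
    · exact extendByZero_not_mem M α hm

/-- In a group of prime order the non-trivial elements are powers of each other prime to `n`. -/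
theorem exists_coprime_pow {A : Type*} [Group A] {X : Subgroup A} {q n : ℕ} [NeZero n] (hq : q.Prime)
    (hX : Nat.card X = q) (hn : q ∣ n) {a b : A} (ha : a ∈ X) (ha1 : a ≠ 1) (hb : b ∈ X) (hb1 : b ≠ 1) :
    ∃ k : ℕ, k.Coprime n ∧ a ^ k = b := by
  haveI : Fact q.Prime := ⟨hq⟩
  haveI : Finite X := Nat.finite_of_card_ne_zero (hX ▸ hq.ne_zero)
  have hmem := mem_zpowers_of_prime_card hX (g := (⟨a, ha⟩ : X)) (g' := ⟨b, hb⟩)
    fun e => ha1 (congrArg Subtype.val e)
  rw [← mem_powers_iff_mem_zpowers] at hmem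
  obtain ⟨k, hk⟩ := hmem
  have hk' : a ^ k = b := congrArg Subtype.val hk
  have hord : orderOf a = q := by
    refine orderOf_eq_prime ?_ ha1
    have := congrArg Subtype.val (pow_card_eq_one' (x := (⟨a, ha⟩ : X)))
    rwa [hX] at this
  have hkq : k.Coprime q := by
    refine Nat.Coprime.symm (hq.coprime_iff_not_dvd.2 fun hd => hb1 ?_)
    rw [← hk']
    exact orderOf_dvd_iff_pow_eq_one.1 (hord ▸ hd)
  obtain ⟨v, hv⟩ := ZMod.unitsMap_surjective hn (ZMod.unitOfCoprime k hkq)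
  have hmod : (v : ZMod n).val ≡ k [MOD q] := by
    rw [← ZMod.natCast_eq_natCast_iff, ← ZMod.coe_unitOfCoprime k hkq, ← hv, ZMod.unitsMap_val,
      ZMod.cast_eq_val]
  refine ⟨(v : ZMod n).val, ZMod.val_coe_unit_coprime v, ?_⟩
  rw [← hk']
  refine (pow_eq_pow_iff_modEq (x := a)).2 ?_
  rw [hord]
  exact hmod

variable {S T W₁ W₂ V : Subgroup G} {mu : (↥(W₁ ⊔ W₂) →* ℂˣ) → (↥S → ℂ)}
  {sgn : (↥(W₁ ⊔ W₂) →* ℂˣ) → ℤ} {χ : (↥(W₁ ⊔ W₂) →* ℂˣ) → (G → ℂ)}

/-- The two forms of `θ_S` agree. -/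
theorem theta_eq (h : Rect.Kappa S W₁ ⊥ W₂) (C : IsCols S W₁ W₂ mu sgn) (φ₀ : Member S) :
    theta S φ₀ = TypeV.thetaS mu φ₀ := by
  classical
  funext x
  rw [theta, TypeV.thetaS, Pi.sub_apply, Pi.sub_apply, indOne_eq h.minSimple, TypeV.col_one_apply h C,
    TypeV.eIndex_eq_card h]

variable (h : Rect.Kappa S W₁ ⊥ W₂) (hNB : NoBad G) (hM : FpfAb S)
variable (hχ : IsCyclicTIFamily W₁ W₂ χ) (F : Family S)
include h hM hχ

/-- The images of the family are orthogonal to the `η`. -/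
theorem mu_perp (i : Member S) (ω : ↥(W₁ ⊔ W₂) →* ℂˣ) :
    classInner (F.μ i : G → ℂ) (χ ω) = 0 := by
  have hG := h.minSimple
  refine Rect.perp_of_conj h.snc h.odd_sup hχ (F.μ i).2 (F.mu_ne_one hG hM i) (fun w h1 h2 => ?_) ω
  have hz : (w : G) ∈ Zhat.orbit S W₁ := by
    rw [← h.conjSet_zSet]
    exact ⟨1, w, ⟨w.2, h1, h2⟩, by simp⟩
  rw [F.mu_orbit_zero hG hM h.coatom h.decomp.hall h.neW₁ i hz, map_zero]

include hNB

/-- The rows of `τθ_S` vanish when `A = 1`. -/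
theorem row_zero [Fintype S] (C : IsCols S W₁ W₂ mu sgn) (he : (Nat.card W₁).Prime)
    (hp : (Nat.card W₂).Prime) (hA : ∀ ψ ∈ trivOn (W₁ ⊔ W₂) W₁, ψ ≠ 1 →
      iq (indFun S (TypeV.thetaS mu F.base)) (χ ψ) = 1)
    {φ : ↥(W₁ ⊔ W₂) →* ℂˣ} (hφ : φ ∈ trivOn _ W₂) (hφ1 : φ ≠ 1)
    {ψ : ↥(W₁ ⊔ W₂) →* ℂˣ} (hψ : ψ ∈ trivOn _ W₁) :
    classInner F.tht (χ (φ * ψ)) = 0 := by
  classical
  have hG := h.minSimple
  haveI := finite_dual (K := ↥(W₁ ⊔ W₂))
  have hFt : F.tht = indFun S (TypeV.thetaS mu F.base) := by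
    rw [Family.tht, tau_eq_indFun hG hNB h.coatom (theta_class hG F.base) (theta_supp hG F.base),
      theta_eq h C]
  set Φ := indFun S (TypeV.thetaS mu F.base) with hΦ
  have hgen : Gen Φ := hFt ▸ F.tht_gen hG hM
  have hone : iq Φ (χ 1) = 1 := TypeV.thetaS_eta_one h C hNB hM hχ F.base
  have hz := TypeV.thetaS_zhat h C hNB hM hχ F.base
  have hrect : ∀ {a b : ↥(W₁ ⊔ W₂) →* ℂˣ}, a ∈ trivOn _ W₂ → b ∈ trivOn (W₁ ⊔ W₂) W₁ →
      iq Φ (χ (a * b)) = iq Φ (χ a) := fun {a b} ha hb => by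
    rcases eq_or_ne b 1 with rfl | hb1
    · rw [show a * 1 = a from mul_one a]
    rw [iq_rule h.snc hχ hgen hz ha hb, hA b hb hb1, hone]
    ring
  -- Galois
  have hconst : ∀ a ∈ trivOn (W₁ ⊔ W₂) W₂, a ≠ 1 → iq Φ (χ a) = iq Φ (χ φ) := by
    intro a ha ha1
    haveI : NeZero (Nat.card G) := ⟨Nat.card_pos.ne'⟩
    obtain ⟨k, hk, rfl⟩ := exists_coprime_pow he
      (card_trivOn_snd (snc_disj h.snc) (snc_comm h.snc) (snc_mul_comm_fst h.snc))
      (card_subgroup_dvd_card W₁) hφ hφ1 ha ha1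
    have hd : ∀ ω : ↥(W₁ ⊔ W₂) →* ℂˣ, ω ≠ 1 → classInner Φ (χ ω) = classInner F.delta (χ ω) := by
      intro ω hω
      rw [← hFt, F.tht_eq, classInner_sub_left, classInner_add_left, classInner_smul_left, Family.psi,
        mu_perp h hM hχ F, mul_zero, sub_zero, show (1 : G → ℂ) = fun _ => 1 from rfl, ← hχ.map_one,
        hχ.orthonormal, if_neg hω.symm, zero_add]
    refine iq_eq _ ?_
    rw [← iq_spec hgen (sg_eta hχ φ).gen, hd _ ha1, hd _ hφ1,
      show χ (φ ^ k) = fun g => χ φ (g ^ k) from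
        funext fun g => Rect.eta_powMap h.snc h.odd_sup hχ φ hk.symm g]
    refine Eq.trans ?_ (classInner_powMap hk.symm F.delta (χ φ))
    exact congrArg (classInner · _) (funext fun g => (F.delta_pow hG hM hk g).symm)
  -- the norm
  set P := dualFin (W₁ ⊔ W₂) W₂ with hP
  set Q := dualFin (W₁ ⊔ W₂) W₁ with hQ
  have hQc : Q.card = Nat.card W₂ := by
    rw [← card_trivOn_fst (snc_disj h.snc) (snc_comm h.snc) (snc_mul_comm_snd h.snc),
      ← Nat.card_eq_finsetCard]
    exact Nat.card_congr (Equiv.subtypeEquivRight fun _ => mem_dualFin)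
  have h1P : (1 : ↥(W₁ ⊔ W₂) →* ℂˣ) ∈ P := mem_dualFin.2 (one_mem _)
  have hinj : Set.InjOn (fun x : (↥(W₁ ⊔ W₂) →* ℂˣ) × (↥(W₁ ⊔ W₂) →* ℂˣ) => x.1 * x.2)
      ((P ×ˢ Q : Finset _) : Set _) := by
    rintro ⟨x, y⟩ hxy ⟨x', y'⟩ hxy' e
    simp only [Finset.coe_product, Set.mem_prod, Finset.mem_coe, hP, hQ, mem_dualFin] at hxy hxy'
    obtain ⟨e1, e2⟩ := trivOn_mul_inj (snc_disj h.snc) (snc_comm h.snc) hxy.1 hxy'.1 hxy.2 hxy'.2 e
    rw [e1, e2]
  have hle := sum_sq_le_norm ((P ×ˢ Q).image fun x => x.1 * x.2) χ (fun i _ => sg_eta hχ i)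
    (fun i _ j _ e => iq_eta_ne hχ e) hgen
  rw [Finset.sum_image hinj, Finset.sum_product,
    Finset.sum_congr rfl fun a ha => Finset.sum_congr rfl fun b hb => by
      rw [hrect (mem_dualFin.1 ha) (mem_dualFin.1 hb)],
    hΦ, TypeV.thetaS_norm h C hNB hM F.base, ← hΦ] at hle
  simp only [Finset.sum_const, hQc, nsmul_eq_mul] at hle
  rw [← Finset.mul_sum, ← Finset.add_sum_erase P _ h1P, hone,
    Finset.sum_congr rfl fun a ha => by
      rw [hconst a (mem_dualFin.1 (Finset.mem_of_mem_erase ha)) (Finset.ne_of_mem_erase ha)],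
    Finset.sum_const, Finset.card_erase_of_mem h1P, hP, card_dualFin h.snc, nsmul_eq_mul,
    Nat.cast_sub he.one_le] at hle
  have hB : iq Φ (χ φ) = 0 := by
    by_contra hne
    have hsq : 0 < iq Φ (χ φ) ^ 2 := by positivity
    have hp3 : (2 : ℤ) ≤ Nat.card W₂ := by exact_mod_cast hp.two_le
    have he2 : (2 : ℤ) ≤ Nat.card W₁ := by exact_mod_cast he.two_le
    push_cast at hle
    nlinarith [mul_le_mul hp3 (show (Nat.card W₁ : ℤ) ≤ 1 + ((Nat.card W₁ : ℤ) - 1) * iq Φ (χ φ) ^ 2 by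
      nlinarith) (by omega) (by omega)]
  rw [hFt, iq_spec hgen (sg_eta hχ _).gen, hrect hφ hψ, hB, Int.cast_zero]

/-- The case `A = 1`. -/
theorem pairing_case [Fintype S] (P : Pair S T W₁ W₂ ⊥ V) (C : IsCols S W₁ W₂ mu sgn)
    (he : (Nat.card W₁).Prime)
    (hA : ∀ ψ ∈ trivOn (W₁ ⊔ W₂) W₁, ψ ≠ 1 →
      iq (indFun S (TypeV.thetaS mu F.base)) (χ ψ) = 1) :
    ∃ z : ℤ, (Nat.card W₂ : ℤ) ∣ z ∧ z ≠ 0 ∧
      (Nat.card (Member S) : ℤ) * z ^ 2 ≤ (Nat.card W₂ : ℤ) * ((Nat.card V : ℤ) + 1) := by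
  classical
  have hG := h.minSimple
  have D := Pair.twoSide hG P hNB
  have hQ := (Pair.elementary_sigmaT hG P hNB he).1
  let _ := Fintype.ofFinite ↥(sigmaCore T)
  haveI := member_finite hG hM
  letI := Fintype.ofFinite (Member S)
  obtain ⟨φ, hφ, hφ1, -⟩ := D.exists_ne 1
  -- zero on `T_σ`
  have hzero : ∀ {α : S → ℂ}, IsClassFunction S α → SharpSupp S α →
      ∀ x : sigmaCore T, tau S α (x : G) = 0 := by
    intro α hα hS x
    by_cases hx : (x : G) = 1
    · rw [hx]; exact tau_apply_one hG h.coatom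
    refine tau_eq_zero' fun hmem => ?_
    obtain ⟨hx1, y, hy⟩ := (CfsgLib.FT.mem_tildeOf_iff hG hNB h.coatom).1 hmem
    have hxS : (x : G) ∈ conjSet (sharp S) :=
      ⟨y⁻¹, y * (x : G) * y⁻¹, ⟨hy, fun e => hx1 (conj_eq_one_iff.1 e)⟩, by group⟩
    exact Set.disjoint_left.1 (P.disjoint_conjSet hG) hxS ⟨1, x, ⟨x.2, hx⟩, by simp⟩
  have hDf : ∀ {α : S → ℂ}, IsClassFunction S α → SharpSupp S α → ∀ lam mu' : ↥(sigmaCore T) →* ℂˣ,
      classInner (tau S α) (TwoSide.Df lam mu') = 0 := fun {α} hα hS lam mu' => by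
    rw [TwoSide.inner_Df _ _ (tau_class hG h.coatom hα),
      show (fun x : sigmaCore T => tau S α x) = fun _ => 0 from funext fun x => hzero hα hS x]
    simp [classInner]
  have hdiff : ∀ i l : Member S, IsClassFunction S (i.1 - l.1) := fun i l x y => by
    simp only [Pi.sub_apply, member_class hG i x y, member_class hG l x y]
  have hconst : ∀ (i j : Member S) lam mu', classInner (F.μ i : G → ℂ) (TwoSide.Df lam mu') =
      classInner (F.μ j : G → ℂ) (TwoSide.Df (Q := sigmaCore T) lam mu') := fun i j lam mu' =>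
    F.inner_mu_const hG hM (fun a b => hDf (hdiff a b) (diff_supp hG a b) lam mu') i j
  -- the integer
  set Θ := D.Theta hQ φ with hΘ
  have hΘg : Gen Θ := D.Theta_gen hQ φ
  have hne : F.μ F.base ≠ F.μ (F.base.conj hG) := fun e => F.base.conj_ne hG hM (F.inj e).symm
  obtain ⟨z, hz, hzv⟩ := D.int_of_orth hQ F.psi_gen (fun lam mu' hl hm =>
    (D.orth_of_two hχ hQ hne (mu_perp h hM hχ F _) (mu_perp h hM hχ F _)
      (fun lam mu' _ _ => hconst _ _ lam mu') lam mu' hl hm).1) hφ hφ1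
  refine ⟨z, ?_, ?_, ?_⟩
  · obtain ⟨a, ha, ha1⟩ := (bot_or_exists_ne_one W₁).resolve_left h.neW₁
    obtain ⟨b, hb, hb1⟩ := (bot_or_exists_ne_one W₂).resolve_left P.neW₂
    refine D.dvd_of_vanish hQ F.psi_gen hzv ha ha1 hb ?_
    exact F.mu_mul_zero hG hM h.coatom h.decomp.hall h.neW₁ _ ha ha1 (h.le₂ hb)
      ((h.eqW₂.ge hb).2) hb1
  · -- parity
    intro hz0
    subst hz0
    have hr2 : Cfsg.conjFun (Θ - -TwoSide.rowSum χ φ) = Θ - -TwoSide.rowSum χ φ := by
      have e2 : Cfsg.conjFun (TwoSide.rowSum χ φ) = TwoSide.rowSum χ φ⁻¹ := by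
        funext g
        simp only [Cfsg.conjFun, TwoSide.rowSum, Finset.sum_apply, map_sum]
        refine Finset.sum_nbij' (fun y => y⁻¹) (fun y => y⁻¹)
          (fun y hy => mem_dualFin.2 (inv_mem (mem_dualFin.1 hy)))
          (fun y hy => mem_dualFin.2 (inv_mem (mem_dualFin.1 hy))) (fun y _ => inv_inv y)
          (fun y _ => inv_inv y) fun y _ => ?_
        rw [show φ⁻¹ * y⁻¹ = (φ * y)⁻¹ from (mul_inv φ y).symm]
        exact congrFun (D.conj_eta hχ (φ * y)) g
      have e1 : Cfsg.conjFun (Θ - -TwoSide.rowSum χ φ) = D.Theta hQ φ⁻¹ + TwoSide.rowSum χ φ⁻¹ := by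
        rw [← D.Theta_conj hQ φ, ← e2, sub_neg_eq_add]
        funext g
        simp [Cfsg.conjFun, hΘ]
      rw [e1, sub_neg_eq_add]
      rcases eq_or_ne φ⁻¹ φ with e | e
      · rw [e, hΘ]
      · have h' := D.Theta_sub hχ hQ (inv_mem hφ) hφ (fun e1 => hφ1 ((inv_inv φ).symm.trans ((congrArg (·⁻¹) e1).trans (MonoidHom.ext fun _ => by simp)))) hφ1 e
        rw [hΘ]
        linear_combination h'
    have hmem : ∀ y ∈ dualFin (W₁ ⊔ W₂) W₁, φ * y ≠ 1 := fun y hy e =>
      hφ1 (trivOn_mul_inj (snc_disj h.snc) (snc_comm h.snc) hφ (one_mem _) (mem_dualFin.1 hy) (one_mem _)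
        (by rw [mul_one]; exact e)).1
    have hp1 : classInner (TwoSide.rowSum χ φ) (fun _ => 1) = 0 := by
      rw [TwoSide.rowSum, classInner_sum_left, ← hχ.map_one]
      exact Finset.sum_eq_zero fun y hy => by rw [hχ.orthonormal, if_neg (hmem y hy)]
    have hrow : classInner (TwoSide.rowSum χ φ) F.tht = 0 := by
      rw [TwoSide.rowSum, classInner_sum_left]
      refine Finset.sum_eq_zero fun y hy => ?_
      rw [← classInner_conj, row_zero h hNB hM hχ F C he D.prime hA hφ hφ1 (mem_dualFin.1 hy), map_zero]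
    have hψrow : classInner F.psi (TwoSide.rowSum χ φ) = 0 := by
      rw [TwoSide.rowSum, classInner_sum_right]
      exact Finset.sum_eq_zero fun y _ => mu_perp h hM hχ F _ _
    have horth : classInner F.tht Θ = 0 := hDf (theta_class hG _) (theta_supp hG _) _ _
    obtain ⟨k, hk⟩ := parity_core hG.1 (θ₁ := F.tht) (θ₂ := Θ)
      (ξ₁ := (-(F.ε : ℂ)) • F.psi) (ξ₂ := -TwoSide.rowSum χ φ) (F.tht_gen hG hM) hΘg
      (by
        rw [show (-(F.ε : ℂ)) • F.psi = ((-F.ε : ℤ) : ℂ) • F.psi by push_cast; rfl]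
        exact Gen.zsmul F.psi_gen _)
      (isGeneralizedCharacter_neg (isGeneralizedCharacter_sum _ _ fun y _ => (sg_eta hχ _).gen))
      (by
        rw [show F.tht - (-(F.ε : ℂ)) • F.psi = 1 + F.delta by rw [F.tht_eq, neg_smul]; abel]
        funext g
        simp only [Cfsg.conjFun, Pi.add_apply, Pi.one_apply, map_add, map_one]
        rw [show conj (F.delta g) = F.delta g from congrFun (F.delta_conj hG hM) g])
      hr2 (F.tht_one hG hM) (D.Theta_one hQ hφ hφ1)
      (by rw [classInner_smul_left, F.psi_one hG hM, mul_zero])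
      (by rw [classInner_neg_left, hp1, neg_zero]) horth
    rw [classInner_smul_left, classInner_smul_left, classInner_neg_left, classInner_neg_right, hrow,
      hψrow, show classInner F.psi Θ = ((0 : ℤ) : ℂ) from hz] at hk
    simp only [Int.cast_zero, mul_zero, neg_zero, add_zero, sub_zero] at hk
    have : (2 * k + 1 : ℤ) = 0 := by exact_mod_cast hk.symm
    omega
  · have hall : ∀ i, iq Θ (F.μ i : G → ℂ) = z := fun i => by
      refine iq_eq _ ?_
      rw [← classInner_conj, show classInner (F.μ i : G → ℂ) Θ = (z : ℂ) from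
        (hconst i F.base 1 (D.lift hQ φ)).trans hz, map_intCast]
    have hle := sum_sq_le_norm (Finset.univ : Finset (Member S)) (fun i => (F.μ i : G → ℂ))
      (fun i _ => Sg.of_irr _) (fun i _ j _ hij => iq_eq 0 (by
        rw [classInner_irr_ne fun e => hij (F.inj e), Int.cast_zero])) hΘg
    rw [Finset.sum_congr rfl fun i _ => by rw [hall i], Finset.sum_const, Finset.card_univ,
      nsmul_eq_mul, iq_eq ((Nat.card W₂ * (Nat.card V + 1) : ℕ) : ℤ)
        (by rw [D.Theta_norm hQ hφ hφ1]; push_cast; rfl)] at hle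
    push_cast at hle
    rw [Nat.card_eq_fintype_card (α := Member S)]
    linarith

end CfsgLib.FT.TypeIII
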