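import Cfsg.Agent.Lib.FT.NotTypeVTheta
import Cfsg.Agent.Lib.FT.PairExists
import Cfsg.Agent.Lib.FT.ZPart

/-!
# The case `τθ_S = Σ_i η_i0 + X` of type V (`docs/FT.md`, §4, identity)

Outside the conjugates of `S_σ#` the signed irreducible `X` is `-Σ_i η_i0`, which has no zero at the
elements of order prime to `e = |W₁|`; on the other hand almost all of `|X|²` lives on the conjugates of
`S_σ#`, as its inner product with the member differences shows.  Hence `k₀(1 - 1/e - 1/v) ≤ pe`.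
-/

set_option autoImplicit false
set_option linter.unusedSectionVars false
set_option linter.style.haveILetI false

open Subgroup
open CfsgLib.Coprime (conjBy conjBy_conjBy conjBy_one)

namespace CfsgLib.FT

open scoped ComplexConjugate
open Cfsg CfsgLib.Char CfsgLib.Char.Signed CfsgLib.FT.Rect CfsgLib.CFun

universe u

variable {G : Type u} [Group G] [Fintype G]

theorem mass_one_eq (X : Set G) :
    mass X (fun _ => (1 : ℝ)) = (X.ncard : ℝ) / Nat.card G := by
  classical
  rw [mass, inv_mul_eq_div, ← Finset.sum_filter, Finset.sum_const, nsmul_eq_mul, mul_one,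
    Set.ncard_eq_toFinset_card', show (Finset.univ.filter fun g => g ∈ X) = X.toFinset by ext g; simp]

theorem mass_one_subgroup {L : Subgroup G} [Fintype L] {K : Subgroup G} (hK : K ≤ L) :
    mass (G := L) {x : L | (x : G) ∈ (K : Set G) \ {1}} (fun _ => (1 : ℝ)) =
      ((Nat.card K : ℝ) - 1) / Nat.card L := by
  classical
  rw [mass_one_eq]
  congr 1
  have e : {x : L | (x : G) ∈ (K : Set G) \ {1}}.ncard = ((K : Set G) \ {1}).ncard := by
    rw [← Set.ncard_image_of_injective _ Subtype.val_injective]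
    congr 1
    ext g
    exact ⟨by rintro ⟨x, hx, rfl⟩; exact hx, fun hg => ⟨⟨g, hK hg.1⟩, hg, rfl⟩⟩
  rw [e, Set.ncard_sdiff_singleton_of_mem (one_mem K), Nat.cast_sub
    (Set.ncard_pos (Set.toFinite _) |>.2 ⟨1, one_mem K⟩), Nat.cast_one]
  rfl

/-- The mass of the conjugates of `M_σ#`. -/
theorem mass_sigma_sharp (hG : Cfsg.IsMinSimpleOddOrder G) (hNB : NoBad G) {M : Subgroup G}
    (hM : IsCoatom M) :
    mass (conjSet ((Cfsg.sigmaCore M : Set G) \ {1})) (fun _ => (1 : ℝ)) =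
      ((Nat.card (Cfsg.sigmaCore M) : ℝ) - 1) / Nat.card M := by
  have _ := Fintype.ofFinite ↥M
  rw [mass_conjSet (L := M) (A := (Cfsg.sigmaCore M : Set G) \ {1}) (fun a ha => map_subtype_le _ ha.1) (fun l hl a ha =>
      ⟨(mem_normalizer_iff.1 (TauTwo.sigmaCore_normal hG M hl) a).1 ha.1, fun e =>
        ha.2 (conj_eq_one_iff.1 (Set.mem_singleton_iff.1 e))⟩)
    (fun g a ha hga => mem_of_conj_mem hG hNB hM ha.1 ha.2 (map_subtype_le _ hga.1))
    (fun _ _ => rfl), mass_one_subgroup (K := Cfsg.sigmaCore M) (map_subtype_le _)]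

/-- The squared absolute value on any set is at most the norm. -/
theorem mass_sq_le (f : G → ℂ) (X : Set G) :
    mass X (fun g => ‖f g‖ ^ 2) ≤ (classInner f f).re := by
  classical
  simp only [mass, classInner, Complex.mul_conj']
  rw [show ((Nat.card G : ℂ))⁻¹ = (((Nat.card G : ℝ)⁻¹ : ℝ) : ℂ) by push_cast; rfl,
    Complex.re_ofReal_mul, Complex.re_sum]
  refine mul_le_mul_of_nonneg_left (Finset.sum_le_sum fun g _ => ?_) (by positivity)
  rw [← Complex.ofReal_pow, Complex.ofReal_re]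
  split_ifs
  · exact le_rfl
  · positivity

theorem mass_le_mass_of_le {X : Set G} {f f' : G → ℝ} (h : ∀ g ∈ X, f g = f' g) :
    mass X f = mass X f' := by
  classical
  rw [mass, mass]
  congr 1
  exact Finset.sum_congr rfl fun g _ => by
    split_ifs with hg
    exacts [h g hg, rfl]

/-- On a power closed set free of zeros the squared absolute value of a generalized character has at
least the mass of `1`. -/
theorem mass_one_le_sq {χ : G → ℂ} (hχ : IsGeneralizedCharacter G χ) {X : Set G} (hX : PowClosed X)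
    (h0 : ∀ g ∈ X, χ g ≠ 0) : mass X (fun _ => (1 : ℝ)) ≤ mass X (fun g => ‖χ g‖ ^ 2) := by
  classical
  rw [mass, mass, ← Finset.sum_filter, ← Finset.sum_filter]
  refine mul_le_mul_of_nonneg_left ?_ (by positivity)
  have h := card_ne_zero_le_sum_norm_sq hχ X.toFinset (by simpa using hX)
  rw [show ({g ∈ X.toFinset | χ g ≠ 0} : Finset G) = X.toFinset from
    Finset.filter_true_of_mem fun g hg => h0 g (Set.mem_toFinset.1 hg)] at h
  have e : (Finset.univ.filter fun g => g ∈ X) = X.toFinset := by ext g; simp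
  rw [e, Finset.sum_const, nsmul_eq_mul, mul_one]
  exact h

/-- Subadditivity on four pieces and the rest. -/
theorem one_le_mass_five {A B C D R : Set G} (h : ∀ g, g ∈ A ∨ g ∈ B ∨ g ∈ C ∨ g ∈ D ∨ g ∈ R) :
    1 ≤ mass A (fun _ => (1 : ℝ)) + mass B (fun _ => (1 : ℝ)) + mass C (fun _ => (1 : ℝ)) +
      mass D (fun _ => (1 : ℝ)) + mass R (fun _ => (1 : ℝ)) := by
  classical
  simp only [mass, ← mul_add, ← Finset.sum_add_distrib]
  have hG0 : (0 : ℝ) < Nat.card G := Nat.cast_pos.2 Nat.card_pos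
  rw [inv_mul_eq_div, one_le_div hG0, Nat.card_eq_fintype_card, ← Finset.card_univ,
    Finset.card_eq_sum_ones, Nat.cast_sum]
  refine Finset.sum_le_sum fun g _ => ?_
  have h0 : ∀ q : Prop, ∀ [Decidable q], (0 : ℝ) ≤ if q then 1 else 0 := fun q _ => by
    split_ifs <;> norm_num
  have := h0 (g ∈ A); have := h0 (g ∈ B); have := h0 (g ∈ C); have := h0 (g ∈ D); have := h0 (g ∈ R)
  push_cast
  rcases h g with hg | hg | hg | hg | hg <;> rw [if_pos hg] at * <;> linarith

/-- The mass of the conjugates of `Ẑ`. -/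
theorem mass_conj_zSet_one {M W₁ U W₂ : Subgroup G} (h : Rect.Kappa M W₁ U W₂) :
    mass (conjSet (zSet W₁ W₂)) (fun _ => (1 : ℝ)) = ((Nat.card W₁ : ℝ) * Nat.card W₂)⁻¹ *
      ((Nat.card W₁ : ℝ) * Nat.card W₂ - Nat.card W₁ - Nat.card W₂ + 1) := by
  classical
  let _ := Fintype.ofFinite ↥(W₁ ⊔ W₂)
  have hz := mass_zSet h (f := fun _ => (-1 : ℂ)) (fun _ _ => rfl)
    (v := fun _ => (2 : ℝ)) (fun w _ _ => by simp [slack]; norm_num)
  have hs : mass (conjSet (zSet W₁ W₂)) (slack fun _ : G => (-1 : ℂ)) =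
      2 * mass (conjSet (zSet W₁ W₂)) (fun _ => (1 : ℝ)) := by
    rw [mass, mass, Finset.mul_sum, Finset.mul_sum, Finset.mul_sum]
    refine Finset.sum_congr rfl fun g _ => ?_
    split_ifs <;> simp [slack] <;> ring
  rw [hs] at hz
  have hzs := zSum_re h (1 : ↥(W₁ ⊔ W₂) →* ℂˣ) 2
  simp only [MonoidHom.one_apply, Units.val_one, Complex.one_re, mul_one] at hzs
  rw [hzs, zSum_eq h.snc, if_pos rfl, if_pos (one_mem _), if_pos (one_mem _)] at hz
  simp [-Nat.card_eq_fintype_card] at hz ⊢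
  linarith

namespace TypeV

variable {S W₁ W₂ : Subgroup G} {χ : (↥(W₁ ⊔ W₂) →* ℂˣ) → (G → ℂ)}
variable (h : Kappa S W₁ ⊥ W₂) (hχ : IsCyclicTIFamily W₁ W₂ χ) (he : (Nat.card W₁).Prime)
include h hχ he

/-- All `η_i0`, `i ≠ 0`, agree at the elements of order prime to `e`. -/
theorem eta_row_eq {φ φ' : ↥(W₁ ⊔ W₂) →* ℂˣ} (hφ : φ ∈ trivOn _ W₂) (hφ1 : φ ≠ 1)
    (hφ' : φ' ∈ trivOn _ W₂) (hφ'1 : φ' ≠ 1) {g : G} (hg : (Nat.card W₁).Coprime (orderOf g)) :
    χ φ' g = χ φ g := by
  classical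
  haveI := Fact.mk he
  haveI := finite_dual (K := ↥(W₁ ⊔ W₂))
  have hc : Nat.card (trivOn (W₁ ⊔ W₂) W₂) = Nat.card W₁ :=
    card_trivOn_snd (snc_disj h.snc) (snc_comm h.snc) (snc_mul_comm_fst h.snc)
  have hφ1' : (⟨φ, hφ⟩ : trivOn (W₁ ⊔ W₂) W₂) ≠ 1 := fun e => hφ1 (congrArg Subtype.val e)
  obtain ⟨k, hk⟩ := Submonoid.mem_powers_iff _ _ |>.1
    (mem_powers_of_prime_card hc hφ1' (g' := (⟨φ', hφ'⟩ : trivOn (W₁ ⊔ W₂) W₂)))
  have hord : (⟨φ, hφ⟩ : trivOn (W₁ ⊔ W₂) W₂) ^ Nat.card W₁ = 1 := by rw [← hc]; exact pow_card_eq_one'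
  have hcop : k.Coprime (Nat.card W₁) := by
    rw [Nat.coprime_comm, he.coprime_iff_not_dvd]
    rintro ⟨t, rfl⟩
    rw [pow_mul, hord, one_pow] at hk
    exact hφ'1 (congrArg Subtype.val hk).symm
  haveI : NeZero (Nat.card G) := ⟨Nat.card_pos.ne'⟩
  obtain ⟨k', hk'1, hk'2, hk'3⟩ := CfsgLib.Char.exists_coprime_lift (N := Nat.card G)
    (hg.mul_dvd_of_dvd_of_dvd (card_subgroup_dvd_card W₁) (orderOf_dvd_natCard g)) hg hcop
  have e := Rect.eta_powMap h.snc h.odd_sup hχ φ hk'1.symm g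
  have e2 : φ ^ k' = φ' := by
    have q : (⟨φ, hφ⟩ : trivOn (W₁ ⊔ W₂) W₂) ^ k' = ⟨φ', hφ'⟩ := by
      rw [← hk, pow_eq_pow_iff_modEq]
      exact hk'2.of_dvd (orderOf_dvd_of_pow_eq_one hord)
    simpa using congrArg Subtype.val q
  have e3 : g ^ k' = g := by
    conv_rhs => rw [← pow_one g]
    rw [pow_eq_pow_iff_modEq]
    exact hk'3
  rwa [e2, e3] at e

/-- `Σ_i η_i0` has no zero at an element of order prime to `e`. -/
theorem colSum_ne_zero {g : G} (hg : (Nat.card W₁).Coprime (orderOf g)) : colSum χ 1 g ≠ 0 := by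
  classical
  intro h0
  have hone : (1 : ↥(W₁ ⊔ W₂) →* ℂˣ) ∈ dualFin (W₁ ⊔ W₂) W₂ := mem_dualFin.2 (one_mem _)
  obtain ⟨φ, hφ, hφ1⟩ := Finset.exists_mem_ne
    (by rw [card_dualFin h.snc]; exact he.one_lt : 1 < (dualFin (W₁ ⊔ W₂) W₂).card)
    (1 : ↥(W₁ ⊔ W₂) →* ℂˣ)
  have hm : ∀ ψ : ↥(W₁ ⊔ W₂) →* ℂˣ, ψ * 1 = ψ := fun ψ => mul_one ψ
  simp only [colSum, hm, Finset.sum_apply] at h0
  rw [← Finset.add_sum_erase _ _ hone, hχ.map_one,
    Finset.sum_congr rfl fun ψ hψ => eta_row_eq h hχ he (mem_dualFin.1 hφ) hφ1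
      (mem_dualFin.1 (Finset.mem_of_mem_erase hψ)) (Finset.ne_of_mem_erase hψ) hg,
    Finset.sum_const, Finset.card_erase_of_mem hone, card_dualFin h.snc, nsmul_eq_mul,
    Nat.cast_sub he.pos, Nat.cast_one] at h0
  have hint : IsIntegral ℤ (χ φ g) := generalized_isIntegral (sg_eta hχ φ).gen g
  have h3 := h.three_le
  have he1 : (Nat.card W₁ : ℂ) - 1 ≠ 0 := by
    rw [sub_ne_zero]
    exact_mod_cast (show Nat.card W₁ ≠ 1 by omega)
  have hval : χ φ g = algebraMap ℚ ℂ (-1 / ((Nat.card W₁ : ℚ) - 1)) := by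
    rw [map_div₀, map_sub, map_neg, map_one, map_natCast, eq_div_iff he1]
    linear_combination h0
  rw [hval, isIntegral_algebraMap_iff (algebraMap ℚ ℂ).injective] at hint
  obtain ⟨z, hz⟩ := IsIntegrallyClosed.isIntegral_iff.mp hint
  rw [eq_intCast, eq_div_iff (by
    rw [sub_ne_zero]; exact_mod_cast (show Nat.card W₁ ≠ 1 by omega))] at hz
  have hzi : z * ((Nat.card W₁ : ℤ) - 1) = -1 := by exact_mod_cast hz
  have : ((Nat.card W₁ : ℤ) - 1) ∣ -1 := Dvd.intro_left z hzi
  have := Int.le_of_dvd one_pos ((dvd_neg).1 this)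
  omega

variable (hNB : NoBad G) (hM : FpfAb S) {mu : (↥(W₁ ⊔ W₂) →* ℂˣ) → (↥S → ℂ)}
  {sgn : (↥(W₁ ⊔ W₂) →* ℂˣ) → ℤ} (C : IsCols S W₁ W₂ mu sgn)
include hNB hM C

omit he in
/-- The member differences are not seen by the family. -/
theorem member_diff_perp [Fintype ↥S] (φ φ₁ : Member S) (ω : ↥(W₁ ⊔ W₂) →* ℂˣ) :
    classInner (χ ω) (indFun S (φ.1 - φ₁.1)) = 0 := by
  rcases eq_or_ne φ φ₁ with rfl | hne
  · rw [sub_self, indFun_zero, classInner_zero_right]
  have hG := h.minSimple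
  have hd0 : ∀ x : ↥S, (x : G) ∉ Cfsg.sigmaCore S → (φ.1 - φ₁.1) x = 0 := fun x hx => by
    rw [Pi.sub_apply, member_vanish hG φ hx, member_vanish hG φ₁ hx, sub_self]
  have hdS : SuppOn S W₁ W₂ (φ.1 - φ₁.1) :=
    suppOn_of_sigma (by rw [Pi.sub_apply, member_one φ, member_one φ₁, sub_self]) hd0
  have hdg : Gen (φ.1 - φ₁.1) := isGeneralizedCharacter_sub
    (isGeneralizedCharacter_of_isCharacter (isCharacter_of_isIrr (member_irr hG hM φ)))
    (isGeneralizedCharacter_of_isCharacter (isCharacter_of_isIrr (member_irr hG hM φ₁)))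
  have hcl := isClassFunction_of_isGeneralized hdg
  rw [← classInner_conj, perp_of_norm_two h.snc h.odd_sup hχ (isGeneralizedCharacter_indFun S hdg)
    (le_of_eq (iq_eq 2 ?_)) (fun w h1 h2 => ?_) ω, map_zero]
  · rw [h.ind_isometry hNB hdS hcl hdS, classInner_sub_left, classInner_sub_right,
      classInner_sub_right, member_self hG hM φ, member_self hG hM φ₁, member_orth hG hM hne,
      member_orth hG hM hne.symm]
    norm_num
  · rw [h.ind_zhat hNB hcl hdS w h1 h2]
    exact hd0 _ fun hσ => h2 (h.sigma_sup w.2 hσ)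

omit he in
/-- Outside the conjugates of `S_σ#` the sum `Σ_i η_i0` has mass at most `e / k₀`. -/
theorem identity_mass [Fintype ↥S] (φ₀ : Member S) {X : G → ℂ} (hX : Sg X)
    (hperp : ∀ ω, classInner X (χ ω) = 0)
    (hF : indFun S (thetaS mu φ₀) = colSum χ 1 + X) {Z : Set G}
    (hZ : Disjoint Z (conjSet ((Cfsg.sigmaCore S : Set G) \ {1}))) :
    mass Z (fun g => ‖colSum χ 1 g‖ ^ 2) ≤ (Nat.card W₁ : ℝ) / kZero S := by
  classical
  have hG := h.minSimple
  haveI := member_finite hG hM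
  let _ := Fintype.ofFinite (Member S)
  set e : ℂ := (Nat.card W₁ : ℂ) with hedef
  set n : ℂ := (Fintype.card (Member S) : ℂ) with hn
  set d : Member S → ↥S → ℂ := fun φ => φ.1 - φ₀.1 with hddef
  have hd0 : ∀ φ, ∀ x : ↥S, (x : G) ∉ Cfsg.sigmaCore S → d φ x = 0 := fun φ x hx => by
    show φ.1 x - φ₀.1 x = 0
    rw [member_vanish hG φ hx, member_vanish hG φ₀ hx, sub_self]
  have hdS : ∀ φ, SuppOn S W₁ W₂ (d φ) := fun φ => suppOn_of_sigma
    (by show φ.1 1 - φ₀.1 1 = 0; rw [member_one φ, member_one φ₀, sub_self]) (hd0 φ)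
  have hdg : ∀ φ, Gen (d φ) := fun φ => isGeneralizedCharacter_sub
    (isGeneralizedCharacter_of_isCharacter (isCharacter_of_isIrr (member_irr hG hM φ)))
    (isGeneralizedCharacter_of_isCharacter (isCharacter_of_isIrr (member_irr hG hM φ₀)))
  have hm : ∀ φ ψ : Member S, classInner φ.1 ψ.1 = if φ = ψ then 1 else 0 := fun φ ψ => by
    split_ifs with q
    · subst q; exact member_self hG hM φ
    · exact member_orth hG hM q
  have hθd : ∀ φ, classInner (thetaS mu φ₀) (d φ) = 1 - if φ = φ₀ then 1 else 0 := fun φ => by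
    rw [thetaS, hddef, classInner_sub_left, classInner_sub_right, classInner_sub_right,
      member_col_inner h C hM φ, member_col_inner h C hM φ₀, hm, hm, if_pos rfl]
    rw [if_congr (eq_comm (a := φ₀) (b := φ)) rfl rfl]
    ring
  -- inner products in `G`
  have hFg : Gen (indFun S (thetaS mu φ₀)) :=
    isGeneralizedCharacter_indFun S (thetaS_gen h C hM φ₀)
  have hXη : classInner X (colSum χ 1) = 0 := by
    rw [colSum, classInner_sum_right]
    exact Finset.sum_eq_zero fun φ _ => hperp _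
  have hXF : classInner X (indFun S (thetaS mu φ₀)) = 1 := by
    rw [hF, classInner_add_right, hXη, hX.2, zero_add]
  have hXd : ∀ φ, classInner X (indFun S (d φ)) = 1 - if φ = φ₀ then 1 else 0 := fun φ => by
    have hcl := isClassFunction_of_isGeneralized (hdg φ)
    have hcol : classInner (colSum χ 1) (indFun S (d φ)) = 0 := by
      rw [colSum, classInner_sum_left]
      exact Finset.sum_eq_zero fun ψ _ => member_diff_perp h hχ hNB hM C φ φ₀ _
    rw [← hθd, ← h.ind_isometry hNB (thetaS_supp h C hM φ₀) hcl (hdS φ), hF, classInner_add_left,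
      hcol, zero_add]
  -- the combination
  set α : ↥S → ℂ := thetaS mu φ₀ + e • ∑ φ, d φ with hα
  have hαS : SuppOn S W₁ W₂ α := fun x hx => by
    rw [hα, Pi.add_apply, thetaS_supp h C hM φ₀ x hx, Pi.smul_apply, Finset.sum_apply,
      Finset.sum_eq_zero (fun φ _ => hdS φ x hx), smul_zero, add_zero]
  have hα0 : ∀ x : ↥S, (x : G) ∉ (Cfsg.sigmaCore S : Set G) \ {1} → α x = 0 := fun x hx => by
    by_cases hσ : (x : G) ∈ Cfsg.sigmaCore S
    · have hx1 : (x : G) = 1 := by
        by_contra hne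
        exact hx ⟨hσ, hne⟩
      rw [show x = 1 from Subtype.ext hx1]
      exact hαS.apply_one
    · rw [hα, Pi.add_apply, thetaS_zero h C hM φ₀ x (Or.inl hσ), Pi.smul_apply, Finset.sum_apply,
        Finset.sum_eq_zero (fun φ _ => hd0 φ x hσ), smul_zero, add_zero]
  have hαcl : IsClassFunction ↥S α := isClassFunction_of_isGeneralized (by
    rw [hα, hedef, show ((Nat.card W₁ : ℂ)) = (((Nat.card W₁ : ℤ)) : ℂ) by push_cast; rfl]
    exact isGeneralizedCharacter_add (thetaS_gen h C hM φ₀)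
      (Gen.zsmul (isGeneralizedCharacter_sum _ _ fun φ _ => hdg φ) _))
  have hs1 : ∑ φ : Member S, ((1 : ℂ) - if φ = φ₀ then 1 else 0) = n - 1 := by
    rw [Finset.sum_sub_distrib, Finset.sum_const, Finset.card_univ, nsmul_one,
      Finset.sum_ite_eq', if_pos (Finset.mem_univ _)]
  have hθθ : classInner (thetaS mu φ₀) (thetaS mu φ₀) = e + 1 := by
    rw [thetaS, classInner_sub_left, classInner_sub_right, classInner_sub_right,
      C.col_inner h (one_mem _) (one_mem _), if_pos rfl, member_col_inner h C hM φ₀,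
      ← classInner_conj (colSum mu 1) φ₀.1, member_col_inner h C hM φ₀,
      member_self hG hM φ₀]
    simp [hedef]
  have hk : (kZero S : ℂ) = n * e + 1 := by
    have h1 := member_card hG hM
    rw [eIndex_eq_card h, Nat.card_eq_fintype_card (α := Member S)] at h1
    rw [hn, hedef, ← h1]
    push_cast
    ring
  have hαα : classInner α α = (kZero S : ℂ) * ((kZero S : ℂ) - e) := by
    have hdd : ∀ φ ψ, classInner (d φ) (d ψ) = (if φ = ψ then 1 else 0) -
        (if φ = φ₀ then (1 : ℂ) else 0) - (if ψ = φ₀ then 1 else 0) + 1 := fun φ ψ => by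
      rw [hddef, classInner_sub_left, classInner_sub_right, classInner_sub_right, hm, hm, hm, hm,
        if_pos rfl, if_congr (eq_comm (a := φ₀) (b := ψ)) rfl rfl]
      ring
    have hDD : classInner (∑ φ, d φ) (∑ φ, d φ) = n * n - n := by
      simp_rw [classInner_sum_left, classInner_sum_right, hdd, Finset.sum_add_distrib,
        Finset.sum_sub_distrib, Finset.sum_ite_eq, Finset.sum_ite_eq', Finset.mem_univ, if_true,
        Finset.sum_const, Finset.card_univ, nsmul_eq_mul, hn]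
      simp only [← Finset.mul_sum, Finset.sum_ite_eq', Finset.mem_univ, if_true]
      ring
    have hθD : classInner (thetaS mu φ₀) (∑ φ, d φ) = n - 1 := by
      rw [classInner_sum_right, Finset.sum_congr rfl fun φ _ => hθd φ, hs1]
    have hDθ : classInner (∑ φ, d φ) (thetaS mu φ₀) = n - 1 := by
      rw [← classInner_conj, hθD, hn]
      simp
    rw [hα, classInner_add_left, classInner_add_right, classInner_add_right, classInner_smul_left,
      classInner_smul_left, classInner_smul_right, classInner_smul_right, hθθ, hθD, hDθ, hDD,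
      map_natCast, hk]
    ring
  have hXα : classInner X (indFun S α) = (kZero S : ℂ) - e := by
    rw [hα, indFun_add, indFun_smul, indFun_sum, classInner_add_right, classInner_smul_right,
      classInner_sum_right, Finset.sum_congr rfl fun φ _ => hXd φ, hs1, hXF, map_natCast, hk]
    ring
  have hαX : classInner (indFun S α) X = (kZero S : ℂ) - e := by
    rw [← classInner_conj, hXα, hedef]
    simp
  -- the norm
  set Y : G → ℂ := X - ((kZero S : ℂ)⁻¹) • indFun S α with hY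
  have hk0 : (kZero S : ℂ) ≠ 0 := Nat.cast_ne_zero.2 kZero_pos.ne'
  have hYY : classInner Y Y = e / kZero S := by
    rw [hY, classInner_sub_left, classInner_sub_right, classInner_sub_right, classInner_smul_left,
      classInner_smul_left, classInner_smul_right, classInner_smul_right, hX.2, hXα, hαX,
      h.ind_isometry hNB hαS hαcl hαS, hαα, map_inv₀, map_natCast]
    field_simp
    ring
  have hYre : (classInner Y Y).re = (Nat.card W₁ : ℝ) / kZero S := by
    rw [hYY, hedef, show ((Nat.card W₁ : ℂ)) / (kZero S : ℂ) =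
      (((Nat.card W₁ : ℝ) / kZero S : ℝ) : ℂ) by push_cast; rfl, Complex.ofReal_re]
  rw [← hYre]
  refine le_of_eq_of_le (mass_le_mass_of_le fun g hg => ?_) (mass_sq_le Y Z)
  have hoff : ∀ f : ↥S → ℂ, (∀ x : ↥S, (x : G) ∉ (Cfsg.sigmaCore S : Set G) \ {1} → f x = 0) →
      indFun S f g = 0 := fun f hf => by
    rw [indFun, Finset.sum_eq_zero fun y _ => ?_, mul_zero]
    by_cases hm : y⁻¹ * g * y ∈ S
    · rw [extendByZero_mem S f hm]
      exact hf _ fun hs => Set.disjoint_left.1 hZ hg ⟨y, _, hs, by group⟩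
    · exact extendByZero_not_mem S f hm
  have e1 := congrFun hF g
  rw [hoff _ fun x hx => thetaS_zero h C hM φ₀ x (by
    by_cases hσ : (x : G) ∈ Cfsg.sigmaCore S
    · exact Or.inr (by by_contra hne; exact hx ⟨hσ, hne⟩)
    · exact Or.inl hσ), Pi.add_apply] at e1
  rw [hY, Pi.sub_apply, Pi.smul_apply, hoff α hα0, smul_zero, sub_zero,
    eq_neg_of_add_eq_zero_right e1.symm, norm_neg]

/-- The inequality of the identity case. -/
theorem identity_ineq [Fintype ↥S] {T V : Subgroup G} (P : Pair S T W₁ W₂ ⊥ V) (φ₀ : Member S)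
    {X : G → ℂ} (hX : Sg X) (hperp : ∀ ω, classInner X (χ ω) = 0)
    (hF : indFun S (thetaS mu φ₀) = colSum χ 1 + X) :
    kZero S * (Nat.card W₁ * Nat.card V) ≤
      Nat.card W₂ * Nat.card W₁ * Nat.card W₁ * Nat.card V +
        kZero S * (Nat.card V + Nat.card W₁) := by
  classical
  have hG := h.minSimple
  set AS := conjSet ((Cfsg.sigmaCore S : Set G) \ {1}) with hAS
  set AT := conjSet ((Cfsg.sigmaCore T : Set G) \ {1}) with hAT
  set AZ := conjSet (zSet W₁ W₂) with hAZ
  set R : Set G := ({1} ∪ AS ∪ AT ∪ AZ)ᶜ with hR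
  have hRmem : ∀ g ∈ R, g ≠ 1 ∧ g ∉ AS ∧ g ∉ AT ∧ g ∉ AZ := fun g hg => by
    simp only [hR, Set.mem_compl_iff, Set.mem_union, Set.mem_singleton_iff, not_or] at hg
    exact ⟨hg.1.1.1, hg.1.1.2, hg.1.2, hg.2⟩
  have hone : PowClosed ({1} : Set G) := fun g hg m _ => by
    rw [Set.mem_singleton_iff] at hg ⊢
    rw [hg, one_pow]
  have hRpc : PowClosed R := powClosed_compl (powClosed_union (powClosed_union (powClosed_union hone
    (powClosed_conjSet (powClosed_sharp _))) (powClosed_conjSet (powClosed_sharp _)))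
    (powClosed_conjSet (powClosed_zSet W₁ W₂)))
  have heT : Nat.card W₁ ∈ Cfsg.sigma T :=
    (sigmaCore_hall hG P.coatomT).1.2.1 _ he (card_dvd_of_le (P.eqW₁ ▸ inf_le_left))
  have hRcop : ∀ g ∈ R, (Nat.card W₁).Coprime (orderOf g) := fun g hg => by
    obtain ⟨hg1, -, hgT, hgZ⟩ := hRmem g hg
    rw [he.coprime_iff_not_dvd]
    intro hd
    rcases Pair.cover hG P hNB hg1 with ⟨N, hN, y, hy⟩ | hz
    · have hord : orderOf (y * g * y⁻¹) = orderOf g := (MulAut.conj y).orderOf_eq g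
      obtain ⟨k, rfl⟩ := Disjoint.exists_conj_of_sigma hG P.coatomT hN heT
        (Cosets.sigma_of_mem hG hN hy he (hord.symm ▸ hd))
      have h1 := Tilde.conj_mem_sigmaCore hG hN k⁻¹ hy
      rw [conjBy_conjBy, inv_mul_cancel, conjBy_one] at h1
      refine hgT ⟨y⁻¹ * k, _, ⟨h1, fun e1 => hg1 ?_⟩, by group⟩
      exact conj_eq_one_iff.1 (conj_eq_one_iff.1 (Set.mem_singleton_iff.1 e1))
    · refine hgZ ?_
      rw [hAZ, h.conjSet_zSet]
      unfold Zhat.orbit at hz ⊢
      rwa [Pair.zhat_eq hG P]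
  have hmR : mass R (fun _ => (1 : ℝ)) ≤ (Nat.card W₁ : ℝ) / kZero S :=
    (mass_one_le_sq (isGeneralizedCharacter_sum _ _ fun _ _ => (sg_eta hχ _).gen) hRpc
      fun g hg => colSum_ne_zero h hχ he (hRcop g hg)).trans
      (identity_mass h hχ hNB hM C φ₀ hX hperp hF
        (Set.disjoint_left.2 fun g hg => (hRmem g hg).2.1))
  have h5 := one_le_mass_five (A := ({1} : Set G)) (B := AS) (C := AT) (D := AZ) (R := R) fun g => by
    by_cases hg : g ∈ R
    · tauto
    · simp only [hR, Set.mem_compl_iff, not_not, Set.mem_union] at hg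
      tauto
  have hm1 : mass ({1} : Set G) (fun _ => (1 : ℝ)) = 1 / Nat.card G := by
    rw [mass_one_eq, Set.ncard_singleton, Nat.cast_one]
  have hmZ := mass_conj_zSet_one h
  rw [← hAZ] at hmZ
  rw [hm1, hAS, mass_sigma_sharp hG hNB h.coatom, hAT, mass_sigma_sharp hG hNB P.coatomT,
    hmZ] at h5
  have hSle : (Nat.card S : ℝ) ≤ Nat.card G := by
    exact_mod_cast Nat.le_of_dvd Nat.card_pos (card_subgroup_dvd_card S)
  have hcS : Nat.card S = Nat.card W₁ * Nat.card (Cfsg.sigmaCore S) := by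
    rw [Decomp.card_eq hG h.coatom h.decomp, card_bot, one_mul]
  have hcT : Nat.card T = Nat.card V * (Nat.card W₂ * Nat.card (Cfsg.sigmaCore T)) :=
    Decomp.card_eq hG P.coatomT P.decompT
  rw [hcS, hcT] at h5
  rw [hcS] at hSle
  push_cast at h5 hSle
  have pe : (0 : ℝ) < Nat.card W₁ := Nat.cast_pos.2 Nat.card_pos
  have pp : (0 : ℝ) < Nat.card W₂ := Nat.cast_pos.2 Nat.card_pos
  have pv : (0 : ℝ) < Nat.card V := Nat.cast_pos.2 Nat.card_pos
  have pa : (0 : ℝ) < Nat.card (Cfsg.sigmaCore S) := Nat.cast_pos.2 Nat.card_pos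
  have pb : (0 : ℝ) < Nat.card (Cfsg.sigmaCore T) := Nat.cast_pos.2 Nat.card_pos
  have pk : (0 : ℝ) < kZero S := Nat.cast_pos.2 kZero_pos
  set e : ℝ := (Nat.card W₁ : ℝ)
  set p : ℝ := (Nat.card W₂ : ℝ)
  set v : ℝ := (Nat.card V : ℝ)
  set a : ℝ := (Nat.card (Cfsg.sigmaCore S) : ℝ)
  set b : ℝ := (Nat.card (Cfsg.sigmaCore T) : ℝ)
  set k : ℝ := (kZero S : ℝ)
  have h1 : 1 / (Nat.card G : ℝ) + (a - 1) / (e * a) ≤ 1 / e := by
    have : 1 / (Nat.card G : ℝ) ≤ 1 / (e * a) := one_div_le_one_div_of_le (mul_pos pe pa) hSle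
    have e1 : (a - 1) / (e * a) = 1 / e - 1 / (e * a) := by field_simp
    linarith
  have h2 : (b - 1) / (v * (p * b)) ≤ 1 / (v * p) := by
    rw [div_le_div_iff₀ (by positivity) (by positivity)]
    nlinarith [mul_pos pv pp]
  have h6 : 1 ≤ 1 / e + 1 / (v * p) + (e * p)⁻¹ * (e * p - e - p + 1) + e / k := by linarith
  have h7 : k * (e * v) ≤ p * e * e * v + k * (v + e) := by
    have h8 := mul_le_mul_of_nonneg_right h6 (by positivity : (0 : ℝ) ≤ e * p * v * k)
    have e1 : (1 / e + 1 / (v * p) + (e * p)⁻¹ * (e * p - e - p + 1) + e / k) * (e * p * v * k) =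
        p * v * k + e * k + v * k * (e * p - e - p + 1) + p * e * e * v := by
      field_simp
    rw [e1, one_mul] at h8
    nlinarith
  show kZero S * (Nat.card W₁ * Nat.card V) ≤ _
  have := h7
  simp only [e, p, v, k] at this
  exact_mod_cast this

end TypeV

end CfsgLib.FT
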