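import Cfsg.Agent.Lib.FT.RectInd

/-!
# RECTANGLE (docs/FT.md §3): the images of the columns under induction

`ind_mu_sub`: `τ(μ_ij - μ_il) = δ(η_ij - η_il)`; `ind_col_sub_irr` and `ind_col_sub_family`:
`τ(μ'_j - n ζ) = δ Σ_i η_ij - n Ψ`.  When another column `l ≠ 0, j` of the same degree is the only one
(this happens for `p = 3`) the column on the right may be `l` with the opposite sign.
-/

set_option autoImplicit false
set_option linter.unusedSectionVars false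
set_option linter.style.haveILetI false

open Subgroup
open scoped commutatorElement

namespace CfsgLib.FT.Rect

open scoped ComplexConjugate
open Cfsg CfsgLib.Char CfsgLib.Char.Signed CfsgLib.CFun

universe u

variable {G : Type u} [Group G] [Fintype G]

/-! ### Columns of an orthonormal family -/

section orth

open scoped Classical

variable {W₁ W₂ : Subgroup G} (hW : IsSelfNormalizingCyclic W₁ W₂)
variable {X : Type u} [Group X] [Fintype X] {f : (↥(W₁ ⊔ W₂) →* ℂˣ) → (X → ℂ)}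
variable (ho : ∀ ω ω', classInner (f ω) (f ω') = if ω = ω' then 1 else 0)
include hW ho

theorem colSum_inner_single {φ ψ ψ' : ↥(W₁ ⊔ W₂) →* ℂˣ} (hφ : φ ∈ trivOn _ W₂)
    (hψ : ψ ∈ trivOn _ W₁) (hψ' : ψ' ∈ trivOn _ W₁) [Decidable (ψ = ψ')] :
    classInner (f (φ * ψ)) (colSum f ψ') = if ψ = ψ' then 1 else 0 := by
  classical
  rw [colSum, classInner_sum_right]
  split_ifs with e
  · subst e
    rw [Finset.sum_eq_single_of_mem φ (mem_dualFin.2 hφ) fun i _ hi => by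
      rw [ho, if_neg fun e => hi (mul_right_cancel e).symm], ho, if_pos rfl]
  · exact Finset.sum_eq_zero fun i hi => by
      rw [ho, if_neg fun e' => e
        (trivOn_mul_inj (snc_disj hW) (snc_comm hW) hφ (mem_dualFin.1 hi) hψ hψ' e').2]

theorem colSum_inner {ψ ψ' : ↥(W₁ ⊔ W₂) →* ℂˣ} (hψ : ψ ∈ trivOn _ W₁) (hψ' : ψ' ∈ trivOn _ W₁)
    [Decidable (ψ = ψ')] :
    classInner (colSum f ψ) (colSum f ψ') = if ψ = ψ' then (Nat.card W₁ : ℂ) else 0 := by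
  classical
  conv_lhs => enter [1]; rw [colSum]
  rw [classInner_sum_left, Finset.sum_congr rfl fun i hi =>
    colSum_inner_single hW ho (mem_dualFin.1 hi) hψ hψ', Finset.sum_const, card_dualFin hW]
  split_ifs <;> simp

end orth

variable {M W₁ U W₂ : Subgroup G}

theorem Kappa.sigma_sup (h : Kappa M W₁ U W₂) {w : G} (hw : w ∈ W₁ ⊔ W₂)
    (hσ : w ∈ Cfsg.sigmaCore M) : w ∈ W₂ := by
  have hc : w ∈ centralizer (W₁ : Set G) := by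
    rw [mem_centralizer_iff]
    intro a ha
    exact congrArg Subtype.val (snc_mul_comm h.snc ⟨a, mem_sup_left ha⟩ ⟨w, hw⟩)
  exact h.eqW₂.le (mem_inf.2 ⟨hσ, hc⟩)

/-- The columns `l ≠ 0, j` with the degree of the column `j`. -/
noncomputable def sameDeg {X : Type*} [One X] (mu : (↥(W₁ ⊔ W₂) →* ℂˣ) → (X → ℂ))
    (ψ : ↥(W₁ ⊔ W₂) →* ℂˣ) : Finset (↥(W₁ ⊔ W₂) →* ℂˣ) :=
  haveI := Classical.decPred fun l : ↥(W₁ ⊔ W₂) →* ℂˣ => l ≠ 1 ∧ l ≠ ψ ∧ mu l 1 = mu ψ 1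
  (dualFin (W₁ ⊔ W₂) W₁).filter fun l => l ≠ 1 ∧ l ≠ ψ ∧ mu l 1 = mu ψ 1

theorem mem_sameDeg {X : Type*} [One X] {mu : (↥(W₁ ⊔ W₂) →* ℂˣ) → (X → ℂ)}
    {ψ l : ↥(W₁ ⊔ W₂) →* ℂˣ} :
    l ∈ sameDeg mu ψ ↔ l ∈ trivOn (W₁ ⊔ W₂) W₁ ∧ l ≠ 1 ∧ l ≠ ψ ∧ mu l 1 = mu ψ 1 := by
  simp [sameDeg, mem_dualFin]

theorem eta_inner {W₁ W₂ : Subgroup G} {χ : (↥(W₁ ⊔ W₂) →* ℂˣ) → (G → ℂ)}
    (hχ : IsCyclicTIFamily W₁ W₂ χ) (ω ω' : ↥(W₁ ⊔ W₂) →* ℂˣ) [Decidable (ω = ω')] :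
    classInner (χ ω) (χ ω') = if ω = ω' then 1 else 0 := by
  rw [hχ.orthonormal]
  split_ifs <;> rfl

namespace IsCols

variable {mu : (↥(W₁ ⊔ W₂) →* ℂˣ) → (↥M → ℂ)} {sgn : (↥(W₁ ⊔ W₂) →* ℂˣ) → ℤ}
variable {χ : (↥(W₁ ⊔ W₂) →* ℂˣ) → (G → ℂ)}
variable (h : Kappa M W₁ U W₂) (C : IsCols M W₁ W₂ mu sgn) (hNB : NoBad G)
variable (hχ : IsCyclicTIFamily W₁ W₂ χ)

section basics

variable [Fintype ↥M]
include h C

theorem mu_inner (ω ω' : ↥(W₁ ⊔ W₂) →* ℂˣ) [Decidable (ω = ω')] :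
    classInner (mu ω) (mu ω') = if ω = ω' then 1 else 0 := by
  split_ifs with e
  · subst e
    exact classInner_irr_self ⟨_, C.irr ω⟩
  · exact classInner_irr_ne (χ := ⟨_, C.irr ω⟩) (ψ := ⟨_, C.irr ω'⟩)
      fun q => e (C.inj (congrArg Subtype.val q))

theorem mu_gen (ω : ↥(W₁ ⊔ W₂) →* ℂˣ) : Gen (mu ω) :=
  isGeneralizedCharacter_of_isCharacter (isCharacter_of_isIrr (C.irr ω))

theorem col_gen (ψ : ↥(W₁ ⊔ W₂) →* ℂˣ) : Gen (colSum mu ψ) :=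
  isGeneralizedCharacter_sum _ _ fun _ _ => C.mu_gen h _

theorem col_inner {ψ ψ' : ↥(W₁ ⊔ W₂) →* ℂˣ} (hψ : ψ ∈ trivOn _ W₁) (hψ' : ψ' ∈ trivOn _ W₁)
    [Decidable (ψ = ψ')] :
    classInner (colSum mu ψ) (colSum mu ψ') = if ψ = ψ' then (Nat.card W₁ : ℂ) else 0 := by
  classical exact colSum_inner h.snc (fun ω ω' => C.mu_inner h ω ω') hψ hψ'

theorem col_one {ψ : ↥(W₁ ⊔ W₂) →* ℂˣ} : colSum mu ψ 1 = (Nat.card W₁ : ℂ) * mu ψ 1 := by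
  rw [colSum, Finset.sum_apply, Finset.sum_congr rfl fun φ hφ =>
    (C.deg_congr h (mem_dualFin.1 hφ) ψ).1, Finset.sum_const, card_dualFin h.snc, nsmul_eq_mul]

/-- A character vanishing outside `M_σ` is none of the `μ_ij`. -/
theorem ne_mu {ζ : ↥M → ℂ} (hζ0 : ∀ x : ↥M, (x : G) ∉ Cfsg.sigmaCore M → ζ x = 0)
    (ω : ↥(W₁ ⊔ W₂) →* ℂˣ) : ζ ≠ mu ω := by
  intro e
  obtain ⟨a, ha, ha1, -⟩ := exists_ne_one₁ h
  have ha2 := outside_mul h ha ha1 (b := 1) (one_mem W₂)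
  rw [mul_one] at ha2
  have h0 := hζ0 ⟨a, h.le_sup a.2⟩ fun hσ => ha2 (h.sigma_sup a.2 hσ)
  rw [e, C.value ω a _ rfl ha2] at h0
  rcases C.sgn_cases ω with q | q <;> simp [q] at h0

theorem mu_inner_irr {ζ : ↥M → ℂ} (hζ : IsIrrCharacter ↥M ζ)
    (hζ0 : ∀ x : ↥M, (x : G) ∉ Cfsg.sigmaCore M → ζ x = 0) (ω : ↥(W₁ ⊔ W₂) →* ℂˣ) :
    classInner (mu ω) ζ = 0 :=
  classInner_irr_ne (χ := ⟨_, C.irr ω⟩) (ψ := ⟨_, hζ⟩)
    fun q => C.ne_mu h hζ0 ω (congrArg Subtype.val q).symm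

theorem col_inner_irr {ζ : ↥M → ℂ} (hζ : IsIrrCharacter ↥M ζ)
    (hζ0 : ∀ x : ↥M, (x : G) ∉ Cfsg.sigmaCore M → ζ x = 0) (ψ : ↥(W₁ ⊔ W₂) →* ℂˣ) :
    classInner (colSum mu ψ) ζ = 0 := by
  rw [colSum, classInner_sum_left]
  exact Finset.sum_eq_zero fun φ _ => C.mu_inner_irr h hζ hζ0 _

end basics

/-! ### Induced differences -/

section induced

include h C

theorem inv_mem_sameDeg {ψ : ↥(W₁ ⊔ W₂) →* ℂˣ} (hψ : ψ ∈ trivOn _ W₁) (hψ1 : ψ ≠ 1) :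
    ψ⁻¹ ∈ sameDeg mu ψ :=
  mem_sameDeg.2 ⟨inv_mem hψ, fun e => hψ1 (MonoidHom.ext fun w => inv_eq_one.1 (DFunLike.congr_fun e w :)),
    fun e => hψ1 (eq_one_of_eq_inv h.odd_sup e), C.deg_inv h ψ⟩

variable {φ ψ ψ' : ↥(W₁ ⊔ W₂) →* ℂˣ}

include hNB hχ

/-- `τ(μ_ij - μ_il) = δ(η_ij - η_il)`. -/
theorem ind_mu_sub (hφ : φ ∈ trivOn _ W₂) (hψ : ψ ∈ trivOn _ W₁) (hψ1 : ψ ≠ 1)
    (hψ' : ψ' ∈ trivOn _ W₁) (hψ'1 : ψ' ≠ 1) (hne : ψ ≠ ψ') (hdeg : mu ψ 1 = mu ψ' 1) :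
    indFun M (mu (φ * ψ) - mu (φ * ψ')) = (sgn ψ : ℂ) • (χ (φ * ψ) - χ (φ * ψ')) := by
  classical
  let _ := Fintype.ofFinite ↥M
  have hS := C.mu_sub_supp h hNB hφ hψ hψ1 hψ' hψ'1 hdeg
  have hg : Gen (mu (φ * ψ) - mu (φ * ψ')) :=
    isGeneralizedCharacter_sub (C.mu_gen h _) (C.mu_gen h _)
  have hcl := isClassFunction_of_isGeneralized hg
  refine diff_eq_of_norm_two h.snc h.odd_sup hχ (isGeneralizedCharacter_indFun M hg) ?_ hφ hψ hψ' hne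
    (sgn ψ) (C.sgn_cases ψ) fun w h1 h2 => ?_
  · refine iq_eq 2 ?_
    rw [h.ind_isometry hNB hS hcl hS, classInner_sub_left, classInner_sub_right, classInner_sub_right,
      C.mu_inner h, C.mu_inner h, C.mu_inner h, C.mu_inner h, if_pos rfl, if_pos rfl,
      if_neg fun e => hne (mul_left_cancel e), if_neg fun e => hne (mul_left_cancel e).symm]
    norm_num
  · rw [h.ind_zhat hNB hcl hS w h1 h2, Pi.sub_apply, C.value _ w _ rfl h2, C.value _ w _ rfl h2,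
      (C.deg_congr h hφ ψ).2, (C.deg_congr h hφ ψ').2, C.sgn_eq h hdeg]
    ring

/-- `τ(μ'_j - μ'_l) = δ(Σ_i η_ij - Σ_i η_il)`. -/
theorem ind_col_sub (hψ : ψ ∈ trivOn _ W₁) (hψ1 : ψ ≠ 1) (hψ' : ψ' ∈ trivOn _ W₁) (hψ'1 : ψ' ≠ 1)
    (hdeg : mu ψ 1 = mu ψ' 1) :
    indFun M (colSum mu ψ - colSum mu ψ') = (sgn ψ : ℂ) • (colSum χ ψ - colSum χ ψ') := by
  rcases eq_or_ne ψ ψ' with rfl | hne
  · rw [sub_self, sub_self, indFun_zero, smul_zero]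
  rw [colSum, colSum, colSum, colSum, ← Finset.sum_sub_distrib, indFun_sum, ← Finset.sum_sub_distrib,
    Finset.smul_sum]
  exact Finset.sum_congr rfl fun φ hφ =>
    C.ind_mu_sub h hNB hχ (mem_dualFin.1 hφ) hψ hψ1 hψ' hψ'1 hne hdeg

theorem classInner_eta_ind_col_sub {φ₂ ψ₂ : ↥(W₁ ⊔ W₂) →* ℂˣ} (hφ₂ : φ₂ ∈ trivOn _ W₂)
    (hψ₂ : ψ₂ ∈ trivOn _ W₁) (hψ : ψ ∈ trivOn _ W₁) (hψ1 : ψ ≠ 1) (hψ' : ψ' ∈ trivOn _ W₁)
    (hψ'1 : ψ' ≠ 1) (hdeg : mu ψ 1 = mu ψ' 1) [Decidable (ψ₂ = ψ)] [Decidable (ψ₂ = ψ')] :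
    classInner (χ (φ₂ * ψ₂)) (indFun M (colSum mu ψ - colSum mu ψ')) =
      (sgn ψ : ℂ) * ((if ψ₂ = ψ then 1 else 0) - if ψ₂ = ψ' then 1 else 0) := by
  classical
  rw [C.ind_col_sub h hNB hχ hψ hψ1 hψ' hψ'1 hdeg, classInner_smul_right, classInner_sub_right,
    colSum_inner_single h.snc (fun ω ω' => eta_inner hχ ω ω') hφ₂ hψ₂ hψ,
    colSum_inner_single h.snc (fun ω ω' => eta_inner hχ ω ω') hφ₂ hψ₂ hψ', map_intCast]

/-- Pairing with `τ(μ_ij - μ_il)`. -/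
theorem coeff_diff [Fintype ↥M] {f : ↥M → ℂ} (hS : SuppOn M W₁ W₂ f) (hφ : φ ∈ trivOn _ W₂)
    (hψ : ψ ∈ trivOn _ W₁) (hψ1 : ψ ≠ 1) (hψ' : ψ' ∈ trivOn _ W₁) (hψ'1 : ψ' ≠ 1) (hne : ψ ≠ ψ')
    (hdeg : mu ψ 1 = mu ψ' 1) :
    classInner (indFun M f) (χ (φ * ψ)) - classInner (indFun M f) (χ (φ * ψ')) =
      (sgn ψ : ℂ) * classInner f (mu (φ * ψ) - mu (φ * ψ')) := by
  have hS' := C.mu_sub_supp h hNB hφ hψ hψ1 hψ' hψ'1 hdeg
  rw [← h.ind_isometry hNB hS (isClassFunction_of_isGeneralized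
      (isGeneralizedCharacter_sub (C.mu_gen h _) (C.mu_gen h _))) hS',
    C.ind_mu_sub h hNB hχ hφ hψ hψ1 hψ' hψ'1 hne hdeg, classInner_smul_right, map_intCast,
    classInner_sub_right, ← mul_assoc]
  rcases C.sgn_cases ψ with q | q <;> simp [q]

omit hχ in
/-- `μ'_j - n ζ` vanishes outside `M_σ#` when the degrees fit. -/
theorem col_sub_smul_supp (hψ : ψ ∈ trivOn _ W₁) (hψ1 : ψ ≠ 1) {ζ : ↥M → ℂ}
    (hζ0 : ∀ x : ↥M, (x : G) ∉ Cfsg.sigmaCore M → ζ x = 0) {n : ℂ}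
    (hdeg : (Nat.card W₁ : ℂ) * mu ψ 1 = n * ζ 1) :
    (∀ x : ↥M, (x : G) ∉ Cfsg.sigmaCore M → (colSum mu ψ - n • ζ) x = 0) ∧
      SuppOn M W₁ W₂ (colSum mu ψ - n • ζ) := by
  let _ := Fintype.ofFinite ↥M
  have h0 : ∀ x : ↥M, (x : G) ∉ Cfsg.sigmaCore M → (colSum mu ψ - n • ζ) x = 0 := fun x hx => by
    rw [Pi.sub_apply, C.col_supp h hNB hψ hψ1 hx, Pi.smul_apply, hζ0 x hx, smul_zero, sub_zero]
  refine ⟨h0, suppOn_of_sigma ?_ h0⟩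
  rw [Pi.sub_apply, C.col_one h, Pi.smul_apply, smul_eq_mul, hdeg, sub_self]

/-- The row differences of the coefficients of `τ(μ'_j - n ζ)`. -/
theorem coeff_col_diff [Fintype ↥M] (hψ : ψ ∈ trivOn _ W₁) (hψ1 : ψ ≠ 1) {ζ : ↥M → ℂ}
    (hζ : IsIrrCharacter ↥M ζ) (hζ0 : ∀ x : ↥M, (x : G) ∉ Cfsg.sigmaCore M → ζ x = 0) {n : ℕ}
    (hdeg : (Nat.card W₁ : ℂ) * mu ψ 1 = (n : ℂ) * ζ 1) (hφ : φ ∈ trivOn _ W₂)
    {l : ↥(W₁ ⊔ W₂) →* ℂˣ} (hl : l ∈ sameDeg mu ψ) :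
    iq (indFun M (colSum mu ψ - (n : ℂ) • ζ)) (χ (φ * ψ)) -
      iq (indFun M (colSum mu ψ - (n : ℂ) • ζ)) (χ (φ * l)) = sgn ψ := by
  classical
  obtain ⟨hl1, hl2, hl3, hl4⟩ := mem_sameDeg.1 hl
  obtain ⟨-, hS⟩ := C.col_sub_smul_supp h hNB hψ hψ1 hζ0 hdeg
  have hF : Gen (indFun M (colSum mu ψ - (n : ℂ) • ζ)) := isGeneralizedCharacter_indFun M
    (isGeneralizedCharacter_sub (C.col_gen h ψ) (by
      simpa using Gen.zsmul (isGeneralizedCharacter_of_isCharacter (isCharacter_of_isIrr hζ)) (n : ℤ)))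
  have e := C.coeff_diff h hNB hχ hS hφ hψ hψ1 hl1 hl2 hl3.symm hl4.symm
  have e2 : classInner (colSum mu ψ - (n : ℂ) • ζ) (mu (φ * ψ) - mu (φ * l)) = 1 := by
    rw [classInner_sub_left, classInner_sub_right, classInner_sub_right, classInner_smul_left,
      classInner_smul_left, ← classInner_conj (mu (φ * ψ)) (colSum mu ψ),
      ← classInner_conj (mu (φ * l)) (colSum mu ψ), ← classInner_conj (mu (φ * ψ)) ζ,
      ← classInner_conj (mu (φ * l)) ζ, C.mu_inner_irr h hζ hζ0, C.mu_inner_irr h hζ hζ0,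
      colSum_inner_single h.snc (fun ω ω' => C.mu_inner h ω ω') hφ hψ hψ,
      colSum_inner_single h.snc (fun ω ω' => C.mu_inner h ω ω') hφ hl1 hψ, if_pos rfl, if_neg hl3]
    simp
  rw [e2, mul_one, iq_spec hF (sg_eta hχ _).gen, iq_spec hF (sg_eta hχ _).gen] at e
  exact_mod_cast e

/-- `τ(μ'_j - ζ) = δ Σ_i η_ij - X` with `X` a signed irreducible orthogonal to every `η`. -/
theorem ind_col_sub_irr (hψ : ψ ∈ trivOn _ W₁) (hψ1 : ψ ≠ 1) {ζ : ↥M → ℂ}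
    (hζ : IsIrrCharacter ↥M ζ) (hζ0 : ∀ x : ↥M, (x : G) ∉ Cfsg.sigmaCore M → ζ x = 0)
    (hdeg : (Nat.card W₁ : ℂ) * mu ψ 1 = ζ 1) :
    ∃ ψ₁ s₁ X,
      ((ψ₁ = ψ ∧ s₁ = sgn ψ) ∨
        (ψ₁ ∈ sameDeg mu ψ ∧ (∀ l ∈ sameDeg mu ψ, l = ψ₁) ∧ s₁ = -sgn ψ)) ∧
      Sg X ∧ (∀ ω, classInner X (χ ω) = 0) ∧
      indFun M (colSum mu ψ - ζ) = (s₁ : ℂ) • colSum χ ψ₁ - X := by
  classical
  let _ := Fintype.ofFinite ↥M
  have hdeg' : (Nat.card W₁ : ℂ) * mu ψ 1 = ((1 : ℕ) : ℂ) * ζ 1 := by rw [hdeg, Nat.cast_one, one_mul]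
  have e1 : ((1 : ℕ) : ℂ) • ζ = ζ := by rw [Nat.cast_one, one_smul]
  obtain ⟨hf0, hSf⟩ := C.col_sub_smul_supp h hNB hψ hψ1 hζ0 hdeg'
  have hdiff := fun φ hφ l hl => C.coeff_col_diff h hNB hχ hψ hψ1 hζ hζ0 hdeg' (φ := φ) hφ (l := l) hl
  rw [e1] at hf0 hSf
  simp only [e1] at hdiff
  -- the conjugate of `ζ`
  have hζ' : IsIrrCharacter ↥M (Cfsg.conjFun ζ) := isIrrCharacter_starFun ⟨ζ, hζ⟩
  have hζ'0 : ∀ x : ↥M, (x : G) ∉ Cfsg.sigmaCore M → Cfsg.conjFun ζ x = 0 := fun x hx => by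
    simp [Cfsg.conjFun, hζ0 x hx]
  have hne : ζ ≠ Cfsg.conjFun ζ := fun e => by
    have hodd : Odd (Nat.card ↥M) := h.minSimple.1.of_dvd_nat (card_subgroup_dvd_card M)
    have h1 : ζ = fun _ => 1 := irr_eq_one_of_real hodd ⟨ζ, hζ⟩ fun g => (congrFun e g).symm
    exact C.ne_mu h hζ0 1 (h1.trans (C.mu_one h).1.symm)
  have hzg : Gen ζ := isGeneralizedCharacter_of_isCharacter (isCharacter_of_isIrr hζ)
  have hgg : Gen (ζ - Cfsg.conjFun ζ) :=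
    isGeneralizedCharacter_sub hzg (isGeneralizedCharacter_of_isCharacter (isCharacter_of_isIrr hζ'))
  have hg0 : ∀ x : ↥M, (x : G) ∉ Cfsg.sigmaCore M → (ζ - Cfsg.conjFun ζ) x = 0 := fun x hx => by
    rw [Pi.sub_apply, hζ0 x hx, hζ'0 x hx, sub_self]
  have hSg : SuppOn M W₁ W₂ (ζ - Cfsg.conjFun ζ) := suppOn_of_sigma (by
    obtain ⟨d, -, hd⟩ := isIrrCharacter_degree hζ
    simp [Cfsg.conjFun, hd]) hg0
  have hcg := isClassFunction_of_isGeneralized hgg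
  have hi1 : classInner ζ ζ = 1 := classInner_irr_self ⟨ζ, hζ⟩
  have hi2 : classInner (Cfsg.conjFun ζ) (Cfsg.conjFun ζ) = 1 := classInner_irr_self ⟨_, hζ'⟩
  have hi3 : classInner ζ (Cfsg.conjFun ζ) = 0 :=
    classInner_irr_ne (χ := ⟨ζ, hζ⟩) (ψ := ⟨_, hζ'⟩) fun q => hne (congrArg Subtype.val q)
  have hi4 : classInner (Cfsg.conjFun ζ) ζ = 0 := by rw [← classInner_conj, hi3, map_zero]
  have hcf : Gen (colSum mu ψ - ζ) := isGeneralizedCharacter_sub (C.col_gen h ψ) hzg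
  have hg := isGeneralizedCharacter_indFun M hgg
  have hF := isGeneralizedCharacter_indFun M hcf
  have hVf : ∀ w : ↥(W₁ ⊔ W₂), (w : G) ∉ W₁ → (w : G) ∉ W₂ → indFun M (colSum mu ψ - ζ) w = 0 :=
    fun w h1 h2 => by
      rw [h.ind_zhat hNB (isClassFunction_of_isGeneralized hcf) hSf w h1 h2]
      exact hf0 _ fun hσ => h2 (h.sigma_sup w.2 hσ)
  refine column_form h.snc h.odd_sup hχ hF hVf ?_ hg (perp_of_norm_two h.snc h.odd_sup hχ hg ?_ ?_) ?_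
    hψ hψ1 (sameDeg mu ψ) ⟨_, C.inv_mem_sameDeg h hψ hψ1⟩
    (fun l hl => ⟨(mem_sameDeg.1 hl).1, (mem_sameDeg.1 hl).2.1, (mem_sameDeg.1 hl).2.2.1⟩)
    (sgn ψ) (C.sgn_cases ψ) hdiff
  · refine iq_eq _ ?_
    rw [h.ind_isometry hNB hSf (isClassFunction_of_isGeneralized hcf) hSf, classInner_sub_left,
      classInner_sub_right, classInner_sub_right, C.col_inner h hψ hψ, if_pos rfl,
      C.col_inner_irr h hζ hζ0, ← classInner_conj (colSum mu ψ) ζ, C.col_inner_irr h hζ hζ0, hi1]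
    simp
  · refine le_of_eq (iq_eq 2 ?_)
    rw [h.ind_isometry hNB hSg hcg hSg, classInner_sub_left, classInner_sub_right, classInner_sub_right,
      hi1, hi2, hi3, hi4]
    norm_num
  · intro w h1 h2
    rw [h.ind_zhat hNB hcg hSg w h1 h2]
    exact hg0 _ fun hσ => h2 (h.sigma_sup w.2 hσ)
  · intro e
    have e' : classInner (indFun M (colSum mu ψ - ζ)) (indFun M (ζ - Cfsg.conjFun ζ)) = -1 := by
      rw [h.ind_isometry hNB hSf hcg hSg, classInner_sub_left, classInner_sub_right,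
        classInner_sub_right, C.col_inner_irr h hζ hζ0, C.col_inner_irr h hζ' hζ'0, hi1, hi3]
      norm_num
    rw [iq_spec hF hg, e] at e'
    norm_num at e'

/-- `τ(μ'_j - n ζ_i) = δ Σ_i η_ij - n Ψ_i` for a coherent family with more than `2 n` members. -/
theorem ind_col_sub_family (hψ : ψ ∈ trivOn _ W₁) (hψ1 : ψ ≠ 1) {ι : Type u} (s : Finset ι)
    (ζ : ι → ↥M → ℂ) (Ψ : ι → G → ℂ) (n : ℕ) (hζ : ∀ i ∈ s, IsIrrCharacter ↥M (ζ i))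
    (hinj : ∀ i ∈ s, ∀ k ∈ s, ζ i = ζ k → i = k)
    (hζ0 : ∀ i ∈ s, ∀ x : ↥M, (x : G) ∉ Cfsg.sigmaCore M → ζ i x = 0)
    (hdeg : ∀ i ∈ s, (Nat.card W₁ : ℂ) * mu ψ 1 = (n : ℂ) * ζ i 1) (hcard : 2 * n < s.card)
    (hΨ : ∀ i ∈ s, Sg (Ψ i)) (hΨo : ∀ i ∈ s, ∀ k ∈ s, i ≠ k → classInner (Ψ i) (Ψ k) = 0)
    (hΨd : ∀ i ∈ s, ∀ k ∈ s, indFun M (ζ i - ζ k) = Ψ i - Ψ k) :
    ∃ ψ₁ s₁,
      ((ψ₁ = ψ ∧ s₁ = sgn ψ) ∨
        (ψ₁ ∈ sameDeg mu ψ ∧ (∀ l ∈ sameDeg mu ψ, l = ψ₁) ∧ s₁ = -sgn ψ)) ∧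
      (∀ i ∈ s, ∀ ω, classInner (Ψ i) (χ ω) = 0) ∧
      ∀ i ∈ s, indFun M (colSum mu ψ - (n : ℂ) • ζ i) = (s₁ : ℂ) • colSum χ ψ₁ - (n : ℂ) • Ψ i := by
  classical
  let _ := Fintype.ofFinite ↥M
  haveI := finite_dual (K := ↥(W₁ ⊔ W₂))
  obtain ⟨i₀, hi₀⟩ : s.Nonempty := Finset.card_pos.1 (by omega)
  have hn0 : n ≠ 0 := by
    rintro rfl
    obtain ⟨d, hd, e⟩ := C.deg_nat h ψ
    have := hdeg i₀ hi₀
    rw [e, Nat.cast_zero, zero_mul] at this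
    simp [Nat.cast_ne_zero.2 hd.ne'] at this
  have h2 : 2 < s.card := by omega
  have hz : ∀ i ∈ s, Gen (ζ i) := fun i hi =>
    isGeneralizedCharacter_of_isCharacter (isCharacter_of_isIrr (hζ i hi))
  have hzo : ∀ i ∈ s, ∀ k ∈ s, classInner (ζ i) (ζ k) = if i = k then 1 else 0 := fun i hi k hk => by
    split_ifs with e
    · subst e
      exact classInner_irr_self ⟨_, hζ i hi⟩
    · exact classInner_irr_ne (χ := ⟨_, hζ i hi⟩) (ψ := ⟨_, hζ k hk⟩)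
        fun q => e (hinj i hi k hk (congrArg Subtype.val q))
  have hd0 : ∀ i ∈ s, ∀ k ∈ s, ∀ x : ↥M, (x : G) ∉ Cfsg.sigmaCore M → (ζ i - ζ k) x = 0 :=
    fun i hi k hk x hx => by rw [Pi.sub_apply, hζ0 i hi x hx, hζ0 k hk x hx, sub_self]
  have hdS : ∀ i ∈ s, ∀ k ∈ s, SuppOn M W₁ W₂ (ζ i - ζ k) := fun i hi k hk => by
    refine suppOn_of_sigma ?_ (hd0 i hi k hk)
    have := (hdeg i hi).symm.trans (hdeg k hk)
    rw [mul_right_inj' (Nat.cast_ne_zero.2 hn0)] at this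
    rw [Pi.sub_apply, this, sub_self]
  have hperp : ∀ i ∈ s, ∀ ω, classInner (Ψ i) (χ ω) = 0 := by
    intro i hi ω
    obtain ⟨k, hk, hki⟩ := Finset.exists_mem_ne (by omega : 1 < s.card) i
    have hgd := isGeneralizedCharacter_sub (hz i hi) (hz k hk)
    have hcl := isClassFunction_of_isGeneralized hgd
    have e := perp_of_norm_two h.snc h.odd_sup hχ (isGeneralizedCharacter_indFun M hgd) (le_of_eq
      (iq_eq 2 (by
        rw [h.ind_isometry hNB (hdS i hi k hk) hcl (hdS i hi k hk), classInner_sub_left,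
          classInner_sub_right, classInner_sub_right, hzo i hi i hi, hzo i hi k hk, hzo k hk i hi,
          hzo k hk k hk, if_pos rfl, if_pos rfl, if_neg hki.symm, if_neg hki]
        norm_num))) (fun w h1 h2 => by
      rw [h.ind_zhat hNB hcl (hdS i hi k hk) w h1 h2]
      exact hd0 i hi k hk _ fun hσ => h2 (h.sigma_sup w.2 hσ)) ω
    rw [hΨd i hi k hk, classInner_sub_left, sub_eq_zero, iq_spec (hΨ i hi).gen (sg_eta hχ ω).gen,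
      iq_spec (hΨ k hk).gen (sg_eta hχ ω).gen] at e
    have e' : iq (Ψ i) (χ ω) = iq (Ψ k) (χ ω) := by exact_mod_cast e
    rw [iq_spec (hΨ i hi).gen (sg_eta hχ ω).gen, Int.cast_eq_zero]
    have ho := hΨo i hi k hk hki.symm
    rcases (hΨ i hi).iq_cases (sg_eta hχ ω) with q | ⟨q, qe⟩ | ⟨q, qe⟩
    · exact q
    all_goals
      rcases (hΨ k hk).iq_cases (sg_eta hχ ω) with q' | ⟨q', qe'⟩ | ⟨q', qe'⟩ <;>
        first
          | (exfalso; omega)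
          | (exfalso; rw [qe, qe'] at ho; simp [classInner_neg_left, classInner_neg_right, hχ.orthonormal] at ho)
  obtain ⟨hf0, hSf⟩ := C.col_sub_smul_supp h hNB hψ hψ1 (hζ0 i₀ hi₀) (hdeg i₀ hi₀)
  set f := colSum mu ψ - (n : ℂ) • ζ i₀ with hf
  have hfg : Gen f := isGeneralizedCharacter_sub (C.col_gen h ψ)
    (by simpa using Gen.zsmul (hz i₀ hi₀) (n : ℤ))
  set F := indFun M f with hFd
  have hF : Gen F := isGeneralizedCharacter_indFun M hfg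
  have hcol0 : ∀ i ∈ s, classInner (colSum mu ψ) (ζ i) = 0 := fun i hi =>
    C.col_inner_irr h (hζ i hi) (hζ0 i hi) ψ
  have hcol0' : ∀ i ∈ s, classInner (ζ i) (colSum mu ψ) = 0 := fun i hi => by
    rw [← classInner_conj, hcol0 i hi, map_zero]
  have hnorm : iq F F = (Nat.card W₁ : ℤ) + (n : ℤ) ^ 2 := by
    refine iq_eq _ ?_
    rw [hFd, h.ind_isometry hNB hSf (isClassFunction_of_isGeneralized hfg) hSf, hf,
      classInner_sub_left, classInner_sub_right, classInner_sub_right, classInner_smul_left,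
      classInner_smul_left, classInner_smul_right, classInner_smul_right, C.col_inner h hψ hψ,
      hcol0 i₀ hi₀, hcol0' i₀ hi₀, hzo i₀ hi₀ i₀ hi₀, if_pos rfl, if_pos rfl]
    push_cast
    simp [sq]
  have hc : ∀ k ∈ s, k ≠ i₀ → iq F (Ψ k) = iq F (Ψ i₀) + n := by
    intro k hk hne
    have hgd := isGeneralizedCharacter_sub (hz i₀ hi₀) (hz k hk)
    have e : classInner F (Ψ i₀ - Ψ k) = -(n : ℂ) := by
      rw [← hΨd i₀ hi₀ k hk, hFd, h.ind_isometry hNB hSf (isClassFunction_of_isGeneralized hgd)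
        (hdS i₀ hi₀ k hk), hf, classInner_sub_left, classInner_sub_right, classInner_sub_right,
        classInner_smul_left, classInner_smul_left, hcol0 i₀ hi₀, hcol0 k hk, hzo i₀ hi₀ i₀ hi₀,
        hzo i₀ hi₀ k hk, if_pos rfl, if_neg hne.symm]
      simp
    rw [classInner_sub_right, iq_spec hF (hΨ i₀ hi₀).gen, iq_spec hF (hΨ k hk).gen] at e
    have : iq F (Ψ i₀) - iq F (Ψ k) = -(n : ℤ) := by exact_mod_cast e
    omega
  set y : ℤ := iq F (Ψ i₀) + n with hy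
  have hΨsum : ∑ k ∈ s, iq F (Ψ k) ^ 2 = (y - n) ^ 2 + ((s.card : ℤ) - 1) * y ^ 2 := by
    rw [← Finset.add_sum_erase s _ hi₀, Finset.sum_congr rfl fun k hk => by
      rw [hc k (Finset.mem_of_mem_erase hk) (Finset.ne_of_mem_erase hk)], Finset.sum_const,
      Finset.card_erase_of_mem hi₀, nsmul_eq_mul, Nat.cast_sub (by omega : 1 ≤ s.card), hy]
    push_cast
    ring
  -- one orthonormal family
  let u : (↥(W₁ ⊔ W₂) →* ℂˣ) ⊕ ι → (G → ℂ) := Sum.elim χ Ψ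
  have hu : ∀ (S : Finset (↥(W₁ ⊔ W₂) →* ℂˣ)), ∀ a ∈ S.disjSum s, Sg (u a) := by
    intro S a ha
    rcases a with ω | i
    · exact sg_eta hχ ω
    · exact hΨ i (Finset.inr_mem_disjSum.1 ha)
  have hcross : ∀ i ∈ s, ∀ ω, iq (Ψ i) (χ ω) = 0 := fun i hi ω =>
    iq_eq 0 (by rw [hperp i hi ω, Int.cast_zero])
  have huo : ∀ (S : Finset (↥(W₁ ⊔ W₂) →* ℂˣ)), ∀ a ∈ S.disjSum s, ∀ b ∈ S.disjSum s, a ≠ b →
      iq (u a) (u b) = 0 := by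
    intro S a ha b hb hab
    rcases a with ω | i <;> rcases b with ω' | k
    · exact iq_eta_ne hχ fun e => hab (by rw [e])
    · show iq (χ ω) (Ψ k) = 0
      rw [iq_comm (sg_eta hχ ω).gen (hΨ k (Finset.inr_mem_disjSum.1 hb)).gen,
        hcross k (Finset.inr_mem_disjSum.1 hb)]
    · exact hcross i (Finset.inr_mem_disjSum.1 ha) ω'
    · exact iq_eq 0 (by
        rw [Int.cast_zero]
        exact hΨo i (Finset.inr_mem_disjSum.1 ha) k (Finset.inr_mem_disjSum.1 hb)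
          fun e => hab (by rw [e]))
  have hcard' : 2 * (n : ℤ) < (s.card : ℤ) := by exact_mod_cast hcard
  have hy' : (n : ℤ) ^ 2 ≤ (y - n) ^ 2 + ((s.card : ℤ) - 1) * y ^ 2 ∧
      ((y - n) ^ 2 + ((s.card : ℤ) - 1) * y ^ 2 ≤ (n : ℤ) ^ 2 → y = 0) := by
    have key : (y - n) ^ 2 + ((s.card : ℤ) - 1) * y ^ 2 - (n : ℤ) ^ 2 =
        y * ((s.card : ℤ) * y - 2 * n) := by ring
    rcases lt_trichotomy y 0 with hy0 | hy0 | hy0
    · have h1 : (s.card : ℤ) * y ≤ -(s.card : ℤ) := by nlinarith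
      have h2 : 1 ≤ y * ((s.card : ℤ) * y - 2 * n) := by nlinarith
      exact ⟨by omega, fun hle => by omega⟩
    · exact ⟨by rw [hy0]; simp, fun _ => hy0⟩
    · have h1 : (s.card : ℤ) ≤ (s.card : ℤ) * y := by nlinarith
      have h2 : 1 ≤ y * ((s.card : ℤ) * y - 2 * n) := by nlinarith
      exact ⟨by omega, fun hle => by omega⟩
  have hsum : ∀ S : Finset (↥(W₁ ⊔ W₂) →* ℂˣ), ∑ ω ∈ S, iq F (χ ω) ^ 2 ≤ Nat.card W₁ := by
    intro S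
    have := sum_sq_le_norm (S.disjSum s) u (hu S) (huo S) hF
    rw [Finset.sum_disjSum, hnorm] at this
    simp only [u, Sum.elim_inl, Sum.elim_inr] at this
    rw [hΨsum] at this
    omega
  have hVf : ∀ w : ↥(W₁ ⊔ W₂), (w : G) ∉ W₁ → (w : G) ∉ W₂ → F w = 0 := fun w h1 h2 => by
    rw [hFd, h.ind_zhat hNB (isClassFunction_of_isGeneralized hfg) hSf w h1 h2]
    exact hf0 _ fun hσ => h2 (h.sigma_sup w.2 hσ)
  obtain ⟨ψ₁, s₁, hpick, hc1, -⟩ := column_coeff h.snc h.odd_sup hχ hF hVf hψ hψ1 (sameDeg mu ψ)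
    ⟨_, C.inv_mem_sameDeg h hψ hψ1⟩
    (fun l hl => ⟨(mem_sameDeg.1 hl).1, (mem_sameDeg.1 hl).2.1, (mem_sameDeg.1 hl).2.2.1⟩)
    (sgn ψ) (C.sgn_cases ψ)
    (fun φ hφ l hl => C.coeff_col_diff h hNB hχ hψ hψ1 (hζ i₀ hi₀) (hζ0 i₀ hi₀) (hdeg i₀ hi₀) hφ hl)
    hsum
  set S₁ := (dualFin (W₁ ⊔ W₂) W₂).image (· * ψ₁) with hS₁
  have hinjS : Set.InjOn (· * ψ₁) (dualFin (W₁ ⊔ W₂) W₂ : Set (↥(W₁ ⊔ W₂) →* ℂˣ)) :=
    fun x _ z _ e => mul_right_cancel e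
  have hs₁ : s₁ ^ 2 = 1 := by
    rcases hpick with ⟨-, rfl⟩ | ⟨-, -, rfl⟩ <;> rcases C.sgn_cases ψ with q | q <;> simp [q]
  have hsq : ∑ ω ∈ S₁, iq F (χ ω) ^ 2 = (Nat.card W₁ : ℤ) := by
    rw [hS₁, Finset.sum_image hinjS, Finset.sum_congr rfl fun φ hφ => by
      rw [hc1 φ (mem_dualFin.1 hφ), hs₁], Finset.sum_const, card_dualFin h.snc, nsmul_one]
  have hy0 : y = 0 := by
    have := sum_sq_le_norm (S₁.disjSum s) u (hu S₁) (huo S₁) hF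
    rw [Finset.sum_disjSum, hnorm] at this
    simp only [u, Sum.elim_inl, Sum.elim_inr] at this
    rw [hsq, hΨsum] at this
    exact hy'.2 (by omega)
  have hP := eq_proj_of_le (S₁.disjSum s) u (hu S₁) (huo S₁) hF (by
    rw [Finset.sum_disjSum, hnorm]
    simp only [u, Sum.elim_inl, Sum.elim_inr]
    rw [hsq, hΨsum, hy0]
    simp)
  rw [Finset.sum_disjSum] at hP
  simp only [u, Sum.elim_inl, Sum.elim_inr] at hP
  have hi0c : iq F (Ψ i₀) = -(n : ℤ) := by omega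
  rw [hS₁, Finset.sum_image hinjS, Finset.sum_congr rfl fun φ hφ => by
      rw [hc1 φ (mem_dualFin.1 hφ)],
    Finset.sum_eq_single_of_mem i₀ hi₀ fun k hk hne => by
      rw [hc k hk hne, hy0, Int.cast_zero, zero_smul],
    hi0c, Int.cast_neg, Int.cast_natCast, neg_smul, ← Finset.smul_sum, ← sub_eq_add_neg] at hP
  refine ⟨ψ₁, s₁, hpick, hperp, fun i hi => ?_⟩
  have e : colSum mu ψ - (n : ℂ) • ζ i = f + (n : ℂ) • (ζ i₀ - ζ i) := by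
    rw [hf, smul_sub]; abel
  rw [e, indFun_add, indFun_smul, ← hFd, hP, hΨd i₀ hi₀ i hi, smul_sub, colSum]
  abel

end induced

/-! ### Equal degrees -/

include h C

/-- When `|W₂|` is prime all the columns other than the first have the same degree. -/
theorem deg_eq_of_prime (hp : (Nat.card W₂).Prime) {ψ ψ' : ↥(W₁ ⊔ W₂) →* ℂˣ}
    (hψ : ψ ∈ trivOn _ W₁) (hψ1 : ψ ≠ 1) (hψ' : ψ' ∈ trivOn _ W₁) (hψ'1 : ψ' ≠ 1) :
    mu ψ' 1 = mu ψ 1 := by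
  haveI : Fact (Nat.card W₂).Prime := ⟨hp⟩
  haveI := finite_dual (K := ↥(W₁ ⊔ W₂))
  have hcard : Nat.card (trivOn (W₁ ⊔ W₂) W₁) = Nat.card W₂ :=
    card_trivOn_fst (snc_disj h.snc) (snc_comm h.snc) fun a b => Subtype.ext (congrArg Subtype.val
      (snc_mul_comm h.snc (Subgroup.inclusion le_sup_right a) (Subgroup.inclusion le_sup_right b)) :)
  have hmem := mem_zpowers_of_prime_card hcard (g := (⟨ψ, hψ⟩ : trivOn (W₁ ⊔ W₂) W₁)) (g' := ⟨ψ', hψ'⟩)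
    fun e => hψ1 (congrArg Subtype.val e)
  rw [← mem_powers_iff_mem_zpowers] at hmem
  obtain ⟨k, hk⟩ := hmem
  have hk' : ψ ^ k = ψ' := congrArg Subtype.val hk
  have hord : orderOf ψ = Nat.card W₂ := by
    refine orderOf_eq_prime ?_ hψ1
    have := congrArg Subtype.val (pow_card_eq_one' (x := (⟨ψ, hψ⟩ : trivOn (W₁ ⊔ W₂) W₁)))
    rwa [hcard] at this
  have hkp : k.Coprime (Nat.card W₂) := by
    refine Nat.Coprime.symm (hp.coprime_iff_not_dvd.2 fun hd => hψ'1 ?_)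
    rw [← hk']
    exact orderOf_dvd_iff_pow_eq_one.1 (hord ▸ hd)
  have hdvd : Nat.card W₂ ∣ Nat.card M := card_dvd_of_le (le_sup_right.trans h.le_sup)
  haveI : NeZero (Nat.card M) := ⟨Nat.card_pos.ne'⟩
  obtain ⟨v, hv⟩ := ZMod.unitsMap_surjective hdvd (ZMod.unitOfCoprime k hkp)
  have hmod : (v : ZMod (Nat.card M)).val ≡ k [MOD Nat.card W₂] := by
    rw [← ZMod.natCast_eq_natCast_iff, ← ZMod.coe_unitOfCoprime k hkp, ← hv, ZMod.unitsMap_val,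
      ZMod.cast_eq_val]
  have hpow : ψ ^ (v : ZMod (Nat.card M)).val = ψ' := by
    rw [← hk']
    refine (pow_eq_pow_iff_modEq (x := ψ)).2 ?_
    rw [hord]
    exact hmod
  rw [← hpow]
  exact (C.deg_pow h (Nat.Coprime.symm (ZMod.val_coe_unit_coprime v)) ψ).1

end IsCols

/-! ### The partners -/

/-- The same family, indexed by the characters of `W₂ ⊔ W₁`. -/
noncomputable def swapFamily {W₁ W₂ : Subgroup G} (χ : (↥(W₁ ⊔ W₂) →* ℂˣ) → (G → ℂ)) :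
    (↥(W₂ ⊔ W₁) →* ℂˣ) → (G → ℂ) :=
  fun ω => χ (ω.comp (MulEquiv.subgroupCongr (sup_comm W₁ W₂)).toMonoidHom)

theorem isCyclicTIFamily_swap {W₁ W₂ : Subgroup G} {χ : (↥(W₁ ⊔ W₂) →* ℂˣ) → (G → ℂ)}
    (hχ : IsCyclicTIFamily W₁ W₂ χ) : IsCyclicTIFamily W₂ W₁ (swapFamily χ) := by
  classical
  set e := MulEquiv.subgroupCongr (sup_comm W₁ W₂) with he
  have hinj : ∀ ω ω' : ↥(W₂ ⊔ W₁) →* ℂˣ, ω.comp e.toMonoidHom = ω'.comp e.toMonoidHom → ω = ω' :=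
    fun ω ω' q => MonoidHom.ext fun w => by
      simpa using DFunLike.congr_fun q (e.symm w)
  refine ⟨fun ω => hχ.irr_or_neg _, fun ω ω' => ?_, hχ.map_one, fun ω w h2 h1 => ?_,
    fun φ ψ hφ hψ hφ1 hψ2 => ?_⟩
  · show classInner (χ _) (χ _) = _
    rw [hχ.orthonormal]
    rcases eq_or_ne ω ω' with q | q
    · rw [if_pos q, if_pos (by rw [q])]
    · rw [if_neg q, if_neg fun q' => q (hinj ω ω' q')]
  · refine (hχ.eq_on _ (e.symm w) h1 h2).trans ?_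
    show ((ω (e (e.symm w)) : ℂˣ) : ℂ) = _
    rw [e.apply_symm_apply]
  · have key := hχ.induced_eq (ψ.comp e.toMonoidHom) (φ.comp e.toMonoidHom)
      (fun q => hψ (hinj ψ 1 q)) (fun q => hφ (hinj φ 1 q)) (fun w hw => hψ2 (e w) hw)
      (fun w hw => hφ1 (e w) hw)
    have eind := indFun_congr (sup_comm W₂ W₁)
      (fun w => 1 - (φ w : ℂ) - (ψ w : ℂ) + (φ w : ℂ) * (ψ w : ℂ))
      (fun w => 1 - ((ψ.comp e.toMonoidHom) w : ℂ) - ((φ.comp e.toMonoidHom) w : ℂ) +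
        ((ψ.comp e.toMonoidHom) w : ℂ) * ((φ.comp e.toMonoidHom) w : ℂ)) fun x hx hx' => by
      show _ = 1 - ((ψ ⟨x, _⟩ : ℂˣ) : ℂ) - ((φ ⟨x, _⟩ : ℂˣ) : ℂ) +
        ((ψ ⟨x, _⟩ : ℂˣ) : ℂ) * ((φ ⟨x, _⟩ : ℂˣ) : ℂ)
      ring
    rw [eind, key]
    funext g
    show _ = 1 - χ (φ.comp e.toMonoidHom) g - χ (ψ.comp e.toMonoidHom) g +
      χ ((φ * ψ).comp e.toMonoidHom) g
    rw [mul_comm φ ψ, MonoidHom.mul_comp]
    ring

variable {S T V : Subgroup G}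

theorem kappaS (hG : Cfsg.IsMinSimpleOddOrder G) (P : FT.Pair S T W₁ W₂ U V) :
    Kappa S W₁ U W₂ :=
  ⟨hG, P.coatomS, P.decompS, P.neW₁, P.eqW₂⟩

theorem kappaT (hG : Cfsg.IsMinSimpleOddOrder G) (P : FT.Pair S T W₁ W₂ U V) :
    Kappa T W₂ V W₁ :=
  ⟨hG, P.coatomT, P.decompT, P.neW₂, P.eqW₁⟩

end CfsgLib.FT.Rect
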