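import Cfsg.Agent.Lib.FT.SlackCore
import Cfsg.Agent.Lib.FT.Rectangle
import Cfsg.Agent.Lib.FT.FamilyTheta

/-!
# The S side of `docs/FT.md` §3

`slack_side`: for a maximal `M` with `κ(M) ≠ ∅` and `|M : M_σ| = |W₁|`, `b = η_0j` (or `η_0j + t η_i0`),
`X` the conjugates of `M_σ#`, `d` the degree of the `μ_ij` (`j ≠ 0`) and `m` further irreducible characters
of degree `e d` vanishing outside `M_σ`, with `W = p - 1 + e m`:

  `e ∫_X (|b|² - Re b) ≥ 1 - 1/W - 1/(4 k₀)`, and `≥ 1 - (1 + 1/(2d))²/W` if `d ≤ k₀`.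
-/

set_option autoImplicit false
set_option linter.unusedSectionVars false
set_option linter.style.haveILetI false

open Subgroup

namespace CfsgLib.FT

open scoped ComplexConjugate
open Cfsg CfsgLib.Char CfsgLib.Char.Signed CfsgLib.FT.Rect

universe u

variable {G : Type u} [Group G] [Fintype G] {M W₁ U W₂ : Subgroup G}

/-- With `U = 1` the index of `M_σ` is `|W₁|`. -/
theorem eIndex_of_bot (h : Kappa M W₁ U W₂) (hU : U = ⊥) : eIndex M = Nat.card W₁ := by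
  have e : ⁅M, M⁆ = Cfsg.sigmaCore M := by
    rw [CfsgLib.CFun.KappaDerived.derived_eq h.minSimple h.coatom h.decomp h.neW₁, hU, bot_sup_eq]
  have hi := h.typePLike.index_K
  rw [Nat.card_congr (subgroupOfEquivOfLe h.le₁).toEquiv] at hi
  rw [eIndex, ← e]
  exact hi

variable {mu : (↥(W₁ ⊔ W₂) →* ℂˣ) → (↥M → ℂ)} {sgn : (↥(W₁ ⊔ W₂) →* ℂˣ) → ℤ}
variable {χ : (↥(W₁ ⊔ W₂) →* ℂˣ) → (G → ℂ)}

/-- The `μ_ij` with `j ≠ 0` are not linear. -/
theorem two_le_deg (h : Kappa M W₁ U W₂) (C : IsCols M W₁ W₂ mu sgn) {ψ : ↥(W₁ ⊔ W₂) →* ℂˣ}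
    (hψ : ψ ∈ trivOn _ W₁) (hψ1 : ψ ≠ 1) {d : ℕ} (hd : mu ψ 1 = (d : ℂ)) : 2 ≤ d := by
  haveI := Fintype.ofFinite ↥M
  obtain ⟨d', hd', e'⟩ := isIrrCharacter_degree (C.irr ψ)
  have hdd : d = d' := by exact_mod_cast hd.symm.trans e'
  subst hdd
  by_contra hlt
  obtain ⟨lam, hlam⟩ := (Sg.of_irr ⟨_, C.irr ψ⟩).exists_hom (show mu ψ 1 = 1 by
    rw [hd, show d = 1 by omega, Nat.cast_one])
  replace hlam : ∀ g, (lam g : ℂ) = mu ψ g := hlam
  refine IsCols.notMem_trivOn h (one_mem _) hψ hψ1 (fun w hw => ?_)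
  rw [one_mul]
  obtain ⟨a, ha, ha1, -⟩ := IsCols.exists_ne_one₁ h
  have ha2 := IsCols.outside_mul h ha ha1 hw
  have ha0 := IsCols.outside_mul h ha ha1 (b := 1) (one_mem W₂)
  rw [mul_one] at ha0
  have e1 := C.value ψ a ⟨a, h.le_sup a.2⟩ rfl ha0
  have e2 := C.value ψ (a * w) (⟨a, h.le_sup a.2⟩ * ⟨w, h.le_sup w.2⟩) rfl ha2
  have hw1 : lam ⟨w, h.le_sup w.2⟩ = 1 := by
    have hc : (w : G) ∈ ⁅M, M⁆ := h.sigma_le (h.le₂ hw)
    rw [← map_subtype_commutator] at hc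
    obtain ⟨y, hy, hy'⟩ := hc
    rw [show (⟨w, h.le_sup w.2⟩ : ↥M) = y from Subtype.ext hy'.symm]
    exact Abelianization.commutator_subset_ker lam hy
  rw [← hlam] at e1 e2
  rw [map_mul, hw1, mul_one, e1, map_mul, Units.val_mul, ← mul_assoc] at e2
  have hs0 : (sgn ψ : ℂ) * (ψ a : ℂ) ≠ 0 := by
    refine mul_ne_zero ?_ (Units.ne_zero _)
    rcases C.sgn_cases ψ with q | q <;> simp [q]
  exact Units.ext ((mul_right_eq_self₀.mp e2.symm).resolve_right hs0)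

/-- The further irreducible characters of the family of the columns. -/
structure SideFamily (M W₁ : Subgroup G) (d : ℕ) {R : Type u} (ζ : R → ↥M → ℂ) : Prop where
  irr : ∀ r, IsIrrCharacter ↥M (ζ r)
  inj : Function.Injective ζ
  supp : ∀ r, ∀ x : ↥M, (x : G) ∉ Cfsg.sigmaCore M → ζ r x = 0
  deg : ∀ r, ζ r 1 = (Nat.card W₁ : ℂ) * (d : ℂ)

theorem classInner_indOne (hG : IsMinSimpleOddOrder G) [Fintype ↥M] {f : ↥M → ℂ}
    (hf : ∀ x : ↥M, (x : G) ∉ Cfsg.sigmaCore M → f x = 0) :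
    classInner f (indSigma M fun _ => 1) = (eIndex M : ℂ) * classInner f (fun _ => 1) := by
  classical
  simp only [classInner, map_one, mul_one]
  rw [mul_left_comm, Finset.mul_sum (a := (eIndex M : ℂ))]
  congr 1
  refine Finset.sum_congr rfl fun x _ => ?_
  rw [indOne_eq hG]
  split_ifs with hx
  · rw [map_natCast]; ring
  · rw [hf x hx]; simp

theorem classInner_restrict [Fintype ↥M] {α : ↥M → ℂ} (hα : Gen α) {b : G → ℂ} (hb : Gen b) :
    classInner (fun x : ↥M => b x) α = (iq (indFun M α) b : ℂ) := by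
  rw [← classInner_conj, ← classInner_indFun M α b (isClassFunction_of_isGeneralized hb),
    iq_spec (isGeneralizedCharacter_indFun _ hα) hb, map_intCast]

variable (h : Kappa M W₁ U W₂) (hNB : NoBad G) (hM : FpfAb M) (C : IsCols M W₁ W₂ mu sgn)
variable (hχ : IsCyclicTIFamily W₁ W₂ χ) {d : ℕ}
variable (hd : ∀ ψ ∈ trivOn (W₁ ⊔ W₂) W₁, ψ ≠ 1 → mu ψ 1 = (d : ℂ))
include h hNB C hχ hd

theorem sameDeg_eq {ψ₀ l : ↥(W₁ ⊔ W₂) →* ℂˣ} (hψ₀ : ψ₀ ∈ trivOn _ W₁) (hψ₀1 : ψ₀ ≠ 1) :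
    l ∈ sameDeg mu ψ₀ ↔ l ∈ trivOn (W₁ ⊔ W₂) W₁ ∧ l ≠ 1 ∧ l ≠ ψ₀ :=
  mem_sameDeg.trans ⟨fun q => ⟨q.1, q.2.1, q.2.2.1⟩,
    fun q => ⟨q.1, q.2.1, q.2.2, by rw [hd l q.1 q.2.1, hd ψ₀ hψ₀ hψ₀1]⟩⟩

open Classical in
/-- The pairings of `b` with the differences inside the family are those of one column. -/
theorem exists_pattern {ψ₀ : ↥(W₁ ⊔ W₂) →* ℂˣ} (hψ₀ : ψ₀ ∈ trivOn _ W₁) (hψ₀1 : ψ₀ ≠ 1)
    {φa : ↥(W₁ ⊔ W₂) →* ℂˣ} (hφa : φa ∈ trivOn _ W₂) (t : ℤ) {R : Type u} (ζ : R → ↥M → ℂ)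
    (hζ : SideFamily M W₁ d ζ) (φ₀ : ↥M → ℂ) (hφ₀ : Gen φ₀)
    (hperp : ∀ r r', iq (indFun M (ζ r - ζ r')) (χ ψ₀ + (t : ℂ) • χ φa) = 0) :
    ∃ (ψ₁ : ↥(W₁ ⊔ W₂) →* ℂˣ) (δ c : ℤ), ψ₁ ∈ trivOn (W₁ ⊔ W₂) W₁ ∧ ψ₁ ≠ 1 ∧ δ ^ 2 = 1 ∧
      (∀ ψ ∈ trivOn (W₁ ⊔ W₂) W₁, ψ ≠ 1 →
        iq (indFun M (colSum mu ψ - (d : ℂ) • φ₀)) (χ ψ₀ + (t : ℂ) • χ φa) =
          (if ψ = ψ₁ then δ else 0) + c) ∧
      ∀ r, iq (indFun M (ζ r - (d : ℂ) • φ₀)) (χ ψ₀ + (t : ℂ) • χ φa) = c := by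
  classical
  haveI := Fintype.ofFinite ↥M
  set b := χ ψ₀ + (t : ℂ) • χ φa with hbdef
  have hb : Gen b := isGeneralizedCharacter_add (sg_eta hχ _).gen (Gen.zsmul (sg_eta hχ _).gen t)
  have hgd : Gen ((d : ℂ) • φ₀) := by simpa using Gen.zsmul hφ₀ (d : ℤ)
  have hgc : ∀ ψ, Gen (colSum mu ψ) := fun ψ => C.col_gen h ψ
  have hgz : ∀ r, Gen (ζ r) := fun r =>
    isGeneralizedCharacter_of_isCharacter (isCharacter_of_isIrr (hζ.irr r))
  have hind : ∀ {α}, Gen α → Gen (indFun M α) := fun hα => isGeneralizedCharacter_indFun _ hα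
  have hadd : ∀ {α β : ↥M → ℂ}, Gen α → Gen β →
      iq (indFun M (α + β)) b = iq (indFun M α) b + iq (indFun M β) b := fun hα hβ => by
    rw [indFun_add, iq_add_left (hind hα) (hind hβ) hb]
  have hs : sgn ψ₀ ^ 2 = 1 := by rcases C.sgn_cases ψ₀ with q | q <;> simp [q]
  have hcolχ : ∀ ψ ∈ trivOn (W₁ ⊔ W₂) W₁, ψ ≠ 1 →
      classInner (colSum χ ψ) b = if ψ₀ = ψ then 1 else 0 := by
    intro ψ hψ hψne
    rw [hbdef, classInner_add_right, classInner_smul_right, ← classInner_conj (χ ψ₀) (colSum χ ψ),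
      ← classInner_conj (χ φa) (colSum χ ψ)]
    rw [show χ ψ₀ = χ (1 * ψ₀) from congrArg χ (one_mul ψ₀).symm,
      show χ φa = χ (φa * 1) from congrArg χ (mul_one φa).symm,
      colSum_inner_single h.snc (fun ω ω' => eta_inner hχ ω ω') (one_mem _) hψ₀ hψ,
      colSum_inner_single h.snc (fun ω ω' => eta_inner hχ ω ω') hφa (one_mem _) hψ, if_neg hψne.symm]
    split_ifs <;> simp
  have hcol : ∀ ψ ∈ trivOn (W₁ ⊔ W₂) W₁, ψ ≠ 1 →
      iq (indFun M (colSum mu ψ - colSum mu ψ₀)) b = sgn ψ₀ * (if ψ = ψ₀ then 1 else 0) - sgn ψ₀ := by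
    intro ψ hψ hψne
    refine iq_eq _ ?_
    have e := C.ind_col_sub h hNB hχ hψ₀ hψ₀1 hψ hψne (by rw [hd ψ hψ hψne, hd ψ₀ hψ₀ hψ₀1])
    rw [← neg_sub (colSum mu ψ₀) (colSum mu ψ), indFun_neg, e, classInner_neg_left,
      classInner_smul_left, classInner_sub_left, hcolχ ψ₀ hψ₀ hψ₀1, hcolχ ψ hψ hψne, if_pos rfl]
    push_cast
    by_cases q : ψ = ψ₀
    · rw [if_pos q, if_pos q.symm]; ring
    · rw [if_neg q, if_neg (Ne.symm q)]; ring
  have hsplit : ∀ ψ, colSum mu ψ - (d : ℂ) • φ₀ =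
      (colSum mu ψ - colSum mu ψ₀) + (colSum mu ψ₀ - (d : ℂ) • φ₀) := fun ψ => by abel
  set A := iq (indFun M (colSum mu ψ₀ - (d : ℂ) • φ₀)) b with hA
  have hval : ∀ ψ ∈ trivOn (W₁ ⊔ W₂) W₁, ψ ≠ 1 →
      iq (indFun M (colSum mu ψ - (d : ℂ) • φ₀)) b =
        sgn ψ₀ * (if ψ = ψ₀ then 1 else 0) - sgn ψ₀ + A := fun ψ hψ hψne => by
    rw [hsplit, hadd (isGeneralizedCharacter_sub (hgc _) (hgc _))
      (isGeneralizedCharacter_sub (hgc _) hgd), hcol ψ hψ hψne]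
  by_cases hR : IsEmpty R
  · refine ⟨ψ₀, sgn ψ₀, A - sgn ψ₀, hψ₀, hψ₀1, hs, fun ψ hψ hψne => ?_, fun r => hR.elim r⟩
    rw [hval ψ hψ hψne]
    split_ifs <;> ring
  obtain ⟨r₀⟩ := not_isEmpty_iff.1 hR
  obtain ⟨ψ₁, s₁, X, hpick, hX, hXp, hF⟩ := C.ind_col_sub_irr h hNB hχ hψ₀ hψ₀1 (hζ.irr r₀)
    (hζ.supp r₀) (by rw [hd ψ₀ hψ₀ hψ₀1, hζ.deg])
  have hψ₁ : ψ₁ ∈ trivOn (W₁ ⊔ W₂) W₁ ∧ ψ₁ ≠ 1 := by
    rcases hpick with ⟨rfl, -⟩ | ⟨q, -, -⟩
    · exact ⟨hψ₀, hψ₀1⟩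
    · exact ⟨(mem_sameDeg.1 q).1, (mem_sameDeg.1 q).2.1⟩
  have hXb : classInner X b = 0 := by
    rw [hbdef, classInner_add_right, classInner_smul_right, hXp, hXp, mul_zero, add_zero]
  have hFb : iq (indFun M (colSum mu ψ₀ - ζ r₀)) b = if ψ₁ = ψ₀ then s₁ else 0 := by
    refine iq_eq _ ?_
    rw [hF, classInner_sub_left, classInner_smul_left, hcolχ ψ₁ hψ₁.1 hψ₁.2, hXb, sub_zero]
    by_cases q : ψ₁ = ψ₀
    · rw [if_pos q, if_pos q.symm, mul_one]
    · rw [if_neg q, if_neg (Ne.symm q), mul_zero, Int.cast_zero]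
  set c := iq (indFun M (ζ r₀ - (d : ℂ) • φ₀)) b with hc
  have hAc : A = iq (indFun M (colSum mu ψ₀ - ζ r₀)) b + c := by
    rw [hA, show colSum mu ψ₀ - (d : ℂ) • φ₀ = (colSum mu ψ₀ - ζ r₀) + (ζ r₀ - (d : ℂ) • φ₀) by abel,
      hadd (isGeneralizedCharacter_sub (hgc _) (hgz _)) (isGeneralizedCharacter_sub (hgz _) hgd)]
  have hr : ∀ r, iq (indFun M (ζ r - (d : ℂ) • φ₀)) b = c := fun r => by
    rw [show ζ r - (d : ℂ) • φ₀ = (ζ r - ζ r₀) + (ζ r₀ - (d : ℂ) • φ₀) by abel,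
      hadd (isGeneralizedCharacter_sub (hgz _) (hgz _)) (isGeneralizedCharacter_sub (hgz _) hgd),
      hperp, zero_add]
  rw [hFb] at hAc
  rcases hpick with ⟨rfl, rfl⟩ | ⟨hmem, huniq, rfl⟩
  · refine ⟨ψ₁, sgn ψ₁, c, hψ₀, hψ₀1, hs, fun ψ hψ hψne => ?_, hr⟩
    rw [hval ψ hψ hψne, hAc, if_pos rfl]
    split_ifs <;> ring
  · have hne : ψ₁ ≠ ψ₀ := (mem_sameDeg.1 hmem).2.2.1
    refine ⟨ψ₁, -sgn ψ₀, c, hψ₁.1, hψ₁.2, by rw [neg_sq, hs], fun ψ hψ hψne => ?_, hr⟩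
    rw [hval ψ hψ hψne, hAc, if_neg hne, zero_add]
    by_cases q : ψ = ψ₀
    · subst q
      rw [if_pos rfl, if_neg hne.symm]
      ring
    · have : ψ = ψ₁ := huniq ψ ((sameDeg_eq h hNB C hχ hd hψ₀ hψ₀1).2 ⟨hψ, hψne, q⟩)
      subst this
      rw [if_neg q, if_pos rfl]
      ring

omit C hd in
/-- A difference of two irreducibles supported on `M_σ#` pairs to zero with the family. -/
theorem iq_pair_zero {α β : ↥M → ℂ} (hα : IsIrrCharacter ↥M α) (hβ : IsIrrCharacter ↥M β)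
    (h1 : α 1 = β 1) (h0 : ∀ x : ↥M, (x : G) ∉ Cfsg.sigmaCore M → α x - β x = 0)
    (ω ω' : ↥(W₁ ⊔ W₂) →* ℂˣ) (t : ℤ) : iq (indFun M (α - β)) (χ ω + (t : ℂ) • χ ω') = 0 := by
  classical
  haveI := Fintype.ofFinite ↥M
  have hg : Gen (α - β) := isGeneralizedCharacter_sub
    (isGeneralizedCharacter_of_isCharacter (isCharacter_of_isIrr hα))
    (isGeneralizedCharacter_of_isCharacter (isCharacter_of_isIrr hβ))
  have hcl := isClassFunction_of_isGeneralized hg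
  have hS : SuppOn M W₁ W₂ (α - β) := suppOn_of_sigma (by rw [Pi.sub_apply, h1, sub_self]) h0
  have hgi := isGeneralizedCharacter_indFun M hg
  have hV : ∀ w : ↥(W₁ ⊔ W₂), (w : G) ∉ W₁ → (w : G) ∉ W₂ → indFun M (α - β) w = 0 := fun w q1 q2 => by
    rw [h.ind_zhat hNB hcl hS w q1 q2]
    exact h0 _ fun hσ => q2 (h.sigma_sup w.2 hσ)
  have h2 : iq (indFun M (α - β)) (indFun M (α - β)) ≤ 2 := by
    by_cases e : α = β
    · refine le_trans (le_of_eq (iq_eq 0 ?_)) (by norm_num)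
      rw [e, sub_self, indFun_zero, classInner_zero_left, Int.cast_zero]
    · refine le_of_eq (iq_eq 2 ?_)
      rw [h.ind_isometry hNB hS hcl hS, classInner_sub_left, classInner_sub_right, classInner_sub_right,
        classInner_irr_self ⟨α, hα⟩, classInner_irr_self ⟨β, hβ⟩,
        classInner_irr_ne (χ := ⟨α, hα⟩) (ψ := ⟨β, hβ⟩) (fun q => e (congrArg Subtype.val q)),
        classInner_irr_ne (χ := ⟨β, hβ⟩) (ψ := ⟨α, hα⟩) (fun q => e (congrArg Subtype.val q).symm)]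
      norm_num
  refine iq_eq 0 ?_
  rw [classInner_add_right, classInner_smul_right, perp_of_norm_two h.snc h.odd_sup hχ hgi h2 hV,
    perp_of_norm_two h.snc h.odd_sup hχ hgi h2 hV, mul_zero, add_zero, Int.cast_zero]

include hM

/-- The S side. -/
theorem slack_side (he : eIndex M = Nat.card W₁) {ψ₀ : ↥(W₁ ⊔ W₂) →* ℂˣ} (hψ₀ : ψ₀ ∈ trivOn _ W₁)
    (hψ₀1 : ψ₀ ≠ 1) {φa : ↥(W₁ ⊔ W₂) →* ℂˣ} (hφa : φa ∈ trivOn _ W₂) (t : ℤ) {R : Type u} [Fintype R]
    (ζ : R → ↥M → ℂ) (hζ : SideFamily M W₁ d ζ) :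
    1 - 1 / ((Nat.card W₂ : ℝ) - 1 + (Nat.card W₁ : ℝ) * Fintype.card R) - 1 / (4 * (kZero M : ℝ)) ≤
        (Nat.card W₁ : ℝ) * mass (conjSet (sharp M)) (slack (χ ψ₀ + (t : ℂ) • χ φa)) ∧
      (d ≤ kZero M →
        1 - (1 + 1 / (2 * (d : ℝ))) ^ 2 / ((Nat.card W₂ : ℝ) - 1 + (Nat.card W₁ : ℝ) * Fintype.card R) ≤
          (Nat.card W₁ : ℝ) * mass (conjSet (sharp M)) (slack (χ ψ₀ + (t : ℂ) • χ φa))) := by
  classical
  have hG := h.minSimple
  haveI := Fintype.ofFinite ↥M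
  haveI := member_finite hG hM
  haveI := Fintype.ofFinite (Member M)
  haveI := finite_dual (K := ↥(W₁ ⊔ W₂))
  set b := χ ψ₀ + (t : ℂ) • χ φa with hbdef
  have hb : Gen b := isGeneralizedCharacter_add (sg_eta hχ _).gen (Gen.zsmul (sg_eta hχ _).gen t)
  have hd2 : 2 ≤ d := two_le_deg h C hψ₀ hψ₀1 (hd ψ₀ hψ₀ hψ₀1)
  have he0 : 0 < Nat.card W₁ := Nat.card_pos
  have hk : Fintype.card (Member M) * Nat.card W₁ + 1 = kZero M := by
    rw [← he, ← Nat.card_eq_fintype_card]; exact member_card hG hM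
  obtain ⟨φ0⟩ : Nonempty (Member M) := by
    rw [← Fintype.card_pos_iff]
    by_contra hz
    obtain ⟨v, hv, hv'⟩ := sigmaDer_lt hG h.coatom
    have hz' : Fintype.card (Member M) = 0 := by omega
    rw [hz', zero_mul, zero_add] at hk
    exact hv' ((relIndex_eq_one.1 hk.symm) hv)
  have hg0 := member_gen hG φ0
  obtain ⟨ψ₁, δ, c, hψ₁, hψ₁1, hδ, hcolv, hζv⟩ := exists_pattern h hNB C hχ hd hψ₀ hψ₀1 hφa t ζ hζ
    φ0.1 hg0 fun r r' => iq_pair_zero h hNB hχ (hζ.irr r) (hζ.irr r') (by rw [hζ.deg, hζ.deg])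
      (fun x hx => by rw [hζ.supp r x hx, hζ.supp r' x hx, sub_self]) _ _ _
  let J₀ := {ψ : ↥(W₁ ⊔ W₂) →* ℂˣ // ψ ∈ (dualFin (W₁ ⊔ W₂) W₁).erase 1}
  have hJ₀ : ∀ j : J₀, j.1 ∈ trivOn (W₁ ⊔ W₂) W₁ ∧ j.1 ≠ 1 := fun j =>
    ⟨mem_dualFin.1 (Finset.mem_of_mem_erase j.2), Finset.ne_of_mem_erase j.2⟩
  have hcardJ : Fintype.card J₀ = Nat.card W₂ - 1 := by
    have e2 : (dualFin (W₁ ⊔ W₂) W₁).card = Nat.card W₂ := by
      rw [← card_trivOn_fst (snc_disj h.snc) (snc_comm h.snc) (snc_mul_comm_snd h.snc),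
        ← Nat.card_eq_finsetCard]
      exact Nat.card_congr (Equiv.subtypeEquivRight fun _ => mem_dualFin)
    rw [Fintype.card_coe, Finset.card_erase_of_mem (mem_dualFin.2 (one_mem _)), e2]
  let ψF : J₀ ⊕ R → ↥M → ℂ := Sum.elim (fun j => colSum mu j.1) ζ
  let wF : J₀ ⊕ R → ℕ := Sum.elim (fun _ => Nat.card W₁) (fun _ => 1)
  let j₁ : J₀ := ⟨ψ₁, Finset.mem_erase.2 ⟨hψ₁1, mem_dualFin.2 hψ₁⟩⟩
  let X : Finset ↥M := Finset.univ.filter fun x : ↥M => (x : G) ∈ sharp M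
  have hmem : ∀ x : ↥M, x ∉ X → x ≠ 1 → (x : G) ∉ Cfsg.sigmaCore M := fun x hx hx1 hσ =>
    hx (Finset.mem_filter.2 ⟨Finset.mem_univ _, hσ, fun e => hx1 (Subtype.ext e)⟩)
  have hcs : ∀ j : J₀, ∀ x : ↥M, (x : G) ∉ Cfsg.sigmaCore M → colSum mu j.1 x = 0 :=
    fun j x hx => C.col_supp h hNB (hJ₀ j).1 (hJ₀ j).2 hx
  have hφirr := fun i : Member M => member_irr hG hM i
  have hφsupp : ∀ i : Member M, ∀ x : ↥M, (x : G) ∉ Cfsg.sigmaCore M → i.1 x = 0 :=
    fun i x hx => member_vanish hG i hx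
  have hone : ∀ j : J₀, classInner (colSum mu j.1) (fun _ => 1) = 0 := fun j => by
    rw [← (C.mu_one h).1, ← classInner_conj (mu 1) (colSum mu j.1),
      show mu (1 : ↥(W₁ ⊔ W₂) →* ℂˣ) = mu (1 * 1) from congrArg mu (one_mul (1 : ↥(W₁ ⊔ W₂) →* ℂˣ)).symm,
      colSum_inner_single h.snc (fun ω ω' => C.mu_inner h ω ω') (one_mem _) (one_mem _) (hJ₀ j).1,
      if_neg (hJ₀ j).2.symm, map_zero]
  have hpair : ∀ {α : ↥M → ℂ}, Gen α → classInner (fun x : ↥M => b x) α = (iq (indFun M α) b : ℂ) :=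
    fun hα => classInner_restrict hα hb
  have hgd : Gen ((d : ℂ) • φ0.1) := by simpa using Gen.zsmul hg0 (d : ℤ)
  have hgν : Gen (indSigma M fun _ => 1) := indSigma_gen hG (isGeneralizedCharacter_of_isCharacter
    (isCharacter_of_isIrr isIrrCharacter_one))
  have hdat : SlackData X (fun x : ↥M => b x) ψF wF (fun i : Member M => i.1) (indSigma M fun _ => 1)
      (Nat.card W₁) d (Sum.inl j₁) φ0 (δ : ℝ) c (iq (indFun M ((indSigma M fun _ => 1) - φ0.1)) b) := by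
    refine
      { one_notMem := fun q => (Finset.mem_filter.1 q).2.2 rfl
        card_le := ?_
        e_pos := he0
        w_pos := fun j => by rcases j with j | r; exacts [he0, one_pos]
        w_zero := rfl
        sign := by exact_mod_cast hδ
        suppψ := fun j x hx hx1 => ?_
        suppφ := fun i x hx hx1 => hφsupp i x (hmem x hx hx1)
        suppν := fun x hx hx1 => indSigma_not_mem hG _ (hmem x hx hx1)
        valν := fun x hx => ?_
        degψ := fun j => ?_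
        degφ := fun i => by rw [member_one, he]
        degν := ?_
        normψ := fun j l => ?_
        normφ := fun i l => ?_
        normν := by rw [indOne_norm hG, he]
        orthψφ := fun j i => ?_
        orthψν := fun j => ?_
        orthφν := fun i => by rw [← classInner_conj, indOne_inner_member hG, map_zero]
        pairψ := fun j => ?_
        pairφ := fun i => ?_
        pairν := hpair (isGeneralizedCharacter_sub hgν hg0) }
    · have h1 : X.card ≤ Nat.card (sigmaIn M) := by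
        rw [← Nat.card_eq_finsetCard]
        exact Nat.card_le_card_of_injective
          (fun x : {x // x ∈ X} => (⟨x.1, (Finset.mem_filter.1 x.2).2.1⟩ : sigmaIn M))
          fun x y e => Subtype.ext (congrArg Subtype.val e :)
      calc X.card * Nat.card W₁ ≤ Nat.card (sigmaIn M) * Nat.card W₁ := Nat.mul_le_mul_right _ h1
        _ = Nat.card ↥M := by rw [← he, eIndex_eq, card_mul_index]
    · rcases j with j | r
      exacts [hcs j x (hmem x hx hx1), hζ.supp r x (hmem x hx hx1)]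
    · have hxσ : (x : G) ∈ Cfsg.sigmaCore M := (Finset.mem_filter.1 hx).2.1
      rw [indOne_eq hG, if_pos hxσ, he]
    · rcases j with j | r
      · show colSum mu j.1 1 = _
        rw [C.col_one h, hd _ (hJ₀ j).1 (hJ₀ j).2, Nat.cast_mul]
      · show ζ r 1 = _
        rw [hζ.deg, Nat.cast_mul]
    · rw [indOne_eq hG, if_pos (show ((1 : ↥M) : G) ∈ Cfsg.sigmaCore M by
        rw [OneMemClass.coe_one]; exact one_mem _), he]
    · rcases j with j | r <;> rcases l with l | r'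
      · show classInner (colSum mu j.1) (colSum mu l.1) = _
        rw [C.col_inner h (hJ₀ j).1 (hJ₀ l).1]
        by_cases q : j = l
        · subst q; rw [if_pos rfl, if_pos rfl]; rfl
        · rw [if_neg fun e => q (Subtype.ext e), if_neg fun e => q (Sum.inl.inj e)]
      · show classInner (colSum mu j.1) (ζ r') = _
        rw [C.col_inner_irr h (hζ.irr r') (hζ.supp r'), if_neg (by simp)]
      · show classInner (ζ r) (colSum mu l.1) = _
        rw [← classInner_conj, C.col_inner_irr h (hζ.irr r) (hζ.supp r), map_zero, if_neg (by simp)]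
      · show classInner (ζ r) (ζ r') = _
        rw [classInner_irr ⟨_, hζ.irr r⟩ ⟨_, hζ.irr r'⟩]
        simp only [Subtype.mk.injEq, hζ.inj.eq_iff, Sum.inr.injEq, wF, Sum.elim_inr, Nat.cast_one]
    · split_ifs with q
      · subst q; exact member_self hG hM i
      · exact member_orth hG hM q
    · rcases j with j | r
      · exact C.col_inner_irr h (hφirr i) (hφsupp i) _
      · refine classInner_irr_ne (χ := ⟨_, hζ.irr r⟩) (ψ := ⟨_, hφirr i⟩) fun q => ?_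
        have e := congrFun (congrArg Subtype.val q :) 1
        change ζ r 1 = i.1 1 at e
        rw [hζ.deg, member_one, he] at e
        have : (Nat.card W₁ * d : ℕ) = Nat.card W₁ := by exact_mod_cast e
        nlinarith
    · rcases j with j | r
      · show classInner (colSum mu j.1) _ = 0
        rw [classInner_indOne hG (hcs j), hone, mul_zero]
      · show classInner (ζ r) _ = 0
        rw [classInner_indOne hG (hζ.supp r), ← (C.mu_one h).1, ← classInner_conj (mu 1) (ζ r),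
          C.mu_inner_irr h (hζ.irr r) (hζ.supp r), map_zero, mul_zero]
    · rcases j with j | r
      · show classInner _ (colSum mu j.1 - _) = _
        rw [hpair (isGeneralizedCharacter_sub (C.col_gen h _) hgd), hcolv _ (hJ₀ j).1 (hJ₀ j).2]
        by_cases q : j.1 = ψ₁
        · rw [if_pos q, if_pos (congrArg Sum.inl (Subtype.ext q))]
          push_cast
          ring
        · rw [if_neg q, if_neg fun e => q (congrArg Subtype.val (Sum.inl.inj e))]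
          push_cast
          ring
      · show classInner _ (ζ r - _) = _
        rw [hpair (isGeneralizedCharacter_sub (isGeneralizedCharacter_of_isCharacter
          (isCharacter_of_isIrr (hζ.irr r))) hgd), hζv, if_neg (by simp)]
        push_cast
        ring
    · rw [hpair (isGeneralizedCharacter_sub (member_gen hG i) hg0),
        iq_pair_zero h hNB hχ (hφirr i) (hφirr φ0) (by rw [member_one, member_one])
          (fun x hx => by rw [hφsupp i x hx, hφsupp φ0 x hx, sub_self]), Int.cast_zero]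
  have hmass : mass (conjSet (sharp M)) (slack b) = mass (X : Set ↥M) (slack fun x : ↥M => b x) := by
    rw [mass_conjSet (L := M) (fun a ha => map_subtype_le _ ha.1)
      (fun l hl a ha => sharp_conj hG h.coatom hl ha)
      (fun g a ha hga => mem_of_conj_mem hG hNB h.coatom ha.1 ha.2 (map_subtype_le _ hga.1))
      (slack_conj (isClassFunction_of_isGeneralized hb))]
    congr 1
    ext x
    simp [X]
  have hW : (∑ j : J₀ ⊕ R, (Nat.card W₁ : ℝ) / wF j) =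
      (Nat.card W₂ : ℝ) - 1 + (Nat.card W₁ : ℝ) * Fintype.card R := by
    rw [Fintype.sum_sum_type]
    simp only [wF, Sum.elim_inl, Sum.elim_inr, Finset.sum_const, Finset.card_univ, nsmul_eq_mul,
      div_self (show (Nat.card W₁ : ℝ) ≠ 0 from Nat.cast_ne_zero.2 he0.ne'), Nat.cast_one, div_one, mul_one, hcardJ,
      Nat.cast_sub (Nat.one_le_iff_ne_zero.2 Nat.card_pos.ne')]
    ring
  have h1 := slack_family_bound hdat
  have h2 := slack_family_bound_degree hdat hd2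
  rw [hW, hk, ← hmass] at h1 h2
  exact ⟨h1, h2⟩

end CfsgLib.FT
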