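import Cfsg.Agent.Lib.FT.TypeVGroup
import Cfsg.Agent.Lib.FT.SlackSide
import Cfsg.Agent.Lib.FT.ZPart
import Cfsg.Agent.Lib.CFun.OddFifteenTwo
import Cfsg.Agent.Lib.Char.InducedSet
import Cfsg.Agent.Lib.Char.Degree
import Cfsg.Agent.Lib.CFun.OddTypeClassify

/-!
# A maximal subgroup with `U = 1`: the inputs of the S side (`docs/FT.md` §3)

`fpfAb_of_bot`: `W₁` is fixed point free on `S_σ / S_σ'`.  `deg_le_kZero`: if `S_σ` is not nilpotent the
degree of the `μ_ij` (`j ≠ 0`) is at most `k₀`; if it is nilpotent `p ≤ k₀`.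
-/

set_option autoImplicit false
set_option linter.unusedSectionVars false
set_option linter.style.haveILetI false

open Subgroup
open scoped commutatorElement

namespace CfsgLib.FT

open scoped ComplexConjugate
open Cfsg CfsgLib.Char CfsgLib.Char.Signed CfsgLib.FT.Rect
open CfsgLib.CFun CfsgLib.CFun.FifteenTwo

universe u

variable {G : Type u} [Group G] [Fintype G] {S W₁ W₂ : Subgroup G}
variable (h : Kappa S W₁ ⊥ W₂)
include h

/-- `W₁` is fixed point free on `S_σ / S_σ'`. -/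
theorem fpfAb_of_bot : FpfAb S := by
  refine ⟨h.coatom, fun a ha haσ v hv hav => ?_⟩
  obtain ⟨-, -, -, hprod⟩ := TypeClass.derived_compl h.minSimple h.coatom h.decomp h.neW₁
  obtain ⟨s, hs, k, hk, rfl⟩ := hprod a ha
  rw [TypeV.Parts.derived_eq h] at hs
  have hk1 : k ≠ 1 := fun e1 => haσ (by rwa [e1, mul_one])
  have hSσ := TauTwo.sigmaCore_normal h.minSimple S
  have hSD : S ≤ normalizer (sigmaDer S : Set G) := le_normalizer_commutator hSσ hSσ
  have hkS : k ∈ S := h.le₁ hk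
  -- `k` fixes `v` modulo `S_σ'`
  have h1 : s⁻¹ * ((s * k) * v * (s * k)⁻¹ * v⁻¹) * s ∈ sigmaDer S := by
    have := (mem_normalizer_iff.1 (hSD (inv_mem (map_subtype_le _ hs : s ∈ S))) _).1 hav
    rwa [inv_inv] at this
  have hk' : k * v * k⁻¹ * v⁻¹ ∈ sigmaDer S := by
    have h2 : ⁅s⁻¹, v⁆ ∈ sigmaDer S := commutator_mem_commutator (inv_mem hs) hv
    have := mul_mem h1 h2
    rwa [show s⁻¹ * ((s * k) * v * (s * k)⁻¹ * v⁻¹) * s * ⁅s⁻¹, v⁆ = k * v * k⁻¹ * v⁻¹ by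
      simp only [commutatorElement_def]; group] at this
  -- so does a power of prime order
  have hpow : ∀ i : ℕ, k ^ i * v * (k ^ i)⁻¹ * v⁻¹ ∈ sigmaDer S := by
    intro i
    induction i with
    | zero => simp
    | succ i ih =>
      have := mul_mem ((mem_normalizer_iff.1 (hSD hkS) _).1 ih) hk'
      rwa [show k * (k ^ i * v * (k ^ i)⁻¹ * v⁻¹) * k⁻¹ * (k * v * k⁻¹ * v⁻¹) =
        k ^ (i + 1) * v * (k ^ (i + 1))⁻¹ * v⁻¹ by rw [pow_succ']; group] at this
  obtain ⟨r, hr, t, ht⟩ := Nat.exists_prime_and_dvd fun e1 => hk1 (orderOf_eq_one_iff.1 e1)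
  have hord : orderOf (k ^ t) = r := by
    rw [orderOf_pow' k (fun e1 => by rw [e1, mul_zero] at ht; exact (orderOf_pos k).ne' ht), ht,
      Nat.gcd_mul_left_left, Nat.mul_div_cancel _ (Nat.pos_of_ne_zero fun e1 => by
        rw [e1, mul_zero] at ht; exact (orderOf_pos k).ne' ht)]
  have hkt1 : k ^ t ≠ 1 := fun e1 => by rw [e1, orderOf_one] at hord; exact hr.one_lt.ne hord
  refine mem_of_fixed_mod (k := k ^ t) hr (by rw [← hord]; exact pow_orderOf_eq_one _)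
    (hSD (pow_mem hkS t)) ((map_subtype_le _).trans hSD) (commutator_le_self _) ?_ (fun u hu e1 => ?_) hv
    (hpow t)
  · refine (TypeV.Parts.coprime₁ h).coprime_dvd_left ?_ |>.coprime_dvd_right (card_dvd_of_le (commutator_le_self _))
    exact hord ▸ Subgroup.orderOf_dvd_natCard _ (pow_mem hk t)
  · refine TypeV.Parts.le_der h ?_
    rw [← TypeV.Parts.fixed₁ h (pow_mem hk t) hkt1]
    exact mem_inf.2 ⟨hu, mem_centralizer_singleton_iff.2 e1.symm⟩

/-- `|W₂| ≤ k₀` if `S_σ` is nilpotent. -/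
theorem le_kZero_of_nilpotent (hnil : Group.IsNilpotent (Cfsg.sigmaCore S)) :
    Nat.card W₂ ≤ kZero S := by
  haveI : Fact (Nat.card W₂).Prime := ⟨TypeV.Parts.prime₂ h⟩
  obtain ⟨P, C, Pt⟩ := TypeV.exists_parts h.minSimple hnil (Nat.card W₂)
  obtain ⟨m, hm⟩ := Pt.pGroup.index (⁅P, P⁆.subgroupOf P)
  have hm' : ⁅P, P⁆.relIndex P = Nat.card W₂ ^ m := hm
  have hm0 : m ≠ 0 := by
    rintro rfl
    rw [pow_zero, relIndex_eq_one] at hm'
    haveI : Group.IsNilpotent P := Pt.pGroup.isNilpotent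
    haveI : Nontrivial P := by
      rw [nontrivial_iff_ne_bot]
      intro e
      have h1 := (TypeV.Parts.W₂_le Pt h rfl).trans (commutator_le_self P)
      rw [e, le_bot_iff] at h1
      exact h.snc.2.1 h1
    refine (Group.IsSolvable.commutator_lt_top_of_nontrivial P).ne (map_injective P.subtype_injective ?_)
    rw [map_subtype_commutator, ← MonoidHom.range_eq_map, range_subtype]
    exact le_antisymm (commutator_le_self P) hm'
  rw [TypeV.Parts.kZero_eq Pt]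
  refine le_trans ?_ (Nat.le_mul_of_pos_right _ (Nat.pos_of_ne_zero Subgroup.index_ne_zero_of_finite))
  rw [hm']
  exact Nat.le_self_pow hm0 _

variable {mu : (↥(W₁ ⊔ W₂) →* ℂˣ) → (↥S → ℂ)} {sgn : (↥(W₁ ⊔ W₂) →* ℂˣ) → ℤ}
variable (C : IsCols S W₁ W₂ mu sgn)
include C

omit h in
theorem sq_value (ω : ↥(W₁ ⊔ W₂) →* ℂˣ) (w : ↥(W₁ ⊔ W₂)) (m : ↥S) (hm : (m : G) = w)
    (hw : (w : G) ∉ W₂) : mu ω m * conj (mu ω m) = 1 := by
  rw [C.value ω w m hm hw, map_mul, map_intCast]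
  have h1 : ((sgn ω : ℤ) : ℂ) * (sgn ω : ℂ) = 1 := by
    rcases C.sgn_cases ω with q | q <;> simp [q]
  calc (sgn ω : ℂ) * (ω w : ℂ) * ((sgn ω : ℂ) * conj (ω w : ℂ))
      = ((sgn ω : ℂ) * (sgn ω : ℂ)) * ((ω w : ℂ) * conj (ω w : ℂ)) := by ring
    _ = 1 := by
      rw [h1, one_mul, Complex.mul_conj', Rect.norm_val]
      simp

/-- A normal subgroup meeting `W₁ W₂` trivially is in the kernel of every `μ_ij`. -/
theorem mu_trivial_on (N : Subgroup ↥S) [N.Normal]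
    (hN : ∀ x ∈ N, (x : G) ∈ W₁ ⊔ W₂ → x = 1) (ω : ↥(W₁ ⊔ W₂) →* ℂˣ) {x : ↥S} (hx : x ∈ N) :
    mu ω x = mu ω 1 := by
  classical
  haveI := Fintype.ofFinite ↥S
  haveI := finite_dual (K := ↥(W₁ ⊔ W₂))
  let _ := Fintype.ofFinite (↥(W₁ ⊔ W₂) →* ℂˣ)
  let _ := Fintype.ofFinite ↥(W₁ ⊔ W₂)
  let _ := Fintype.ofFinite (IrrCharacter (↥S ⧸ N))
  obtain ⟨a, ha, ha1, -⟩ := IsCols.exists_ne_one₁ h
  have ha2 := IsCols.outside_mul h ha ha1 (b := 1) (one_mem W₂)
  rw [mul_one] at ha2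
  set z : ↥S := ⟨a, h.le_sup a.2⟩ with hz
  let π := QuotientGroup.mk' N
  let infl : IrrCharacter (↥S ⧸ N) → IrrCharacter ↥S := fun X =>
    ⟨fun g => (X : ↥S ⧸ N → ℂ) (π g),
      isIrrCharacter_comp_surjective X.2 π (QuotientGroup.mk'_surjective N)⟩
  have hinj : Function.Injective infl := fun X Y e => Subtype.ext (funext fun q => by
    obtain ⟨g, rfl⟩ := QuotientGroup.mk'_surjective N q
    exact congrFun (congrArg Subtype.val e :) g)
  set R := Finset.univ.filter fun X : IrrCharacter (↥S ⧸ N) => ∃ ω', (infl X : ↥S → ℂ) = mu ω' with hR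
  have hsum := sum_irr_mul_conj (π z) (π z)
  rw [if_pos (IsConj.refl _), ← Finset.sum_filter_add_sum_filter_not Finset.univ
    (fun X : IrrCharacter (↥S ⧸ N) => ∃ ω', (infl X : ↥S → ℂ) = mu ω')] at hsum
  rw [Finset.sum_congr rfl (g := fun _ => (1 : ℂ)) fun X hX => by
      obtain ⟨ω', e⟩ := (Finset.mem_filter.1 hX).2
      show (infl X : ↥S → ℂ) z * conj ((infl X : ↥S → ℂ) z) = 1
      rw [e]
      exact sq_value C ω' a z rfl ha2,
    Finset.sum_eq_zero (s := Finset.univ.filter fun X : IrrCharacter (↥S ⧸ N) => ¬ _) fun X hX => by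
      show (infl X : ↥S → ℂ) z * conj ((infl X : ↥S → ℂ) z) = 0
      rw [C.other _ (infl X).2 (fun ω' e => (Finset.mem_filter.1 hX).2 ⟨ω', e⟩) z a.2 ha2, zero_mul],
    Finset.sum_const, nsmul_one, add_zero, Nat.cast_inj] at hsum
  -- the image of `W` centralizes `π z`
  have hW : Nat.card ↥(W₁ ⊔ W₂) ≤ Nat.card (centralizer ({π z} : Set (↥S ⧸ N))) := by
    refine Nat.card_le_card_of_injective (fun w => ⟨π ⟨w, h.le_sup w.2⟩,
      mem_centralizer_singleton_iff.2 ?_⟩) fun w w' e => ?_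
    · rw [← map_mul, ← map_mul]
      exact congrArg π (Subtype.ext (congrArg Subtype.val (snc_mul_comm h.snc w a) :))
    · have e' : π ⟨w, h.le_sup w.2⟩ = π ⟨w', h.le_sup w'.2⟩ := congrArg Subtype.val e
      rw [QuotientGroup.mk'_apply, QuotientGroup.mk'_apply, QuotientGroup.eq] at e'
      have h1 := congrArg Subtype.val (hN _ e' (mul_mem (inv_mem w.2) w'.2))
      exact Subtype.ext (inv_mul_eq_one.1 h1)
  have hcard : Fintype.card (↥(W₁ ⊔ W₂) →* ℂˣ) ≤ R.card := by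
    rw [hR, hsum, ← Nat.card_eq_fintype_card]
    refine le_trans (le_of_eq ?_) hW
    letI : CommGroup ↥(W₁ ⊔ W₂) :=
      { (inferInstance : Group ↥(W₁ ⊔ W₂)) with mul_comm := snc_mul_comm h.snc }
    exact CommGroup.card_monoidHom_of_hasEnoughRootsOfUnity _ ℂ
  have hsurj : ∀ ω', ∃ X ∈ R, (infl X : ↥S → ℂ) = mu ω' := by
    let f : {X // X ∈ R} → (↥(W₁ ⊔ W₂) →* ℂˣ) := fun X => ((Finset.mem_filter.1 X.2).2).choose
    have hf : ∀ X, (infl X.1 : ↥S → ℂ) = mu (f X) := fun X => ((Finset.mem_filter.1 X.2).2).choose_spec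
    have hfi : Function.Injective f := fun X Y e => Subtype.ext (hinj (Subtype.ext (by
      rw [hf, hf, e])))
    have hfs := (Fintype.bijective_iff_injective_and_card f).2 ⟨hfi, le_antisymm
      (Fintype.card_le_of_injective f hfi) (by rwa [Fintype.card_coe])⟩
    intro ω'
    obtain ⟨X, rfl⟩ := hfs.2 ω'
    exact ⟨X.1, X.2, hf X⟩
  obtain ⟨X, -, hX⟩ := hsurj ω
  rw [← hX]
  show (X : ↥S ⧸ N → ℂ) (π x) = (X : ↥S ⧸ N → ℂ) (π 1)
  rw [map_one, show π x = 1 from (QuotientGroup.eq_one_iff x).2 hx]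

variable (hNB : NoBad G)
include hNB

/-- A subgroup of `S_σ` abelian modulo the kernel bounds the degree. -/
theorem deg_le_relIndex {ψ : ↥(W₁ ⊔ W₂) →* ℂˣ} (hψ : ψ ∈ trivOn _ W₁) (hψ1 : ψ ≠ 1) {d : ℕ}
    (hd : mu ψ 1 = (d : ℂ)) (A : Subgroup G) (hA : A ≤ Cfsg.sigmaCore S)
    (hAc : ∀ a b : ↥S, (a : G) ∈ A → (b : G) ∈ A → mu ψ (a * b * a⁻¹ * b⁻¹) = mu ψ 1) :
    d ≤ A.relIndex (Cfsg.sigmaCore S) := by
  classical
  haveI := Fintype.ofFinite ↥S
  set A' := A.subgroupOf S with hA'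
  haveI := Fintype.ofFinite ↥A'
  have hψirr : IsIrrCharacter ↥S (mu ψ) := C.irr ψ
  -- the norm on `S_σ`
  have hcol : ∀ x : ↥S, colSum mu ψ x =
      if (x : G) ∈ Cfsg.sigmaCore S then (Nat.card W₁ : ℂ) * mu ψ x else 0 := by
    intro x
    split_ifs with hx
    · rw [colSum, Finset.sum_apply, Finset.sum_congr rfl fun φ hφ =>
        C.res_congr h (mem_dualFin.1 hφ) ψ (h.sigma_le hx), Finset.sum_const, card_dualFin h.snc,
        nsmul_eq_mul]
    · exact C.col_supp h hNB hψ hψ1 hx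
  have hn := C.col_inner h hψ hψ
  rw [if_pos rfl, classInner_self] at hn
  have hn' : (Nat.card ↥S : ℝ)⁻¹ * ∑ x : ↥S, ‖colSum mu ψ x‖ ^ 2 = Nat.card W₁ := by exact_mod_cast hn
  have hσsum : (∑ x : ↥S, if (x : G) ∈ Cfsg.sigmaCore S then ‖mu ψ x‖ ^ 2 else 0) =
      (Nat.card (Cfsg.sigmaCore S) : ℝ) := by
    have e1 : ∑ x : ↥S, ‖colSum mu ψ x‖ ^ 2 = (Nat.card W₁ : ℝ) ^ 2 *
        ∑ x : ↥S, if (x : G) ∈ Cfsg.sigmaCore S then ‖mu ψ x‖ ^ 2 else 0 := by
      rw [Finset.mul_sum]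
      refine Finset.sum_congr rfl fun x _ => ?_
      rw [hcol]
      split_ifs
      · rw [norm_mul, mul_pow, Complex.norm_natCast]
      · simp
    have hcard : (Nat.card ↥S : ℝ) = (Nat.card (Cfsg.sigmaCore S) : ℝ) * Nat.card W₁ := by
      have := CfsgLib.Coprime.card_mul_relIndex (map_subtype_le _ : Cfsg.sigmaCore S ≤ S)
      rw [← eIndex_of_bot h rfl, eIndex]
      exact_mod_cast this.symm
    have hs0 : (Nat.card (Cfsg.sigmaCore S) : ℝ) ≠ 0 := Nat.cast_ne_zero.2 Nat.card_pos.ne'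
    have he0 : (Nat.card W₁ : ℝ) ≠ 0 := Nat.cast_ne_zero.2 Nat.card_pos.ne'
    rw [e1, hcard] at hn'
    field_simp at hn'
    linarith
  -- the restriction to `A`
  have hcard : Nat.card ↥A' = Nat.card A :=
    Nat.card_congr (subgroupOfEquivOfLe (hA.trans (map_subtype_le _))).toEquiv
  have hA'sum : (d : ℝ) * Nat.card A ≤ ∑ a : ↥A', ‖mu ψ a‖ ^ 2 := by
    have hres : IsCharacter ↥A' (fun a : ↥A' => mu ψ a) :=
      isCharacter_comp (isCharacter_of_isIrr hψirr) A'.subtype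
    let _ := Fintype.ofFinite (IrrCharacter ↥A')
    choose n hn₀ using fun X : IrrCharacter ↥A' => classInner_char_irr_nat hres X
    have hn : (fun a : ↥A' => mu ψ a) = ∑ X, ((n X : ℕ) : ℂ) • (X : ↥A' → ℂ) :=
      (classFun_expand (isClassFunction_of_isCharacter hres)).trans
        (Finset.sum_congr rfl fun X _ => by rw [hn₀])
    have hlin : ∀ X : IrrCharacter ↥A', n X ≠ 0 → (X : ↥A' → ℂ) 1 = 1 := by
      intro X hX
      obtain ⟨b, hb0, hb⟩ := isIrrCharacter_degree X.2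
      have hin : classInner (fun a : ↥A' => mu ψ a) (X : ↥A' → ℂ) ≠ 0 := by
        rw [hn, classInner_sum_left, Finset.sum_eq_single X (fun Y _ hY => by
          rw [classInner_smul_left, classInner_irr_ne hY, mul_zero]) (by simp), classInner_smul_left,
          classInner_irr_self, mul_one]
        exact_mod_cast hX
      have h2 := card_mul_degree_sq_le X ⊤ (fun a _ x => by
        refine constituent_kernel hres X hin ?_
        exact hAc a x a.2 x.2) hb
      rw [card_top] at h2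
      have h3 : b ^ 2 ≤ 1 := le_of_mul_le_mul_left (by rwa [mul_one]) Nat.card_pos
      rw [hb, show b = 1 by nlinarith, Nat.cast_one]
    have hd' : (d : ℕ) = ∑ X, n X := by
      have := congrFun hn 1
      rw [Finset.sum_apply] at this
      change mu ψ ((1 : ↥A') : ↥S) = _ at this
      rw [OneMemClass.coe_one, hd] at this
      have e : ∀ X : IrrCharacter ↥A', (((n X : ℕ) : ℂ) • (X : ↥A' → ℂ)) 1 = (n X : ℂ) := fun X => by
        rcases eq_or_ne (n X) 0 with q | q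
        · simp [q]
        · simp [hlin X q]
      rw [Finset.sum_congr rfl fun X _ => e X] at this
      exact_mod_cast this
    have hnorm : classInner (fun a : ↥A' => mu ψ a) (fun a : ↥A' => mu ψ a) = ∑ X, ((n X : ℂ) ^ 2) := by
      rw [hn, classInner_sum_left]
      refine Finset.sum_congr rfl fun X _ => ?_
      rw [classInner_sum_right, Finset.sum_eq_single X (fun Y _ hY => by
        rw [classInner_smul_left, classInner_smul_right, classInner_irr_ne (Ne.symm hY), mul_zero,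
          mul_zero]) (by simp), classInner_smul_left, classInner_smul_right, classInner_irr_self]
      simp [sq]
    rw [classInner_self] at hnorm
    have h2 : (Nat.card ↥A' : ℝ)⁻¹ * ∑ a : ↥A', ‖mu ψ a‖ ^ 2 = ∑ X, (n X : ℝ) ^ 2 := by
      exact_mod_cast hnorm
    have h3 : (d : ℝ) ≤ ∑ X, (n X : ℝ) ^ 2 := by
      rw [hd', Nat.cast_sum]
      exact Finset.sum_le_sum fun X _ => by exact_mod_cast Nat.le_self_pow two_ne_zero (n X)
    have h0 : (0 : ℝ) < Nat.card ↥A' := Nat.cast_pos.2 Nat.card_pos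
    rw [← h2, inv_mul_eq_div, le_div_iff₀ h0] at h3
    rwa [hcard] at h3
  have hle : ∑ a : ↥A', ‖mu ψ a‖ ^ 2 ≤
      ∑ x : ↥S, if (x : G) ∈ Cfsg.sigmaCore S then ‖mu ψ x‖ ^ 2 else 0 := by
    rw [← Finset.sum_filter]
    refine le_of_eq_of_le (Finset.sum_subtype (Finset.univ.filter fun x : ↥S => x ∈ A') (by simp)
      fun x : ↥S => ‖mu ψ x‖ ^ 2).symm (Finset.sum_le_sum_of_subset_of_nonneg (fun x hx => ?_)
        fun x _ _ => sq_nonneg _)
    simp only [Finset.mem_filter, Finset.mem_univ, true_and, hA', mem_subgroupOf] at hx ⊢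
    exact hA hx
  have hfin := (hA'sum.trans hle).trans hσsum.le
  rw [show (Nat.card (Cfsg.sigmaCore S) : ℝ) =
    ((Nat.card A : ℝ) * (A.relIndex (Cfsg.sigmaCore S) : ℝ)) by
      exact_mod_cast (CfsgLib.Coprime.card_mul_relIndex hA).symm, mul_comm] at hfin
  exact_mod_cast le_of_mul_le_mul_left hfin (Nat.cast_pos.2 Nat.card_pos)

/-- If `S_σ` is not nilpotent the degree of the `μ_ij` is at most `k₀`. -/
theorem deg_le_kZero (hnil : ¬ Group.IsNilpotent (Cfsg.sigmaCore S)) {ψ : ↥(W₁ ⊔ W₂) →* ℂˣ}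
    (hψ : ψ ∈ trivOn _ W₁) (hψ1 : ψ ≠ 1) {d : ℕ} (hd : mu ψ 1 = (d : ℂ)) : d ≤ kZero S := by
  classical
  have hG := h.minSimple
  have hne : Cfsg.fittingHallOf S ≠ Cfsg.sigmaCore S := fun e =>
    hnil (e ▸ Chain.isNilpotent_fittingHallOf S)
  obtain ⟨Q, D, sp⟩ := exists_split hG h.coatom h.decomp hne
  obtain ⟨hQS, hDS⟩ := Split.le_M hG h.coatom h.decomp sp
  obtain ⟨-, -, hDD⟩ := Split.frobenius hG h.coatom h.decomp sp
  set Q₀ := Q ⊓ centralizer (D : Set G) with hQ₀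
  set D₀ := D ⊓ centralizer (Q : Set G) with hD₀
  have hn₀ := Split.normal_fixed hG h.coatom h.decomp sp
  have hnD : S ≤ normalizer (D₀ : Set G) := by
    refine Split.M_le hG h.coatom h.decomp sp ?_ ?_ ?_
    · exact CfsgLib.Coprime.inf_le_normalizer sp.invariant ((h.le₁.trans sp.normal).trans
        (CfsgLib.Coprime.normalizer_le_normalizer_centralizer Q))
    · refine (le_centralizer_iff.1 (inf_le_right : D₀ ≤ centralizer (Q : Set G))).trans ?_
      exact Subgroup.centralizer_le_normalizer (D₀ : Set G)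
    · exact CfsgLib.Coprime.inf_le_normalizer le_normalizer
        ((hDS.trans sp.normal).trans (CfsgLib.Coprime.normalizer_le_normalizer_centralizer Q))
  set N := Q₀ ⊔ D₀ with hNdef
  have hNS : N ≤ S := sup_le (inf_le_left.trans hQS) (inf_le_left.trans hDS)
  have hnN : S ≤ normalizer (N : Set G) := le_normalizer_sup hn₀ hnD
  haveI : (N.subgroupOf S).Normal := normal_subgroupOf_of_le_normalizer hnN
  have hQD : ∀ x ∈ Q, x ∈ D → x = 1 := fun x hx hx' => by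
    have : x ∈ Q ⊓ D := ⟨hx, hx'⟩
    rwa [sp.compl.2.2.1, mem_bot] at this
  have hW : ∀ x ∈ N, x ∈ W₁ ⊔ W₂ → x = 1 := by
    intro x hx hxW
    obtain ⟨a, ha, b, hb, rfl⟩ := CfsgLib.Coprime.mem_sup_exists
      (inf_le_left.trans (hDS.trans hn₀) : D₀ ≤ normalizer (Q₀ : Set G)) hx
    have ha : a ∈ Q ∧ a ∈ centralizer (D : Set G) := mem_inf.1 ha
    have hb : b ∈ D ∧ b ∈ centralizer (Q : Set G) := mem_inf.1 hb
    have hw2 : a * b ∈ W₂ := h.sigma_sup hxW (mul_mem (sp.compl.1 ha.1) (sp.compl.2.1 hb.1))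
    have hw2' : a * b ∈ Cfsg.sigmaCore S ⊓ centralizer (W₁ : Set G) := by rwa [h.eqW₂]
    have hb1 : b = 1 := hQD b (by simpa using mul_mem (inv_mem ha.1) (sp.fix_le hw2')) hb.1
    rw [hb1, mul_one] at hw2' ⊢
    have : a ∈ Cfsg.sigmaCore S ⊓ centralizer (W₁ : Set G) ⊓ Q₀ := ⟨hw2', ha⟩
    rwa [hQ₀, Split.fixed_inf hG h.coatom h.decomp sp, mem_bot] at this
  set A := Q ⊔ D₀ with hAdef
  have hAσ : A ≤ Cfsg.sigmaCore S := sup_le sp.compl.1 (inf_le_left.trans sp.compl.2.1)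
  have hQA : D₀ ≤ normalizer (Q : Set G) := inf_le_left.trans (hDS.trans sp.normal)
  have hAc : ⁅A, A⁆ ≤ N := by
    rw [commutator_le]
    intro x hx y hy
    obtain ⟨a, ha, b, hb, rfl⟩ := CfsgLib.Coprime.mem_sup_exists hQA hx
    obtain ⟨a', ha', b', hb', rfl⟩ := CfsgLib.Coprime.mem_sup_exists hQA hy
    have hc : ∀ {s t : G}, s ∈ Q → t ∈ D₀ → Commute s t := fun hs ht => ht.2 _ hs
    have e : ⁅a * b, a' * b'⁆ = ⁅a, a'⁆ * ⁅b, b'⁆ := by
      simp only [commutatorElement_def, mul_inv_rev]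
      calc a * b * (a' * b') * (b⁻¹ * a⁻¹) * (b'⁻¹ * a'⁻¹)
          = a * (b * a') * b' * b⁻¹ * (a⁻¹ * b'⁻¹) * a'⁻¹ := by group
        _ = a * (a' * b) * b' * b⁻¹ * (b'⁻¹ * a⁻¹) * a'⁻¹ := by
            rw [(hc ha' hb).eq, (hc (inv_mem ha) (inv_mem hb')).eq]
        _ = a * a' * (b * b' * b⁻¹ * b'⁻¹) * a⁻¹ * a'⁻¹ := by group
        _ = a * a' * (a⁻¹ * a'⁻¹ * (b * b' * b⁻¹ * b'⁻¹)) := by
            have hm : b * b' * b⁻¹ * b'⁻¹ ∈ D₀ :=
              mul_mem (mul_mem (mul_mem hb hb') (inv_mem hb)) (inv_mem hb')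
            rw [(hc (mul_mem (inv_mem ha) (inv_mem ha')) hm).eq]
            group
        _ = _ := by group
    rw [e]
    refine mul_mem (mem_sup_left ?_) (mem_sup_right ?_)
    · rw [commutatorElement_def]
      exact (Split.pow_and_commutator_mem hG h.coatom h.decomp sp ha ha').2
    · exact mul_mem (mul_mem (mul_mem hb hb') (inv_mem hb)) (inv_mem hb')
  have hidx : A.relIndex (Cfsg.sigmaCore S) ≤ kZero S := by
    have hder : sigmaDer S ≤ A := by
      rw [sigmaDer, commutator_le]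
      intro x hx y hy
      obtain ⟨a, ha, b, hb, rfl⟩ := sp.compl.2.2.2 x hx
      obtain ⟨a', ha', b', hb', rfl⟩ := sp.compl.2.2.2 y hy
      rw [show ⁅a * b, a' * b'⁆ = a * (b * a' * b⁻¹) * ((b * b' * b⁻¹ * b'⁻¹) * (b' * a⁻¹ * b'⁻¹) *
          (b * b' * b⁻¹ * b'⁻¹)⁻¹) * ((b * b' * b⁻¹ * b'⁻¹) * a'⁻¹ * (b * b' * b⁻¹ * b'⁻¹)⁻¹) *
          (b * b' * b⁻¹ * b'⁻¹) by simp only [commutatorElement_def]; group]
      have hm0 : b * b' * b⁻¹ * b'⁻¹ ∈ D := mul_mem (mul_mem (mul_mem hb hb') (inv_mem hb)) (inv_mem hb')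
      have hm : b * b' * b⁻¹ * b'⁻¹ ∈ D₀ :=
        mem_inf.2 ⟨hm0, hDD (commutator_mem_commutator hb hb')⟩
      have hn : ∀ {g q : G}, g ∈ D → q ∈ Q → g * q * g⁻¹ ∈ Q := fun hg hq =>
        (mem_normalizer_iff.1 (sp.normal (hDS hg)) _).1 hq
      exact mul_mem (mem_sup_left (mul_mem (mul_mem (mul_mem ha (hn hb ha'))
        (hn hm0 (hn hb' (inv_mem ha)))) (hn hm0 (inv_mem ha')))) (mem_sup_right hm)
    exact Nat.le_of_dvd (Nat.pos_of_ne_zero Subgroup.index_ne_zero_of_finite)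
      (relIndex_dvd_of_le_left _ hder)
  refine (deg_le_relIndex h C hNB hψ hψ1 hd A hAσ fun a b ha hb => ?_).trans hidx
  refine mu_trivial_on h C (N.subgroupOf S) (fun x hx hxW => Subtype.ext (hW x hx hxW)) ψ ?_
  rw [mem_subgroupOf]
  have := hAc (commutator_mem_commutator ha hb)
  simpa [commutatorElement_def] using this

end CfsgLib.FT
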