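import Cfsg.Agent.Lib.FT.SlackPair
import Cfsg.Agent.Lib.FT.SlackShared

/-!
# `U = 1`: the bound of the S side, and `v` is full when `|W₁|` is prime (`docs/FT.md` §3)
-/

set_option autoImplicit false
set_option linter.unusedSectionVars false
set_option linter.style.haveILetI false

open Subgroup

namespace CfsgLib.FT

open Cfsg CfsgLib.Char CfsgLib.Char.Signed CfsgLib.FT.Rect
open CfsgLib.CFun

universe u

variable {G : Type u} [Group G] [Fintype G] {S T W₁ W₂ U V : Subgroup G}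

/-- The bound on the S side in the form used against Z-PART. -/
theorem Pair.slack_S (hG : IsMinSimpleOddOrder G) (hNB : NoBad G) (P : Pair S T W₁ W₂ U V)
    (hU : U = ⊥) {χ : (↥(W₁ ⊔ W₂) →* ℂˣ) → (G → ℂ)} (hχ : IsCyclicTIFamily W₁ W₂ χ)
    {φa ψ₀ : ↥(W₁ ⊔ W₂) →* ℂˣ} (hφa : φa ∈ trivOn _ W₂) (hψ₀ : ψ₀ ∈ trivOn _ W₁) (hψ₀1 : ψ₀ ≠ 1) :
    ∃ (d : ℕ) (err : ℝ), SlackErr (Nat.card W₂) (Nat.card W₁) (kZero S) d err ∧
      1 - err ≤ (Nat.card W₁ : ℝ) * mass (conjSet (sharp S)) (slack (χ φa + χ ψ₀)) := by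
  classical
  subst hU
  have h := kappaS hG P
  have hp := (Pair.prime_card_sigmaT hG P).1
  obtain ⟨hp2, -, -, -, -⟩ := P.basic hG hNB
  obtain ⟨mu, sgn, C⟩ := h.exists_cols
  have hM := fpfAb_of_bot h
  have he := eIndex_of_bot h rfl
  obtain ⟨d, hd0, hd⟩ := C.deg_nat h ψ₀
  have hall : ∀ ψ ∈ trivOn (W₁ ⊔ W₂) W₁, ψ ≠ 1 → mu ψ 1 = (d : ℂ) := fun ψ hψ hψ1 => by
    rw [C.deg_eq_of_prime h hp hψ₀ hψ₀1 hψ hψ1, hd]
  have hk : 2 * Nat.card W₁ + 1 ≤ kZero S := by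
    haveI := member_finite hG hM
    rw [← member_card hG hM, he]
    exact Nat.add_le_add_right (Nat.mul_le_mul_right _ (two_le_card hG hM)) 1
  have key := slack_side h hNB hM C hχ hall he hψ₀ hψ₀1 hφa 1 (R := PEmpty.{u + 1})
    (fun r => r.elim) ⟨fun r => r.elim, fun r => r.elim, fun r => r.elim, fun r => r.elim⟩
  have hb : χ ψ₀ + ((1 : ℤ) : ℂ) • χ φa = χ φa + χ ψ₀ := by
    rw [Int.cast_one, one_smul, add_comm]
  rw [hb, Fintype.card_pempty, Nat.cast_zero, mul_zero, add_zero] at key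
  by_cases hnil : Group.IsNilpotent (Cfsg.sigmaCore S)
  · exact ⟨d, _, Or.inl ⟨rfl, le_kZero_of_nilpotent h hnil, hk⟩, by rw [← sub_sub]; exact key.1⟩
  by_cases h3 : Nat.card W₂ = 3
  · exact ⟨d, _, Or.inr (Or.inl ⟨rfl, h3, hk⟩), by rw [← sub_sub]; exact key.1⟩
  refine ⟨d, _, Or.inr (Or.inr ⟨rfl, ?_, ?_⟩), key.2 (deg_le_kZero h C hNB hnil hψ₀ hψ₀1 hd)⟩
  · obtain ⟨k, hk'⟩ := hp2
    have := hp.two_le
    omega
  · have h2 := two_le_deg h C hψ₀ hψ₀1 hd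
    obtain ⟨k, hk'⟩ : Odd d := by
      refine (hG.1.of_dvd_nat (card_subgroup_dvd_card S)).of_dvd_nat ?_
      exact degree_dvd_card ⟨_, C.irr ψ₀⟩ hd
    omega

/-- `U = 1` and `|W₁|` prime: `v` is full and `|W₂| ∤ |W₁| - 1`. -/
theorem Pair.full_of_prime (hG : IsMinSimpleOddOrder G) (hNB : NoBad G) (P : Pair S T W₁ W₂ U V)
    (hU : U = ⊥) (he : (Nat.card W₁).Prime) :
    Nat.card W₁ ≠ Nat.card W₂ ∧ Nat.card V = full (Nat.card W₁) (Nat.card W₂) ∧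
      ¬ Nat.card W₂ ∣ Nat.card W₁ - 1 := by
  have hp := (Pair.prime_card_sigmaT hG P).1
  obtain ⟨hp2, he2, -, hnd, hv1⟩ := P.basic hG hNB
  have hne : Nat.card W₁ ≠ Nat.card W₂ := fun e => hnd (e ▸ dvd_rfl)
  obtain ⟨χ, hχ⟩ := (kappaS hG P).exists_family
  obtain ⟨φa, ψ₀, hφa, hφa1, hψ₀, hψ₀1⟩ := P.exists_eta hG
  obtain ⟨d, err, hE, hS⟩ := P.slack_S hG hNB hU hχ hφa hψ₀ hψ₀1
  have hT := P.bound_T hG hNB he hχ hφa hφa1 hψ₀
  have hmain := P.slack_ineq hG hχ hφa hφa1 hψ₀ hψ₀1 hS hT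
  rw [← mul_div_assoc] at hmain
  exact ⟨hne, full_of_slack hp he hp2 he2 hne.symm
    ((Pair.dvd_cases_V hG P hNB he).symm.imp_left fun h => h.2) hv1 hE hmain⟩

end CfsgLib.FT
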