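import Cfsg.Agent.Lib.FT.NotTypeIIIArith
import Cfsg.Agent.Lib.FT.NotTypeIIIDegree
import Cfsg.Agent.Lib.FT.NotTypeIIITheta
import Cfsg.Agent.Lib.FT.NotTypeVIdentity
import Cfsg.Agent.Lib.FT.SlackFull

/-!
# `U = 1` and `F(S)_σ ≠ S_σ` is impossible in a pair (`docs/FT.md`, §4, types III and IV)
-/

set_option autoImplicit false
set_option linter.unusedSectionVars false
set_option linter.style.haveILetI false

open Subgroup

namespace CfsgLib.FT

open Cfsg CfsgLib.Char CfsgLib.Char.Signed CfsgLib.FT.Rect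
open CfsgLib.CFun

universe u

variable {G : Type u} [Group G] [Fintype G] {S T W₁ W₂ V : Subgroup G}

/-- `v (e - 1) + 1 ≤ e ^ p`. -/
theorem Pair.card_V_le (hG : IsMinSimpleOddOrder G) (hNB : NoBad G) (P : Pair S T W₁ W₂ ⊥ V)
    (he : (Nat.card W₁).Prime) :
    Nat.card V * (Nat.card W₁ - 1) + 1 ≤ Nat.card W₁ ^ Nat.card W₂ := by
  have hp := (Pair.prime_card_sigmaT hG P).1
  rcases Pair.dvd_cases_V hG P hNB he with hd | ⟨-, hd⟩
  · have h1 : Nat.card V ≤ Nat.card W₁ - 1 := Nat.le_of_dvd (Nat.sub_pos_of_lt he.one_lt) hd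
    calc Nat.card V * (Nat.card W₁ - 1) + 1 ≤ (Nat.card W₁ - 1) * (Nat.card W₁ - 1) + 1 :=
          Nat.add_le_add_right (Nat.mul_le_mul_right _ h1) 1
      _ ≤ Nat.card W₁ ^ 2 := by
          obtain ⟨k, hk⟩ : ∃ k, Nat.card W₁ = k + 1 := ⟨_, (Nat.sub_add_cancel he.one_le).symm⟩
          rw [hk, Nat.add_sub_cancel]
          nlinarith
      _ ≤ Nat.card W₁ ^ Nat.card W₂ := Nat.pow_le_pow_right he.pos hp.two_le
  · have h1 := Nat.le_of_dvd (Finset.sum_pos (fun i _ => pow_pos he.pos i)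
      ⟨0, Finset.mem_range.2 hp.pos⟩) hd
    rw [← TypeIIINum.full_mul_succ (Nat.card W₁) (Nat.card W₂) he.one_le]
    exact Nat.add_le_add_right (Nat.mul_le_mul_right _ h1) 1

/-- In a pair with `U = 1` the core of `S` is nilpotent. -/
theorem Pair.not_typeIII (hG : IsMinSimpleOddOrder G) (hNB : NoBad G) (P : Pair S T W₁ W₂ ⊥ V)
    (hne : Cfsg.fittingHallOf S ≠ Cfsg.sigmaCore S) : False := by
  classical
  have h := kappaS hG P
  obtain ⟨mu, sgn, C⟩ := h.exists_cols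
  obtain ⟨χ, hχ⟩ := h.exists_family
  obtain ⟨he, hp, hM, heI, d, -, hd2, hdk, hmu, hcase⟩ := TypeIII.side_facts h hne C
  obtain ⟨hp2, he2, he3, hnd, -⟩ := P.basic hG hNB
  have hne' : Nat.card W₂ ≠ Nat.card W₁ := fun e => hnd (e ▸ dvd_rfl)
  have hp3 : 3 ≤ Nat.card W₂ := (Pair.twoSide hG P hNB).three_le
  have hp4 : Nat.card W₂ ≠ 4 := fun e => by rw [e] at hp; norm_num at hp
  have he4 : Nat.card W₁ ≠ 4 := fun e => by rw [e] at he; norm_num at he
  have hv := P.card_V_le hG hNB he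
  rcases hcase with hfull | ⟨m, φ, hinj, hφ, hm⟩
  swap
  · -- many regular orbits
    obtain ⟨φa, ψ₀, hφa, hφa1, hψ₀, hψ₀1⟩ := P.exists_eta hG
    have hζ : SideFamily S W₁ d (fun r : ULift.{u} (Fin m) => φ r.down) :=
      { irr := fun r => (hφ r.down).1
        inj := fun r r' e => ULift.ext _ _ (hinj e)
        supp := fun r => (hφ r.down).2.2
        deg := fun r => by rw [(hφ r.down).2.1, Nat.cast_mul] }
    have key := (slack_side h hNB hM C hχ hmu heI hψ₀ hψ₀1 hφa 1 _ hζ).2 hdk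
    rw [Int.cast_one, one_smul, add_comm (χ ψ₀) (χ φa), Fintype.card_ulift, Fintype.card_fin] at key
    have hmain := P.slack_ineq hG hχ hφa hφa1 hψ₀ hψ₀1 key
      (P.bound_T hG hNB he hχ hφa hφa1 hψ₀)
    refine TypeIIINum.slack_absurd hp3 he3 hp4 he4 hne' hd2 hv ?_ hmain
    have h1 : ((3 * (Nat.card W₂ - 1) : ℕ) : ℝ) ≤ ((Nat.card W₂ - 1 + Nat.card W₁ * m : ℕ) : ℝ) := by
      exact_mod_cast hm
    push_cast [Nat.cast_sub hp.one_le] at h1
    exact h1
  -- `d` is full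
  obtain ⟨hlarge, -⟩ := TypeIIINum.full_large hp3 he3 he4 hne' hp4
  haveI : Fintype S := Fintype.ofFinite S
  obtain ⟨φ₀⟩ := exists_member hG hM
  rcases TypeV.theta_dichotomy h C hNB hM hχ φ₀ hp with ⟨X, hX, hperp, hF⟩ | ⟨hle, hA⟩
  · refine TypeIIINum.identity_absurd he3 ?_ (hlarge.trans_le (hfull ▸ hdk))
      (TypeV.identity_ineq h hχ he hNB hM C P φ₀ hX hperp hF)
    have hmod := (Pair.twoSide hG P hNB).card_V_mod
    have h2 : 2 ≤ Nat.card V := (Subgroup.one_lt_card_iff_ne_bot V).2 P.neV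
    have := Int.le_of_dvd (by omega) hmod
    omega
  · obtain ⟨F, rfl⟩ := Family.exists_family hG hM φ₀
    obtain ⟨z, hz, hz0, hzle⟩ := TypeIII.pairing_case h hNB hM hχ F P C he hA
    have hlt : Nat.card W₂ + 2 ≤ Nat.card W₁ := by
      obtain ⟨a, ha⟩ := hp2
      obtain ⟨b, hb⟩ := he2
      omega
    refine TypeIIINum.pairing_absurd hp3 hlt hp4 hv (n := Nat.card (Member S)) ?_ (hfull ▸ hdk) hz hz0 hzle
    rw [← heI]
    exact member_card hG hM

end CfsgLib.FT
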