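import Mathlib

/-!
# The arithmetic of type V (`docs/FT.md`, §4)

`p = |W₂|` and `e = |W₁|` are distinct odd primes, `|P : P'| = p ^ m`, `v = (e ^ p - 1) / (e - 1)`.
-/

set_option autoImplicit false

namespace CfsgLib.FT.TypeV

/-- An odd prime `e` dividing `p ^ (2 k) - 1` divides `p ^ k ± 1`, an even number. -/
theorem two_mul_le_of_dvd_sq {p e k : ℕ} (hp : p.Prime) (hpo : Odd p) (he : e.Prime) (heo : Odd e)
    (hk : 1 ≤ k) (hed : e ∣ p ^ (2 * k) - 1) : 2 * e ≤ p ^ k + 1 := by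
  have h1 : p ^ (2 * k) - 1 = (p ^ k + 1) * (p ^ k - 1) := by
    rw [← Nat.sq_sub_sq, one_pow, ← pow_mul, mul_comm k 2]
  have hc : Nat.Coprime 2 e := (Nat.coprime_two_left).2 heo
  obtain ⟨a, ha⟩ := hpo.pow (n := k)
  have hgt : 1 < p ^ k := Nat.one_lt_pow (by omega) hp.one_lt
  rw [h1] at hed
  rcases (Nat.Prime.dvd_mul he).1 hed with h2 | h2
  · exact Nat.le_of_dvd (by omega) (hc.mul_dvd_of_dvd_of_dvd ⟨a + 1, by omega⟩ h2)
  · have := Nat.le_of_dvd (by omega) (hc.mul_dvd_of_dvd_of_dvd (⟨a, by omega⟩ : 2 ∣ p ^ k - 1) h2)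
    omega

/-- `2 e ≤ p ^ (m - 1) + 1` when `e ∣ p ^ m - 1` and `p ∤ e - 1`. -/
theorem two_mul_le {p e m : ℕ} (hp : p.Prime) (hpo : Odd p) (he : e.Prime) (heo : Odd e)
    (hne : ¬ p ∣ e - 1) (hm : 2 ≤ m) (hed : e ∣ p ^ m - 1) : 2 * e ≤ p ^ (m - 1) + 1 := by
  rcases Nat.even_or_odd m with ⟨k, hk⟩ | hmo
  · have h1 : m = 2 * k := by omega
    have := two_mul_le_of_dvd_sq hp hpo he heo (by omega) (h1 ▸ hed)
    have : p ^ k ≤ p ^ (m - 1) := Nat.pow_le_pow_right hp.pos (by omega)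
    omega
  · have hp3 : 3 ≤ p := by
      obtain ⟨a, ha⟩ := hpo
      have := hp.two_le
      omega
    obtain ⟨n, rfl⟩ : ∃ n, m = n + 1 := ⟨m - 1, by omega⟩
    simp only [add_tsub_cancel_right]
    have hgs : (∑ i ∈ Finset.range (n + 1), p ^ i) * (p - 1) = p ^ (n + 1) - 1 :=
      geom_sum_mul_of_one_le (by omega) (n + 1)
    set s := ∑ i ∈ Finset.range (n + 1), p ^ i with hs
    have hso : Odd s := by
      rw [hs, Finset.odd_sum_iff_odd_card_odd, Finset.filter_true_of_mem (fun i _ => hpo.pow),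
        Finset.card_range]
      exact hmo
    rw [← hgs] at hed
    rcases (Nat.Prime.dvd_mul he).1 hed with ⟨t, ht⟩ | h2
    · have hto : Odd t := Nat.Odd.of_mul_right (ht ▸ hso)
      obtain ⟨a, ha⟩ := hto
      rcases Nat.eq_zero_or_pos a with rfl | ha0
      · refine absurd ?_ hne
        have hse : s = e := by rw [ht, ha]; ring
        rw [← hse, hs, Finset.sum_range_succ', pow_zero, add_tsub_cancel_right]
        exact Finset.dvd_sum fun i _ => dvd_pow_self p (by omega)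
      · have h3 : 3 * e * (p - 1) ≤ p ^ (n + 1) - 1 := by
          rw [← hgs, ht]
          exact Nat.mul_le_mul_right _ (by rw [mul_comm]; exact Nat.mul_le_mul_left e (by omega))
        have h4 : 1 ≤ p ^ n := Nat.one_le_pow _ _ hp.pos
        obtain ⟨q, rfl⟩ : ∃ q, p = q + 1 := ⟨p - 1, by omega⟩
        have h5 : (q + 1) ^ (n + 1) = (q + 1) ^ n * (q + 1) := pow_succ _ _
        simp only [add_tsub_cancel_right] at h3
        set X := (q + 1) ^ n
        have h6 : 3 * e * q + 1 ≤ X * (q + 1) := by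
          rw [← h5]
          have : 1 ≤ (q + 1) ^ (n + 1) := Nat.one_le_pow _ _ hp.pos
          omega
        by_contra hcon
        nlinarith
    · have h3 : p ≤ p ^ n := Nat.le_self_pow (by omega) p
      have h4 := Nat.le_of_dvd (by omega) ((Nat.coprime_two_left.2 heo).mul_dvd_of_dvd_of_dvd
        (by obtain ⟨a, ha⟩ := hpo; exact ⟨a, by omega⟩ : 2 ∣ p - 1) h2)
      omega

/-- The identity case: `k₀ (e v - v - e) ≤ p e² v` is impossible. -/
theorem num_identity {p e m r v k0 : ℕ} (hp : p.Prime) (hpo : Odd p) (he : e.Prime) (heo : Odd e)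
    (hpe : p ≠ e) (hne : ¬ p ∣ e - 1) (hm : 2 ≤ m) (hed : e ∣ p ^ m - 1)
    (hv : v * (e - 1) + 1 = e ^ p) (hk : k0 = p ^ m * r) (hr : r = 1 ∨ 2 * e + 1 ≤ r)
    (h : k0 * (e * v) ≤ p * e * e * v + k0 * (v + e)) : False := by
  have hX := two_mul_le hp hpo he heo hne hm hed
  have hp3 : 3 ≤ p := by
    obtain ⟨a, ha⟩ := hpo
    have := hp.two_le
    omega
  have he3 : 3 ≤ e := by
    obtain ⟨a, ha⟩ := heo
    have := he.two_le
    omega
  have hvlow : e ^ (p - 1) ≤ v := by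
    obtain ⟨q, rfl⟩ : ∃ q, p = q + 1 := ⟨p - 1, by omega⟩
    obtain ⟨f, rfl⟩ : ∃ f, e = f + 1 := ⟨e - 1, by omega⟩
    simp only [add_tsub_cancel_right] at hv ⊢
    rw [pow_succ] at hv
    have : 1 ≤ (f + 1) ^ q := Nat.one_le_pow _ _ (by omega)
    refine Nat.le_of_mul_le_mul_right (?_ : _ * f ≤ _ * f) (by omega)
    nlinarith
  have hv2 : e ^ 2 ≤ v := (Nat.pow_le_pow_right (by omega) (by omega)).trans hvlow
  obtain ⟨n, rfl⟩ : ∃ n, m = n + 1 := ⟨m - 1, by omega⟩
  simp only [add_tsub_cancel_right] at hX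
  rw [hk, pow_succ] at h
  set X := p ^ n with hXd
  have hpX : p ≤ X := Nat.le_self_pow (by omega) p
  obtain ⟨d, hd⟩ : ∃ d, e * v = v + e + d := ⟨e * v - (v + e), by
    have : v + e ≤ e * v := by nlinarith
    omega⟩
  have h' : X * r * d ≤ e * e * v := by
    refine Nat.le_of_mul_le_mul_left (?_ : p * _ ≤ p * _) hp.pos
    rw [hd] at h
    nlinarith
  rcases hr with rfl | hr
  · rcases le_or_gt 5 e with he5 | he5
    · have h2 : (2 * e - 1) * d ≤ e * e * v := by
        exact le_trans (Nat.mul_le_mul_right d (show 2 * e - 1 ≤ X * 1 by rw [mul_one]; omega)) h'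
      obtain ⟨f, rfl⟩ : ∃ f, e = f + 5 := ⟨e - 5, by omega⟩
      have h2' : (2 * f + 9) * d ≤ (f + 5) * (f + 5) * v := by
        rw [show 2 * (f + 5) - 1 = 2 * f + 9 by omega] at h2
        exact h2
      nlinarith
    · obtain rfl : e = 3 := by
        rcases he.eq_two_or_odd with h2 | h2 <;> omega
      have hp5 : 5 ≤ p := by
        obtain ⟨a, ha⟩ := hpo
        omega
      have : 3 ^ 4 ≤ v := (Nat.pow_le_pow_right (by omega) (by omega)).trans hvlow
      have h5 : 5 * d ≤ 9 * v := by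
        refine le_trans (Nat.mul_le_mul_right d (by omega : 5 ≤ X)) ?_
        simpa using h'
      omega
  · have h2 : 3 * (2 * e + 1) * d ≤ e * e * v :=
      le_trans (Nat.mul_le_mul_right d (Nat.mul_le_mul (hp3.trans hpX) hr)) h'
    nlinarith

/-- The case `A = 1`, `W₂ ≤ Z(P)`: `(p - 2) |P| ≤ (p - 1) p² (p + e - 1)` is impossible. -/
theorem num_central {p e m s : ℕ} (hp : p.Prime) (hpo : Odd p) (he : e.Prime) (heo : Odd e)
    (hne : ¬ p ∣ e - 1) (hm : 2 ≤ m) (hed : e ∣ p ^ m - 1) (hpe : p + 2 ≤ e) (hs : m + 1 ≤ s)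
    (hr : s = m + 1 → ∃ r, 1 ≤ r ∧ 2 * r ≤ m ∧ e ∣ p ^ (2 * r) - 1)
    (h : (p - 2) * p ^ s ≤ (p - 1) * p ^ 2 * (p + e - 1)) : False := by
  have hX := two_mul_le hp hpo he heo hne hm hed
  have hp3 : 3 ≤ p := by
    obtain ⟨a, ha⟩ := hpo
    have := hp.two_le
    omega
  have hm3 : 3 ≤ m := by
    by_contra hc
    obtain rfl : m = 2 := by omega
    simp only [Nat.reduceSub, pow_one] at hX
    omega
  have hps : p ^ s = p ^ 2 * p ^ (s - 2) := by rw [← pow_add]; congr 1; omega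
  have h1 : (p - 2) * p ^ (s - 2) ≤ (p - 1) * (p + e - 1) := by
    refine Nat.le_of_mul_le_mul_left (?_ : p ^ 2 * _ ≤ p ^ 2 * _) (pow_pos hp.pos 2)
    rw [hps] at h
    nlinarith
  have hsX : p ^ (m - 1) ≤ p ^ (s - 2) := Nat.pow_le_pow_right hp.pos (by omega)
  have hX2 : p ^ 2 ≤ p ^ (m - 1) := Nat.pow_le_pow_right hp.pos (by omega)
  rcases le_or_gt 5 p with hp5 | hp5
  · obtain ⟨q, rfl⟩ : ∃ q, p = q + 5 := ⟨p - 5, by omega⟩
    set X := (q + 5) ^ (m - 1)
    have h2 : (q + 3) * X ≤ (q + 4) * (q + e + 4) := by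
      refine le_trans (Nat.mul_le_mul_left _ hsX) ?_
      rw [show q + 5 - 2 = q + 3 by omega, show q + 5 - 1 = q + 4 by omega,
        show q + 5 + e - 1 = q + e + 4 by omega] at h1
      exact h1
    nlinarith
  · obtain rfl : p = 3 := by
      obtain ⟨a, ha⟩ := hpo
      omega
    simp only [Nat.reduceSub, one_mul] at h1
    rcases Nat.lt_or_ge (m + 1) s with hs2 | hs2
    · have h2 : 3 ^ m ≤ 3 ^ (s - 2) := Nat.pow_le_pow_right (by omega) (by omega)
      have h3 : 3 ^ m = 3 * 3 ^ (m - 1) := by rw [← pow_succ']; congr 1; omega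
      omega
    · obtain ⟨r, hr1, hr2, hr3⟩ := hr (by omega)
      have h4 := two_mul_le_of_dvd_sq hp hpo he heo hr1 hr3
      have hr2' : 2 ≤ r := by
        by_contra hc
        obtain rfl : r = 1 := by omega
        simp only [pow_one] at h4
        omega
      have h5 : 3 * 3 ^ r ≤ 3 ^ (s - 2) := by
        rw [← pow_succ']
        exact Nat.pow_le_pow_right (by omega) (by omega)
      omega

end CfsgLib.FT.TypeV
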