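import Cfsg.Agent.Lib.FT.NotTypeVNoncentral
import Cfsg.Agent.Lib.FT.NotTypeIII
import Cfsg.Agent.Lib.FT.TypeVArith
import Cfsg.Agent.Lib.CFun.OddFittingChain

/-!
# `U = 1` is impossible in a pair (`docs/FT.md`, §4)

`not_typeV`: with `S_σ` nilpotent, `τθ_S` is either the identity case, against the mass on `T` and the
conjugates of `Ẑ`, or has `(τθ_S, η_0j) = 1`, which fails for `W₂ ≤ Z(P)` and for `W₂ ≰ Z(P)`.
-/

set_option autoImplicit false
set_option linter.unusedSectionVars false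
set_option linter.style.haveILetI false

open Subgroup

namespace CfsgLib.FT

open Cfsg CfsgLib.Char CfsgLib.Char.Signed CfsgLib.FT.Rect
open CfsgLib.CFun

universe u

variable {G : Type u} [Group G] [Fintype G] {S T W₁ W₂ V : Subgroup G}

/-- A pair with `U = 1`, `|W₁|` prime and nilpotent `S_σ` is impossible. -/
theorem Pair.not_typeV (hG : IsMinSimpleOddOrder G) (hNB : NoBad G) (P : Pair S T W₁ W₂ ⊥ V)
    (he : (Nat.card W₁).Prime) (hnil : Group.IsNilpotent (Cfsg.sigmaCore S)) : False := by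
  classical
  have h := kappaS hG P
  obtain ⟨hpo, heo, he3, -, -⟩ := P.basic hG hNB
  obtain ⟨hpe, hv, hne⟩ := P.full_of_prime hG hNB rfl he
  have hM := fpfAb_of_bot h
  obtain ⟨mu, sgn, C⟩ := h.exists_cols
  obtain ⟨χ, hχ⟩ := h.exists_family
  have hp := (Pair.prime_card_sigmaT hG P).1
  set p := Nat.card W₂ with hpdef
  haveI := Fact.mk hp
  obtain ⟨Q, Cc, Pt⟩ := TypeV.exists_parts hG hnil p
  obtain ⟨m, hm2, hm, hed⟩ := TypeV.Parts.exists_m Pt h rfl he hpdef.symm
  obtain ⟨s, hs, hsm⟩ := TypeV.Parts.exists_s Pt h rfl he hpdef.symm hm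
  haveI : Fintype S := Fintype.ofFinite S
  obtain ⟨φ₀⟩ := exists_member hG hM
  rcases TypeV.theta_dichotomy h C hNB hM hχ φ₀ hp with ⟨X, hX, hperp, hF⟩ | ⟨hle, hA⟩
  · refine TypeV.num_identity (v := Nat.card V) (k0 := kZero S) hp hpo he heo (fun q => hpe q.symm) hne
      hm2 hed ?_ (r := ⁅Cc, Cc⁆.relIndex Cc) ?_ (TypeV.Parts.r_cases Pt h rfl he hpdef.symm)
      (TypeV.identity_ineq h hχ he hNB hM C P φ₀ hX hperp hF)
    · rw [hv]
      exact TypeIIINum.full_mul_succ (Nat.card W₁) p he.one_le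
    · rw [Pt.kZero_eq, hm]
  · obtain ⟨-, ψ, -, -, hψ, hψ1⟩ := P.exists_eta hG
    by_cases hZ : W₂ ≤ centralizer (Q : Set G)
    · refine TypeV.num_central hp hpo he heo hne hm2 hed ?_ hsm
        (fun q => TypeV.Parts.central_case Pt h rfl he hpdef.symm hm hs q hZ) ?_
      · obtain ⟨a, ha⟩ := hpo
        obtain ⟨b, hb⟩ := heo
        omega
      · rw [← hs]
        exact TypeV.central_ineq h hχ he hNB hM C Pt hpdef.symm hZ φ₀ hψ hψ1 (hA ψ hψ hψ1)
    · exact TypeV.noncentral_false Pt h rfl he hpdef.symm hZ hNB hM hχ C φ₀ hψ hψ1 (hA ψ hψ hψ1)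

/-- A pair with `U = 1` and `|W₁|` prime is impossible. -/
theorem Pair.not_bot_of_prime (hG : IsMinSimpleOddOrder G) (hNB : NoBad G) (P : Pair S T W₁ W₂ ⊥ V)
    (he : (Nat.card W₁).Prime) : False := by
  by_cases hfit : Cfsg.fittingHallOf S = Cfsg.sigmaCore S
  · exact P.not_typeV hG hNB he (hfit ▸ Chain.isNilpotent_fittingHallOf S)
  · exact P.not_typeIII hG hNB hfit

end CfsgLib.FT
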