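import Cfsg.Agent.Lib.FT.Assembly
import Cfsg.Agent.Lib.FT.NotTypeV

/-!
# No minimal simple group of odd order, from the absence of neighbours and the primality of `|W₁|`
-/

set_option autoImplicit false
set_option linter.style.haveILetI false

open Subgroup

namespace CfsgLib.FT

universe u

/-- `U = ⊥` does not occur in a pair with `|W₁|` prime, so only the two pending parts are left. -/
theorem false_of_noBad_prime {G : Type u} [Group G] [Finite G] (hG : Cfsg.IsMinSimpleOddOrder G)
    (hNB : NoBad G)
    (hprime : ∀ S T W₁ W₂ V : Subgroup G, Pair S T W₁ W₂ ⊥ V → (Nat.card W₁).Prime) : False := by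
  have := Fintype.ofFinite G
  refine false_of_parts hG hNB fun S T W₁ W₂ U V hP hU => ?_
  subst hU
  exact hP.not_bot_of_prime hG hNB (hprime S T W₁ W₂ V hP)

end CfsgLib.FT
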