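import Cfsg.Agent.Lib.FT.Kernels
import Cfsg.Agent.Lib.Char.CentralCongruence

/-!
# The central character congruence on `M_σ`

For `M` maximal with `M_σ` TI, `M`-invariant subsets `O`, `O'` of `M_σ` and an irreducible character `χ`
of `G`: `(Σ_O χ)(Σ_O' χ) ≡ χ(1) Σ_{O × O'} χ(uu') (mod |M_σ|)` among algebraic integers
(`docs/FT.md`, §4).
-/

set_option autoImplicit false
set_option linter.style.haveILetI false
set_option linter.unusedSectionVars false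

namespace CfsgLib.FT

open scoped ComplexConjugate
open Representation Module Cfsg CfsgLib.Char

universe u

variable {G : Type u} [Group G]

/-- The sums of an irreducible character over two sets closed under conjugation. -/
theorem sum_mul_sum_of_closed [Fintype G] (χ : IrrCharacter G) (A B : Finset G)
    (hA : ∀ a ∈ A, ∀ g : G, g * a * g⁻¹ ∈ A) (hB : ∀ a ∈ B, ∀ g : G, g * a * g⁻¹ ∈ B) :
    (∑ a ∈ A, (χ : G → ℂ) a) * ∑ b ∈ B, (χ : G → ℂ) b =
      (χ : G → ℂ) 1 * ∑ q ∈ A ×ˢ B, (χ : G → ℂ) (q.1 * q.2) := by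
  obtain ⟨χ, n, ρ, hρ, rfl⟩ := χ
  have key : ∀ C : Finset G, (∀ a ∈ C, ∀ g : G, g * a * g⁻¹ ∈ C) →
      ∃ c : ℂ, (∑ a ∈ C, ρ a) = c • LinearMap.id ∧
        ∑ a ∈ C, ρ.character a = c * ρ.character 1 := by
    intro C hC
    obtain ⟨c, hc⟩ := schur_scalar ρ (∑ a ∈ C, ρ a) fun x => by
      simp only [Finset.sum_mul, Finset.mul_sum, ← map_mul]
      refine Finset.sum_bij' (fun a _ => x⁻¹ * a * x⁻¹⁻¹) (fun a _ => x * a * x⁻¹)
        (fun a ha => hC a ha _) (fun a ha => hC a ha _) (fun a _ => by group) (fun a _ => by group)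
        fun a _ => by rw [show x * (x⁻¹ * a * x⁻¹⁻¹) = a * x by group]
    refine ⟨c, hc, ?_⟩
    have h := congrArg (LinearMap.trace ℂ _) hc
    rw [map_sum, trace_smul_id, ← Representation.char_one ρ] at h
    exact h
  obtain ⟨cA, hA1, hA2⟩ := key A hA
  obtain ⟨cB, hB1, hB2⟩ := key B hB
  have h : LinearMap.trace ℂ _ ((∑ a ∈ A, ρ a) * ∑ b ∈ B, ρ b) =
      cA * cB * ρ.character 1 := by
    rw [hA1, hB1, Representation.char_one, ← trace_smul_id]
    congr 1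
    ext v
    simp [smul_smul, Module.End.mul_apply, mul_comm]
  rw [Finset.sum_mul_sum, ← Finset.sum_product', map_sum] at h
  have h' : ∑ q ∈ A ×ˢ B, ρ.character (q.1 * q.2) = cA * cB * ρ.character 1 := by
    rw [← h]
    exact Finset.sum_congr rfl fun q _ => by rw [← map_mul]; rfl
  simp only
  rw [hA2, hB2, h']
  ring

variable [Fintype G] (hG : Cfsg.IsMinSimpleOddOrder G) (hNB : NoBad G) {M : Subgroup G}
  (hM : IsCoatom M)
include hG hNB hM

/-- An element of `M_σ` conjugate into an `M`-invariant subset `O` of `M_σ` and centralised by a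
non-identity element of `M_σ` lies in `O`. -/
theorem mem_of_centralized {O : Finset G} (hO : ∀ x ∈ O, x ∈ Cfsg.sigmaCore M)
    (hOn : ∀ x ∈ O, ∀ s ∈ M, s * x * s⁻¹ ∈ O) {x g u : G} (hx : x ∈ O)
    (hu : u ∈ Cfsg.sigmaCore M) (hu1 : u ≠ 1) (hfix : u * (g * x * g⁻¹) * u⁻¹ = g * x * g⁻¹) :
    g * x * g⁻¹ ∈ O := by
  by_cases hx1 : x = 1
  · rwa [hx1, mul_one, mul_inv_cancel, ← hx1]
  have hc : g * x * g⁻¹ ∈ Subgroup.centralizer ({u} : Set G) :=
    Subgroup.mem_centralizer_singleton_iff.2 (mul_inv_eq_iff_eq_mul.1 hfix).symm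
  exact hOn x hx g (mem_of_conj_mem hG hNB hM (hO x hx) hx1 (hNB M hM u hu hu1 hc))

/-- The congruence modulo `|M_σ|`. -/
theorem sum_mul_sum_cong (χ : IrrCharacter G) {O O' : Finset G}
    (hO : ∀ x ∈ O, x ∈ Cfsg.sigmaCore M) (hO' : ∀ x ∈ O', x ∈ Cfsg.sigmaCore M)
    (hOn : ∀ x ∈ O, ∀ s ∈ M, s * x * s⁻¹ ∈ O) (hOn' : ∀ x ∈ O', ∀ s ∈ M, s * x * s⁻¹ ∈ O') :
    ∃ r : ℂ, IsIntegral ℤ r ∧
      (∑ x ∈ O, (χ : G → ℂ) x) * ∑ x ∈ O', (χ : G → ℂ) x =
        (χ : G → ℂ) 1 * ∑ q ∈ O ×ˢ O', (χ : G → ℂ) (q.1 * q.2) +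
          (Nat.card (Cfsg.sigmaCore M) : ℂ) * r := by
  classical
  set P : Subgroup (ConjAct G) := (Cfsg.sigmaCore M).map ConjAct.toConjAct.toMonoidHom with hPdef
  have hP : Nat.card P = Nat.card (Cfsg.sigmaCore M) :=
    (Nat.card_congr ((Cfsg.sigmaCore M).equivMapOfInjective _
      ConjAct.toConjAct.injective).toEquiv).symm
  have hP' : ∀ u : P, ∃ v ∈ Cfsg.sigmaCore M, (u ≠ 1 → v ≠ 1) ∧ v ∈ M ∧
      ∀ w : G, u • w = v * w * v⁻¹ := by
    rintro ⟨_, v, hv, rfl⟩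
    exact ⟨v, hv, fun h e => h (Subtype.ext (by simp [e])), Subgroup.map_subtype_le _ hv,
      fun w => rfl⟩
  -- the conjugates of `O` and `O'`
  let cl : Finset G → Finset G := fun X =>
    (Finset.univ ×ˢ X).image fun q : G × G => q.1 * q.2 * q.1⁻¹
  have hcl : ∀ X : Finset G, ∀ a : G, a ∈ cl X ↔ ∃ g : G, ∃ x ∈ X, g * x * g⁻¹ = a := by
    intro X a
    simp [cl]
  have hclosed : ∀ X : Finset G, ∀ a ∈ cl X, ∀ g : G, g * a * g⁻¹ ∈ cl X := by
    intro X a ha g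
    obtain ⟨k, x, hx, rfl⟩ := (hcl X a).1 ha
    exact (hcl X _).2 ⟨g * k, x, hx, by group⟩
  have hsub : ∀ X : Finset G, X ⊆ cl X := fun X x hx => (hcl X x).2 ⟨1, x, hx, by group⟩
  -- one factor
  have hone : ∀ X : Finset G, (∀ x ∈ X, x ∈ Cfsg.sigmaCore M) →
      (∀ x ∈ X, ∀ s ∈ M, s * x * s⁻¹ ∈ X) →
      ∃ r : ℂ, IsIntegral ℤ r ∧ ∑ a ∈ cl X, (χ : G → ℂ) a =
        ∑ a ∈ X, (χ : G → ℂ) a + (Nat.card (Cfsg.sigmaCore M) : ℂ) * r := by
    intro X hX hXn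
    have hinv : ∀ (u : P) (a : G), (if u • a ∈ cl X ∧ u • a ∉ X then (χ : G → ℂ) (u • a) else 0) =
        if a ∈ cl X ∧ a ∉ X then (χ : G → ℂ) a else 0 := by
      intro u a
      obtain ⟨v, -, -, hvM, hva⟩ := hP' u
      rw [hva]
      refine if_congr (and_congr ⟨fun h => ?_, fun h => hclosed X a h v⟩
        (not_congr ⟨fun h => ?_, fun h => hXn a h v hvM⟩)) (isClassFunction_irr χ a v) rfl
      · convert hclosed X _ h v⁻¹ using 1; group
      · convert hXn _ h v⁻¹ (inv_mem hvM) using 1; group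
    have hfree : ∀ a, (if a ∈ cl X ∧ a ∉ X then (χ : G → ℂ) a else 0) ≠ 0 →
        ∀ u : P, u • a = a → u = 1 := by
      intro a ha u hu
      obtain ⟨v, hv, hv1, -, hva⟩ := hP' u
      by_contra hne
      have hcase : a ∈ cl X ∧ a ∉ X := by
        by_contra h
        exact ha (if_neg h)
      obtain ⟨g, x, hx, rfl⟩ := (hcl X a).1 hcase.1
      rw [hva] at hu
      exact hcase.2 (mem_of_centralized hG hNB hM hX hXn hx hv (hv1 hne) hu)
    obtain ⟨r, hr, he⟩ := sum_free_action (P := P) (α := G) _ hinv hfree fun a => by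
      split_ifs
      exacts [isCharacter_isIntegral (isCharacter_irr χ) a, isIntegral_zero]
    refine ⟨r, hr, ?_⟩
    rw [← hP, ← he, ← Finset.sum_filter, ← Finset.sum_sdiff (hsub X), add_comm]
    congr 1
    exact Finset.sum_congr (by ext a; simp) fun _ _ => rfl
  obtain ⟨rA, hrA, hA⟩ := hone O hO hOn
  obtain ⟨rB, hrB, hB⟩ := hone O' hO' hOn'
  -- pairs
  have hinv : ∀ (u : P) (q : G × G), (if u • q ∈ cl O ×ˢ cl O' ∧ u • q ∉ O ×ˢ O' then
      (χ : G → ℂ) ((u • q).1 * (u • q).2) else 0) =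
      if q ∈ cl O ×ˢ cl O' ∧ q ∉ O ×ˢ O' then (χ : G → ℂ) (q.1 * q.2) else 0 := by
    intro u q
    obtain ⟨v, -, -, hvM, hva⟩ := hP' u
    have hmemA : ∀ X : Finset G, (∀ x ∈ X, ∀ s ∈ M, s * x * s⁻¹ ∈ X) → ∀ a : G,
        (v * a * v⁻¹ ∈ cl X ↔ a ∈ cl X) ∧ (v * a * v⁻¹ ∈ X ↔ a ∈ X) := fun X hXn a =>
      ⟨⟨fun h => by convert hclosed X _ h v⁻¹ using 1; group, fun h => hclosed X a h v⟩,
        ⟨fun h => by convert hXn _ h v⁻¹ (inv_mem hvM) using 1; group, fun h => hXn a h v hvM⟩⟩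
    have e1 : (u • q).1 = v * q.1 * v⁻¹ := hva _
    have e2 : (u • q).2 = v * q.2 * v⁻¹ := hva _
    refine if_congr ?_ ?_ rfl
    · simp only [Finset.mem_product, e1, e2, (hmemA O hOn _).1, (hmemA O hOn _).2,
        (hmemA O' hOn' _).1, (hmemA O' hOn' _).2]
    · rw [e1, e2, show v * q.1 * v⁻¹ * (v * q.2 * v⁻¹) = v * (q.1 * q.2) * v⁻¹ by group,
        isClassFunction_irr χ]
  have hfree : ∀ q : G × G, (if q ∈ cl O ×ˢ cl O' ∧ q ∉ O ×ˢ O' then
      (χ : G → ℂ) (q.1 * q.2) else 0) ≠ 0 → ∀ u : P, u • q = q → u = 1 := by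
    intro q hq u hu
    obtain ⟨v, hv, hv1, -, hva⟩ := hP' u
    by_contra hne
    have hcase : q ∈ cl O ×ˢ cl O' ∧ q ∉ O ×ˢ O' := by
      by_contra h
      exact hq (if_neg h)
    have e1 : v * q.1 * v⁻¹ = q.1 := (hva _).symm.trans (congrArg Prod.fst hu)
    have e2 : v * q.2 * v⁻¹ = q.2 := (hva _).symm.trans (congrArg Prod.snd hu)
    obtain ⟨hq1, hq2⟩ := Finset.mem_product.1 hcase.1
    obtain ⟨g, x, hx, hgx⟩ := (hcl O _).1 hq1
    obtain ⟨g', x', hx', hgx'⟩ := (hcl O' _).1 hq2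
    refine hcase.2 (Finset.mem_product.2 ⟨?_, ?_⟩)
    · rw [← hgx] at e1 ⊢
      exact mem_of_centralized hG hNB hM hO hOn hx hv (hv1 hne) e1
    · rw [← hgx'] at e2 ⊢
      exact mem_of_centralized hG hNB hM hO' hOn' hx' hv (hv1 hne) e2
  obtain ⟨r, hr, he⟩ := sum_free_action (P := P) (α := G × G) _ hinv hfree fun q => by
    split_ifs
    exacts [isCharacter_isIntegral (isCharacter_irr χ) _, isIntegral_zero]
  have hint : ∀ X : Finset G, IsIntegral ℤ (∑ a ∈ X, (χ : G → ℂ) a) := fun X =>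
    IsIntegral.sum _ fun a _ => isCharacter_isIntegral (isCharacter_irr χ) a
  refine ⟨(χ : G → ℂ) 1 * r - rA * (∑ a ∈ O', (χ : G → ℂ) a) - rB * (∑ a ∈ cl O, (χ : G → ℂ) a),
    (((isCharacter_isIntegral (isCharacter_irr χ) 1).mul hr).sub (hrA.mul (hint _))).sub
      (hrB.mul (hint _)), ?_⟩
  have hsplit : ∑ q ∈ cl O ×ˢ cl O', (χ : G → ℂ) (q.1 * q.2) =
      ∑ q ∈ O ×ˢ O', (χ : G → ℂ) (q.1 * q.2) + (Nat.card (Cfsg.sigmaCore M) : ℂ) * r := by
    rw [← hP, ← he, ← Finset.sum_filter,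
      ← Finset.sum_sdiff (Finset.product_subset_product (hsub O) (hsub O')), add_comm]
    congr 1
    exact Finset.sum_congr (by ext a; simp) fun _ _ => rfl
  have h := sum_mul_sum_of_closed χ (cl O) (cl O') (hclosed O) (hclosed O')
  rw [hsplit, hB] at h
  linear_combination h - (∑ a ∈ O', (χ : G → ℂ) a) * hA

end CfsgLib.FT
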