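import Cfsg.Agent.Lib.Char.CoherenceCentral
import Cfsg.Agent.Lib.Char.CoherenceDescend
import Cfsg.Agent.Lib.Char.PPrimeDegreeSquares
import Cfsg.Agent.Lib.Char.CoherenceSystem

/-!
# The characters non-trivial on a central section (`docs/FT.md`, §4)

`K` normal in `L`, `C ≤ CN ≤ K` normal in `L` with `CN / C` central in the `p`-group `K / C`, `|L : K|`
prime to `p`.  The characters induced from the irreducible characters of `K / C` non-trivial on `CN` are
coherent, and the sum of the squares of their degrees is `|L : K| (|K : C| - |K : CN|)`.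
-/

set_option autoImplicit false
set_option linter.unusedSectionVars false
set_option linter.style.haveILetI false

namespace CfsgLib.FT.TypeV

open scoped ComplexConjugate
open Cfsg CfsgLib.Char

universe u v

/-- An element central modulo the kernel acts as a scalar. -/
theorem irr_mul_of_central {Γ : Type u} [Group Γ] [Fintype Γ] (θ : IrrCharacter Γ) {d : Γ}
    (hd : ∀ x, (θ : Γ → ℂ) (d * x * d⁻¹ * x⁻¹) = (θ : Γ → ℂ) 1) (x : Γ) :
    (θ : Γ → ℂ) (d * x) * (θ : Γ → ℂ) 1 = (θ : Γ → ℂ) d * (θ : Γ → ℂ) x := by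
  obtain ⟨θ, n, ρ, hρ, rfl⟩ := θ
  obtain ⟨c, hc⟩ := schur_scalar ρ (ρ d) fun y => by
    have h : ρ (d * y * d⁻¹ * y⁻¹) = LinearMap.id :=
      (char_eq_degree_iff ρ _).1 ((hd y).trans (Representation.char_one ρ))
    calc ρ d * ρ y = ρ (d * y * d⁻¹ * y⁻¹) * ρ (y * d) := by
          rw [← map_mul, ← map_mul]; congr 1; group
      _ = ρ y * ρ d := by rw [h, map_mul]; rfl
  have key : ∀ y, ρ.character (d * y) = c * ρ.character y := fun y => by
    show LinearMap.trace ℂ _ (ρ (d * y)) = c * LinearMap.trace ℂ _ (ρ y)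
    rw [map_mul, hc, ← smul_eq_mul c, ← map_smul]
    rfl
  have h1 := key 1
  rw [mul_one] at h1
  show ρ.character (d * x) * ρ.character 1 = ρ.character d * ρ.character x
  rw [key, h1]
  ring

section Section

variable {L : Type u} [Group L] [Fintype L] (K : Subgroup L) [K.Normal] {C CN : Subgroup L}
  [C.Normal] [CN.Normal]

theorem central_section_finite : (inducedIrrAbove K C \ inducedIrrAbove K CN).Finite := by
  haveI := Fintype.ofFinite K
  refine (Set.finite_range fun θ : IrrCharacter K => indFun K (θ : K → ℂ)).subset ?_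
  rintro φ ⟨⟨θ, h1, -, -, rfl⟩, -⟩
  exact ⟨⟨θ, h1⟩, rfl⟩

variable (hle : C ≤ CN) (hCNK : CN ≤ K) (hcent : ∀ x ∈ CN, ∀ y ∈ K, x * y * x⁻¹ * y⁻¹ ∈ C)
include hle hCNK hcent

/-- Without fixed points on `CN / C` the members are irreducible. -/
theorem indFun_irr_of_central_section
    (hfpf : ∀ x, x ∉ K → ∀ a ∈ CN, x * a * x⁻¹ * a⁻¹ ∈ C → a ∈ C)
    {φ : L → ℂ} (hφ : φ ∈ inducedIrrAbove K C \ inducedIrrAbove K CN) : IsIrrCharacter L φ := by
  classical
  haveI := Fintype.ofFinite K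
  obtain ⟨⟨θ, hθ, hθ1, hC, rfl⟩, hN⟩ := hφ
  refine isIrr_of_isCharacter_norm_one (isCharacter_indFun K (isCharacter_of_isIrr hθ)) ?_
  have hstab : ∀ x : L, conjFun K θ x = θ ↔ x ∈ K := by
    intro x
    refine ⟨fun hx => ?_, fun hx => ?_⟩
    · by_contra hxK
      refine hN ⟨θ, hθ, hθ1, fun a ha => ?_, rfl⟩
      -- `[x, CN] C = CN`
      set π := QuotientGroup.mk' C
      set Q : Subgroup (L ⧸ C) := CN.map π
      have hmem : ∀ q ∈ Q, π x * q * (π x)⁻¹ * q⁻¹ ∈ Q := by
        rintro _ ⟨b, hb, rfl⟩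
        exact ⟨x * b * x⁻¹ * b⁻¹, mul_mem (‹CN.Normal›.conj_mem b hb x) (inv_mem hb), by simp⟩
      let F : Q → Q := fun q => ⟨_, hmem q q.2⟩
      have hinj : Function.Injective F := by
        rintro ⟨_, b, hb, rfl⟩ ⟨_, c, hc, rfl⟩ he
        have he' : π (x * b * x⁻¹ * b⁻¹) = π (x * c * x⁻¹ * c⁻¹) := by
          simpa [F] using congrArg Subtype.val he
        have hcomm : ∀ u ∈ CN, ∀ v ∈ CN, π u * π v = π v * π u := fun u hu v hv => by
          have h := (QuotientGroup.eq_one_iff _).2 (hcent u hu v (hCNK hv))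
          change π (u * v * u⁻¹ * v⁻¹) = 1 at h
          rw [map_mul, map_mul, map_mul, map_inv, map_inv, mul_inv_eq_one, mul_inv_eq_iff_eq_mul] at h
          exact h
        have hmem' : x * b * x⁻¹ ∈ CN := ‹CN.Normal›.conj_mem b hb x
        have h2 : π (x * (c⁻¹ * b) * x⁻¹) = π (c⁻¹ * b) := by
          have e1 : π (x * b * x⁻¹) = π (x * c * x⁻¹) * (π c)⁻¹ * π b := by
            have := he'
            simp only [map_mul, map_inv] at this ⊢
            rw [mul_inv_eq_iff_eq_mul] at this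
            exact this
          have e2 : π (x * (c⁻¹ * b) * x⁻¹) = (π (x * c * x⁻¹))⁻¹ * π (x * b * x⁻¹) := by
            rw [← map_inv, ← map_mul]; congr 1; group
          rw [e2, e1]
          simp only [map_mul, map_inv]
          group
        have h3 : c⁻¹ * b ∈ C := by
          refine hfpf x hxK _ (mul_mem (inv_mem hc) hb) ?_
          rw [← QuotientGroup.eq_one_iff]
          show π (x * (c⁻¹ * b) * x⁻¹ * (c⁻¹ * b)⁻¹) = 1
          rw [map_mul, h2, map_inv, mul_inv_cancel]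
        exact Subtype.ext ((QuotientGroup.eq).2 h3).symm
      obtain ⟨⟨_, b, hb, rfl⟩, hF⟩ := Finite.injective_iff_surjective.1 hinj ⟨π (a : L), a, ha, rfl⟩
      set m : L := x * b * x⁻¹ * b⁻¹ with hm
      have hmCN : m ∈ CN := mul_mem (‹CN.Normal›.conj_mem b hb x) (inv_mem hb)
      have hac : m⁻¹ * (a : L) ∈ C := (QuotientGroup.eq).1 (by
        have := congrArg Subtype.val hF
        simpa [F, π, hm] using this)
      have hsc : ∀ d : K, (d : L) ∈ CN → ∀ y : K, θ (d * y * d⁻¹ * y⁻¹) = θ 1 := fun d hd y =>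
        hC _ (hcent d hd y y.2)
      let mK : K := ⟨m, hCNK hmCN⟩
      let bK : K := ⟨b, hCNK hb⟩
      have hne : ∀ d : K, (d : L) ∈ CN → θ d ≠ 0 := fun d hd h0 => by
        have h := irr_mul_of_central ⟨θ, hθ⟩ (hsc d hd) d⁻¹
        simp only [mul_inv_cancel, h0, zero_mul] at h
        exact irr_one_ne_zero ⟨θ, hθ⟩ (mul_self_eq_zero.1 h)
      have hm1 : θ mK = θ 1 := by
        have h := irr_mul_of_central ⟨θ, hθ⟩ (hsc mK hmCN) bK
        have h2 : θ (mK * bK) = θ bK := by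
          have := congrFun hx bK
          rw [← this]
          show θ (mK * bK) = θ ⟨x * bK * x⁻¹, _⟩
          congr 1
          exact Subtype.ext (show m * b = x * b * x⁻¹ by rw [hm]; group)
        simp only [h2] at h
        exact (mul_left_cancel₀ (hne bK hb) (h.trans (mul_comm _ _))).symm
      have h := irr_mul_of_central ⟨θ, hθ⟩ (hsc mK hmCN) ⟨m⁻¹ * (a : L), hCNK (hle hac)⟩
      simp only [show mK * (⟨m⁻¹ * (a : L), hCNK (hle hac)⟩ : K) = a from
        Subtype.ext (mul_inv_cancel_left m (a : L))] at h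
      rw [hm1, hC ⟨_, _⟩ hac] at h
      exact mul_right_cancel₀ (irr_one_ne_zero ⟨θ, hθ⟩) h
    · funext n
      show θ _ = θ n
      have := isClassFunction_of_isCharacter (isCharacter_of_isIrr hθ) n ⟨x, hx⟩
      exact this
  rw [classInner_indFun K _ _ (isClassFunction_indFun K θ), ← classInner_conj,
    classInner_restrict_indFun K hθ hθ, Nat.card_congr (Equiv.subtypeEquivRight hstab)]
  simp

/-- The degrees. -/
theorem degree_central_section {p m : ℕ} (hp : p.Prime) (hm : C.relIndex K = p ^ m) {φ : L → ℂ}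
    (hφ : φ ∈ inducedIrrAbove K C \ inducedIrrAbove K CN) :
    ∃ i : ℕ, φ 1 = ((K.index * p ^ i : ℕ) : ℂ) ∧ p ^ (2 * i) ≤ CN.relIndex K := by
  classical
  haveI := Fintype.ofFinite K
  obtain ⟨⟨θ, hθ, -, hC, rfl⟩, -⟩ := hφ
  obtain ⟨b, -, hb⟩ := isIrrCharacter_degree hθ
  have hdvd := PPrimeSquares.deg_dvd_index (C.subgroupOf K) (C.subgroupOf K) ⟨θ, hθ⟩
    (fun a ha c hc => mul_mem (mul_mem (mul_mem ha hc) (inv_mem ha)) (inv_mem hc)) fun a ha => hC a ha
  have hbd : charDegree θ = b := by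
    have h := PPrimeSquares.deg_spec (⟨θ, hθ⟩ : IrrCharacter K)
    exact_mod_cast h.symm.trans hb
  change charDegree θ ∣ C.relIndex K at hdvd
  rw [hbd, hm] at hdvd
  obtain ⟨i, -, rfl⟩ := (Nat.dvd_prime_pow hp).1 hdvd
  refine ⟨i, by rw [indFun_one, hb, Nat.cast_mul], ?_⟩
  have h := degree_sq_le_of_central_section (B := C) (C := K) (D := CN) ⟨θ, hθ⟩ hC hCNK le_rfl hcent hb
  rwa [Subgroup.relIndex_self, one_pow, one_mul, ← pow_mul, mul_comm i 2] at h

omit hcent in
/-- The sum of the squares of the degrees. -/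
theorem sum_sq_central_section (X : Finset (L → ℂ))
    (hX : (X : Set (L → ℂ)) = inducedIrrAbove K C \ inducedIrrAbove K CN)
    (hirr : ∀ χ ∈ inducedIrrAbove K C \ inducedIrrAbove K CN, IsIrrCharacter L χ) :
    ∑ φ ∈ X, φ 1 ^ 2 = (K.index : ℂ) * ((C.relIndex K : ℂ) - (CN.relIndex K : ℂ)) := by
  classical
  haveI := Fintype.ofFinite K
  have hsub : inducedIrrAbove K CN ⊆ inducedIrrAbove K C := inducedIrrAbove_mono K hle
  have hfin : (inducedIrrAbove K C).Finite := by
    refine (Set.finite_range fun θ : IrrCharacter K => indFun K (θ : K → ℂ)).subset ?_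
    rintro φ ⟨θ, h1, -, -, rfl⟩
    exact ⟨⟨θ, h1⟩, rfl⟩
  have hXe : X = hfin.toFinset \ (hfin.subset hsub).toFinset := by
    apply Finset.coe_injective
    rw [hX, Finset.coe_sdiff, Set.Finite.coe_toFinset, Set.Finite.coe_toFinset]
  have h2 := sum_sq_inducedIrrAbove K C hfin.toFinset hfin.coe_toFinset
  have h3 := sum_sq_inducedIrrAbove K CN (hfin.subset hsub).toFinset (hfin.subset hsub).coe_toFinset
  rw [← Finset.sum_sdiff (show (hfin.subset hsub).toFinset ⊆ hfin.toFinset by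
    intro x hx; exact hfin.mem_toFinset.2 (hsub ((hfin.subset hsub).mem_toFinset.1 hx))), h3, ← hXe,
    Finset.sum_congr rfl (g := fun φ => φ 1 ^ 2) fun φ hφ => by
      rw [show classInner φ φ = 1 from classInner_irr_self ⟨φ, hirr φ (hX ▸ Finset.mem_coe.2 hφ)⟩,
        div_one]] at h2
  linear_combination h2

variable {G : Type v} [Group G] [Fintype G] {τ : (L → ℂ) → (G → ℂ)}
  {R : (L → ℂ) → Finset (G → ℂ)}

/-- The characters non-trivial on a central section of a `p`-section are coherent. -/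
theorem coherent_central_section (hodd : Odd (Nat.card L)) {p m : ℕ} (hp : p.Prime)
    (hm : C.relIndex K = p ^ m) (hcop : K.index.Coprime p)
    (hirr : ∀ χ ∈ inducedIrrAbove K C \ inducedIrrAbove K CN, IsIrrCharacter L χ)
    (hS : IsCoherenceSystem (inducedIrrAbove K C \ inducedIrrAbove K CN) τ R) :
    IsCoherent (inducedIrrAbove K C \ inducedIrrAbove K CN) {1}ᶜ τ := by
  classical
  haveI := Fintype.ofFinite K
  set X := (central_section_finite K (C := C) (CN := CN)).toFinset with hX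
  have hXset : (X : Set (L → ℂ)) = inducedIrrAbove K C \ inducedIrrAbove K CN := Set.Finite.coe_toFinset _
  have hXmem : ∀ φ, φ ∈ X ↔ φ ∈ inducedIrrAbove K C \ inducedIrrAbove K CN := fun φ => by
    rw [← hXset, Finset.mem_coe]
  have hXconj : ∀ φ ∈ X, Cfsg.conjFun φ ∈ X := fun φ hφ => (hXmem _).2 (hS.conj_mem φ ((hXmem φ).1 hφ))
  set e := K.index with he
  have hp3 : 3 ≤ p ∨ m = 0 := by
    rcases Nat.eq_zero_or_pos m with h | h
    · exact Or.inr h
    · left
      have hpo : Odd p := hodd.of_dvd_nat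
        ((dvd_pow_self p h.ne').trans (hm ▸ (Subgroup.relIndex_dvd_card C K).trans (Subgroup.card_subgroup_dvd_card K)))
      have := hp.two_le
      obtain ⟨u, hu⟩ := hpo
      omega
  -- degrees
  obtain ⟨j, -, hj⟩ := (Nat.dvd_prime_pow hp).1 (hm ▸ Subgroup.relIndex_dvd_of_le_left K hle)
  have hdeg : ∀ φ, ∃ i : ℕ, φ ∈ X → φ 1 = ((e * p ^ i : ℕ) : ℂ) ∧ p ^ (2 * i) ∣ CN.relIndex K := by
    intro φ
    by_cases hφ : φ ∈ X
    · obtain ⟨i, h1, h2⟩ := degree_central_section K hle hCNK hcent hp hm ((hXmem φ).1 hφ)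
      refine ⟨i, fun _ => ⟨h1, ?_⟩⟩
      rw [hj] at h2 ⊢
      exact pow_dvd_pow p ((Nat.pow_le_pow_iff_right hp.one_lt).1 h2)
    · exact ⟨0, fun h => absurd h hφ⟩
  choose ex hex using hdeg
  set d : (L → ℂ) → ℕ := fun φ => if φ ∈ X then e * p ^ ex φ else 0 with hd_
  have hdX : ∀ φ ∈ X, d φ = e * p ^ ex φ := fun φ h => if_pos h
  have hd : ∀ φ ∈ X, φ 1 = (d φ : ℂ) := fun φ h => by rw [hdX φ h]; exact (hex φ h).1
  have he0 : 0 < e := Nat.pos_of_ne_zero Subgroup.index_ne_zero_of_finite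
  -- the total weight
  have hc : C.relIndex CN * CN.relIndex K = C.relIndex K := Subgroup.relIndex_mul_relIndex _ _ _ hle hCNK
  have hr1 : 1 ≤ C.relIndex CN := Nat.pos_of_ne_zero Subgroup.index_ne_zero_of_finite
  have htotal : ∑ φ ∈ X, d φ ^ 2 = e * CN.relIndex K * (C.relIndex CN - 1) := by
    apply Nat.cast_injective (R := ℂ)
    have h2 := sum_sq_central_section K hle hCNK X hXset hirr
    rw [Finset.sum_congr rfl fun φ hφ => by rw [hd φ hφ], ← hc] at h2
    push_cast [Nat.cast_sub hr1] at h2 ⊢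
    linear_combination h2
  have hXne : X.Nonempty := by
    obtain ⟨φ, hφ⟩ := hS.nonempty
    exact ⟨φ, (hXmem φ).2 hφ⟩
  obtain ⟨χ₀, hχ₀, hmin⟩ := Finset.exists_min_image X ex hXne
  have hSX : IsCoherenceSystem (X : Set (L → ℂ)) τ R := by rwa [hXset]
  have hexc : ∀ φ ∈ X, ex (Cfsg.conjFun φ) = ex φ := fun φ hφ => by
    have h := cs_conj_one hSX (φ := φ) hφ
    rw [hd _ (hXconj φ hφ), hd φ hφ, Nat.cast_inj, hdX _ (hXconj φ hφ), hdX φ hφ] at h
    exact Nat.pow_right_injective hp.two_le (Nat.eq_of_mul_eq_mul_left he0 h)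
  have hblock : ∀ i, ex χ₀ ≤ i →
      IsCoherent (↑(X.filter fun φ => ex φ ≤ i) : Set (L → ℂ)) {1}ᶜ τ := by
    intro i hi
    induction i, hi using Nat.le_induction with
    | base =>
      refine coherent_constant_degree (cs_mono hSX (Finset.coe_subset.2 (Finset.filter_subset _ _)) ⟨χ₀, by simp [hχ₀]⟩ fun φ hφ => ?_) ?_
      · simp only [Finset.coe_filter, Set.mem_ofPred_eq] at hφ ⊢
        exact ⟨hXconj φ hφ.1, by rw [hexc φ hφ.1]; exact hφ.2⟩
      · intro φ hφ ψ hψ
        simp only [Finset.coe_filter, Set.mem_ofPred_eq] at hφ hψ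
        rw [hd φ hφ.1, hd ψ hψ.1, hdX φ hφ.1, hdX ψ hψ.1, le_antisymm hφ.2 (hmin φ hφ.1),
          le_antisymm hψ.2 (hmin ψ hψ.1)]
    | succ i hi ih =>
      set S₁ := X.filter fun φ => ex φ ≤ i with hS₁
      set T := X.filter fun φ => ex φ = i + 1 with hT
      by_cases hTe : T = ∅
      · rwa [show X.filter (fun φ => ex φ ≤ i + 1) = S₁ from Finset.filter_congr fun φ hφ => by
          refine ⟨fun h => ?_, fun h => by omega⟩
          by_contra h'
          exact Finset.notMem_empty φ (hTe ▸ Finset.mem_filter.2 ⟨hφ, by omega⟩)]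
      obtain ⟨χ, hχ⟩ := Finset.nonempty_iff_ne_empty.2 hTe
      obtain ⟨hχX, hχi⟩ := Finset.mem_filter.1 hχ
      have hm0 : m ≠ 0 := by
        intro h0
        have h1 := (hex χ hχX).2
        have h2 := Subgroup.relIndex_dvd_of_le_left K hle
        rw [hm, h0, pow_zero, Nat.dvd_one] at h2
        rw [h2, hχi, Nat.dvd_one, Nat.pow_eq_one] at h1
        rcases h1 with h1 | h1
        · exact hp.ne_one h1
        · omega
      have hp3' : 3 ≤ p := hp3.resolve_right hm0
      have hdvd : p ^ (2 * (i + 1)) ∣ ∑ φ ∈ S₁, d φ ^ 2 := by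
        have hall : p ^ (2 * (i + 1)) ∣ ∑ φ ∈ X, d φ ^ 2 := by
          rw [htotal, mul_comm e, mul_assoc]
          exact Dvd.dvd.mul_right (hχi ▸ (hex χ hχX).2) _
        have hrest : p ^ (2 * (i + 1)) ∣ ∑ φ ∈ X.filter (fun φ => ¬ ex φ ≤ i), d φ ^ 2 :=
          Finset.dvd_sum fun φ hφ => by
            obtain ⟨hφX, hφi⟩ := Finset.mem_filter.1 hφ
            rw [hdX φ hφX, mul_pow, ← pow_mul]
            exact Dvd.dvd.mul_left (pow_dvd_pow p (by omega)) _
        rw [← Finset.sum_filter_add_sum_filter_not X (fun φ => ex φ ≤ i)] at hall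
        exact (Nat.dvd_add_left hrest).1 hall
      have hdvde : e ^ 2 ∣ ∑ φ ∈ S₁, d φ ^ 2 := Finset.dvd_sum fun φ hφ => by
        rw [hdX φ (Finset.mem_filter.1 hφ).1, mul_pow]
        exact dvd_mul_right _ _
      have hχ₀S : χ₀ ∈ S₁ := Finset.mem_filter.2 ⟨hχ₀, hi⟩
      have hbig : e ^ 2 * p ^ (2 * (i + 1)) ≤ ∑ φ ∈ S₁, d φ ^ 2 := by
        refine Nat.le_of_dvd ?_ ((Nat.Coprime.pow 2 _ hcop).mul_dvd_of_dvd_of_dvd hdvde hdvd)
        refine lt_of_lt_of_le ?_ (Finset.single_le_sum (fun φ _ => Nat.zero_le _) hχ₀S)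
        rw [hdX χ₀ hχ₀]
        have : 0 < p := hp.pos
        positivity
      obtain ⟨S₂, h12, hT2, h2S, -, h5⟩ := coherent_adjoin hSX d hd S₁
        (Finset.coe_subset.2 (Finset.filter_subset _ _))
        (fun φ hφ => by
          obtain ⟨h1, h2⟩ := Finset.mem_filter.1 hφ
          exact Finset.mem_filter.2 ⟨hXconj φ h1, by rw [hexc φ h1]; exact h2⟩)
        ih hχ₀S T (Finset.coe_subset.2 (Finset.filter_subset _ _))
        (fun φ hφ => by
          obtain ⟨hφX, hφi⟩ := Finset.mem_filter.1 hφ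
          rw [hdX φ hφX, hdX χ₀ hχ₀]
          exact Nat.mul_dvd_mul_left e (pow_dvd_pow p (hmin φ hφX)))
        (fun φ hφ => by
          obtain ⟨hφX, hφi⟩ := Finset.mem_filter.1 hφ
          rw [Finset.sum_congr rfl (g := fun ξ => ((d ξ ^ 2 : ℕ) : ℝ)) fun ξ hξ => by
            have hξX := (Finset.mem_filter.1 hξ).1
            rw [show classInner ξ ξ = 1 from classInner_irr_self ⟨ξ, hirr ξ ((hXmem ξ).1 hξX)⟩, div_one,
              hd ξ hξX, ← Nat.cast_pow, Complex.natCast_re], ← Nat.cast_sum]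
          refine lt_of_lt_of_le (b := ((e ^ 2 * p ^ (2 * (i + 1)) : ℕ) : ℝ)) ?_ (Nat.cast_le.2 hbig)
          rw [hdX φ hφX, hdX χ₀ hχ₀, hφi]
          obtain ⟨r, hr⟩ := Nat.exists_eq_add_of_le (show ex χ₀ + 1 ≤ i + 1 by omega)
          have hlt : 2 * (e * p ^ (i + 1)) * (e * p ^ ex χ₀) < e ^ 2 * p ^ (2 * (i + 1)) := by
            rw [hr]
            have h1 : 0 < e ^ 2 * p ^ (2 * ex χ₀ + 1 + r) := by
              have : 0 < p := hp.pos
              positivity
            have h2 : 2 < p ^ (1 + r) := lt_of_lt_of_le (by omega) (Nat.le_self_pow (by omega) p)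
            calc 2 * (e * p ^ (ex χ₀ + 1 + r)) * (e * p ^ ex χ₀)
                = e ^ 2 * p ^ (2 * ex χ₀ + 1 + r) * 2 := by ring
              _ < e ^ 2 * p ^ (2 * ex χ₀ + 1 + r) * p ^ (1 + r) := Nat.mul_lt_mul_of_pos_left h2 h1
              _ = e ^ 2 * p ^ (2 * (ex χ₀ + 1 + r)) := by ring
          calc (2 * ((e * p ^ (i + 1) : ℕ) : ℝ) * ((e * p ^ ex χ₀ : ℕ) : ℝ))
              = ((2 * (e * p ^ (i + 1)) * (e * p ^ ex χ₀) : ℕ) : ℝ) := by push_cast; ring
            _ < _ := Nat.cast_lt.2 hlt)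
      refine coherent_mono hSX h5 (fun φ hφ => ?_) (Finset.coe_subset.2 (Finset.filter_subset _ _))
        ⟨χ₀, by simp only [Finset.coe_filter, Set.mem_ofPred_eq]; exact ⟨hχ₀, by omega⟩⟩ fun φ hφ => ?_
      · obtain ⟨h1, h2⟩ := Finset.mem_filter.1 hφ
        rcases Nat.lt_or_ge i (ex φ) with h' | h'
        · exact hT2 (Finset.mem_filter.2 ⟨h1, by omega⟩)
        · exact h12 (Finset.mem_filter.2 ⟨h1, h'⟩)
      · obtain ⟨h1, h2⟩ := Finset.mem_filter.1 hφ
        exact Finset.mem_filter.2 ⟨hXconj φ h1, by rw [hexc φ h1]; exact h2⟩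
  obtain ⟨N, hN⟩ : ∃ N, ∀ φ ∈ X, ex φ ≤ N := ⟨X.sup ex, fun φ h => Finset.le_sup h⟩
  have := hblock N (hN χ₀ hχ₀)
  rwa [Finset.filter_true_of_mem hN, hXset] at this

end Section

end CfsgLib.FT.TypeV
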