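import Cfsg.Agent.Lib.FT.RectMu
import Cfsg.Agent.Lib.FT.Kernels
import Cfsg.Agent.Lib.FT.Mass
import Cfsg.Agent.Lib.Char.CyclicTI

/-!
# Induction from a maximal subgroup with `κ(M) ≠ ∅` (docs/FT.md §3)

The set `M_σ# ∪ Ẑ^M` is a trivial intersection set with normalizer `M` when there are no bad pairs, so
induction is an isometry on the class functions of `M` vanishing outside it, and does not change their
values there.
-/

set_option autoImplicit false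
set_option linter.unusedSectionVars false
set_option linter.style.haveILetI false

open Subgroup
open scoped commutatorElement

namespace CfsgLib.FT.Rect

open scoped ComplexConjugate
open Cfsg CfsgLib.Char CfsgLib.CFun

universe u

variable {G : Type u} [Group G]

/-- `M_σ#` together with the `M`-conjugates of `Ẑ = W \ (W₁ ∪ W₂)`. -/
def supp (M W₁ W₂ : Subgroup G) : Set G :=
  {x | (x ∈ Cfsg.sigmaCore M ∧ x ≠ 1) ∨
    ∃ m ∈ M, ∃ z, z ∈ W₁ ⊔ W₂ ∧ z ∉ W₁ ∧ z ∉ W₂ ∧ x = m * z * m⁻¹}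

/-- `f` vanishes outside `supp`. -/
def SuppOn (M W₁ W₂ : Subgroup G) (f : ↥M → ℂ) : Prop :=
  ∀ x : ↥M, (x : G) ∉ supp M W₁ W₂ → f x = 0

theorem SuppOn.sub {M W₁ W₂ : Subgroup G} {f g : ↥M → ℂ} (hf : SuppOn M W₁ W₂ f)
    (hg : SuppOn M W₁ W₂ g) : SuppOn M W₁ W₂ (f - g) := fun x hx => by
  rw [Pi.sub_apply, hf x hx, hg x hx, sub_self]

theorem suppOn_of_sigma {M W₁ W₂ : Subgroup G} {f : ↥M → ℂ} (h1 : f 1 = 0)
    (h : ∀ x : ↥M, (x : G) ∉ Cfsg.sigmaCore M → f x = 0) : SuppOn M W₁ W₂ f := fun x hx => by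
  by_cases hσ : (x : G) ∈ Cfsg.sigmaCore M
  · have hx1 : (x : G) = 1 := by
      by_contra e
      exact hx (Or.inl ⟨hσ, e⟩)
    rw [show x = 1 from Subtype.ext hx1, h1]
  · exact h x hσ

variable [Fintype G] {M W₁ U W₂ : Subgroup G}

theorem Kappa.mem_zhat (h : Kappa M W₁ U W₂) {z : G} :
    z ∈ Zhat.zhat M W₁ ↔ z ∈ W₁ ⊔ W₂ ∧ z ∉ W₁ ∧ z ∉ W₂ := by
  simp only [Zhat.zhat, h.eqW₂, Set.mem_sdiff, Set.mem_union, SetLike.mem_coe, not_or]

theorem Kappa.supp_le (h : Kappa M W₁ U W₂) {x : G} (hx : x ∈ supp M W₁ W₂) : x ∈ M := by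
  rcases hx with ⟨hx, -⟩ | ⟨m, hm, z, hz, -, -, rfl⟩
  · exact map_subtype_le _ hx
  · exact mul_mem (mul_mem hm (h.le_sup hz)) (inv_mem hm)

theorem one_notMem_supp : (1 : G) ∉ supp M W₁ W₂ := by
  rintro (⟨-, h1⟩ | ⟨m, -, z, -, hz, -, e⟩)
  · exact h1 rfl
  · exact hz (conj_eq_one_iff.1 e.symm ▸ one_mem _)

theorem SuppOn.apply_one {f : ↥M → ℂ} (hf : SuppOn M W₁ W₂ f) : f 1 = 0 := hf 1 one_notMem_supp

theorem Kappa.supp_conj (h : Kappa M W₁ U W₂) {m x : G} (hm : m ∈ M) (hx : x ∈ supp M W₁ W₂) :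
    m * x * m⁻¹ ∈ supp M W₁ W₂ := by
  rcases hx with ⟨hx, hx1⟩ | ⟨m', hm', z, hz, hz1, hz2, rfl⟩
  · exact Or.inl ⟨(mem_normalizer_iff.1 (TauTwo.sigmaCore_normal h.minSimple M hm) x).1 hx,
      fun e => hx1 (conj_eq_one_iff.1 e)⟩
  · exact Or.inr ⟨m * m', mul_mem hm hm', z, hz, hz1, hz2, by group⟩

/-- `supp` is a trivial intersection set with normalizer `M`. -/
theorem Kappa.supp_ti (h : Kappa M W₁ U W₂) (hNB : NoBad G) {g x : G} (hx : x ∈ supp M W₁ W₂)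
    (hgx : g * x * g⁻¹ ∈ supp M W₁ W₂) : g ∈ M := by
  have hgM := h.supp_le hgx
  rcases hx with ⟨hσ, hx1⟩ | ⟨m, hm, z, hz, hz1, hz2, rfl⟩
  · exact mem_of_conj_mem h.minSimple hNB h.coatom hσ hx1 hgM
  rcases hgx with ⟨hσ, hy1⟩ | ⟨m', hm', z', hz', hz1', hz2', e⟩
  · have := mem_of_conj_mem h.minSimple hNB h.coatom hσ hy1 (g := g⁻¹) (by
      rw [show g⁻¹ * (g * (m * z * m⁻¹) * g⁻¹) * g⁻¹⁻¹ = m * z * m⁻¹ by group]
      exact mul_mem (mul_mem hm (h.le_sup hz)) (inv_mem hm))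
    simpa using inv_mem this
  · have hzz : m'⁻¹ * g * m * z * (m'⁻¹ * g * m)⁻¹ = z' := by
      calc _ = m'⁻¹ * (g * (m * z * m⁻¹) * g⁻¹) * m' := by group
        _ = z' := by rw [e]; group
    have hmem : m'⁻¹ * g * m ∈ W₁ ⊔ W₂ := by
      have := Inter.zhat_transporter h.minSimple h.coatom h.decomp.hall h.neW₁ (g := m'⁻¹ * g * m)
        (z := z) (by exact (h.mem_zhat.2 ⟨hz, hz1, hz2⟩ :))
        (by rw [hzz]; exact (h.mem_zhat.2 ⟨hz', hz1', hz2'⟩ :))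
      rwa [h.eqW₂] at this
    have := mul_mem (mul_mem hm' (h.le_sup hmem)) (inv_mem hm)
    simpa [mul_assoc] using this

/-- Induction does not change values on `supp`. -/
theorem Kappa.ind_apply (h : Kappa M W₁ U W₂) (hNB : NoBad G) {f : ↥M → ℂ}
    (hf : IsClassFunction ↥M f) (hS : SuppOn M W₁ W₂ f) {x : ↥M} (hx : (x : G) ∈ supp M W₁ W₂) :
    indFun M f x = f x := by
  classical
  have key : ∀ y : G, extendByZero M f (y⁻¹ * x * y) = if y ∈ M then f x else 0 := by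
    intro y
    split_ifs with hy
    · rw [extendByZero_mem M f (mul_mem (mul_mem (inv_mem hy) x.2) hy),
        show (⟨y⁻¹ * x * y, _⟩ : ↥M) = (⟨y, hy⟩ : ↥M)⁻¹ * x * (⟨y, hy⟩ : ↥M)⁻¹⁻¹ from
          Subtype.ext (by simp), hf]
    · by_cases hm : y⁻¹ * (x : G) * y ∈ M
      · rw [extendByZero_mem M f hm]
        refine hS _ fun hs => hy ?_
        simpa using inv_mem (h.supp_ti hNB hx (g := y⁻¹) (by simpa using hs))
      · exact extendByZero_not_mem M f hm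
  rw [indFun, Finset.sum_congr rfl fun y _ => key y, ← Finset.sum_filter, Finset.sum_const,
    nsmul_eq_mul, ← Fintype.card_subtype, ← Nat.card_eq_fintype_card, ← mul_assoc,
    inv_mul_cancel₀ (Nat.cast_ne_zero.2 Nat.card_pos.ne'), one_mul]

/-- The induced function on `Ẑ`. -/
theorem Kappa.ind_zhat (h : Kappa M W₁ U W₂) (hNB : NoBad G) {f : ↥M → ℂ}
    (hf : IsClassFunction ↥M f) (hS : SuppOn M W₁ W₂ f) (w : ↥(W₁ ⊔ W₂)) (h1 : (w : G) ∉ W₁)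
    (h2 : (w : G) ∉ W₂) : indFun M f w = f ⟨w, h.le_sup w.2⟩ :=
  h.ind_apply hNB hf hS (x := ⟨w, h.le_sup w.2⟩)
    (Or.inr ⟨1, one_mem M, w, w.2, h1, h2, by simp⟩)

/-- Outside the conjugates of `supp` the induced function is zero. -/
theorem SuppOn.ind_eq_zero {f : ↥M → ℂ} (hS : SuppOn M W₁ W₂ f) {g : G}
    (hg : g ∉ conjSet (supp M W₁ W₂)) : indFun M f g = 0 := by
  rw [indFun, Finset.sum_eq_zero fun y _ => ?_, mul_zero]
  by_cases hm : y⁻¹ * g * y ∈ M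
  · rw [extendByZero_mem M f hm]
    exact hS _ fun hs => hg ⟨y, _, hs, by group⟩
  · exact extendByZero_not_mem M f hm

/-- Induction is an isometry on the class functions vanishing outside `supp`. -/
theorem Kappa.ind_isometry (h : Kappa M W₁ U W₂) (hNB : NoBad G) [Fintype ↥M] {f g : ↥M → ℂ}
    (hSf : SuppOn M W₁ W₂ f) (hg : IsClassFunction ↥M g) (hSg : SuppOn M W₁ W₂ g) :
    classInner (indFun M f) (indFun M g) = classInner f g := by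
  rw [classInner_indFun M f _ (isClassFunction_indFun M g)]
  simp only [classInner]
  congr 1
  refine Finset.sum_congr rfl fun x _ => ?_
  by_cases hx : (x : G) ∈ supp M W₁ W₂
  · rw [h.ind_apply hNB hg hSg hx]
  · rw [hSf x hx, zero_mul, zero_mul]

theorem Kappa.exists_family (h : Kappa M W₁ U W₂) :
    ∃ χ : (↥(W₁ ⊔ W₂) →* ℂˣ) → (G → ℂ), IsCyclicTIFamily W₁ W₂ χ :=
  exists_cyclic_ti_family h.snc h.odd_sup

theorem Kappa.three_le (h : Kappa M W₁ U W₂) : 3 ≤ Nat.card W₁ :=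
  three_le_card h.odd_sup le_sup_left h.neW₁

/-- The elements of `M' \ M_σ` act regularly on `M_σ`. -/
theorem Kappa.regular_derived (h : Kappa M W₁ U W₂) (hNB : NoBad G) {x : G}
    (hx : x ∈ ⁅M, M⁆) (hxσ : x ∉ Cfsg.sigmaCore M) :
    Cfsg.sigmaCore M ⊓ centralizer ({x} : Set G) = ⊥ := by
  have hUM : U ≤ M := h.decomp.compl.1
  have hN := TauTwo.sigmaCore_normal h.minSimple M
  rw [KappaDerived.derived_eq h.minSimple h.coatom h.decomp h.neW₁, sup_comm] at hx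
  obtain ⟨s, hs, u, hu, rfl⟩ := CfsgLib.Coprime.mem_sup_exists (hUM.trans hN) hx
  have hu1 : u ≠ 1 := fun e => hxσ (by rwa [e, mul_one])
  have hreg := regular_U h.minSimple hNB h.coatom h.decomp hu hu1
  have hfix : ∀ c ∈ Cfsg.sigmaCore M, c * u = u * c → c = 1 := fun c hc e => by
    have : c ∈ Cfsg.sigmaCore M ⊓ centralizer ({u} : Set G) :=
      ⟨hc, mem_centralizer_singleton_iff.2 e⟩
    rwa [hreg, mem_bot] at this
  have hmem : ∀ t ∈ Cfsg.sigmaCore M, t * u * t⁻¹ * u⁻¹ ∈ Cfsg.sigmaCore M := fun t ht => by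
    have := mul_mem ht ((mem_normalizer_iff.1 (hN (hUM hu)) _).1 (inv_mem ht))
    rwa [show t * (u * t⁻¹ * u⁻¹) = t * u * t⁻¹ * u⁻¹ by group] at this
  let F : ↥(Cfsg.sigmaCore M) → ↥(Cfsg.sigmaCore M) := fun t => ⟨_, hmem t t.2⟩
  have hF : Function.Injective F := by
    intro t r e
    have e' : (t : G) * u * (t : G)⁻¹ = r * u * (r : G)⁻¹ :=
      mul_right_cancel (congrArg Subtype.val e)
    have h1 : (r : G)⁻¹ * t * u = u * ((r : G)⁻¹ * t) := by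
      calc (r : G)⁻¹ * t * u = (r : G)⁻¹ * (t * u * (t : G)⁻¹) * t := by group
        _ = (r : G)⁻¹ * (r * u * (r : G)⁻¹) * t := by rw [e']
        _ = u * ((r : G)⁻¹ * t) := by group
    exact Subtype.ext (inv_mul_eq_one.1 (hfix _ (mul_mem (inv_mem r.2) t.2) h1)).symm
  obtain ⟨t, ht⟩ := (Finite.injective_iff_surjective.1 hF) ⟨s, hs⟩
  have hsu : s * u = (t : G) * u * (t : G)⁻¹ := by
    have e : (t : G) * u * (t : G)⁻¹ * u⁻¹ = s := congrArg Subtype.val ht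
    rw [← e, inv_mul_cancel_right]
  refine eq_bot_iff.2 fun c hc => ?_
  obtain ⟨hc1, hc2⟩ := mem_inf.1 hc
  rw [mem_centralizer_singleton_iff, hsu] at hc2
  have h1 : (t : G)⁻¹ * c * t * u = u * ((t : G)⁻¹ * c * t) := by
    calc (t : G)⁻¹ * c * t * u = (t : G)⁻¹ * (c * (t * u * (t : G)⁻¹)) * t := by group
      _ = (t : G)⁻¹ * ((t * u * (t : G)⁻¹) * c) * t := by rw [hc2]
      _ = u * ((t : G)⁻¹ * c * t) := by group
  rw [mem_bot, ← conj_eq_one_iff (a := (t : G)⁻¹), inv_inv]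
  exact hfix _ (mul_mem (mul_mem (inv_mem t.2) hc1) t.2) h1

namespace IsCols

variable {mu : (↥(W₁ ⊔ W₂) →* ℂˣ) → (↥M → ℂ)} {sgn : (↥(W₁ ⊔ W₂) →* ℂˣ) → ℤ}
variable (h : Kappa M W₁ U W₂) (C : IsCols M W₁ W₂ mu sgn)
include h

omit C in
theorem notMem_trivOn {φ ψ : ↥(W₁ ⊔ W₂) →* ℂˣ} (hφ : φ ∈ trivOn _ W₂) (hψ : ψ ∈ trivOn _ W₁)
    (hψ1 : ψ ≠ 1) : φ * ψ ∉ trivOn (W₁ ⊔ W₂) W₂ := fun hc =>
  hψ1 (trivOn_mul_inj (snc_disj h.snc) (snc_comm h.snc) hφ hc hψ (one_mem _)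
    (mul_one (φ * ψ)).symm).2

include C

theorem deg_nat (ω : ↥(W₁ ⊔ W₂) →* ℂˣ) : ∃ d : ℕ, 0 < d ∧ mu ω 1 = (d : ℂ) := by
  obtain ⟨d, hd, e⟩ := isIrrCharacter_degree (C.irr ω)
  exact ⟨d, hd, e⟩

theorem deg_inv (ω : ↥(W₁ ⊔ W₂) →* ℂˣ) : mu ω⁻¹ 1 = mu ω 1 := by
  obtain ⟨d, -, hd⟩ := C.deg_nat h ω
  rw [(C.conj_mu h ω).1]
  show conj (mu ω 1) = _
  rw [hd, Complex.conj_natCast]

/-- Equal degrees give equal signs. -/
theorem sgn_eq {a b : ↥(W₁ ⊔ W₂) →* ℂˣ} (e : mu a 1 = mu b 1) : sgn a = sgn b := by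
  obtain ⟨m, hm⟩ := C.deg_mod a
  obtain ⟨n, hn⟩ := C.deg_mod b
  have h3 := h.three_le
  have hz : sgn b - sgn a = (m - n) * (Nat.card W₁ : ℤ) := by
    have : ((sgn b - sgn a : ℤ) : ℂ) = (((m - n) * (Nat.card W₁ : ℤ) : ℤ) : ℂ) := by
      push_cast
      linear_combination hm - hn - e
    exact_mod_cast this
  by_contra hne
  have hd : (Nat.card W₁ : ℤ) ∣ sgn b - sgn a := ⟨m - n, by rw [hz, mul_comm]⟩
  have hle := Int.le_of_dvd (a := (Nat.card W₁ : ℤ)) (b := |sgn b - sgn a|)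
    (abs_pos.2 (sub_ne_zero.2 (Ne.symm hne))) (by rwa [dvd_abs])
  rcases C.sgn_cases a with qa | qa <;> rcases C.sgn_cases b with qb | qb <;>
    rw [qa, qb] at hle <;> norm_num at hle <;> omega

/-- `μ_ij` vanishes on `M' \ M_σ` for `j ≠ 0`. -/
theorem mu_regular (hNB : NoBad G) {φ ψ : ↥(W₁ ⊔ W₂) →* ℂˣ} (hφ : φ ∈ trivOn _ W₂)
    (hψ : ψ ∈ trivOn _ W₁) (hψ1 : ψ ≠ 1) {x : ↥M} (hx : (x : G) ∈ ⁅M, M⁆)
    (hxσ : (x : G) ∉ Cfsg.sigmaCore M) : mu (φ * ψ) x = 0 :=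
  C.mu_eq_zero h (notMem_trivOn h hφ hψ hψ1) (h.regular_derived hNB hx hxσ)

/-- A column other than the first vanishes outside `M_σ`. -/
theorem col_supp (hNB : NoBad G) {ψ : ↥(W₁ ⊔ W₂) →* ℂˣ} (hψ : ψ ∈ trivOn _ W₁) (hψ1 : ψ ≠ 1)
    {x : ↥M} (hx : (x : G) ∉ Cfsg.sigmaCore M) : colSum mu ψ x = 0 := by
  by_cases hD : (x : G) ∈ ⁅M, M⁆
  · rw [colSum, Finset.sum_apply]
    exact Finset.sum_eq_zero fun φ hφ => C.mu_regular h hNB (mem_dualFin.1 hφ) hψ hψ1 hD hx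
  · exact C.col_eq_zero h hD

/-- `μ_ij - μ_il` vanishes outside `supp` when the degrees agree. -/
theorem mu_sub_supp (hNB : NoBad G) {φ ψ ψ' : ↥(W₁ ⊔ W₂) →* ℂˣ} (hφ : φ ∈ trivOn _ W₂)
    (hψ : ψ ∈ trivOn _ W₁) (hψ1 : ψ ≠ 1) (hψ' : ψ' ∈ trivOn _ W₁) (hψ'1 : ψ' ≠ 1)
    (hdeg : mu ψ 1 = mu ψ' 1) : SuppOn M W₁ W₂ (mu (φ * ψ) - mu (φ * ψ')) := by
  intro x hx
  rw [Pi.sub_apply, sub_eq_zero]
  by_cases hD : (x : G) ∈ ⁅M, M⁆
  · by_cases hσ : (x : G) ∈ Cfsg.sigmaCore M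
    · have hx1 : (x : G) = 1 := by
        by_contra e
        exact hx (Or.inl ⟨hσ, e⟩)
      rw [show x = 1 from Subtype.ext hx1, (C.deg_congr h hφ ψ).1, (C.deg_congr h hφ ψ').1, hdeg]
    · rw [C.mu_regular h hNB hφ hψ hψ1 hD hσ, C.mu_regular h hNB hφ hψ' hψ'1 hD hσ]
  · obtain ⟨n, w, hw, hnw⟩ := C.cover h hD
    have hw1 : (w : G) ∈ W₁ := by
      by_contra h1
      refine hx (Or.inr ⟨(n : G)⁻¹, inv_mem n.2, w, w.2, h1, hw, ?_⟩)
      rw [← hnw]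
      simp [mul_assoc]
    rw [← isClassFunction_of_isCharacter (isCharacter_of_isIrr (C.irr (φ * ψ))) x n,
      ← isClassFunction_of_isCharacter (isCharacter_of_isIrr (C.irr (φ * ψ'))) x n,
      C.value (φ * ψ) w _ hnw hw, C.value (φ * ψ') w _ hnw hw, (C.deg_congr h hφ ψ).2,
      (C.deg_congr h hφ ψ').2, C.sgn_eq h hdeg, MonoidHom.mul_apply, MonoidHom.mul_apply,
      hψ w hw1, hψ' w hw1]

end IsCols

end CfsgLib.FT.Rect
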