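import Mathlib.GroupTheory.PGroup
import Mathlib.GroupTheory.Commutator.Basic
import Mathlib.GroupTheory.Index

/-!
# Groups with all commutators in a central subgroup of prime order
-/

set_option autoImplicit false
set_option linter.style.haveILetI false

open Subgroup
open scoped commutatorElement

namespace CfsgLib.FT

universe u

/-- If the commutators lie in a central subgroup of prime order `p`, the index of the centre is an even
power of `p`. -/
theorem center_index_eq (p : ℕ) [hpf : Fact p.Prime] : ∀ (N : ℕ) (G : Type u) [Group G] [Finite G]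
    (D : Subgroup G), Nat.card G = N → Nat.card D = p → D ≤ center G → commutator G ≤ D →
    ∃ n, (center G).index = p ^ (2 * n) := by
  intro N
  induction N using Nat.strongRecOn with
  | ind N ih =>
    intro G _ _ D hN hD hDZ hcl
    subst hN
    by_cases hab : center G = ⊤
    · exact ⟨0, by rw [hab, index_top, mul_zero, pow_zero]⟩
    obtain ⟨x, hx⟩ : ∃ x, x ∉ center G := by
      by_contra h
      push Not at h
      exact hab (eq_top_iff.2 fun g _ => h g)
    obtain ⟨y, hy⟩ : ∃ y, ⁅y, x⁆ ≠ 1 := by
      by_contra h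
      push Not at h
      exact hx (mem_center_iff.2 fun g => commutatorElement_eq_one_iff_mul_comm.1 (h g))
    have hmem : ∀ g h : G, ⁅g, h⁆ ∈ D := fun g h =>
      hcl (commutator_mem_commutator (mem_top g) (mem_top h))
    let f : G → G →* D := fun t => MonoidHom.mk' (fun g => ⟨⁅g, t⁆, hmem g t⟩) fun g h =>
      Subtype.ext (by
        show ⁅g * h, t⁆ = ⁅g, t⁆ * ⁅h, t⁆
        have e : ⁅g * h, t⁆ = g * ⁅h, t⁆ * g⁻¹ * ⁅g, t⁆ := by
          simp only [commutatorElement_def]; group
        rw [e, mem_center_iff.1 (hDZ (hmem h t)) g, mul_inv_cancel_right,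
          mem_center_iff.1 (hDZ (hmem g t)) ⁅h, t⁆])
    set F : G →* D × D := (f x).prod (f y) with hF
    have hgen : ∀ z w : D, z ≠ 1 → ∃ i : ℤ, z ^ i = w := fun z w hz =>
      mem_zpowers_iff.1 (mem_zpowers_of_prime_card hD hz)
    have hne1 : f x y ≠ 1 := fun h => hy (congrArg Subtype.val h)
    have hne2 : f y x ≠ 1 := fun h => hy (by
      have h' : ⁅x, y⁆ = 1 := congrArg Subtype.val h
      rw [← commutatorElement_inv, h', inv_one])
    have hxx : ∀ t, f t t = 1 := fun t => Subtype.ext (commutatorElement_self t)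
    have hexp : ∀ q : D × D, ∃ i j : ℤ, F (y ^ i * x ^ j) = q := by
      intro q
      obtain ⟨i, hi⟩ := hgen (f x y) q.1 hne1
      obtain ⟨j, hj⟩ := hgen (f y x) q.2 hne2
      refine ⟨i, j, Prod.ext ?_ ?_⟩
      · show f x (y ^ i * x ^ j) = q.1
        rw [map_mul, map_zpow, map_zpow, hi, hxx, one_zpow, mul_one]
      · show f y (y ^ i * x ^ j) = q.2
        rw [map_mul, map_zpow, map_zpow, hj, hxx, one_zpow, one_mul]
    have hFs : Function.Surjective F := fun q => by
      obtain ⟨i, j, h⟩ := hexp q
      exact ⟨_, h⟩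
    set C := F.ker with hC
    have hCi : C.index = p * p := by
      rw [hC, index_ker, MonoidHom.range_eq_top.2 hFs, card_top, Nat.card_prod, hD]
    have hCmem : ∀ c ∈ C, c * x = x * c ∧ c * y = y * c := fun c hc =>
      ⟨commutatorElement_eq_one_iff_mul_comm.1 (congrArg (fun q => ((q.1 : D) : G)) hc),
        commutatorElement_eq_one_iff_mul_comm.1 (congrArg (fun q => ((q.2 : D) : G)) hc)⟩
    have hZC : center G ≤ C := fun z hz => Prod.ext
      (Subtype.ext (commutatorElement_eq_one_iff_mul_comm.2 ((mem_center_iff.1 hz x).symm)))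
      (Subtype.ext (commutatorElement_eq_one_iff_mul_comm.2 ((mem_center_iff.1 hz y).symm)))
    have hgenG : ∀ g, ∃ c ∈ C, ∃ i j : ℤ, g = c * (y ^ i * x ^ j) := fun g => by
      obtain ⟨i, j, h⟩ := hexp (F g)
      refine ⟨g * (y ^ i * x ^ j)⁻¹, ?_, i, j, by rw [inv_mul_cancel_right]⟩
      rw [hC, MonoidHom.mem_ker, map_mul, map_inv, h, mul_inv_cancel]
    have hZeq : center C = (center G).subgroupOf C := by
      refine le_antisymm (fun z hz => mem_center_iff.2 fun g => ?_) fun z hz =>
        mem_center_iff.2 fun c => Subtype.ext (mem_center_iff.1 hz c)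
      obtain ⟨c, hc, i, j, rfl⟩ := hgenG g
      obtain ⟨h1, h2⟩ := hCmem z z.2
      have h3 : Commute (z : G) c := (congrArg Subtype.val (mem_center_iff.1 hz ⟨c, hc⟩)).symm
      exact (h3.mul_right ((Commute.zpow_right h2 i).mul_right (Commute.zpow_right h1 j))).eq.symm
    have hcard := C.card_mul_index
    rw [hCi] at hcard
    have hlt : Nat.card C < Nat.card G := by
      rw [← hcard]
      exact lt_mul_of_one_lt_right Nat.card_pos
        (one_lt_mul hpf.out.one_le hpf.out.one_lt)
    obtain ⟨n, hn⟩ := ih _ hlt C (D.subgroupOf C) rfl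
      (by rw [Nat.card_congr (subgroupOfEquivOfLe (hDZ.trans hZC)).toEquiv, hD])
      (by rw [hZeq]; exact fun z hz => hDZ hz)
      (by
        rw [_root_.commutator_def, Subgroup.commutator_le]
        intro a _ b _
        exact hmem a b)
    refine ⟨n + 1, ?_⟩
    rw [← relIndex_mul_index hZC, relIndex, ← hZeq, hn, hCi]
    ring

end CfsgLib.FT
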