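import Cfsg.Agent.Lib.Coprime.Action
import Mathlib.GroupTheory.Perm.Cycle.Type

/-!
# An element of prime order acting on the cosets of an invariant normal subgroup
-/

set_option autoImplicit false

open Subgroup

namespace CfsgLib.FT

variable {G : Type*} [Group G] [Finite G]

/-- A coset fixed by a coprime element of order dividing a prime contains a fixed element. -/
theorem mem_of_fixed_mod {e : ℕ} (he : e.Prime) {k : G} (hk : k ^ e = 1) {X Y : Subgroup G}
    (hkY : k ∈ normalizer (Y : Set G)) (hXY : X ≤ normalizer (Y : Set G)) (hYX : Y ≤ X)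
    (hcop : e.Coprime (Nat.card Y)) (hfix : ∀ u ∈ X, k * u = u * k → u ∈ Y) {v : G} (hv : v ∈ X)
    (h : k * v * k⁻¹ * v⁻¹ ∈ Y) : v ∈ Y := by
  haveI : Fact e.Prime := ⟨he⟩
  have hYn : zpowers k ≤ normalizer (Y : Set G) := zpowers_le.2 hkY
  have hall : ∀ a ∈ zpowers k, a * v * a⁻¹ * v⁻¹ ∈ Y := by
    intro a ha
    obtain ⟨i, rfl⟩ := (isOfFinOrder_of_finite k).mem_powers_iff_mem_zpowers.2 ha
    show k ^ i * v * (k ^ i)⁻¹ * v⁻¹ ∈ Y
    induction i with
    | zero => simp
    | succ i ih =>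
      have h1 := mul_mem ((mem_normalizer_iff.1 hkY _).1 (ih (pow_mem (mem_zpowers k) i))) h
      rwa [show k * (k ^ i * v * (k ^ i)⁻¹ * v⁻¹) * k⁻¹ * (k * v * k⁻¹ * v⁻¹) =
        k ^ (i + 1) * v * (k ^ (i + 1))⁻¹ * v⁻¹ by rw [pow_succ']; group] at h1
  have hcard : (Nat.card (zpowers k)).Coprime (Nat.card Y) := by
    rw [Nat.card_zpowers]
    exact hcop.coprime_dvd_left (orderOf_dvd_of_pow_eq_one hk)
  obtain ⟨n, hn, hc⟩ := CfsgLib.Coprime.exists_fixed_in_coset hYn hcard
    (Or.inl inferInstance) (hXY hv) hall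
  have h1 : v * n ∈ Y := hfix _ (mul_mem hv (hYX hn))
    (mem_centralizer_iff.1 hc k (mem_zpowers k))
  simpa using mul_mem h1 (inv_mem hn)

/-- The fixed point free action on the cosets makes `e` divide their number less one. -/
theorem dvd_relIndex_sub_one {e : ℕ} (he : e.Prime) {k : G} (hk : k ^ e = 1) {X Y : Subgroup G}
    (hkX : k ∈ normalizer (X : Set G)) (hkY : k ∈ normalizer (Y : Set G))
    (hfix : ∀ v ∈ X, v⁻¹ * (k * v * k⁻¹) ∈ Y → v ∈ Y) : e ∣ Y.relIndex X - 1 := by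
  classical
  haveI : Fact e.Prime := ⟨he⟩
  haveI := Fintype.ofFinite (X ⧸ Y.subgroupOf X)
  let c : X → X := fun v => ⟨k * v * k⁻¹, (mem_normalizer_iff.1 hkX v).1 v.2⟩
  let f : Function.End (X ⧸ Y.subgroupOf X) := Quotient.map' c fun a b hab => by
    rw [QuotientGroup.leftRel_apply] at hab ⊢
    show (k * (a : G) * k⁻¹)⁻¹ * (k * b * k⁻¹) ∈ Y
    rw [show (k * (a : G) * k⁻¹)⁻¹ * (k * b * k⁻¹) = k * ((a : G)⁻¹ * b) * k⁻¹ by group]
    exact (mem_normalizer_iff.1 hkY _).1 hab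
  have hiter : ∀ (i : ℕ) (v : X), (f ^ i) (QuotientGroup.mk v) = QuotientGroup.mk (c^[i] v) := by
    intro i
    induction i with
    | zero => intro v; rfl
    | succ i ih =>
      intro v
      rw [pow_succ, Function.iterate_succ_apply]
      exact ih (c v)
  have hc : ∀ (i : ℕ) (v : X), ((c^[i] v : X) : G) = k ^ i * v * (k ^ i)⁻¹ := by
    intro i
    induction i with
    | zero => intro v; simp
    | succ i ih =>
      intro v
      rw [Function.iterate_succ_apply, ih, pow_succ]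
      show k ^ i * (k * (v : G) * k⁻¹) * (k ^ i)⁻¹ = _
      group
  have hf : f ^ e ^ 1 = 1 := by
    rw [pow_one]
    funext q
    obtain ⟨v, rfl⟩ := QuotientGroup.mk_surjective q
    rw [hiter]
    refine congrArg QuotientGroup.mk (Subtype.ext ?_)
    rw [hc, hk]
    simp
  have hfp : Fintype.card f.fixedPoints = 1 := by
    refine Fintype.card_eq_one_iff.2 ⟨⟨QuotientGroup.mk 1, ?_⟩, ?_⟩
    · show f _ = _
      exact congrArg QuotientGroup.mk (Subtype.ext (by simp [c]))
    · rintro ⟨q, hq⟩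
      obtain ⟨v, rfl⟩ := QuotientGroup.mk_surjective q
      have h1 : QuotientGroup.mk (c v) = (QuotientGroup.mk v : X ⧸ Y.subgroupOf X) := hq
      rw [eq_comm, QuotientGroup.eq] at h1
      refine Subtype.ext (QuotientGroup.eq.2 ?_)
      show ((v⁻¹ * 1 : X) : G) ∈ Y
      rw [mul_one]
      exact inv_mem (hfix v v.2 h1)
  have h := Equiv.Perm.card_fixedPoints_modEq (p := e) (n := 1) hf
  rw [hfp, ← Nat.card_eq_fintype_card] at h
  have hpos : 1 ≤ Nat.card (X ⧸ Y.subgroupOf X) := Nat.card_pos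
  exact (Nat.modEq_iff_dvd' hpos).1 h.symm

end CfsgLib.FT
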