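import Cfsg.Agent.Lib.FT.RectMu
import Cfsg.Agent.Lib.FT.FamilyBasic
import Cfsg.Agent.Lib.FT.FixedCoset
import Cfsg.Agent.Lib.FT.CommutatorPairs
import Cfsg.Agent.Lib.CFun.OddTypePBasic
import Cfsg.Agent.Lib.CFun.OddTypeClasses
import Cfsg.Agent.Lib.CFun.OddZgroupLength
import Cfsg.Agent.Lib.CFun.Tools
import Cfsg.Agent.Lib.Coprime.Solvable
import Cfsg.Agent.Lib.Coprime.PGroupFrattini
import Cfsg.Agent.Lib.Lie.Chev.Tits.Abstract

/-!
# The group theory of type V (`docs/FT.md`, §4)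

`S` with `U = ⊥` and nilpotent `S_σ = P × C`, `P` the Sylow `p`-subgroup for `p = |W₂|`, `e = |W₁|` prime.
-/

set_option autoImplicit false
set_option linter.unusedSectionVars false
set_option linter.style.haveILetI false

open Subgroup
open scoped commutatorElement

namespace CfsgLib.FT.TypeV

open CfsgLib.CFun CfsgLib.CFun.Kappa
open CfsgLib.Coprime (IsHallIn)
open Cfsg (sigmaCore)

universe u

variable {G : Type u} [Group G]

/-- `S_σ = P × C` with `P` a `p`-group and `C` of order prime to `p`. -/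
structure Parts (S P C : Subgroup G) (p : ℕ) : Prop where
  sup : P ⊔ C = sigmaCore S
  disj : P ⊓ C = ⊥
  comm : ∀ a ∈ P, ∀ b ∈ C, a * b = b * a
  normP : S ≤ normalizer (P : Set G)
  normC : S ≤ normalizer (C : Set G)
  pGroup : IsPGroup p P
  cop : ¬ p ∣ Nat.card C

variable [Finite G]

theorem exists_parts (hG : Cfsg.IsMinSimpleOddOrder G) {S : Subgroup G}
    (hnil : Group.IsNilpotent (sigmaCore S)) (p : ℕ) [hp : Fact p.Prime] :
    ∃ P C : Subgroup G, Parts S P C p := by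
  haveI := hnil
  obtain ⟨P₀⟩ : Nonempty (Sylow p (sigmaCore S)) := inferInstance
  haveI : (P₀ : Subgroup (sigmaCore S)).Normal :=
    P₀.normal_of_normalizerCondition Group.normalizerCondition_of_isNilpotent
  have hcop : (Nat.card (P₀ : Subgroup (sigmaCore S))).Coprime (P₀ : Subgroup (sigmaCore S)).index :=
    P₀.card_coprime_index
  obtain ⟨C₀, hC₀⟩ := Subgroup.exists_right_complement'_of_coprime hcop
  have hC₀c : Nat.card C₀ = (P₀ : Subgroup (sigmaCore S)).index := hC₀.symm.index_eq_card.symm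
  have hndvd : ¬ p ∣ Nat.card C₀ := hC₀c ▸ P₀.not_dvd_index
  have hcomm : ∀ a ∈ (P₀ : Subgroup (sigmaCore S)), ∀ b ∈ C₀, a * b = b * a := fun a ha b hb =>
    (commute_of_coprime_order (((hC₀c ▸ hcop).coprime_dvd_left
      (Subgroup.orderOf_dvd_natCard _ ha)).coprime_dvd_right (Subgroup.orderOf_dvd_natCard _ hb))).eq
  have hsplit : ∀ x, ∃ a ∈ (P₀ : Subgroup (sigmaCore S)), ∃ b ∈ C₀, x = a * b := fun x => by
    obtain ⟨⟨a, b⟩, hab⟩ := hC₀.surjective x
    exact ⟨a, a.2, b, b.2, hab.symm⟩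
  have hmemP : ∀ x, x ∈ (P₀ : Subgroup (sigmaCore S)) ↔ ∃ i, x ^ p ^ i = 1 := by
    refine fun x => ⟨fun hx => ?_, fun ⟨i, hi⟩ => ?_⟩
    · obtain ⟨i, hi⟩ := P₀.2 ⟨x, hx⟩
      exact ⟨i, congrArg Subtype.val hi⟩
    · obtain ⟨a, ha, b, hb, rfl⟩ := hsplit x
      rw [(show Commute a b from hcomm a ha b hb).mul_pow] at hi
      have hbP : b ^ p ^ i ∈ (P₀ : Subgroup (sigmaCore S)) ⊓ C₀ := by
        refine mem_inf.2 ⟨?_, pow_mem hb _⟩
        rw [eq_inv_of_mul_eq_one_right hi]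
        exact inv_mem (pow_mem ha _)
      rw [disjoint_iff.1 hC₀.disjoint, mem_bot] at hbP
      obtain ⟨j, -, hj⟩ := (Nat.dvd_prime_pow hp.out).1 (orderOf_dvd_of_pow_eq_one hbP)
      rcases Nat.eq_zero_or_pos j with rfl | hj0
      · rw [pow_zero, orderOf_eq_one_iff] at hj
        rwa [hj, mul_one]
      · exact absurd ((dvd_pow_self p hj0.ne').trans (hj ▸ Subgroup.orderOf_dvd_natCard _ hb)) hndvd
  have hmemC : ∀ x, x ∈ C₀ ↔ (orderOf x).Coprime p := by
    refine fun x => ⟨fun hx => ?_, fun h => ?_⟩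
    · exact (Nat.Coprime.coprime_dvd_left (Subgroup.orderOf_dvd_natCard _ hx)
        ((hp.out.coprime_iff_not_dvd.2 hndvd).symm))
    · obtain ⟨a, ha, b, hb, rfl⟩ := hsplit x
      have h1 : (a * b) ^ Nat.card C₀ ∈ (P₀ : Subgroup (sigmaCore S)) := by
        rw [(show Commute a b from hcomm a ha b hb).mul_pow,
          orderOf_dvd_iff_pow_eq_one.1 (Subgroup.orderOf_dvd_natCard _ hb), mul_one]
        exact pow_mem ha _
      obtain ⟨i, hi⟩ := (hmemP _).1 h1
      rw [← pow_mul, ← orderOf_dvd_iff_pow_eq_one] at hi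
      have h2 := ((h.pow_right i)).dvd_of_dvd_mul_right hi
      rw [orderOf_dvd_iff_pow_eq_one, (show Commute a b from hcomm a ha b hb).mul_pow,
        orderOf_dvd_iff_pow_eq_one.1 (Subgroup.orderOf_dvd_natCard _ hb), mul_one,
        ← orderOf_dvd_iff_pow_eq_one] at h2
      have h3 : orderOf a = 1 := Nat.eq_one_of_dvd_coprimes (hC₀c ▸ hcop)
        (Subgroup.orderOf_dvd_natCard _ ha) h2
      rwa [orderOf_eq_one_iff.1 h3, one_mul]
  have hSn : ∀ m ∈ S, ∀ x ∈ sigmaCore S, m * x * m⁻¹ ∈ sigmaCore S := fun m hm x hx =>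
    (mem_normalizer_iff.1 (TauTwo.sigmaCore_normal hG S hm) x).1 hx
  set ι := (sigmaCore S).subtype with hι
  refine ⟨(P₀ : Subgroup (sigmaCore S)).map ι, C₀.map ι, ?_, ?_, ?_, ?_, ?_, P₀.2.map ι, ?_⟩
  · rw [← Subgroup.map_sup, hC₀.sup_eq_top, ← MonoidHom.range_eq_map, hι, range_subtype]
  · rw [← map_inf _ _ _ (sigmaCore S).subtype_injective, disjoint_iff.1 hC₀.disjoint, Subgroup.map_bot]
  · rintro _ ⟨a, ha, rfl⟩ _ ⟨b, hb, rfl⟩
    rw [← map_mul, hcomm a ha b hb, map_mul]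
  · intro m hm
    refine mem_normalizer_fintype ?_
    rintro _ ⟨a, ha, rfl⟩
    refine ⟨⟨m * a * m⁻¹, hSn m hm _ a.2⟩, (hmemP _).2 ?_, rfl⟩
    obtain ⟨i, hi⟩ := (hmemP a).1 ha
    refine ⟨i, Subtype.ext ?_⟩
    rw [SubgroupClass.coe_pow, OneMemClass.coe_one, conj_pow, ← SubgroupClass.coe_pow, hi]
    simp
  · intro m hm
    refine mem_normalizer_fintype ?_
    rintro _ ⟨a, ha, rfl⟩
    refine ⟨⟨m * a * m⁻¹, hSn m hm _ a.2⟩, (hmemC _).2 ?_, rfl⟩
    rw [← Subgroup.orderOf_coe]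
    show (orderOf (MulAut.conj m (a : G))).Coprime p
    rw [MulEquiv.orderOf_eq, Subgroup.orderOf_coe]
    exact (hmemC a).1 ha
  · rwa [Nat.card_congr (C₀.equivMapOfInjective ι (sigmaCore S).subtype_injective).toEquiv.symm]

theorem card_sup_of_comm {A B : Subgroup G} (hc : ∀ a ∈ A, ∀ b ∈ B, a * b = b * a) (h : A ⊓ B = ⊥) :
    Nat.card ↥(A ⊔ B) = Nat.card A * Nat.card B := by
  refine ZLen.card_sup_eq (fun b hb => mem_normalizer_fintype fun a ha => ?_) h
  rwa [← hc a ha b hb, mul_inv_cancel_right]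

namespace Parts

section Basic

variable {S P C : Subgroup G} {p : ℕ} (Pt : Parts S P C p)
include Pt

theorem leP : P ≤ sigmaCore S := Pt.sup ▸ le_sup_left

theorem leC : C ≤ sigmaCore S := Pt.sup ▸ le_sup_right

theorem sigmaDer_eq : sigmaDer S = ⁅P, P⁆ ⊔ ⁅C, C⁆ := by
  have hCn : C ≤ normalizer (P : Set G) := Pt.leC.trans ((map_subtype_le _).trans Pt.normP)
  refine le_antisymm ?_ (sup_le (commutator_mono Pt.leP Pt.leP) (commutator_mono Pt.leC Pt.leC))
  rw [sigmaDer, commutator_le]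
  intro x hx y hy
  rw [← Pt.sup] at hx hy
  obtain ⟨a, ha, c, hc, rfl⟩ := CfsgLib.Coprime.mem_sup_exists hCn hx
  obtain ⟨b, hb, d, hd, rfl⟩ := CfsgLib.Coprime.mem_sup_exists hCn hy
  have e : ⁅a * c, b * d⁆ = ⁅a, b⁆ * ⁅c, d⁆ := by
    have h1 : Commute c b := ((Pt.comm b hb c hc) : b * c = c * b).symm
    have h2 : Commute (c * d * c⁻¹) a :=
      (Pt.comm a ha _ (mul_mem (mul_mem hc hd) (inv_mem hc))).symm
    have h4 : Commute (c * d * c⁻¹ * d⁻¹) b⁻¹ :=
      (Pt.comm b⁻¹ (inv_mem hb) _ (mul_mem (mul_mem (mul_mem hc hd) (inv_mem hc)) (inv_mem hd))).symm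
    simp only [commutatorElement_def]
    calc a * c * (b * d) * (a * c)⁻¹ * (b * d)⁻¹
        = a * (c * b) * d * c⁻¹ * a⁻¹ * d⁻¹ * b⁻¹ := by group
      _ = a * b * ((c * d * c⁻¹) * a⁻¹) * d⁻¹ * b⁻¹ := by rw [h1.eq]; group
      _ = a * b * a⁻¹ * ((c * d * c⁻¹ * d⁻¹) * b⁻¹) := by rw [h2.inv_right.eq]; group
      _ = _ := by rw [h4.eq]; group
  rw [e]
  exact mul_mem (mem_sup_left (commutator_mem_commutator ha hb))
    (mem_sup_right (commutator_mem_commutator hc hd))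

theorem kZero_eq : kZero S = ⁅P, P⁆.relIndex P * ⁅C, C⁆.relIndex C := by
  have hsplit : ∀ {A B : Subgroup G}, A ≤ P → B ≤ C →
      Nat.card ↥(A ⊔ B) = Nat.card A * Nat.card B := fun {A B} hA hB =>
    card_sup_of_comm (fun a ha b hb => Pt.comm a (hA ha) b (hB hb))
      (eq_bot_iff.2 ((inf_le_inf hA hB).trans Pt.disj.le))
  have h1 : Nat.card (sigmaDer S) * kZero S = Nat.card (sigmaCore S) :=
    CfsgLib.Coprime.card_mul_relIndex (commutator_le_self _)
  rw [Pt.sigmaDer_eq, ← Pt.sup, hsplit (commutator_le_self P) (commutator_le_self C),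
    hsplit le_rfl le_rfl, ← CfsgLib.Coprime.card_mul_relIndex (commutator_le_self P),
    ← CfsgLib.Coprime.card_mul_relIndex (commutator_le_self C)] at h1
  refine Nat.eq_of_mul_eq_mul_left (Nat.mul_pos (Nat.card_pos (α := ↥⁅P, P⁆))
    (Nat.card_pos (α := ↥⁅C, C⁆))) (h1.trans ?_)
  ring

end Basic

section Kappa

variable {S W₁ W₂ P C : Subgroup G} {p : ℕ} (Pt : Parts S P C p) (h : Rect.Kappa S W₁ ⊥ W₂)
include Pt h

omit Pt in
theorem derived_eq : ⁅S, S⁆ = sigmaCore S := by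
  rw [KappaDerived.derived_eq h.minSimple h.coatom h.decomp h.neW₁, bot_sup_eq]

omit Pt in
theorem prime₂ : (Nat.card W₂).Prime := by
  have := (KappaDerived.exists_sylow_of_bot h.minSimple h.coatom h.decomp h.neW₁ rfl).1
  rwa [h.eqW₂] at this

omit Pt in
theorem fixed₁ {k : G} (hk : k ∈ W₁) (hk1 : k ≠ 1) :
    sigmaCore S ⊓ centralizer ({k} : Set G) = W₂ := by
  rw [fixed_eq h.minSimple h.coatom h.decomp.hall hk hk1, h.eqW₂]

omit Pt in
theorem le_der : W₂ ≤ sigmaDer S := by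
  have h1 := KappaDerived.fixed_le_second_derived h.minSimple h.coatom h.decomp h.neW₁
  rw [derived_eq h, h.eqW₂] at h1
  exact h1

omit Pt in
theorem coprime₁ : (Nat.card W₁).Coprime (Nat.card (sigmaCore S)) := by
  refine Nat.coprime_of_dvd fun q hq h1 h2 => ?_
  exact (h.decomp.hall.2.1 q hq h1).2.2.1
    ((sigmaCore_hall h.minSimple h.coatom).1.2.1 q hq h2)

omit Pt in
theorem eIndex_eq₁ : eIndex S = Nat.card W₁ := by
  have hc := card_of_compl (TypeClass.derived_compl h.minSimple h.coatom h.decomp h.neW₁)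
  rw [derived_eq h, ← CfsgLib.Coprime.card_mul_relIndex
    (map_subtype_le _ : sigmaCore S ≤ S)] at hc
  exact Nat.eq_of_mul_eq_mul_left Nat.card_pos hc

variable {e : ℕ} (he : Nat.card W₁ = e) (hep : e.Prime)
include he hep

omit Pt in
theorem exists_k : ∃ k ∈ W₁, k ≠ 1 ∧ k ^ e = 1 := by
  obtain ⟨k, hk, hk1⟩ := (bot_or_exists_ne_one W₁).resolve_left h.neW₁
  exact ⟨k, hk, hk1, orderOf_dvd_iff_pow_eq_one.1 (he ▸ Subgroup.orderOf_dvd_natCard _ hk)⟩

omit Pt hep in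
theorem coprime_of_le {Y : Subgroup G} (hY : Y ≤ sigmaCore S) : e.Coprime (Nat.card Y) :=
  he ▸ (coprime₁ h).coprime_dvd_right (card_dvd_of_le hY)

omit Pt in
theorem fix_mod {Y : Subgroup G} (hYσ : Y ≤ sigmaCore S) (hSY : S ≤ normalizer (Y : Set G))
    {X : Subgroup G} (hX : X ≤ sigmaCore S) (hYX : Y ≤ X) (hfix : X ⊓ W₂ ≤ Y) {k : G} (hk : k ∈ W₁)
    (hk1 : k ≠ 1) {v : G} (hv : v ∈ X) (hv' : k * v * k⁻¹ * v⁻¹ ∈ Y) : v ∈ Y := by
  refine mem_of_fixed_mod hep (orderOf_dvd_iff_pow_eq_one.1 (he ▸ Subgroup.orderOf_dvd_natCard _ hk))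
    (hSY (h.decomp.hall.1 hk)) ((hX.trans (map_subtype_le _)).trans hSY) hYX (coprime_of_le h he hYσ)
    (fun u hu e1 => hfix (mem_inf.2 ⟨hu, ?_⟩)) hv hv'
  rw [← fixed₁ h hk hk1]
  exact mem_inf.2 ⟨hX hu, mem_centralizer_singleton_iff.2 e1.symm⟩

omit Pt in
theorem dvd_sub_one {Y : Subgroup G} (hYσ : Y ≤ sigmaCore S) (hSY : S ≤ normalizer (Y : Set G))
    {X : Subgroup G} (hX : X ≤ sigmaCore S) (hSX : S ≤ normalizer (X : Set G)) (hYX : Y ≤ X)
    (hfix : X ⊓ W₂ ≤ Y) : e ∣ Y.relIndex X - 1 := by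
  obtain ⟨k, hk, hk1, hke⟩ := exists_k h he hep
  refine dvd_relIndex_sub_one hep hke (hSX (h.decomp.hall.1 hk)) (hSY (h.decomp.hall.1 hk)) fun v hv hv' =>
    fix_mod h he hep hYσ hSY hX hYX hfix hk hk1 hv ?_
  have := (mem_normalizer_iff.1 (hSY (map_subtype_le _ (hX hv))) _).1 hv'
  rwa [show v * (v⁻¹ * (k * v * k⁻¹)) * v⁻¹ = k * v * k⁻¹ * v⁻¹ by group] at this

omit Pt in
/-- `W₁` is fixed point free on `S_σ / S_σ'`. -/
theorem fpfAb : FpfAb S := by
  refine ⟨h.coatom, fun a ha haσ v hv hav => ?_⟩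
  obtain ⟨-, -, -, hprod⟩ := TypeClass.derived_compl h.minSimple h.coatom h.decomp h.neW₁
  obtain ⟨s, hs, k, hk, rfl⟩ := hprod a ha
  rw [derived_eq h] at hs
  have hk1 : k ≠ 1 := fun e1 => haσ (by rwa [e1, mul_one])
  have hSσ := TauTwo.sigmaCore_normal h.minSimple S
  have hSD : S ≤ normalizer (sigmaDer S : Set G) := le_normalizer_commutator hSσ hSσ
  refine fix_mod h he hep (commutator_le_self _) hSD le_rfl (commutator_le_self _)
    (inf_le_right.trans (le_der h)) hk hk1 hv ?_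
  have h1 : s⁻¹ * ((s * k) * v * (s * k)⁻¹ * v⁻¹) * s ∈ sigmaDer S := by
    have := (mem_normalizer_iff.1 (hSD (inv_mem (map_subtype_le _ hs : s ∈ S))) _).1 hav
    rwa [inv_inv] at this
  have h2 : ⁅s⁻¹, v⁆ ∈ sigmaDer S := commutator_mem_commutator (inv_mem hs) hv
  have := mul_mem h1 h2
  rwa [show s⁻¹ * ((s * k) * v * (s * k)⁻¹ * v⁻¹) * s * ⁅s⁻¹, v⁆ = k * v * k⁻¹ * v⁻¹ by
    simp only [commutatorElement_def]; group] at this

variable (hp : Nat.card W₂ = p)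
include hp

omit he hep in
theorem fact_prime : Fact p.Prime := ⟨hp ▸ prime₂ h⟩

omit he hep in
theorem W₂_le : W₂ ≤ ⁅P, P⁆ := by
  intro w hw
  have hw' := le_der h hw
  have hPn : ⁅C, C⁆ ≤ normalizer ((⁅P, P⁆ : Subgroup G) : Set G) := fun c hc => mem_normalizer_fintype fun a ha => by
    rwa [← Pt.comm a (commutator_le_self P ha) c (commutator_le_self C hc), mul_inv_cancel_right]
  rw [Pt.sigmaDer_eq] at hw'
  obtain ⟨a, ha, c, hc, rfl⟩ := CfsgLib.Coprime.mem_sup_exists hPn hw'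
  have hcC := commutator_le_self C hc
  have hord : orderOf (a * c) ∣ p := hp ▸ Subgroup.orderOf_dvd_natCard _ hw
  rw [orderOf_dvd_iff_pow_eq_one, (show Commute a c from
    Pt.comm a (commutator_le_self P ha) c hcC).mul_pow] at hord
  have h1 : c ^ p ∈ P ⊓ C := mem_inf.2 ⟨by
    rw [eq_inv_of_mul_eq_one_right hord]
    exact inv_mem (pow_mem (commutator_le_self P ha) _), pow_mem hcC _⟩
  rw [Pt.disj, mem_bot] at h1
  haveI := fact_prime Pt h hp
  have hc1 : c = 1 := orderOf_eq_one_iff.1 (Nat.eq_one_of_dvd_coprimes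
    ((Fact.out : p.Prime).coprime_iff_not_dvd.2 Pt.cop) (orderOf_dvd_of_pow_eq_one h1)
    (Subgroup.orderOf_dvd_natCard _ hcC))
  rwa [hc1, mul_one]

omit he hep in
theorem not_comm : ¬ ∀ a ∈ P, ∀ b ∈ P, a * b = b * a := by
  intro hab
  have h1 : W₂ ≤ ⊥ := (W₂_le Pt h hp).trans (commutator_le.2 fun a ha b hb => by
    rw [mem_bot, commutatorElement_eq_one_iff_mul_comm]; exact hab a ha b hb)
  have := (prime₂ h).one_lt
  rw [le_bot_iff.1 h1, card_bot] at this
  exact this.false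

/-- `|P : P'| = p ^ m` with `m ≥ 2` and `e ∣ p ^ m - 1`. -/
theorem exists_m : ∃ m, 2 ≤ m ∧ ⁅P, P⁆.relIndex P = p ^ m ∧ e ∣ p ^ m - 1 := by
  haveI := fact_prime Pt h hp
  haveI hPnil : Group.IsNilpotent P := Pt.pGroup.isNilpotent
  obtain ⟨m, hm⟩ := (Pt.pGroup.index (⁅P, P⁆.subgroupOf P))
  have hm' : ⁅P, P⁆.relIndex P = p ^ m := hm
  refine ⟨m, ?_, hm', hm' ▸ dvd_sub_one h he hep
    ((commutator_le_self P).trans Pt.leP) (le_normalizer_commutator Pt.normP Pt.normP) Pt.leP Pt.normP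
    (commutator_le_self P) (inf_le_right.trans (W₂_le Pt h hp))⟩
  by_contra hm2
  have hcomm : ⁅P, P⁆.subgroupOf P = commutator P := by
    rw [← map_subtype_commutator, subgroupOf, comap_map_eq_self_of_injective P.subtype_injective]
  rw [hcomm] at hm
  refine not_comm Pt h hp fun a ha b hb => ?_
  haveI : IsCyclic (P ⧸ commutator P) := by
    interval_cases m
    · haveI : Subsingleton (P ⧸ commutator P) :=
        (Nat.card_eq_one_iff_unique.1 (by rw [← index_eq_card, hm, pow_zero])).1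
      exact isCyclic_of_subsingleton
    · exact isCyclic_of_prime_card (p := p) (by rw [← index_eq_card, hm, pow_one])
  obtain ⟨q, hq⟩ := IsCyclic.exists_generator (α := P ⧸ commutator P)
  obtain ⟨x, rfl⟩ := QuotientGroup.mk_surjective q
  refine congrArg Subtype.val (CfsgLib.Lie.Chev.Tits.comm_of_cyclic_mod_derived x
    (eq_top_iff.2 fun y _ => ?_) ⟨a, ha⟩ ⟨b, hb⟩)
  obtain ⟨i, hi⟩ := mem_zpowers_iff.1 (hq (QuotientGroup.mk y))
  rw [← QuotientGroup.mk_zpow, QuotientGroup.eq] at hi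
  rw [← mul_inv_cancel_left (x ^ i) y]
  exact mul_mem_sup (zpow_mem (mem_zpowers x) i) hi

/-- `|C : C'|` is `1` or at least `2 e + 1`. -/
theorem r_cases : ⁅C, C⁆.relIndex C = 1 ∨ 2 * e + 1 ≤ ⁅C, C⁆.relIndex C := by
  have hfix : C ⊓ W₂ ≤ ⁅C, C⁆ :=
    (le_inf (inf_le_right.trans ((W₂_le Pt h hp).trans (commutator_le_self P))) inf_le_left).trans
      (Pt.disj.le.trans bot_le)
  have hd := dvd_sub_one h he hep
    ((commutator_le_self C).trans Pt.leC) (le_normalizer_commutator Pt.normC Pt.normC) Pt.leC Pt.normC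
    (commutator_le_self C) hfix
  set r := ⁅C, C⁆.relIndex C
  have hr : Odd r := h.minSimple.1.of_dvd_nat
    ((relIndex_dvd_card _ _).trans (card_subgroup_dvd_card C))
  have heo : Odd e := he ▸ h.minSimple.1.of_dvd_nat (card_subgroup_dvd_card W₁)
  by_contra hc
  push Not at hc
  obtain ⟨t, ht⟩ := hd
  have hr1 : r = e * t + 1 := by have := hr.pos; omega
  have ht2 : t < 2 := by
    have := hc.2
    nlinarith [hep.pos]
  interval_cases t
  · exact hc.1 (by rw [hr1, mul_zero])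
  · rw [hr1, mul_one] at hr
    exact Nat.not_even_iff_odd.2 hr (heo.add_one)

/-- `|P| = p ^ s` with `m + 1 ≤ s`. -/
theorem exists_s {m : ℕ} (hm : ⁅P, P⁆.relIndex P = p ^ m) : ∃ s, Nat.card P = p ^ s ∧ m + 1 ≤ s := by
  haveI := fact_prime Pt h hp
  obtain ⟨s, hs⟩ := IsPGroup.iff_card.1 Pt.pGroup
  refine ⟨s, hs, ?_⟩
  have hc := CfsgLib.Coprime.card_mul_relIndex (commutator_le_self P)
  rw [hm, hs] at hc
  have hd : p ∣ Nat.card ↥⁅P, P⁆ := hp ▸ card_dvd_of_le (W₂_le Pt h hp)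
  obtain ⟨t, ht⟩ := hd
  have hdv : p ^ (m + 1) ∣ p ^ s := ⟨t, by rw [← hc, ht, pow_succ]; ring⟩
  exact (Nat.pow_dvd_pow_iff_le_right (Fact.out : p.Prime).one_lt).1 hdv

/-- The case `P' = W₂ ≤ Z(P)`. -/
theorem central_case {m s : ℕ} (hm : ⁅P, P⁆.relIndex P = p ^ m) (hs : Nat.card P = p ^ s)
    (hsm : s = m + 1) (hZ : W₂ ≤ centralizer (P : Set G)) :
    ∃ r, 1 ≤ r ∧ 2 * r ≤ m ∧ e ∣ p ^ (2 * r) - 1 := by
  haveI := fact_prime Pt h hp
  have hD : ⁅P, P⁆ = W₂ := by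
    refine (eq_of_le_of_card_ge (W₂_le Pt h hp) (le_of_eq ?_)).symm
    have hc := CfsgLib.Coprime.card_mul_relIndex (commutator_le_self P)
    rw [hm, hs, hsm, pow_succ, mul_comm (p ^ m)] at hc
    rw [hp]
    exact Nat.eq_of_mul_eq_mul_right (pow_pos (Fact.out : p.Prime).pos m) hc
  have hW₂P : W₂ ≤ P := (W₂_le Pt h hp).trans (commutator_le_self P)
  obtain ⟨r, hr⟩ := center_index_eq p (Nat.card P) P (W₂.subgroupOf P) rfl
    (by rw [Nat.card_congr (subgroupOfEquivOfLe hW₂P).toEquiv, hp])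
    (fun z hz => mem_center_iff.2 fun g =>
      Subtype.ext (mem_centralizer_iff.1 (hZ (mem_subgroupOf.1 hz)) g g.2))
    (by
      rw [← hD, ← map_subtype_commutator, subgroupOf, comap_map_eq_self_of_injective P.subtype_injective])
  set Z := P ⊓ centralizer (P : Set G) with hZdef
  have hZsub : Z.subgroupOf P = center P := by
    ext z
    simp only [hZdef, mem_subgroupOf, mem_inf, SetLike.coe_mem, true_and, mem_center_iff,
      mem_centralizer_iff, SetLike.mem_coe, Subtype.forall, Subtype.ext_iff, coe_mul]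
  have hidx : Z.relIndex P = p ^ (2 * r) := by rw [relIndex, hZsub, hr]
  have hSZ : S ≤ normalizer (Z : Set G) :=
    CfsgLib.Coprime.inf_le_normalizer Pt.normP (le_normalizer_centralizer Pt.normP)
  have hd := dvd_sub_one h he hep (inf_le_left.trans Pt.leP) hSZ Pt.leP Pt.normP inf_le_left
    (le_inf inf_le_left (inf_le_right.trans hZ))
  refine ⟨r, ?_, ?_, hidx ▸ hd⟩
  · rcases Nat.eq_zero_or_pos r with rfl | h0
    · exfalso
      rw [mul_zero, pow_zero, relIndex_eq_one] at hidx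
      exact not_comm Pt h hp fun a ha b hb => (mem_centralizer_iff.1 (hidx ha).2 b hb).symm
    · exact h0
  · refine (Nat.pow_dvd_pow_iff_le_right (Fact.out : p.Prime).one_lt).1 ?_
    rw [← hidx, ← hm]
    refine relIndex_dvd_of_le_left P ?_
    rw [hD]
    exact le_inf hW₂P hZ

/-- The case `W₂ ≰ Z(P)`: `N = Z(P) ∩ P'` is fixed point free. -/
theorem noncentral_case (hZ : ¬ W₂ ≤ centralizer (P : Set G)) :
    let N := centralizer (P : Set G) ⊓ ⁅P, P⁆
    N ≠ ⊥ ∧ S ≤ normalizer (N : Set G) ∧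
      (∀ w ∈ W₁, w ≠ 1 → N ⊓ centralizer ({w} : Set G) = ⊥) ∧ e ∣ Nat.card N - 1 := by
  intro N
  haveI := fact_prime Pt h hp
  haveI hPnil : Group.IsNilpotent P := Pt.pGroup.isNilpotent
  have hNσ : N ≤ sigmaCore S := (inf_le_right.trans (commutator_le_self P)).trans Pt.leP
  have hW : W₂ ⊓ centralizer (P : Set G) = ⊥ := by
    rcases (Nat.dvd_prime (Fact.out : p.Prime)).1
      (hp ▸ card_dvd_of_le (inf_le_left : W₂ ⊓ centralizer (P : Set G) ≤ W₂)) with h1 | h1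
    · exact card_eq_one.1 h1
    · have := eq_of_le_of_card_ge (inf_le_left : W₂ ⊓ centralizer (P : Set G) ≤ W₂) (by rw [h1, hp])
      exact absurd (inf_eq_left.1 this) hZ
  have hfix : N ⊓ W₂ ≤ (⊥ : Subgroup G) :=
    (le_inf inf_le_right (inf_le_left.trans inf_le_left)).trans hW.le
  refine ⟨fun hN => ?_, CfsgLib.Coprime.inf_le_normalizer (le_normalizer_centralizer Pt.normP)
    (le_normalizer_commutator Pt.normP Pt.normP), fun w hw hw1 => eq_bot_iff.2 fun x hx => ?_, ?_⟩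
  · refine CfsgLib.Coprime.nilpotent_inf_center_ne_bot (G := P) (commutator P) (fun e1 => ?_) ?_
    · refine not_comm Pt h hp fun a ha b hb => commutatorElement_eq_one_iff_mul_comm.1 ?_
      have hm : ⁅(⟨a, ha⟩ : P), (⟨b, hb⟩ : P)⁆ ∈ commutator P :=
        commutator_mem_commutator (mem_top _) (mem_top _)
      rw [e1, mem_bot] at hm
      exact congrArg Subtype.val hm
    · refine eq_bot_iff.2 fun z hz => ?_
      have h1 : (z : G) ∈ N := mem_inf.2 ⟨mem_centralizer_iff.2 fun y hy =>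
        congrArg Subtype.val (mem_center_iff.1 hz.2 ⟨y, hy⟩), by
          rw [← map_subtype_commutator]; exact ⟨z, hz.1, rfl⟩⟩
      rw [hN, mem_bot] at h1
      exact mem_bot.2 (Subtype.ext h1)
  · obtain ⟨hxN, hxc⟩ := mem_inf.1 hx
    exact hfix (mem_inf.2 ⟨hxN, fixed₁ h hw hw1 ▸ mem_inf.2 ⟨hNσ hxN, hxc⟩⟩)
  · rw [← relIndex_bot_left N]
    exact dvd_sub_one h he hep bot_le (by rw [normalizer_eq_top]; exact le_top) hNσ
      (CfsgLib.Coprime.inf_le_normalizer (le_normalizer_centralizer Pt.normP)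
        (le_normalizer_commutator Pt.normP Pt.normP)) bot_le hfix

end Kappa

end Parts

end CfsgLib.FT.TypeV
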