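import Cfsg.Agent.Lib.FT.CentralFamily
import Cfsg.Agent.Lib.FT.TypeVGroup
import Cfsg.Agent.Lib.FT.RectInd
import Cfsg.Agent.Lib.Char.SibleyBase
import Cfsg.Agent.Lib.Char.RealChar

/-!
# Type V, `W₂ ≰ Z(P)`: the characters non-trivial on `N = Z(P) ∩ P'` (`docs/FT.md`, §4)

`centralSet S C N`: induced from the irreducible characters of `S_σ / C` non-trivial on `C N`.  They are
irreducible, vanish outside `S_σ`, have degrees `e p ^ i`, and are coherent for induction.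
-/

set_option autoImplicit false
set_option linter.unusedSectionVars false
set_option linter.style.haveILetI false

open Subgroup

namespace CfsgLib.FT.TypeV

open scoped ComplexConjugate commutatorElement
open Cfsg (sigmaCore IsIrrCharacter IrrCharacter IsCoherent inducedIrrAbove indFun classInner)
open CfsgLib.Char CfsgLib.CFun

universe u

variable {G : Type u} [Group G] [Fintype G]

/-- The characters trivial on `C` and non-trivial on `C ⊔ N`, induced from `S_σ`. -/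
def centralSet (S C N : Subgroup G) [Fintype ↥S] : Set (↥S → ℂ) :=
  inducedIrrAbove (sigmaIn S) (C.subgroupOf S) \ inducedIrrAbove (sigmaIn S) ((C ⊔ N).subgroupOf S)

variable {S W₁ W₂ P C : Subgroup G} [Fintype ↥S] {p e : ℕ} (Pt : Parts S P C p)
  (h : Rect.Kappa S W₁ ⊥ W₂) (he : Nat.card W₁ = e) (hep : e.Prime) (hp : Nat.card W₂ = p)
  (hZ : ¬ W₂ ≤ centralizer (P : Set G))
include Pt h

local notation "N₀" => (centralizer (P : Set G) ⊓ ⁅P, P⁆ : Subgroup G)

theorem zN_le : N₀ ≤ P := inf_le_right.trans (commutator_le_self P)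

theorem zN_norm : S ≤ normalizer (N₀ : Set G) :=
  CfsgLib.Coprime.inf_le_normalizer (le_normalizer_centralizer Pt.normP)
    (le_normalizer_commutator Pt.normP Pt.normP)

/-- `N` is central in `S_σ`. -/
theorem zN_central {n y : G} (hn : n ∈ N₀) (hy : y ∈ sigmaCore S) : n * y = y * n := by
  rw [← Pt.sup] at hy
  refine (mem_centralizer_singleton_iff.1 ((sup_le (fun a ha => ?_) (fun c hc => ?_) :
    P ⊔ C ≤ centralizer ({n} : Set G)) hy)).symm
  · exact mem_centralizer_singleton_iff.2 (mem_centralizer_iff.1 (mem_inf.1 hn).1 a ha)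
  · exact mem_centralizer_singleton_iff.2 (Pt.comm n (zN_le Pt h hn) c hc).symm

theorem zN_inf : C ⊓ N₀ = ⊥ :=
  eq_bot_iff.2 (by rw [← Pt.disj, inf_comm]; exact inf_le_inf_right _ (zN_le Pt h))

theorem cn_le : C ⊔ N₀ ≤ sigmaCore S := sup_le Pt.leC ((zN_le Pt h).trans Pt.leP)

theorem cn_norm : S ≤ normalizer ((C ⊔ N₀ : Subgroup G) : Set G) :=
  fun x hx => mem_normalizer_fintype fun y hy => by
    obtain ⟨c, hc, n, hn, rfl⟩ := CfsgLib.Coprime.mem_sup_exists
      (((zN_le Pt h).trans Pt.leP).trans ((map_subtype_le _).trans Pt.normC)) hy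
    rw [show x * (c * n) * x⁻¹ = (x * c * x⁻¹) * (x * n * x⁻¹) by group]
    exact mul_mem_sup ((mem_normalizer_iff.1 (Pt.normC hx) c).1 hc)
      ((mem_normalizer_iff.1 (zN_norm Pt h hx) n).1 hn)

theorem cn_exists {x : G} (hx : x ∈ C ⊔ N₀) : ∃ c ∈ C, ∃ n ∈ N₀, c * n = x :=
  CfsgLib.Coprime.mem_sup_exists (((zN_le Pt h).trans Pt.leP).trans ((map_subtype_le _).trans Pt.normC)) hx

theorem normalC : (C.subgroupOf S).Normal :=
  normal_subgroupOf_of_le_normalizer Pt.normC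

theorem normalCN : ((C ⊔ N₀).subgroupOf S).Normal :=
  normal_subgroupOf_of_le_normalizer (cn_norm Pt h)

theorem cn_commutator : ∀ x ∈ (C ⊔ N₀).subgroupOf S, ∀ y ∈ sigmaIn S,
    x * y * x⁻¹ * y⁻¹ ∈ C.subgroupOf S := by
  intro x hx y hy
  rw [mem_subgroupOf] at hx hy ⊢
  obtain ⟨c, hc, n, hn, hx⟩ := cn_exists Pt h hx
  push_cast
  have h1 := zN_central Pt h hn hy
  rw [← hx, show c * n * (y : G) * (c * n)⁻¹ * (y : G)⁻¹ = c * (n * (y : G) * n⁻¹) * c⁻¹ * (y : G)⁻¹ by group,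
    h1, mul_inv_cancel_right, mul_assoc c, mul_assoc c]
  exact mul_mem hc ((mem_normalizer_iff.1 (Pt.normC y.2) c⁻¹).1 (inv_mem hc))

theorem relIndex_C : (C.subgroupOf S).relIndex (sigmaIn S) = Nat.card P := by
  rw [relIndex_subgroupOf (K := sigmaCore S) (map_subtype_le _)]
  refine Nat.eq_of_mul_eq_mul_left (Nat.card_pos (α := C)) ?_
  rw [CfsgLib.Coprime.card_mul_relIndex Pt.leC, ← Pt.sup, card_sup_of_comm Pt.comm Pt.disj, mul_comm]

theorem relIndex_CN : ((C ⊔ N₀).subgroupOf S).relIndex (sigmaIn S) = (N₀).relIndex P := by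
  rw [relIndex_subgroupOf (K := sigmaCore S) (map_subtype_le _)]
  have h1 := CfsgLib.Coprime.card_mul_relIndex (cn_le Pt h)
  have h2 := CfsgLib.Coprime.card_mul_relIndex (zN_le Pt h)
  rw [card_sup_of_comm (fun c hc n hn => (Pt.comm n (zN_le Pt h hn) c hc).symm) (zN_inf Pt h),
    ← Pt.sup, card_sup_of_comm Pt.comm Pt.disj, ← h2, mul_assoc, mul_comm (Nat.card ↥(N₀)) ((N₀).relIndex P),
    mul_comm ((N₀).relIndex P * _)] at h1
  refine Nat.eq_of_mul_eq_mul_left (Nat.mul_pos (Nat.card_pos (α := C)) (Nat.card_pos (α := ↥(N₀)))) ?_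
  rw [← Pt.sup]
  linarith

theorem central_vanish {φ : ↥S → ℂ} (hφ : φ ∈ centralSet S C N₀) {x : ↥S}
    (hx : (x : G) ∉ sigmaCore S) : φ x = 0 := by
  haveI := sigmaIn_normal h.minSimple (M := S)
  haveI := Fintype.ofFinite ↥(sigmaIn S)
  obtain ⟨⟨θ, -, -, -, rfl⟩, -⟩ := hφ
  exact indFun_normal_not_mem _ _ (g := x) fun hx' => hx (mem_subgroupOf.1 hx')

theorem central_trivial_C {φ : ↥S → ℂ} (hφ : φ ∈ centralSet S C N₀) {c : ↥S} (hc : (c : G) ∈ C) :
    φ c = φ 1 := by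
  haveI := sigmaIn_normal h.minSimple (M := S)
  haveI := normalC Pt h
  exact trivial_of_mem_inducedIrrAbove (sigmaIn S)
    (fun x hx => mem_subgroupOf.2 (Pt.leC (mem_subgroupOf.1 hx))) hφ.1 hc

/-- A member is non-trivial on `N`. -/
theorem central_ne_on_N {φ : ↥S → ℂ} (hφ : φ ∈ centralSet S C N₀) :
    ∃ n : ↥S, (n : G) ∈ N₀ ∧ φ n ≠ φ 1 := by
  haveI := sigmaIn_normal h.minSimple (M := S)
  haveI := Fintype.ofFinite ↥(sigmaIn S)
  by_contra! hall
  obtain ⟨⟨θ, hθ, hθ1, hC, rfl⟩, hN⟩ := hφ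
  refine hN ⟨θ, hθ, hθ1, fun a ha => ?_, rfl⟩
  rw [mem_subgroupOf] at ha
  obtain ⟨c, hc, n, hn, hcn⟩ := cn_exists Pt h ha
  have hcσ : c ∈ sigmaCore S := Pt.leC hc
  have hnσ : n ∈ sigmaCore S := Pt.leP (zN_le Pt h hn)
  let cK : ↥(sigmaIn S) := ⟨⟨c, map_subtype_le _ hcσ⟩, mem_subgroupOf.2 hcσ⟩
  let nK : ↥(sigmaIn S) := ⟨⟨n, map_subtype_le _ hnσ⟩, mem_subgroupOf.2 hnσ⟩
  have hn1 : θ nK = θ 1 :=
    constituent_kernel (isCharacter_comp (isCharacter_indFun _ (isCharacter_of_isIrr hθ)) (sigmaIn S).subtype)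
      ⟨θ, hθ⟩ (classInner_restrict_indFun_self_ne_zero _ hθ) (g := nK) (by
        show indFun (sigmaIn S) θ (nK : ↥S) = indFun (sigmaIn S) θ ((1 : ↥(sigmaIn S)) : ↥S)
        rw [OneMemClass.coe_one]; exact hall _ hn)
  have hC' : ∀ z : ↥(sigmaIn S), ((z : ↥S) : G) ∈ C → θ z = θ 1 := fun z hz => hC z (mem_subgroupOf.2 hz)
  have hm := irr_mul_of_central ⟨θ, hθ⟩ (d := cK) (fun y => hC' _ (by
    show c * ((y : ↥S) : G) * c⁻¹ * ((y : ↥S) : G)⁻¹ ∈ C
    rw [mul_assoc c, mul_assoc c]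
    exact mul_mem hc ((mem_normalizer_iff.1 (Pt.normC (y : ↥S).2) c⁻¹).1 (inv_mem hc)))) nK
  simp only [show cK * nK = a from Subtype.ext (Subtype.ext hcn), hn1, hC' cK hc] at hm
  exact mul_right_cancel₀ (irr_one_ne_zero ⟨θ, hθ⟩) hm

section Irr

include he hep hp hZ

/-- The members are irreducible. -/
theorem central_irr {φ : ↥S → ℂ} (hφ : φ ∈ centralSet S C N₀) : IsIrrCharacter ↥S φ := by
  haveI := sigmaIn_normal h.minSimple (M := S)
  haveI := normalC Pt h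
  haveI := normalCN Pt h
  refine indFun_irr_of_central_section (sigmaIn S) (CN := (C ⊔ N₀).subgroupOf S)
    (fun x hx => mem_subgroupOf.2 ((le_sup_left : C ≤ C ⊔ N₀) (mem_subgroupOf.1 hx)))
    (fun x hx => mem_subgroupOf.2 (cn_le Pt h (mem_subgroupOf.1 hx))) (cn_commutator Pt h)
    (fun x hx a ha hxa => ?_) hφ
  rw [mem_subgroupOf] at ha hxa ⊢
  push_cast at hxa
  obtain ⟨c, hc, n, hn, hcn⟩ := cn_exists Pt h ha
  obtain ⟨-, hSN, hfix, -⟩ := Parts.noncentral_case Pt h he hep hp hZ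
  have hxn : (x : G) * n * (x : G)⁻¹ ∈ N₀ := (mem_normalizer_iff.1 (hSN x.2) n).1 hn
  have hxc : (x : G) * c * (x : G)⁻¹ ∈ C := (mem_normalizer_iff.1 (Pt.normC x.2) c).1 hc
  have heq : (x : G) * n * (x : G)⁻¹ * n⁻¹ = 1 := by
    have h1 : (x : G) * n * (x : G)⁻¹ * n⁻¹ ∈ C := by
      have h2 := mul_mem (mul_mem (inv_mem hxc) hxa) hc
      rw [← hcn] at h2
      rwa [show ((x : G) * c * (x : G)⁻¹)⁻¹ * ((x : G) * (c * n) * (x : G)⁻¹ * (c * n)⁻¹) * c =
        (x : G) * n * (x : G)⁻¹ * n⁻¹ by group] at h2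
    have h3 : (x : G) * n * (x : G)⁻¹ * n⁻¹ ∈ C ⊓ N₀ := mem_inf.2 ⟨h1, mul_mem hxn (inv_mem hn)⟩
    rwa [zN_inf Pt h, mem_bot] at h3
  obtain ⟨-, -, -, hprod⟩ := TypeClass.derived_compl h.minSimple h.coatom h.decomp h.neW₁
  obtain ⟨s, hs, w, hw, hxsw⟩ := hprod x x.2
  rw [Parts.derived_eq h] at hs
  have hw1 : w ≠ 1 := fun e1 => hx (mem_subgroupOf.2 (by rw [hxsw, e1, mul_one]; exact hs))
  have hwn : w * n * w⁻¹ = n := by
    rw [mul_inv_eq_one, hxsw] at heq
    have hm : w * n * w⁻¹ ∈ N₀ := (mem_normalizer_iff.1 (hSN (h.decomp.hall.1 hw)) n).1 hn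
    have h4 := zN_central Pt h hm hs
    rw [show s * w * n * (s * w)⁻¹ = s * (w * n * w⁻¹) * s⁻¹ by group, ← h4, mul_inv_cancel_right] at heq
    exact heq
  have hn1 : n = 1 := by
    have h5 : n ∈ N₀ ⊓ centralizer ({w} : Set G) :=
      mem_inf.2 ⟨hn, mem_centralizer_singleton_iff.2 (mul_inv_eq_iff_eq_mul.1 hwn).symm⟩
    rwa [hfix w hw hw1, mem_bot] at h5
  rw [← hcn, hn1, mul_one]
  exact hc

omit hZ in
theorem central_index : (sigmaIn S).index = e := by
  rw [← eIndex_eq (M := S), Parts.eIndex_eq₁ h, he]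

omit hZ in
theorem coprime_ep : e.Coprime p :=
  hp ▸ he ▸ (Parts.coprime₁ h).coprime_dvd_right (card_dvd_of_le h.le₂)

/-- The degrees. -/
theorem central_degree {φ : ↥S → ℂ} (hφ : φ ∈ centralSet S C N₀) :
    ∃ i : ℕ, φ 1 = ((e * p ^ i : ℕ) : ℂ) ∧ p ^ (2 * i) ≤ (N₀).relIndex P := by
  haveI := sigmaIn_normal h.minSimple (M := S)
  haveI := normalC Pt h
  haveI := normalCN Pt h
  haveI := Parts.fact_prime Pt h hp
  obtain ⟨s, hs⟩ := IsPGroup.iff_card.1 Pt.pGroup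
  obtain ⟨i, h1, h2⟩ := degree_central_section (sigmaIn S) (CN := (C ⊔ N₀).subgroupOf S)
    (fun x hx => mem_subgroupOf.2 ((le_sup_left : C ≤ C ⊔ N₀) (mem_subgroupOf.1 hx)))
    (fun x hx => mem_subgroupOf.2 (cn_le Pt h (mem_subgroupOf.1 hx))) (cn_commutator Pt h)
    (Fact.out : p.Prime) ((relIndex_C Pt h).trans hs) hφ
  rw [central_index Pt h he hep hp] at h1
  rw [relIndex_CN Pt h] at h2
  exact ⟨i, h1, h2⟩

theorem central_conj {φ : ↥S → ℂ} (hφ : φ ∈ centralSet S C N₀) :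
    Cfsg.conjFun φ ∈ centralSet S C N₀ ∧ Cfsg.conjFun φ ≠ φ := by
  haveI := sigmaIn_normal h.minSimple (M := S)
  refine ⟨⟨inducedIrrAbove_conj_mem _ _ hφ.1, fun h' =>
    hφ.2 (cs_conj_conj φ ▸ inducedIrrAbove_conj_mem _ _ h')⟩, fun hc => ?_⟩
  obtain ⟨n, -, hne⟩ := central_ne_on_N Pt h hφ
  have hi := central_irr Pt h he hep hp hZ hφ
  have h1 := irr_eq_one_of_real (h.minSimple.1.of_dvd_nat (card_subgroup_dvd_card S)) ⟨φ, hi⟩
    (fun g => congrFun hc g)
  exact hne ((congrFun h1 n).trans (congrFun h1 1).symm)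

omit he hep hp hZ in
theorem central_finite : (centralSet S C N₀).Finite := by
  haveI := sigmaIn_normal h.minSimple (M := S)
  haveI := normalC Pt h
  haveI := normalCN Pt h
  exact central_section_finite (sigmaIn S)

/-- The sum of the squares of the degrees. -/
theorem central_sum (X : Finset (↥S → ℂ)) (hX : (X : Set (↥S → ℂ)) = centralSet S C N₀) :
    ∑ φ ∈ X, φ 1 ^ 2 = (e : ℂ) * ((Nat.card P : ℂ) - ((N₀).relIndex P : ℂ)) := by
  haveI := sigmaIn_normal h.minSimple (M := S)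
  haveI := normalC Pt h
  haveI := normalCN Pt h
  rw [sum_sq_central_section (sigmaIn S) (CN := (C ⊔ N₀).subgroupOf S)
    (fun x hx => mem_subgroupOf.2 ((le_sup_left : C ≤ C ⊔ N₀) (mem_subgroupOf.1 hx)))
    (fun x hx => mem_subgroupOf.2 (cn_le Pt h (mem_subgroupOf.1 hx))) X hX
    fun χ hχ => central_irr Pt h he hep hp hZ hχ, central_index Pt h he hep hp, relIndex_C Pt h,
    relIndex_CN Pt h]

theorem central_nonempty : (centralSet S C N₀).Nonempty := by
  by_contra hne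
  rw [Set.not_nonempty_iff_eq_empty] at hne
  have hs := central_sum Pt h he hep hp hZ ∅ (by rw [Finset.coe_empty, hne])
  rw [Finset.sum_empty, eq_comm, mul_eq_zero, Nat.cast_eq_zero, sub_eq_zero, Nat.cast_inj] at hs
  obtain ⟨hN, -, -, -⟩ := Parts.noncentral_case Pt h he hep hp hZ
  have hc := CfsgLib.Coprime.card_mul_relIndex (zN_le Pt h)
  rcases hs with hs | hs
  · exact hep.ne_zero hs
  · rw [← hs] at hc
    exact hN (card_eq_one.1 ((Nat.mul_eq_right (Nat.card_pos (α := P)).ne').1 hc))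

/-- The members are coherent for induction to `G`. -/
theorem central_coherent (hNB : NoBad G) : IsCoherent (centralSet S C N₀) {1}ᶜ (indFun S) := by
  haveI := sigmaIn_normal h.minSimple (M := S)
  haveI := normalC Pt h
  haveI := normalCN Pt h
  haveI := Parts.fact_prime Pt h hp
  have hirr := fun χ (hχ : χ ∈ centralSet S C N₀) => central_irr Pt h he hep hp hZ hχ
  have hchar : ∀ χ ∈ centralSet S C N₀, Cfsg.IsCharacter ↥S χ := fun χ hχ => isCharacter_of_isIrr (hirr χ hχ)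
  have hsupp : ∀ α ∈ Cfsg.zspanOn (centralSet S C N₀) {1}ᶜ, Rect.SuppOn S W₁ W₂ α := by
    intro α hα
    obtain ⟨hα1, hα2⟩ := mem_zspanOn_one_iff.1 hα
    refine Rect.suppOn_of_sigma hα2 fun x hx => ?_
    clear hα2 hα
    induction hα1 using Submodule.span_induction with
    | mem y hy => exact central_vanish Pt h hy hx
    | zero => rfl
    | add y z hy hz ihy ihz => rw [Pi.add_apply, ihy, ihz, add_zero]
    | smul n y hy ihy => rw [Pi.smul_apply, ihy, smul_zero]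
  have hiso : Cfsg.IsLinearIsometryOn (Cfsg.zspanOn (centralSet S C N₀) {1}ᶜ) (indFun S) := by
    refine ⟨fun a _ b _ => indFun_add _ a b, fun a _ n => ?_, fun a ha b hb => ?_, fun a ha =>
      isGeneralizedCharacter_indFun _ (zspan_generalized hchar ha.1)⟩
    · simp only [← Int.cast_smul_eq_zsmul ℂ n, indFun_smul]
    · exact h.ind_isometry hNB (hsupp a ha)
        (isClassFunction_of_isGeneralized (zspan_generalized hchar hb.1)) (hsupp b hb)
  obtain ⟨R, hR⟩ := exists_coherenceSystem_irr (centralSet S C N₀) (central_nonempty Pt h he hep hp hZ)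
    hirr (fun χ hχ => central_conj Pt h he hep hp hZ hχ) (indFun S) hiso fun α hα => by
      rw [indFun_one, (mem_zspanOn_one_iff.1 hα).2, mul_zero]
  obtain ⟨s, hs⟩ := IsPGroup.iff_card.1 Pt.pGroup
  exact coherent_central_section (sigmaIn S) (CN := (C ⊔ N₀).subgroupOf S)
    (fun x hx => mem_subgroupOf.2 ((le_sup_left : C ≤ C ⊔ N₀) (mem_subgroupOf.1 hx)))
    (fun x hx => mem_subgroupOf.2 (cn_le Pt h (mem_subgroupOf.1 hx))) (cn_commutator Pt h)
    (h.minSimple.1.of_dvd_nat (card_subgroup_dvd_card S)) (Fact.out : p.Prime)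
    ((relIndex_C Pt h).trans hs) ((central_index Pt h he hep hp).symm ▸ coprime_ep Pt h he hep hp)
    hirr hR

end Irr

end CfsgLib.FT.TypeV
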