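import Mathlib.Algebra.Order.Chebyshev
import Cfsg.Agent.Lib.FT.Basic
import Cfsg.Agent.Lib.Char.Scalar
import Cfsg.Agent.Lib.Char.Integrality
import Cfsg.Agent.Lib.Char.SignedIrr
import Cfsg.Agent.Lib.Char.CyclicTIBasic

/-!
# Multiplicities on a central subgroup of a `p`-group (`docs/FT.md`, §4, `W₂ ≤ Z(P)`)

* `trivial_mult_cong`: if the coefficient of `β` at every non-trivial linear character is the same `t` and
  `t + 1` at the trivial one, then the multiplicity of the trivial character on a subgroup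
  `Z ≤ Z(H) ∩ H'` is `≡ 1 (mod p)`;
* `variance_lower`: a lower bound for `p Σ m² - (Σ m)²`.
-/

set_option autoImplicit false
set_option linter.unusedSectionVars false
set_option linter.style.haveILetI false

namespace CfsgLib.FT

open scoped ComplexConjugate
open Cfsg CfsgLib.Char

universe u

theorem trivial_mult_cong {H : Type u} [Group H] [Fintype H] {p : ℕ} [hp : Fact p.Prime]
    (hH : IsPGroup p H) (Z : Subgroup H) [Fintype Z] (hZc : Z ≤ Subgroup.center H)
    (hZd : Z ≤ commutator H) (hne : commutator H ≠ ⊤) {β : H → ℂ} (hβ : IsClassFunction H β)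
    (hint : ∀ χ : IrrCharacter H, ∃ k : ℤ, classInner β (χ : H → ℂ) = k) {t : ℤ}
    (hlin : ∀ f : H →* ℂˣ, f ≠ 1 → classInner β (fun x => (f x : ℂ)) = t)
    (hone : classInner β (fun _ => (1 : ℂ)) = t + 1) :
    ∃ k : ℤ, ∑ z : Z, β z = (Nat.card Z : ℂ) * (1 + (p : ℂ) * k) := by
  classical
  haveI := finite_dual (K := H)
  let _ := Fintype.ofFinite (H →* ℂˣ)
  haveI := Fintype.ofFinite (IrrCharacter H)
  obtain ⟨a, ha⟩ := hH.index (commutator H)
  have ha1 : a ≠ 0 := fun e => hne (Subgroup.index_eq_one.1 (by rw [ha, e, pow_zero]))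
  have hA : Nat.card (Abelianization H) = p ^ a := by
    rw [← ha, Subgroup.index_eq_card]
    rfl
  set β₁ : H → ℂ := fun x => β x - (t : ℂ) * ∑ f : H →* ℂˣ, (f x : ℂ) - 1 with hβ₁
  have hsplit : β₁ = β - (t : ℂ) • ∑ f : H →* ℂˣ, (fun x => (f x : ℂ)) - fun _ => (1 : ℂ) := by
    funext x
    simp [hβ₁, Finset.sum_apply]
  have hcl : IsClassFunction H β₁ := fun g h => by
    simp only [hβ₁, hβ g h]
    congr 3
    exact Finset.sum_congr rfl fun f _ => by simp [mul_comm (f h : ℂ)]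
  have hne1 : ∀ (χ : IrrCharacter H) (f : H →* ℂˣ), (χ : H → ℂ) 1 ≠ 1 →
      classInner (fun x => (f x : ℂ)) (χ : H → ℂ) = 0 := fun χ f hχ =>
    classInner_irr_ne (χ := ⟨_, isIrrCharacter_lin f⟩) (ψ := χ) fun e => hχ (by
      have := congrFun (congrArg Subtype.val e) 1
      simpa using this.symm)
  have hcoef : ∀ χ : IrrCharacter H, ∀ d : ℕ, (χ : H → ℂ) 1 = d →
      ∃ k : ℤ, classInner β₁ (χ : H → ℂ) * d = (p : ℂ) * k := by
    intro χ d hd
    rw [hsplit, classInner_sub_left, classInner_sub_left, classInner_smul_left, classInner_sum_left]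
    rcases eq_or_ne d 1 with rfl | hd1
    · refine ⟨0, ?_⟩
      obtain ⟨f₀, hf₀⟩ := Signed.Sg.exists_hom (Signed.Sg.of_irr χ) (by rw [hd, Nat.cast_one])
      have hχ : (χ : H → ℂ) = fun x => (f₀ x : ℂ) := funext fun x => (hf₀ x).symm
      have h1 : classInner (fun _ : H => (1 : ℂ)) (χ : H → ℂ) = if f₀ = 1 then 1 else 0 := by
        rw [hχ, show (fun _ : H => (1 : ℂ)) = fun x => ((1 : H →* ℂˣ) x : ℂ) by funext x; simp,
          classInner_irr ⟨_, isIrrCharacter_lin (1 : H →* ℂˣ)⟩ ⟨_, isIrrCharacter_lin f₀⟩]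
        refine if_congr ⟨fun e => MonoidHom.ext fun x => Units.ext ?_, fun e => by simp [e]⟩ rfl rfl
        exact (congrFun (congrArg Subtype.val e) x).symm
      have h2 : ∀ f : H →* ℂˣ, classInner (fun x => (f x : ℂ)) (χ : H → ℂ) = if f = f₀ then 1 else 0 := by
        intro f
        rw [hχ, classInner_irr ⟨_, isIrrCharacter_lin f⟩ ⟨_, isIrrCharacter_lin f₀⟩]
        refine if_congr ⟨fun e => MonoidHom.ext fun x => Units.ext ?_, fun e => by simp [e]⟩ rfl rfl
        exact congrFun (congrArg Subtype.val e) x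
      rw [Finset.sum_congr rfl fun f _ => h2 f, Finset.sum_ite_eq', if_pos (Finset.mem_univ _), h1, hχ]
      rcases eq_or_ne f₀ 1 with rfl | hf1
      · simp only [MonoidHom.one_apply, Units.val_one, if_true]
        rw [hone]
        simp
      · rw [if_neg hf1, hlin f₀ hf1]
        simp
    · have hd1' : (χ : H → ℂ) 1 ≠ 1 := by rw [hd]; exact_mod_cast hd1
      have hpd : p ∣ d := by
        obtain ⟨i, hi⟩ := IsPGroup.iff_card.1 hH
        obtain ⟨j, -, hj⟩ := (Nat.dvd_prime_pow hp.out).1 (hi ▸ degree_dvd_card χ hd)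
        rcases Nat.eq_zero_or_pos j with rfl | hj0
        · exact absurd (by rw [hj, pow_zero]) hd1
        · exact hj ▸ dvd_pow_self p hj0.ne'
      obtain ⟨k, hk⟩ := hint χ
      obtain ⟨d', rfl⟩ := hpd
      refine ⟨k * d', ?_⟩
      rw [Finset.sum_eq_zero fun f _ => hne1 χ f hd1', hk,
        show (fun _ : H => (1 : ℂ)) = fun x => ((1 : H →* ℂˣ) x : ℂ) by funext x; simp, hne1 χ 1 hd1']
      push_cast
      ring
  have hscal : ∀ χ : IrrCharacter H, ∃ e : ℤ,
      ∑ z : Z, (χ : H → ℂ) z = (Nat.card Z : ℂ) * (e : ℂ) * (χ : H → ℂ) 1 := by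
    rintro ⟨χ, n, ρ, hρ, rfl⟩
    obtain ⟨lam, hlam⟩ := CfsgLib.Char.exists_central_hom ρ
    let f : Z →* ℂˣ := lam.comp (Subgroup.inclusion hZc)
    have hval : ∀ z : Z, ρ.character z = (f z : ℂ) * ρ.character 1 := fun z => by
      rw [Representation.character, Representation.character,
        show ρ (z : H) = (f z : ℂ) • LinearMap.id from hlam (Subgroup.inclusion hZc z), map_smul,
        map_one, smul_eq_mul]
      rfl
    let g : Z →* ℂ := (Units.coeHom ℂ).comp f
    refine ⟨if g = 1 then 1 else 0, ?_⟩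
    show ∑ z : Z, ρ.character z = _
    rw [Finset.sum_congr rfl fun z _ => hval z, ← Finset.sum_mul,
      show (∑ z : Z, (f z : ℂ)) = ∑ z : Z, g z from rfl, _root_.sum_hom_units g,
      ← Nat.card_eq_fintype_card]
    split_ifs <;> simp
  choose d hd using fun χ : IrrCharacter H => (isIrrCharacter_degree χ.2).imp fun _ h => h.2
  choose c hc using fun χ => hcoef χ (d χ) (hd χ)
  choose e he using hscal
  have hsum : ∑ z : Z, β₁ z = (Nat.card Z : ℂ) * (p : ℂ) * ((∑ χ, c χ * e χ : ℤ) : ℂ) := by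
    conv_lhs => rw [classFun_expand hcl]
    simp only [Finset.sum_apply, Pi.smul_apply, smul_eq_mul]
    rw [Finset.sum_comm, Int.cast_sum, Finset.mul_sum]
    refine Finset.sum_congr rfl fun χ _ => ?_
    rw [← Finset.mul_sum, he χ, hd χ, Int.cast_mul]
    linear_combination (Nat.card Z : ℂ) * (e χ : ℂ) * hc χ
  have hval : ∀ z : Z, β₁ z = β z - (t : ℂ) * ((p ^ a : ℕ) : ℂ) - 1 := fun z => by
    simp only [hβ₁]
    rw [← hA]
    congr 3
    rw [Finset.sum_congr rfl (g := fun _ => (1 : ℂ)) fun f _ => by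
      rw [show f (z : H) = 1 from Abelianization.commutator_subset_ker f (hZd z.2), Units.val_one],
      Finset.sum_const, Finset.card_univ, nsmul_eq_mul, mul_one, ← Nat.card_eq_fintype_card,
      ← CommGroup.card_monoidHom_of_hasEnoughRootsOfUnity (Abelianization H) ℂ]
    exact congrArg _ (Nat.card_congr Abelianization.lift)
  rw [Finset.sum_congr rfl fun z _ => hval z, Finset.sum_sub_distrib, Finset.sum_sub_distrib,
    Finset.sum_const, Finset.sum_const, Finset.card_univ, nsmul_eq_mul, nsmul_eq_mul,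
    ← Nat.card_eq_fintype_card] at hsum
  refine ⟨(∑ χ, c χ * e χ) + t * (p : ℤ) ^ (a - 1), ?_⟩
  have hpa : (p : ℂ) * (p : ℂ) ^ (a - 1) = (p : ℂ) ^ a := by
    rw [← pow_succ', Nat.sub_add_cancel (Nat.one_le_iff_ne_zero.2 ha1)]
  push_cast at hsum ⊢
  linear_combination hsum - (t : ℂ) * (Nat.card Z : ℂ) * hpa

/-- A lower bound for `(n + 1) Σ m² - (Σ m)²` when the values at `n` indices differ pairwise with one
of them by at least `q`. -/
theorem variance_lower {ι : Type*} [DecidableEq ι] (s : Finset ι) (m : ι → ℤ) (x q : ℤ) {j : ι}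
    (hj : j ∈ s) (h : ∀ l ∈ s, l ≠ j → q ^ 2 ≤ (m l - m j) ^ 2) :
    ((s.card : ℤ) + 1) * ((s.card : ℤ) - 1) * q ^ 2 ≤
      (s.card : ℤ) * (((s.card : ℤ) + 1) * (x ^ 2 + ∑ l ∈ s, m l ^ 2) - (x + ∑ l ∈ s, m l) ^ 2) := by
  set n : ℤ := (s.card : ℤ) with hn
  have hn1 : 1 ≤ n := by
    have := Finset.card_pos.2 ⟨j, hj⟩
    omega
  have h1 : ∑ l ∈ s, (m l - m j) = (∑ l ∈ s, m l) - n * m j := by
    rw [Finset.sum_sub_distrib, Finset.sum_const, nsmul_eq_mul]
  have h2 : ∑ l ∈ s, (m l - m j) ^ 2 =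
      (∑ l ∈ s, m l ^ 2) - 2 * m j * (∑ l ∈ s, m l) + n * m j ^ 2 := by
    rw [Finset.sum_congr rfl fun l _ => show (m l - m j) ^ 2 = m l ^ 2 - 2 * m j * m l + m j ^ 2 by ring,
      Finset.sum_add_distrib, Finset.sum_sub_distrib, ← Finset.mul_sum, Finset.sum_const, nsmul_eq_mul]
  have hcard : ((s.erase j).card : ℤ) = n - 1 := by
    rw [Finset.card_erase_of_mem hj, Nat.cast_sub (Finset.card_pos.2 ⟨j, hj⟩)]
    simp [hn]
  have he1 : ∑ l ∈ s, (m l - m j) = ∑ l ∈ s.erase j, (m l - m j) := by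
    rw [← Finset.add_sum_erase s _ hj, sub_self, zero_add]
  have he2 : ∑ l ∈ s, (m l - m j) ^ 2 = ∑ l ∈ s.erase j, (m l - m j) ^ 2 := by
    rw [← Finset.add_sum_erase s _ hj, sub_self]; ring
  have h3 : (∑ l ∈ s.erase j, (m l - m j)) ^ 2 ≤
      (n - 1) * ∑ l ∈ s.erase j, (m l - m j) ^ 2 := hcard ▸ sq_sum_le_card_mul_sum_sq
  have h4 : (n - 1) * q ^ 2 ≤ ∑ l ∈ s.erase j, (m l - m j) ^ 2 := by
    have := Finset.card_nsmul_le_sum (s.erase j) (fun l => (m l - m j) ^ 2) (q ^ 2) fun l hl =>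
      h l (Finset.mem_of_mem_erase hl) (Finset.ne_of_mem_erase hl)
    rwa [nsmul_eq_mul, hcard] at this
  rw [← he1] at h3
  rw [← he2] at h3 h4
  rw [h1] at h3
  rw [h2] at h3 h4
  have h5 : (n - 1) * q ^ 2 ≤ n * (∑ l ∈ s, m l ^ 2) - (∑ l ∈ s, m l) ^ 2 := by nlinarith
  have h6 := mul_le_mul_of_nonneg_left h5 (by omega : (0 : ℤ) ≤ n + 1)
  nlinarith [sq_nonneg (n * x - ∑ l ∈ s, m l)]

end CfsgLib.FT
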