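import Cfsg.Agent.Lib.FT.FamilyImage

/-!
# Coset averages of `ψ` and the norm inequality (`docs/FT.md`, §0)

`psi_avg`: on a coset `v M_σ'` (`v ∉ M_σ'`) the averages of `ψ` have mean `ε φ₀(v) + c`;
`orth_avg`: those of a class function orthogonal to all differences have mean `(χ, τθ_M)`;
`norm_ineq`, `c_eq_zero`, `tilde_ge`; `sum_sq_le` is the Bessel bound for `τθ_M`.
-/

set_option autoImplicit false
set_option linter.unusedSectionVars false
set_option linter.style.haveILetI false

open Subgroup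

namespace CfsgLib.FT

open CfsgLib.CFun CfsgLib.Char
open Cfsg (IsClassFunction IsGeneralizedCharacter IsCharacter IsIrrCharacter IrrCharacter classInner
  sigmaCore IsMinSimpleOddOrder tildeOf)
open scoped ComplexConjugate

universe u

variable {G : Type u} [Group G] [Fintype G] (hG : IsMinSimpleOddOrder G) {M : Subgroup G}
include hG

theorem sum_coset_of_theta [Fintype M] {D : M → ℂ} (hD : IsClassFunction M D)
    (h : ∀ φ : Member M, classInner (theta M φ) D = 0) {v : G} (hv : v ∈ sigmaCore M)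
    (hv' : v ∉ sigmaDer M) :
    ∑ᶠ d ∈ (sigmaDer M : Set G), valOn M D (v * d) = 0 := by
  classical
  haveI : Fintype (sigmaIn M) := Fintype.ofFinite _
  haveI : Fintype (commutator (sigmaIn M)) := Fintype.ofFinite _
  have key : ∀ lam : sigmaIn M →* ℂˣ, ∑ u : sigmaIn M, conj (D u) * (1 - (lam u : ℂ)) = 0 := by
    intro lam
    by_cases hl : lam = 1
    · exact Finset.sum_eq_zero fun u _ => by simp [hl]
    have h1 := h ⟨_, lam, hl, rfl⟩
    rw [theta, classInner_sub_left, inner_indSigma_right hG _ hD, inner_indSigma_right hG _ hD,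
      classInner, classInner, ← mul_sub, mul_eq_zero,
      or_iff_right (inv_ne_zero card_ne_zero'), ← Finset.sum_sub_distrib] at h1
    rw [← h1]
    exact Finset.sum_congr rfl fun u _ => by ring
  let v₀ : sigmaIn M := ⟨⟨v, map_subtype_le _ hv⟩, hv⟩
  have h2 := sum_coset_eq_zero hG (fun u => conj (D u)) key (v := v₀)
    fun h => hv' ((mem_commutator_iff v₀).1 h)
  rw [← map_sum, map_eq_zero] at h2
  rw [finsum_mem_eq_toFinset_sum, ← h2]
  refine (Finset.sum_bij (fun (d : commutator (sigmaIn M)) _ => ((d : sigmaIn M) : M).1)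
    (fun d _ => by simpa using (mem_commutator_iff _).1 d.2)
    (fun a _ b _ e => Subtype.ext (Subtype.ext (Subtype.ext e))) (fun y hy => ?_) fun d _ => ?_).symm
  · have hy' : y ∈ sigmaDer M := by simpa using hy
    have hys : y ∈ sigmaCore M := commutator_le_self (sigmaCore M) hy'
    exact ⟨⟨⟨⟨y, map_subtype_le _ hys⟩, hys⟩, (mem_commutator_iff _).2 hy'⟩, Finset.mem_univ _, rfl⟩
  · rw [valOn_mem _ (mul_mem (map_subtype_le _ hv) ((d : sigmaIn M) : M).2)]
    rfl

theorem member_coset (φ : Member M) {x y : M} (hx : (x : G) ∈ sigmaCore M)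
    (hy : (y : G) ∈ sigmaDer M) : φ.1 (x * y) = φ.1 x := by
  haveI := Fintype.ofFinite M
  haveI := sigmaIn_normal hG (M := M)
  obtain ⟨lam, -, hφ⟩ := φ.2
  have hys : (y : G) ∈ sigmaCore M := commutator_le_self (sigmaCore M) hy
  rw [hφ, show x * y = (((⟨x, hx⟩ : sigmaIn M) * ⟨y, hys⟩ : sigmaIn M) : M) from rfl,
    indSigma_hom_mem hG]
  refine Eq.trans ?_ (indSigma_hom_mem hG lam ⟨x, hx⟩).symm
  congr 1
  refine Finset.sum_congr rfl fun z _ => ?_
  rw [map_mul, show cjHom z lam ⟨y, hys⟩ = 1 from Abelianization.commutator_subset_ker _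
    ((mem_commutator_iff _).2 hy), mul_one]

theorem coset_avg_of_theta (hc : IsCoatom M) [Fintype M] {χ : G → ℂ} (hχ : IsClassFunction G χ)
    {T : M → ℂ} (hT : IsClassFunction M T)
    (h : ∀ φ : Member M, classInner (theta M φ) T = classInner (tau M (theta M φ)) χ) {v : G}
    (hv : v ∈ sigmaCore M) (hv' : v ∉ sigmaDer M) :
    ∑ᶠ d ∈ (sigmaDer M : Set G), avgR M χ (v * d) =
      ∑ᶠ d ∈ (sigmaDer M : Set G), valOn M T (v * d) := by
  classical
  have h1 := sum_coset_of_theta hG (D := avgS M χ - T) (fun x y => by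
    simp only [Pi.sub_apply, avgS_class hG hc hχ x y, hT x y]) (fun φ => by
      rw [classInner_sub_right, h φ, tau_avgS hG hc (theta_class hG φ) (theta_supp hG φ) hχ, sub_self])
    hv hv'
  rw [finsum_mem_eq_toFinset_sum] at h1 ⊢
  rw [finsum_mem_eq_toFinset_sum, ← sub_eq_zero, ← Finset.sum_sub_distrib, ← h1]
  refine Finset.sum_congr rfl fun d hd => ?_
  have hd' : d ∈ sigmaDer M := by simpa using hd
  have hs : v * d ∈ sharp M := ⟨mul_mem hv (commutator_le_self (sigmaCore M) hd'), fun e => hv' (by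
    rw [eq_inv_of_mul_eq_one_left e]; exact inv_mem hd')⟩
  rw [valOn_mem _ (map_subtype_le _ hs.1), valOn_mem _ (map_subtype_le _ hs.1), Pi.sub_apply,
    avgS_mem χ (x := ⟨v * d, map_subtype_le _ hs.1⟩) hs]

variable (hM : FpfAb M)
include hM

namespace Family

variable (F : Family M)

omit hG hM in
/-- The mean of `ψ`'s averages, on `M`. -/
noncomputable def psiMean : M → ℂ := fun x => (F.ε : ℂ) * F.base.1 x + F.c

theorem psiMean_theta [Fintype M] (φ : Member M) :
    classInner (theta M φ) F.psiMean = classInner (tau M (theta M φ)) F.psi := by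
  classical
  have e1 : F.psiMean = (F.ε : ℂ) • F.base.1 + (F.c : ℂ) • (fun _ : M => (1 : ℂ)) := by
    funext x
    simp [psiMean]
  have e2 : theta M φ = theta M F.base + (F.base.1 - φ.1) := by
    simp only [theta]
    abel
  have h1 : classInner F.tht F.psi = (F.c : ℂ) - F.ε := by
    rw [← classInner_conj, F.psi_tht hG hM, map_sub, map_intCast, map_intCast]
  have h2 : classInner (F.μ φ : G → ℂ) F.psi = if F.base = φ then 1 else 0 := by
    split_ifs with e
    · rw [psi, e]; exact classInner_irr_self _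
    · exact classInner_irr_ne (fun h => e (F.inj h).symm)
  have h3 : classInner φ.1 F.base.1 = if F.base = φ then 1 else 0 := by
    split_ifs with e
    · rw [e]; exact member_self hG hM φ
    · exact member_orth hG hM (Ne.symm e)
  have h4 : classInner (theta M φ) F.base.1 = -(if F.base = φ then 1 else 0) := by
    rw [theta, classInner_sub_left, indOne_inner_member hG, h3, zero_sub]
  rw [e1, classInner_add_right, classInner_smul_right, classInner_smul_right, h4,
    theta_inner_one hG, map_intCast, map_intCast]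
  conv_rhs => rw [e2, tau_add, F.image, classInner_add_left, classInner_smul_left, classInner_sub_left,
    show tau M (theta M F.base) = F.tht from rfl, h1, h2, show (F.μ F.base : G → ℂ) = F.psi from rfl,
    psi, classInner_irr_self]
  ring

theorem psiMean_class : IsClassFunction M F.psiMean := fun x y => by
  simp only [psiMean, member_class hG F.base x y]

theorem psiMean_coset {x y : M} (hx : (x : G) ∈ sigmaCore M) (hy : (y : G) ∈ sigmaDer M) :
    F.psiMean (x * y) = F.psiMean x := by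
  rw [psiMean, psiMean, member_coset hG F.base hx hy]

/-- The mean of the averages of `ψ` on a coset of `M_σ'`. -/
theorem psi_avg {v : G} (hv : v ∈ sigmaCore M) (hv' : v ∉ sigmaDer M) :
    ∑ᶠ d ∈ (sigmaDer M : Set G), avgR M F.psi (v * d) =
      (Nat.card (sigmaDer M) : ℂ) * ((F.ε : ℂ) * valOn M F.base.1 v + F.c) := by
  classical
  haveI := Fintype.ofFinite M
  rw [coset_avg_of_theta hG hM.coatom F.psi_class (F.psiMean_class hG hM) (F.psiMean_theta hG hM) hv hv',
    finsum_mem_eq_toFinset_sum, valOn_mem _ (map_subtype_le _ hv),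
    Finset.sum_congr rfl (g := fun _ => F.psiMean ⟨v, map_subtype_le _ hv⟩) fun d hd => by
      have hd' : d ∈ sigmaDer M := by simpa using hd
      have hdM : d ∈ M := map_subtype_le _ (commutator_le_self (sigmaCore M) hd')
      rw [valOn_mem _ (mul_mem (map_subtype_le _ hv) hdM),
        ← F.psiMean_coset hG hM (x := ⟨v, map_subtype_le _ hv⟩) (y := ⟨d, hdM⟩) hv hd']
      rfl,
    Finset.sum_const, nsmul_eq_mul, Set.toFinset_card, ← Nat.card_eq_fintype_card]
  rfl

theorem psi_avg_class {v : G} (hv : v ∈ sigmaCore M) (hv' : v ∉ sigmaDer M)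
    (hcl : ∀ d ∈ sigmaDer M, ∃ m ∈ M, m * v * m⁻¹ = v * d) :
    avgR M F.psi v = (F.ε : ℂ) * valOn M F.base.1 v + F.c := by
  classical
  have h := F.psi_avg hG hM hv hv'
  rw [finsum_mem_eq_toFinset_sum, Finset.sum_congr rfl (g := fun _ => avgR M F.psi v) fun d hd => by
      obtain ⟨m, hm, e⟩ := hcl d (by simpa using hd)
      rw [← e, avgR_conj hG hM.coatom F.psi_class hm ⟨hv, fun e1 => hv' (by rw [e1]; exact one_mem _)⟩],
    Finset.sum_const, nsmul_eq_mul, Set.toFinset_card, ← Nat.card_eq_fintype_card] at h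
  exact mul_left_cancel₀ (by exact_mod_cast (Nat.card_pos (α := sigmaDer M)).ne') h

/-- The mean of the averages of a class function orthogonal to the differences. -/
theorem orth_avg {χ : G → ℂ} (hχ : IsClassFunction G χ)
    (ho : ∀ i l : Member M, classInner χ (tau M (i.1 - l.1)) = 0) {v : G} (hv : v ∈ sigmaCore M)
    (hv' : v ∉ sigmaDer M) :
    ∑ᶠ d ∈ (sigmaDer M : Set G), avgR M χ (v * d) =
      (Nat.card (sigmaDer M) : ℂ) * classInner χ F.tht := by
  classical
  haveI := Fintype.ofFinite M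
  let T : M → ℂ := classInner χ F.tht • fun _ => 1
  have hT : ∀ φ : Member M, classInner (theta M φ) T = classInner (tau M (theta M φ)) χ := by
    intro φ
    have e2 : theta M φ = theta M F.base + (F.base.1 - φ.1) := by
      simp only [theta]
      abel
    rw [classInner_smul_right, theta_inner_one hG, mul_one, classInner_conj]
    conv_rhs => rw [e2, tau_add, classInner_add_left, ← classInner_conj χ (tau M (F.base.1 - φ.1)),
      ho, map_zero, add_zero]
    rfl
  rw [coset_avg_of_theta hG hM.coatom hχ (fun x y => rfl) hT hv hv', finsum_mem_eq_toFinset_sum,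
    Finset.sum_congr rfl (g := fun _ => classInner χ F.tht) fun d hd => by
      have hd' : d ∈ sigmaDer M := by simpa using hd
      rw [valOn_mem _ (mul_mem (map_subtype_le _ hv)
        (map_subtype_le _ (commutator_le_self (sigmaCore M) hd')))]
      simp [T],
    Finset.sum_const, nsmul_eq_mul, Set.toFinset_card, ← Nat.card_eq_fintype_card]
  rfl

theorem card_M : (Nat.card M : ℕ) = eIndex M * (Nat.card (sigmaDer M) * kZero M) := by
  have h1 : Nat.card (sigmaDer M) * kZero M = Nat.card (sigmaCore M) := by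
    have hle : sigmaDer M ≤ sigmaCore M := commutator_le_self _
    rw [kZero, relIndex, ← Nat.card_congr (subgroupOfEquivOfLe hle).toEquiv]
    exact card_mul_index _
  have hle' : sigmaCore M ≤ M := map_subtype_le _
  rw [h1, eIndex, relIndex, ← Nat.card_congr (subgroupOfEquivOfLe hle').toEquiv, mul_comm]
  exact (card_mul_index _).symm

/-- The norm inequality. -/
theorem norm_ineq :
    ((eIndex M : ℝ) * kZero M - (eIndex M : ℝ) ^ 2 - 2 * F.ε * F.c * eIndex M +
        (F.c : ℝ) ^ 2 * ((kZero M : ℝ) - 1)) / ((kZero M : ℝ) * eIndex M) ≤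
      (Nat.card G : ℝ)⁻¹ * ∑ᶠ g ∈ tildeOf M (sharp M), ‖F.psi g‖ ^ 2 := by
  classical
  haveI := Fintype.ofFinite M
  refine le_trans ?_ (avg_sq_le hG hM.coatom F.psi_class)
  set P : Finset M := Finset.univ.filter fun x : M =>
    (x : G) ∈ sigmaCore M ∧ (x : G) ∉ sigmaDer M with hP
  have hPsharp : ∀ x ∈ P, (x : G) ∈ sharp M := fun x hx => by
    obtain ⟨h1, h2⟩ := (Finset.mem_filter.1 hx).2
    exact ⟨h1, fun e => h2 (by rw [e]; exact one_mem _)⟩
  set S₁ : Finset M := Finset.univ.filter fun x : M => (x : G) ∈ sigmaCore M with hS₁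
  set D₁ : Finset M := Finset.univ.filter fun x : M => (x : G) ∈ sigmaDer M with hD₁
  have hcardD : D₁.card = Nat.card (sigmaDer M) := by
    rw [hD₁, ← Fintype.card_subtype, ← Nat.card_eq_fintype_card]
    exact Nat.card_congr (subgroupOfEquivOfLe
      ((commutator_le_self (sigmaCore M)).trans (map_subtype_le _) : sigmaDer M ≤ M)).toEquiv
  have hcardS : S₁.card = Nat.card (sigmaDer M) * kZero M := by
    have hle : sigmaDer M ≤ sigmaCore M := commutator_le_self _
    rw [hS₁, ← Fintype.card_subtype, ← Nat.card_eq_fintype_card, kZero, relIndex,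
      ← Nat.card_congr (subgroupOfEquivOfLe hle).toEquiv, card_mul_index]
    exact Nat.card_congr (subgroupOfEquivOfLe (map_subtype_le _ : sigmaCore M ≤ M)).toEquiv
  have horth : ∑ x ∈ P, (avgS M F.psi x - F.psiMean x) * conj (F.psiMean x) = 0 := by
    have hshift : ∀ y ∈ D₁, ∑ x ∈ P, (avgS M F.psi x - F.psiMean x) * conj (F.psiMean x) =
        ∑ x ∈ P, (avgS M F.psi (x * y) - F.psiMean (x * y)) * conj (F.psiMean x) := by
      intro y hy
      have hy' : (y : G) ∈ sigmaDer M := (Finset.mem_filter.1 hy).2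
      have hy'' : (y : G) ∈ sigmaCore M := commutator_le_self (sigmaCore M) hy'
      refine (Finset.sum_nbij' (fun x => x * y) (fun x => x * y⁻¹) (fun x hx => ?_) (fun x hx => ?_)
        (fun x _ => mul_inv_cancel_right x y) (fun x _ => inv_mul_cancel_right x y) fun x hx => ?_).symm
      · obtain ⟨h1, h2⟩ := (Finset.mem_filter.1 (Finset.mem_coe.1 hx)).2
        exact Finset.mem_coe.2 (Finset.mem_filter.2 ⟨Finset.mem_univ _, mul_mem h1 hy'',
          fun h => h2 (by simpa using mul_mem h (inv_mem hy'))⟩)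
      · obtain ⟨h1, h2⟩ := (Finset.mem_filter.1 (Finset.mem_coe.1 hx)).2
        exact Finset.mem_coe.2 (Finset.mem_filter.2 ⟨Finset.mem_univ _, mul_mem h1 (inv_mem hy''),
          fun h => h2 (by simpa using mul_mem h hy')⟩)
      · rw [F.psiMean_coset hG hM (Finset.mem_filter.1 hx).2.1 hy']
    have h0 : (D₁.card : ℂ) * ∑ x ∈ P, (avgS M F.psi x - F.psiMean x) * conj (F.psiMean x) = 0 := by
      rw [← nsmul_eq_mul, ← Finset.sum_const, Finset.sum_congr rfl hshift, Finset.sum_comm]
      refine Finset.sum_eq_zero fun x hx => ?_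
      obtain ⟨hx1, hx2⟩ := (Finset.mem_filter.1 hx).2
      have h := sum_coset_of_theta hG (D := avgS M F.psi - F.psiMean) (fun a b => by
        simp only [Pi.sub_apply, avgS_class hG hM.coatom F.psi_class a b, F.psiMean_class hG hM a b])
        (fun φ => by rw [classInner_sub_right, F.psiMean_theta hG hM,
          tau_avgS hG hM.coatom (theta_class hG φ) (theta_supp hG φ) F.psi_class, sub_self]) hx1 hx2
      rw [finsum_mem_eq_toFinset_sum] at h
      rw [← Finset.sum_mul, mul_eq_zero]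
      left
      rw [← h]
      refine Finset.sum_bij (fun y _ => (y : G)) (fun y hy => by simpa using (Finset.mem_filter.1 hy).2)
        (fun a _ b _ e => Subtype.ext e) (fun d hd => ?_) fun y _ => ?_
      · have hd' : d ∈ sigmaDer M := by simpa using hd
        exact ⟨⟨d, map_subtype_le _ (commutator_le_self (sigmaCore M) hd')⟩,
          Finset.mem_filter.2 ⟨Finset.mem_univ _, hd'⟩, rfl⟩
      · rw [valOn_mem _ (mul_mem x.2 y.2)]
        rfl
    exact (mul_eq_zero.1 h0).resolve_left (by rw [hcardD]; exact_mod_cast Nat.card_pos.ne')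
  have hT : ((∑ x ∈ P, ‖F.psiMean x‖ ^ 2 : ℝ) : ℂ) = (Nat.card (sigmaDer M) : ℂ) *
      ((eIndex M : ℂ) * kZero M + (F.c : ℂ) ^ 2 * kZero M - ((F.ε : ℂ) * eIndex M + F.c) ^ 2) := by
    have hPS : P = S₁ \ D₁ := by
      ext x
      simp [hP, hS₁, hD₁]
    have hsub : D₁ ⊆ S₁ := fun x hx => Finset.mem_filter.2
      ⟨Finset.mem_univ _, commutator_le_self (sigmaCore M) (Finset.mem_filter.1 hx).2⟩
    have hvan : ∀ x ∈ (Finset.univ : Finset M), x ∉ S₁ → F.base.1 x = 0 := fun x _ hx =>
      member_vanish hG _ fun h => hx (Finset.mem_filter.2 ⟨Finset.mem_univ _, h⟩)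
    have hφ1 : ∑ x ∈ S₁, F.base.1 x * conj (F.base.1 x) = (Nat.card M : ℂ) := by
      have h := member_self hG hM F.base
      rw [classInner, inv_mul_eq_one₀ card_ne_zero'] at h
      rw [h]
      exact Finset.sum_subset (Finset.subset_univ _) fun x hx hx' => by simp [hvan x hx hx']
    have hφ2 : ∑ x ∈ S₁, F.base.1 x = 0 := by
      have h := member_inner_one hG F.base
      simp only [classInner, map_one, mul_one, mul_eq_zero, inv_eq_zero, card_ne_zero', false_or] at h
      rw [← h]
      exact Finset.sum_subset (Finset.subset_univ _) hvan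
    have hφ3 : ∑ x ∈ S₁, conj (F.base.1 x) = 0 := by rw [← map_sum, hφ2, map_zero]
    have hsq : ∀ x : M, ((‖F.psiMean x‖ ^ 2 : ℝ) : ℂ) = F.base.1 x * conj (F.base.1 x) +
        (F.ε : ℂ) * F.c * F.base.1 x + (F.ε : ℂ) * F.c * conj (F.base.1 x) + (F.c : ℂ) ^ 2 := by
      intro x
      rw [Complex.ofReal_pow, ← Complex.mul_conj']
      simp only [psiMean, map_add, map_mul, map_intCast]
      linear_combination (F.base.1 x * conj (F.base.1 x)) * F.eps_sq
    rw [hPS, Complex.ofReal_sum, Finset.sum_sdiff_eq_sub hsub,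
      Finset.sum_congr rfl (s₁ := D₁) (g := fun _ => ((F.ε : ℂ) * eIndex M + F.c) ^ 2) fun x hx => by
        have he : F.base.1 x = eIndex M := member_der hG _ (Finset.mem_filter.1 hx).2
        rw [hsq, he, Complex.conj_natCast]
        linear_combination (-(eIndex M : ℂ) ^ 2) * F.eps_sq,
      Finset.sum_congr rfl (fun x _ => hsq x)]
    simp only [Finset.sum_add_distrib, ← Finset.mul_sum, hφ1, hφ2, hφ3, Finset.sum_const, nsmul_eq_mul,
      hcardS, hcardD, card_M hG hM]
    push_cast
    ring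
  have hre : (∑ x ∈ P, ‖F.psiMean x‖ ^ 2 : ℝ) = (Nat.card (sigmaDer M) : ℝ) *
      ((eIndex M : ℝ) * kZero M + (F.c : ℝ) ^ 2 * kZero M - ((F.ε : ℝ) * eIndex M + F.c) ^ 2) := by
    apply Complex.ofReal_injective
    rw [hT]
    push_cast
    ring
  have hle : ∑ x ∈ P, ‖F.psiMean x‖ ^ 2 ≤ ∑ᶠ a ∈ sharp M, ‖avgR M F.psi a‖ ^ 2 := by
    have hpt : ∀ x : M, ‖F.psiMean x‖ ^ 2 +
        2 * ((avgS M F.psi x - F.psiMean x) * conj (F.psiMean x)).re ≤ ‖avgS M F.psi x‖ ^ 2 := by
      intro x
      simp only [Complex.sq_norm, Complex.normSq_apply, Complex.mul_re, Complex.conj_re, Complex.conj_im,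
        Complex.sub_re, Complex.sub_im]
      nlinarith [sq_nonneg ((avgS M F.psi x).re - (F.psiMean x).re),
        sq_nonneg ((avgS M F.psi x).im - (F.psiMean x).im)]
    have h := Finset.sum_le_sum (s := P) fun x _ => hpt x
    rw [Finset.sum_add_distrib, ← Finset.mul_sum, ← Complex.re_sum, horth, Complex.zero_re, mul_zero,
      add_zero] at h
    refine h.trans ?_
    rw [finsum_mem_eq_toFinset_sum]
    refine le_trans (le_of_eq (Finset.sum_congr rfl fun x hx => by
      rw [avgS_mem _ (hPsharp x hx)] : _ = ∑ x ∈ P, ‖avgR M F.psi (x : G)‖ ^ 2)) ?_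
    rw [← Finset.sum_image (f := fun a : G => ‖avgR M F.psi a‖ ^ 2) (g := fun x : M => (x : G))
      fun a _ b _ e => Subtype.ext e]
    refine Finset.sum_le_sum_of_subset_of_nonneg (fun a ha => ?_) fun _ _ _ => by positivity
    obtain ⟨x, hx, rfl⟩ := Finset.mem_image.1 ha
    simpa using hPsharp x hx
  refine le_trans (le_of_eq ?_) (mul_le_mul_of_nonneg_left (hre ▸ hle) (by positivity))
  have he : (F.ε : ℝ) * F.ε = 1 := by rcases F.sign with h | h <;> simp [h]
  rw [card_M hG hM]
  have h1 : (Nat.card (sigmaDer M) : ℝ) ≠ 0 := by exact_mod_cast Nat.card_pos.ne'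
  have h2 : (eIndex M : ℝ) ≠ 0 := by exact_mod_cast eIndex_pos.ne'
  have h3 : (kZero M : ℝ) ≠ 0 := by exact_mod_cast kZero_pos.ne'
  push_cast
  field_simp
  linear_combination (eIndex M : ℝ) ^ 2 * he

theorem tilde_le_one : (Nat.card G : ℝ)⁻¹ * ∑ᶠ g ∈ tildeOf M (sharp M), ‖F.psi g‖ ^ 2 ≤ 1 := by
  classical
  have h := classInner_self (G := G) F.psi
  rw [psi, classInner_irr_self] at h
  have h1 : (Nat.card G : ℝ)⁻¹ * ∑ g : G, ‖F.psi g‖ ^ 2 = 1 := by
    apply Complex.ofReal_injective
    rw [Complex.ofReal_one, h]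
    push_cast
    congr 1
  rw [← h1, finsum_mem_eq_toFinset_sum]
  exact mul_le_mul_of_nonneg_left (Finset.sum_le_sum_of_subset_of_nonneg (Finset.subset_univ _)
    fun _ _ _ => by positivity) (by positivity)

theorem c_eq_zero (h : (eIndex M + 1) ^ 2 < kZero M) : F.c = 0 := by
  by_contra hc
  have h1 := (F.norm_ineq hG hM).trans (F.tilde_le_one hG hM)
  have hd : (0 : ℝ) < (kZero M : ℝ) * eIndex M := by
    exact_mod_cast Nat.mul_pos kZero_pos eIndex_pos
  rw [div_le_one hd] at h1
  have hk : ((eIndex M : ℝ) + 1) ^ 2 < kZero M := by exact_mod_cast h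
  have hc1 : (1 : ℝ) ≤ |(F.c : ℝ)| := by exact_mod_cast Int.one_le_abs hc
  have he : |(F.ε : ℝ)| = 1 := by rcases F.sign with e | e <;> simp [e]
  have h2 : (F.ε : ℝ) * F.c ≤ |(F.c : ℝ)| := by
    have := le_abs_self ((F.ε : ℝ) * F.c)
    rwa [abs_mul, he, one_mul] at this
  have h3 : (F.c : ℝ) ^ 2 = |(F.c : ℝ)| ^ 2 := (sq_abs _).symm
  have he0 : (0 : ℝ) ≤ eIndex M := Nat.cast_nonneg _
  nlinarith [mul_le_mul_of_nonneg_left hc1 (abs_nonneg (F.c : ℝ)), mul_le_mul_of_nonneg_right h2 he0,
    mul_lt_mul_of_pos_left hk (by positivity : (0 : ℝ) < |(F.c : ℝ)| ^ 2),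
    mul_le_mul_of_nonneg_left hc1 (mul_nonneg (abs_nonneg (F.c : ℝ)) he0)]

theorem tilde_ge (h : F.c = 0) :
    1 - (eIndex M : ℝ) / kZero M ≤ (Nat.card G : ℝ)⁻¹ * ∑ᶠ g ∈ tildeOf M (sharp M), ‖F.psi g‖ ^ 2 := by
  refine le_trans (le_of_eq ?_) (F.norm_ineq hG hM)
  have h2 : (eIndex M : ℝ) ≠ 0 := by exact_mod_cast eIndex_pos.ne'
  have h3 : (kZero M : ℝ) ≠ 0 := by exact_mod_cast kZero_pos.ne'
  rw [h, Int.cast_zero]
  field_simp
  ring

/-- Bessel's inequality for `τθ_M`. -/
theorem sum_sq_le (s : Finset (IrrCharacter G)) (hs : ∀ χ ∈ s, (χ : G → ℂ) ≠ fun _ => 1) :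
    ∑ χ ∈ s, ‖classInner (χ : G → ℂ) F.tht‖ ^ 2 ≤ (eIndex M : ℝ) := by
  classical
  haveI := Fintype.ofFinite (IrrCharacter G)
  obtain ⟨m, hm, -, hn⟩ := generalized_expand (F.tht_gen hG hM)
  have hnorm : (∑ ψ, m ψ ^ 2 : ℤ) = (eIndex M : ℤ) + 1 := by
    have h := hn.symm.trans (F.tht_norm hG hM)
    exact_mod_cast h
  let one : IrrCharacter G := ⟨_, isIrrCharacter_one⟩
  have h1 : one ∉ s := fun h => hs one h rfl
  have hm1 : m one = 1 := by
    have := hm one
    rw [show ((one : IrrCharacter G) : G → ℂ) = fun _ => 1 from rfl, F.tht_one hG hM] at this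
    exact_mod_cast this.symm
  have h2 : ∑ χ ∈ s, m χ ^ 2 + 1 ≤ (eIndex M : ℤ) + 1 := by
    rw [← hnorm, show (1 : ℤ) = m one ^ 2 by rw [hm1]; norm_num, add_comm, ← Finset.sum_insert (f := fun χ => m χ ^ 2) h1]
    exact Finset.sum_le_sum_of_subset_of_nonneg (Finset.subset_univ _) fun _ _ _ => sq_nonneg _
  have h3 : ∀ χ : IrrCharacter G, ‖classInner (χ : G → ℂ) F.tht‖ ^ 2 = ((m χ ^ 2 : ℤ) : ℝ) := fun χ => by
    rw [← classInner_conj, hm, map_intCast, Complex.norm_intCast, sq_abs, Int.cast_pow]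
  rw [Finset.sum_congr rfl fun χ _ => h3 χ, ← Int.cast_sum]
  exact_mod_cast (by linarith : ∑ χ ∈ s, m χ ^ 2 ≤ (eIndex M : ℤ))

end Family

end CfsgLib.FT
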