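import Cfsg.Agent.Lib.FT.FamilyAvg
import Cfsg.Agent.Lib.FT.FamilyParity

/-!
# The budget of `τθ_M`, and the tilde sets of non-conjugate maximal subgroups
-/

set_option autoImplicit false
set_option linter.unusedSectionVars false
set_option linter.style.haveILetI false

open Subgroup

namespace CfsgLib.FT

open CfsgLib.CFun CfsgLib.Char
open Cfsg (IsClassFunction IrrCharacter classInner sigmaCore IsMinSimpleOddOrder tildeOf)
open scoped ComplexConjugate

universe u

variable {G : Type u} [Group G] [Fintype G] (hG : IsMinSimpleOddOrder G)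
include hG

/-- The integrals of a nonnegative function over the tilde sets of pairwise non-conjugate maximals add up. -/
theorem sum_tilde_le {ι : Type*} (s : Finset ι) (M : ι → Subgroup G) (hM : ∀ i ∈ s, IsCoatom (M i))
    (hnc : ∀ i ∈ s, ∀ j ∈ s, i ≠ j → TauTwo.NotConj (M i) (M j)) (f : G → ℝ) (hf : ∀ g, 0 ≤ f g) :
    ∑ i ∈ s, ∑ᶠ g ∈ tildeOf (M i) (sharp (M i)), f g ≤ ∑ g : G, f g := by
  classical
  simp only [sharp, finsum_mem_eq_toFinset_sum]
  rw [← Finset.sum_biUnion fun i hi j hj hij => Finset.disjoint_left.2 fun g hgi hgj =>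
    (Set.eq_empty_iff_forall_notMem.1
      (Tilde.tilde_disjoint hG (hM i hi) (hM j hj) (hnc i hi j hj hij))) g
      ⟨Set.mem_toFinset.1 hgi, Set.mem_toFinset.1 hgj⟩]
  exact Finset.sum_le_sum_of_subset_of_nonneg (Finset.subset_univ _) fun g _ _ => hf g

namespace Family

variable {M : Subgroup G} (hM : FpfAb M) (FM : Family M) {L : Subgroup G} (hL : FpfAb L) (FL : Family L)
  (hnc : TauTwo.NotConj M L)
include hM hL hnc

theorem card_mul_sq_le {w : ℤ} (hw : classInner FL.psi FM.tht = w) (hc : FM.c = 0) :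
    (Nat.card (Member L) : ℤ) * w ^ 2 + 1 ≤ eIndex M := by
  classical
  haveI := member_finite hG hL
  haveI := Fintype.ofFinite (Member L)
  have h1 : FM.μ FM.base ∉ Finset.univ.image FL.μ := by
    simp only [Finset.mem_image, Finset.mem_univ, true_and, not_exists]
    exact fun j e => mu_ne_mu hG hM FM hL FL hnc FM.base j e.symm
  have h := FM.sum_sq_le hG hM (insert (FM.μ FM.base) (Finset.univ.image FL.μ)) fun χ hχ => by
    rcases Finset.mem_insert.1 hχ with rfl | h
    · exact FM.mu_ne_one hG hM _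
    · obtain ⟨j, -, rfl⟩ := Finset.mem_image.1 h
      exact FL.mu_ne_one hG hL _
  rw [Finset.sum_insert h1, Finset.sum_image fun a _ b _ e => FL.inj e,
    Finset.sum_congr rfl (g := fun _ => ((w ^ 2 : ℤ) : ℝ)) fun j _ => by
      rw [inner_tht_const hG hM FM hL FL hnc j FL.base,
        show (FL.μ FL.base : G → ℂ) = FL.psi from rfl, hw, Complex.norm_intCast, sq_abs, Int.cast_pow],
    show (FM.μ FM.base : G → ℂ) = FM.psi from rfl, FM.psi_tht hG hM, hc, Int.cast_zero, zero_sub,
    norm_neg, Complex.norm_intCast, Finset.sum_const, Finset.card_univ, nsmul_eq_mul,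
    ← Nat.card_eq_fintype_card,
    show |((FM.ε : ℤ) : ℝ)| = 1 by rcases FM.sign with e | e <;> simp [e]] at h
  have h2 : ((Nat.card (Member L) : ℤ) * w ^ 2 + 1 : ℤ) ≤ ((eIndex M : ℤ) : ℝ) := by
    push_cast
    push_cast at h
    linarith
  exact_mod_cast h2

end Family

end CfsgLib.FT
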