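import Cfsg.Agent.Lib.Char.DadeVirtual
import Cfsg.Agent.Lib.Char.OddType.Dade
import Cfsg.Agent.Lib.Char.Orthogonality

/-!
# The Dade map of `M_σ#` (`docs/FT.md`, §0)

`tau M` is the Dade map of `M_σ#` with the subgroups `supportR M`; `avgR M χ a` is the average of `χ` on
the coset `a R(a)`.  Besides the isometry and the adjunction: support, orthogonality for non-conjugate
maximal subgroups, compatibility with complex conjugation and with power maps, and
`|M|⁻¹ Σ_{a ∈ M_σ#} |avgR χ a|² ≤ |G|⁻¹ Σ_{tilde M} |χ|²`.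
-/

set_option autoImplicit false
set_option linter.unusedSectionVars false
set_option linter.style.haveILetI false

open Subgroup
open CfsgLib.Coprime (conjBy conjBy_conjBy conjBy_one mem_conjBy conj_mem_conjBy card_conjBy)

namespace CfsgLib.FT

open CfsgLib.CFun CfsgLib.CFun.TauTwo CfsgLib.Char
open Cfsg (IsClassFunction IsGeneralizedCharacter classInner supportR sigmaCore tildeOf dadeIsometry
  DadeHypothesis IsMinSimpleOddOrder)
open scoped ComplexConjugate

universe u

variable {G : Type u} [Group G]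

/-- `M_σ#`. -/
def sharp (M : Subgroup G) : Set G := (sigmaCore M : Set G) \ {1}

/-- The Dade map of `M_σ#`. -/
noncomputable def tau (M : Subgroup G) (α : M → ℂ) : G → ℂ :=
  dadeIsometry (sharp M) M (supportR M) α

/-- `α` is supported on `M_σ#`. -/
def SharpSupp (M : Subgroup G) (α : M → ℂ) : Prop := ∀ x : M, (x : G) ∉ sharp M → α x = 0

/-- The average of `χ` on the coset `a R(a)`. -/
noncomputable def avgR (M : Subgroup G) (χ : G → ℂ) (a : G) : ℂ :=
  (Nat.card (supportR M a) : ℂ)⁻¹ * ∑ᶠ u ∈ (supportR M a : Set G), χ (a * u)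

theorem mem_sharp {M : Subgroup G} {a : G} : a ∈ sharp M ↔ a ∈ sigmaCore M ∧ a ≠ 1 := Iff.rfl

theorem SharpSupp.sub {M : Subgroup G} {α β : M → ℂ} (hα : SharpSupp M α) (hβ : SharpSupp M β) :
    SharpSupp M (α - β) := fun x hx => by simp [hα x hx, hβ x hx]

theorem SharpSupp.add {M : Subgroup G} {α β : M → ℂ} (hα : SharpSupp M α) (hβ : SharpSupp M β) :
    SharpSupp M (α + β) := fun x hx => by simp [hα x hx, hβ x hx]

theorem tau_add {M : Subgroup G} {α β : M → ℂ} : tau M (α + β) = tau M α + tau M β := by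
  funext g
  simp only [tau, dadeIsometry, Pi.add_apply]
  split_ifs <;> simp

theorem tau_sub {M : Subgroup G} {α β : M → ℂ} : tau M (α - β) = tau M α - tau M β := by
  funext g
  simp only [tau, dadeIsometry, Pi.sub_apply]
  split_ifs <;> simp

theorem tau_smul {M : Subgroup G} (z : ℂ) {α : M → ℂ} : tau M (z • α) = z • tau M α := by
  funext g
  simp only [tau, dadeIsometry, Pi.smul_apply]
  split_ifs <;> simp

theorem tau_conjFun {M : Subgroup G} {α : M → ℂ} :
    tau M (Cfsg.conjFun α) = Cfsg.conjFun (tau M α) := by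
  funext g
  simp only [tau, dadeIsometry, Cfsg.conjFun]
  split_ifs <;> simp

/-- The support of the Dade map. -/
theorem tau_eq_zero {M : Subgroup G} {α : M → ℂ} {X : Set G} (h : ∀ x : M, (x : G) ∉ X → α x = 0)
    {g : G} (hg : g ∉ tildeOf M X) : tau M α g = 0 := by
  unfold tau dadeIsometry
  split_ifs with hex
  · refine h _ fun hX => hg ?_
    obtain ⟨-, x, u, hu, e⟩ := Classical.choose_spec hex
    exact ⟨_, hX, u, hu, x⁻¹, by rw [← e]; group⟩
  · rfl

theorem tau_eq_zero' {M : Subgroup G} {α : M → ℂ} {g : G} (hg : g ∉ tildeOf M (sharp M)) :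
    tau M α g = 0 := by
  unfold tau dadeIsometry
  split_ifs with hex
  · obtain ⟨hA, x, u, hu, e⟩ := Classical.choose_spec hex
    exact absurd ⟨_, hA, u, hu, x⁻¹, by rw [← e]; group⟩ hg
  · rfl

theorem supportR_congr (M : Subgroup G) {a b : G}
    (h : centralizer ({a} : Set G) = centralizer ({b} : Set G)) : supportR M a = supportR M b := by
  unfold supportR
  by_cases h1 : ¬ centralizer ({a} : Set G) ≤ M ∧
      ∃! L : Subgroup G, IsCoatom L ∧ centralizer ({a} : Set G) ≤ L
  · have h2 : ¬ centralizer ({b} : Set G) ≤ M ∧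
        ∃! L : Subgroup G, IsCoatom L ∧ centralizer ({b} : Set G) ≤ L := h ▸ h1
    have hs := Classical.choose_spec h2.2.exists
    rw [dif_pos h1, dif_pos h2, h1.2.unique (Classical.choose_spec h1.2.exists) ⟨hs.1, h.le.trans hs.2⟩, h]
  · rw [dif_neg h1, dif_neg fun h2 => h1 (h.symm ▸ h2)]

theorem avgR_of_le {M : Subgroup G} {a : G} (h : centralizer ({a} : Set G) ≤ M) (χ : G → ℂ) :
    avgR M χ a = χ a := by
  rw [avgR, supportR, dif_neg fun h' => h'.1 h]
  simp

section Powers

theorem mem_zpowers_pow_of_coprime [Finite G] (a : G) {m : ℕ} (hm : m.Coprime (Nat.card G)) :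
    a ∈ zpowers (a ^ m) := by
  refine mem_zpowers_pow_iff.2 ?_
  exact hm.coprime_dvd_right (orderOf_dvd_natCard a)

theorem pow_ne_one_of_coprime [Finite G] {a : G} (ha : a ≠ 1) {m : ℕ} (hm : m.Coprime (Nat.card G)) :
    a ^ m ≠ 1 := fun e => ha (by simpa [e] using mem_zpowers_pow_of_coprime a hm)

theorem centralizer_pow_eq [Finite G] (a : G) {m : ℕ} (hm : m.Coprime (Nat.card G)) :
    centralizer ({a ^ m} : Set G) = centralizer ({a} : Set G) := by
  ext y
  simp only [mem_centralizer_singleton_iff]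
  refine ⟨fun h => ?_, fun h => (Commute.pow_right (show Commute y a from h) m).eq⟩
  obtain ⟨j, hj⟩ := mem_zpowers_iff.1 (mem_zpowers_pow_of_coprime a hm)
  rw [← hj]
  exact (Commute.zpow_right (show Commute y (a ^ m) from h) j).eq

end Powers

section Tau

variable [Fintype G] (hG : IsMinSimpleOddOrder G) {M : Subgroup G} (hM : IsCoatom M)
include hG hM

theorem sharp_conj {m a : G} (hm : m ∈ M) (ha : a ∈ sharp M) : m * a * m⁻¹ ∈ sharp M :=
  ⟨(mem_normalizer_iff.1 (sigmaCore_normal hG M hm) a).1 ha.1, fun e => ha.2 (conj_eq_one_iff.1 e)⟩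

theorem tau_hyp : DadeHypothesis (sharp M) M (supportR M) := by
  obtain ⟨K, U, d⟩ := Chain.exists_decomposition hG hM
  refine OddType.dadeHypothesis hG hM (fun a ha => OddType.typeA1_subset_typeA0 hG hM ?_)
    fun m hm a ha => sharp_conj hG hM hm ha
  rw [OddType.typeA1_eq hG hM d]
  exact ha

theorem tau_class {α : M → ℂ} (hα : IsClassFunction M α) : IsClassFunction G (tau M α) :=
  isClassFunction_dadeIsometry (tau_hyp hG hM) hα

theorem tau_gen {α : M → ℂ} (hα : IsGeneralizedCharacter M α) (h : SharpSupp M α) :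
    IsGeneralizedCharacter G (tau M α) := by
  classical
  exact isGeneralizedCharacter_dadeIsometry (tau_hyp hG hM) hα h

theorem tau_apply_one {α : M → ℂ} : tau M α 1 = 0 := by
  refine tau_eq_zero' ?_
  rintro ⟨a, ha, r, hr, y, e⟩
  have e1 : a * r = 1 := by
    calc a * r = y⁻¹ * (y * (a * r) * y⁻¹) * y := by group
      _ = 1 := by rw [← e]; group
  have h1 : a ∈ supportR M a := by
    have h := inv_mem hr
    rwa [← eq_inv_of_mul_eq_one_left e1] at h
  have h2 : a ∈ supportR M a ⊓ (M ⊓ centralizer ({a} : Set G)) :=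
    mem_inf.2 ⟨h1, mem_inf.2 ⟨map_subtype_le _ ha.1, mem_centralizer_singleton_iff.2 rfl⟩⟩
  rw [(tau_hyp hG hM).inf_eq_bot a ha, mem_bot] at h2
  exact ha.2 h2

theorem tau_inner [Fintype M] {α β : M → ℂ} (hα : IsClassFunction M α) (h : SharpSupp M α)
    (hβ : IsClassFunction M β) : classInner (tau M α) (tau M β) = classInner α β :=
  dade_isometry (tau_hyp hG hM) hα h hβ

theorem tau_adjoint [Fintype M] {α : M → ℂ} (hα : IsClassFunction M α) (h : SharpSupp M α)
    {χ : G → ℂ} (hχ : IsClassFunction G χ) :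
    classInner (tau M α) χ = classInner α (fun x : M => avgR M χ x) :=
  dade_adjunction (tau_hyp hG hM) hα h hχ fun _ _ => rfl

theorem avgR_one (a : G) : avgR M (fun _ => 1) a = 1 := by
  classical
  rw [avgR, finsum_mem_eq_toFinset_sum, Finset.sum_const, nsmul_eq_mul, mul_one,
    Set.toFinset_card, ← Nat.card_eq_fintype_card]
  exact inv_mul_cancel₀ (by exact_mod_cast (Nat.card_pos (α := supportR M a)).ne')

theorem tau_inner_one [Fintype M] {α : M → ℂ} (hα : IsClassFunction M α) (h : SharpSupp M α) :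
    classInner (tau M α) (fun _ => 1) = classInner α (fun _ => 1) := by
  rw [tau_adjoint hG hM hα h (fun _ _ => rfl)]
  exact congrArg _ (funext fun x : M => avgR_one hG hM (x : G))

theorem tau_orth {L : Subgroup G} (hL : IsCoatom L) (hnc : NotConj M L) (α : M → ℂ) (β : L → ℂ) :
    classInner (tau M α) (tau L β) = 0 := by
  simp only [classInner]
  rw [Finset.sum_eq_zero, mul_zero]
  intro g _
  by_cases hg : g ∈ tildeOf M (sharp M)
  · have h : g ∉ tildeOf L (sharp L) := fun h =>
      (Set.eq_empty_iff_forall_notMem.1 (Tilde.tilde_disjoint hG hM hL hnc)) g ⟨hg, h⟩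
    rw [tau_eq_zero' h, map_zero, mul_zero]
  · rw [tau_eq_zero' hg, zero_mul]

theorem conjBy_self {m : G} (hm : m ∈ M) : conjBy m M = M :=
  CfsgLib.Coprime.conjBy_eq_self_iff.2 (by rw [ms_normalizer_self hG hM]; exact hm)

theorem supportR_conj {m a : G} (hm : m ∈ M) (ha : a ∈ sharp M) :
    supportR M (m * a * m⁻¹) = conjBy m (supportR M a) := by
  have key : ∀ {m a : G}, m ∈ M → a ∈ sharp M →
      conjBy m (supportR M a) ≤ supportR M (m * a * m⁻¹) := by
    rintro m a hm ha _ ⟨r, hr, rfl⟩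
    have h := Tilde.conj_mem_support hG hM m ha.1 ha.2 hr
    rw [conjBy_self hG hM hm] at h
    exact h
  refine le_antisymm (fun r hr => ?_) (key hm ha)
  have h := key (inv_mem hm) (sharp_conj hG hM hm ha) (conj_mem_conjBy hr)
  rw [show m⁻¹ * (m * a * m⁻¹) * m⁻¹⁻¹ = a by group] at h
  have h2 := conj_mem_conjBy (g := m) h
  rwa [show m * (m⁻¹ * r * m⁻¹⁻¹) * m⁻¹ = r by group] at h2

theorem avgR_conj {χ : G → ℂ} (hχ : IsClassFunction G χ) {m a : G} (hm : m ∈ M) (ha : a ∈ sharp M) :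
    avgR M χ (m * a * m⁻¹) = avgR M χ a := by
  rw [avgR, avgR, supportR_conj hG hM hm ha, card_conjBy]
  congr 1
  rw [conjBy, coe_map, MulEquiv.coe_toMonoidHom, finsum_mem_image ((MulEquiv.injective (MulAut.conj m)).injOn)]
  refine finsum_mem_congr rfl fun r _ => ?_
  show χ (m * a * m⁻¹ * (m * r * m⁻¹)) = χ (a * r)
  rw [← hχ (a * r) m]
  group

open Classical in
omit [Fintype G] hG hM in
/-- `avgR M χ` on `M_σ#`, zero elsewhere. -/
noncomputable def avgS (M : Subgroup G) (χ : G → ℂ) : M → ℂ :=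
  fun x => if (x : G) ∈ sharp M then avgR M χ x else 0

omit [Fintype G] hG hM in
theorem avgS_supp (χ : G → ℂ) : SharpSupp M (avgS M χ) := fun _ hx => if_neg hx

omit [Fintype G] hG hM in
theorem avgS_mem (χ : G → ℂ) {x : M} (hx : (x : G) ∈ sharp M) : avgS M χ x = avgR M χ x := if_pos hx

theorem avgS_class {χ : G → ℂ} (hχ : IsClassFunction G χ) : IsClassFunction M (avgS M χ) := by
  intro x y
  have e : ((y * x * y⁻¹ : M) : G) = (y : G) * x * (y : G)⁻¹ := rfl
  by_cases hx : (x : G) ∈ sharp M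
  · rw [avgS_mem χ hx, avgS_mem χ (e ▸ sharp_conj hG hM y.2 hx), e, avgR_conj hG hM hχ y.2 hx]
  · rw [avgS_supp χ x hx, avgS_supp χ _ fun h => hx ?_]
    have := sharp_conj hG hM (inv_mem y.2) (e ▸ h)
    rwa [show (y : G)⁻¹ * ((y : G) * x * (y : G)⁻¹) * (y : G)⁻¹⁻¹ = x by group] at this

theorem tau_avgS [Fintype M] {α : M → ℂ} (hα : IsClassFunction M α) (h : SharpSupp M α) {χ : G → ℂ}
    (hχ : IsClassFunction G χ) : classInner (tau M α) χ = classInner α (avgS M χ) := by
  rw [tau_adjoint hG hM hα h hχ]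
  simp only [classInner]
  congr 1
  refine Finset.sum_congr rfl fun x _ => ?_
  by_cases hx : (x : G) ∈ sharp M
  · rw [avgS_mem χ hx]
  · rw [h x hx, zero_mul, zero_mul]

/-- The averages of `χ` on `M_σ#` have norm at most that of `χ` on the tilde set. -/
theorem avg_sq_le {χ : G → ℂ} (hχ : IsClassFunction G χ) :
    (Nat.card M : ℝ)⁻¹ * ∑ᶠ a ∈ sharp M, ‖avgR M χ a‖ ^ 2 ≤
      (Nat.card G : ℝ)⁻¹ * ∑ᶠ g ∈ tildeOf M (sharp M), ‖χ g‖ ^ 2 := by
  classical
  haveI : Fintype M := Fintype.ofFinite M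
  let β : M → ℂ := avgS M χ
  have hβS : SharpSupp M β := avgS_supp χ
  have hβ : IsClassFunction M β := avgS_class hG hM hχ
  have h1 : classInner (tau M β) χ = classInner β β := tau_avgS hG hM hβ hβS hχ
  have h2 := tau_inner hG hM hβ hβS hβ
  have hR : ∀ {Γ : Type u} [Group Γ] [Fintype Γ] (f h : Γ → ℂ), (classInner f h).re =
      (Nat.card Γ : ℝ)⁻¹ * ∑ g : Γ, (f g * conj (h g)).re := by
    intro Γ _ _ f h
    simp only [classInner]
    rw [show (Nat.card Γ : ℂ)⁻¹ = (((Nat.card Γ : ℝ)⁻¹ : ℝ) : ℂ) by push_cast; rfl,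
      Complex.re_ofReal_mul, Complex.re_sum]
  have hGM : (classInner β β).re = (Nat.card M : ℝ)⁻¹ * ∑ᶠ a ∈ sharp M, ‖avgR M χ a‖ ^ 2 := by
    rw [hR, finsum_mem_eq_toFinset_sum]
    congr 1
    rw [← Finset.sum_filter_of_ne (s := (Finset.univ : Finset M)) (p := fun x : M => (x : G) ∈ sharp M)
      fun x _ hx => by_contra fun h => hx (by rw [hβS x h, zero_mul, Complex.zero_re])]
    refine Finset.sum_bij (fun (x : M) _ => (x : G)) (fun x hx => by simpa using hx)
      (fun x _ y _ h => Subtype.ext h) (fun a ha => ?_) fun x hx => ?_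
    · have ha' : a ∈ sharp M := by simpa using ha
      exact ⟨⟨a, map_subtype_le _ ha'.1⟩, by simpa using ha', rfl⟩
    · rw [show β x = avgR M χ x from avgS_mem χ (by simpa using hx), Complex.mul_conj', ← Complex.ofReal_pow,
        Complex.ofReal_re]
  have hkey : 2 * (classInner (tau M β) χ).re - (classInner (tau M β) (tau M β)).re ≤
      (Nat.card G : ℝ)⁻¹ * ∑ᶠ g ∈ tildeOf M (sharp M), ‖χ g‖ ^ 2 := by
    rw [hR, hR, finsum_mem_eq_toFinset_sum, ← mul_assoc, mul_comm (2 : ℝ), mul_assoc, ← mul_sub]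
    refine mul_le_mul_of_nonneg_left ?_ (by positivity)
    rw [Finset.mul_sum, ← Finset.sum_sub_distrib,
      ← Finset.sum_subset (Finset.subset_univ (tildeOf M (sharp M)).toFinset) fun g _ hg => by
        rw [tau_eq_zero' (by simpa using hg)]; simp]
    refine Finset.sum_le_sum fun g _ => ?_
    simp only [Complex.sq_norm, Complex.normSq_apply, Complex.mul_re, Complex.conj_re, Complex.conj_im]
    nlinarith [sq_nonneg ((tau M β g).re - (χ g).re), sq_nonneg ((tau M β g).im - (χ g).im)]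
  rw [h1, h2, hGM] at hkey
  linarith

theorem tilde_pow {m : ℕ} (hm : m.Coprime (Nat.card G)) {g : G} (hg : g ∈ tildeOf M (sharp M)) :
    g ^ m ∈ tildeOf M (sharp M) := by
  obtain ⟨a, ha, r, hr, y, rfl⟩ := hg
  refine ⟨a ^ m, ⟨pow_mem ha.1 m, pow_ne_one_of_coprime ha.2 hm⟩, r ^ m, ?_, y, ?_⟩
  · rw [supportR_congr M (centralizer_pow_eq a hm)]
    exact pow_mem hr m
  · rw [conj_pow, (show Commute a r from
      (mem_centralizer_singleton_iff.1 ((tau_hyp hG hM).le_centralizer a ha hr)).symm).mul_pow]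

/-- The Dade map commutes with the power maps. -/
theorem tau_pow {α : M → ℂ} (hα : IsClassFunction M α) {m : ℕ} (hm : m.Coprime (Nat.card G)) (g : G) :
    tau M α (g ^ m) = tau M (fun x : M => α (x ^ m)) g := by
  have hα' : IsClassFunction M (fun x : M => α (x ^ m)) := fun x y => by
    show α ((y * x * y⁻¹) ^ m) = α (x ^ m)
    rw [conj_pow]
    exact hα _ _
  by_cases hg : g ∈ tildeOf M (sharp M)
  · obtain ⟨a, ha, r, hr, y, e⟩ := hg
    have haM : a ∈ M := map_subtype_le _ ha.1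
    have hr' : r ^ m ∈ supportR M (a ^ m) := by
      rw [supportR_congr M (centralizer_pow_eq a hm)]; exact pow_mem hr m
    have hc : Commute a r :=
      (mem_centralizer_singleton_iff.1 ((tau_hyp hG hM).le_centralizer a ha hr)).symm
    rw [tau, tau, dadeIsometry_eq (tau_hyp hG hM) hα (x := y⁻¹) (a := a ^ m)
        ⟨pow_mem ha.1 m, pow_ne_one_of_coprime ha.2 hm⟩ hr' (by
          rw [e, conj_pow, ← hc.mul_pow]; group),
      dadeIsometry_eq (tau_hyp hG hM) hα' (x := y⁻¹) ha hr (by rw [e]; group),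
      valOn_mem α (pow_mem haM m), valOn_mem _ haM]
    rfl
  · rw [tau_eq_zero' (α := fun x : M => α (x ^ m)) hg, tau_eq_zero' fun h => hg ?_]
    obtain ⟨j, hj⟩ : ∃ j : ℕ, j.Coprime (Nat.card G) ∧ (g ^ m) ^ j = g := by
      obtain ⟨j, hjm⟩ := Nat.exists_mul_mod_eq_one_of_coprime hm
        (Finite.one_lt_card_iff_nontrivial.2 hG.2.1.toNontrivial)
      refine ⟨j, ?_, ?_⟩
      · refine Nat.Coprime.coprime_dvd_left (Dvd.intro_left m rfl : j ∣ m * j) ?_
        rw [Nat.coprime_comm, Nat.Coprime, Nat.gcd_rec, hjm.2]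
        exact Nat.gcd_one_left _
      · rw [← pow_mul, ← pow_mod_natCard, hjm.2, pow_one]
    rw [← hj.2]
    exact tilde_pow hG hM hj.1 h

end Tau

end CfsgLib.FT
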