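import Mathlib

/-!
# The last step of the short route to the odd order theorem: arithmetic

`docs/FT.md`, section 5. Here `q < p` are the orders of `W₁`, `W₂`, the numbers `u`, `v` are full,
`l` is the order of a kernel over `U` or `V` and `e` the order of its complement.  The characters
enter only through the integers of `FinalData`.
-/

set_option autoImplicit false

namespace CfsgLib.FT.Final

/-- Two odd primes `q < p` with `u = (p^q - 1)/(p - 1)`, `v = (q^p - 1)/(q - 1)` and `q ∤ p - 1`. -/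
structure Orders (p q u v : ℕ) : Prop where
  hp : p.Prime
  hq : q.Prime
  q_ge : 3 ≤ q
  lt : q < p
  hu : u * (p - 1) + 1 = p ^ q
  hv : v * (q - 1) + 1 = q ^ p
  not_dvd : ¬ q ∣ p - 1

variable {p q u v : ℕ}

theorem Orders.p_ge (O : Orders p q u v) : 5 ≤ p := by
  have h3 := O.q_ge
  have h := O.lt
  rcases Nat.lt_or_ge p 5 with h5 | h5
  · have : p = 4 := by omega
    exact absurd O.hp (by rw [this]; norm_num)
  · exact h5

theorem geom_bounds {m k n : ℕ} (hm : 2 ≤ m) (hk : n * (m - 1) + 1 = m ^ (k + 1)) :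
    m ^ k ≤ n ∧ n < 2 * m ^ k := by
  obtain ⟨d, rfl⟩ : ∃ d, m = d + 2 := ⟨m - 2, by omega⟩
  rw [show d + 2 - 1 = d + 1 by omega, pow_succ] at hk
  have hpos : 1 ≤ (d + 2) ^ k := Nat.one_le_pow _ _ (by omega)
  constructor
  · by_contra h
    have : n + 1 ≤ (d + 2) ^ k := by omega
    nlinarith
  · by_contra h
    have : 2 * (d + 2) ^ k ≤ n := by omega
    nlinarith

theorem geom_sum_eq {m k n : ℕ} (hm : 2 ≤ m) (hk : n * (m - 1) + 1 = m ^ k) :
    n = ∑ i ∈ Finset.range k, m ^ i := by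
  have h := geom_sum_mul_add (m - 1) k
  rw [Nat.sub_add_cancel (by omega : 1 ≤ m)] at h
  have e : n * (m - 1) = (∑ i ∈ Finset.range k, m ^ i) * (m - 1) := by omega
  exact Nat.eq_of_mul_eq_mul_right (by omega) e

/-- A full number is `1` modulo its base. -/
theorem geom_mod {m k n : ℕ} (hm : 2 ≤ m) (hk0 : k ≠ 0) (hk : n * (m - 1) + 1 = m ^ k) :
    n ≡ 1 [MOD m] := by
  obtain ⟨j, rfl⟩ : ∃ j, k = j + 1 := ⟨k - 1, by omega⟩
  rw [geom_sum_eq hm hk, Finset.sum_range_succ']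
  simp only [pow_zero, pow_succ]
  rw [← Finset.sum_mul]
  simpa using ((Nat.modEq_zero_iff_dvd.2 ⟨_, mul_comm _ m⟩ :
    (∑ i ∈ Finset.range j, m ^ i) * m ≡ 0 [MOD m]).add_right 1)

/-- A full number is `1` modulo a prime exponent not dividing `base - 1`. -/
theorem geom_mod_exponent {m k n : ℕ} (hm : 2 ≤ m) (hk' : k.Prime) (hk : n * (m - 1) + 1 = m ^ k)
    (hd : ¬ k ∣ m - 1) : n ≡ 1 [MOD k] := by
  haveI := Fact.mk hk'
  refine (ZMod.natCast_eq_natCast_iff n 1 k).1 ?_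
  have h0 : ((m - 1 : ℕ) : ZMod k) ≠ 0 := by rwa [Ne, ZMod.natCast_eq_zero_iff]
  have h1 : (n : ZMod k) * ((m - 1 : ℕ) : ZMod k) + 1 = (m : ZMod k) := by
    have := congrArg (Nat.cast : ℕ → ZMod k) hk
    push_cast at this
    rw [this, ZMod.pow_card]
  have h2 : ((m - 1 : ℕ) : ZMod k) = (m : ZMod k) - 1 := by
    rw [Nat.cast_sub (by omega : 1 ≤ m), Nat.cast_one]
  rw [h2] at h1 h0
  push_cast
  exact mul_right_cancel₀ h0 (by linear_combination h1)

theorem Orders.u_facts (O : Orders p q u v) :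
    p ^ (q - 1) ≤ u ∧ u < 2 * p ^ (q - 1) ∧ u ≡ 1 [MOD p] ∧ u ≡ 1 [MOD q] := by
  have h5 := O.p_ge
  have hq : q - 1 + 1 = q := by have := O.q_ge; omega
  have hb := geom_bounds (k := q - 1) (by omega : 2 ≤ p) (by rw [hq]; exact O.hu)
  exact ⟨hb.1, hb.2, geom_mod (by omega) (by omega) O.hu, geom_mod_exponent (by omega) O.hq O.hu O.not_dvd⟩

theorem Orders.v_facts (O : Orders p q u v) :
    q ^ (p - 1) ≤ v ∧ v < 2 * q ^ (p - 1) ∧ v ≡ 1 [MOD q] ∧ v ≡ 1 [MOD p] := by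
  have h3 := O.q_ge
  have h5 := O.p_ge
  have hp : p - 1 + 1 = p := by omega
  have hb := geom_bounds (k := p - 1) (by omega : 2 ≤ q) (by rw [hp]; exact O.hv)
  refine ⟨hb.1, hb.2, geom_mod (by omega) (by omega) O.hv,
    geom_mod_exponent (by omega) O.hp O.hv fun h => ?_⟩
  have := Nat.le_of_dvd (by omega) h
  have := O.lt
  omega

/-- `a ^ b < b ^ a` for `3 ≤ b < a`, in the form needed. -/
theorem two_mul_pow_lt (O : Orders p q u v) : 2 * p ^ (q - 1) ≤ q ^ (p - 1) := by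
  have key : ∀ q p : ℕ, 3 ≤ q → q + 2 ≤ p → 2 * p ^ (q - 1) ≤ q ^ (p - 1) := by
    intro q p hq hp
    induction p, hp using Nat.le_induction with
    | base =>
      obtain ⟨k, rfl⟩ : ∃ k, q = k + 3 := ⟨q - 3, by omega⟩
      rw [show k + 3 - 1 = k + 2 by omega, show k + 3 + 2 - 1 = k + 4 by omega]
      -- `2 (1 + 2/q)^(q-1) ≤ q^2`
      have h : ∀ j : ℕ, j ≤ k + 2 → (k + 5) ^ j * (k + 3) ≤ (k + 3) ^ j * ((k + 3) + 3 * j + j * j) := by
        intro j
        induction j with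
        | zero => intro _; simp
        | succ j ih =>
          intro hj
          have h1 := ih (by omega)
          have h2 : (k + 3 + 3 * j + j * j) * (k + 5) ≤ (k + 3) * (k + 3 + 3 * (j + 1) + (j + 1) * (j + 1)) := by
            nlinarith
          calc (k + 5) ^ (j + 1) * (k + 3) = (k + 5) ^ j * (k + 3) * (k + 5) := by ring
            _ ≤ (k + 3) ^ j * (k + 3 + 3 * j + j * j) * (k + 5) := Nat.mul_le_mul_right _ h1
            _ = (k + 3) ^ j * ((k + 3 + 3 * j + j * j) * (k + 5)) := by ring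
            _ ≤ (k + 3) ^ j * ((k + 3) * (k + 3 + 3 * (j + 1) + (j + 1) * (j + 1))) := Nat.mul_le_mul_left _ h2
            _ = _ := by ring
      have h1 := h (k + 2) le_rfl
      have h2 : 2 * (k + 3 + 3 * (k + 2) + (k + 2) * (k + 2)) ≤ (k + 3) * (k + 3) * (k + 3) := by nlinarith
      refine Nat.le_of_mul_le_mul_right ?_ (show 0 < k + 3 by omega)
      calc 2 * (k + 3 + 2) ^ (k + 2) * (k + 3) = 2 * ((k + 5) ^ (k + 2) * (k + 3)) := by ring
        _ ≤ 2 * ((k + 3) ^ (k + 2) * (k + 3 + 3 * (k + 2) + (k + 2) * (k + 2))) := Nat.mul_le_mul_left _ h1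
        _ = (k + 3) ^ (k + 2) * (2 * (k + 3 + 3 * (k + 2) + (k + 2) * (k + 2))) := by ring
        _ ≤ (k + 3) ^ (k + 2) * ((k + 3) * (k + 3) * (k + 3)) := Nat.mul_le_mul_left _ h2
        _ = (k + 3) ^ (k + 4) * (k + 3) := by ring
    | succ n hn ih =>
      obtain ⟨m, rfl⟩ : ∃ m, n = m + 1 := ⟨n - 1, by omega⟩
      rw [show m + 1 + 1 - 1 = m + 1 by omega, pow_succ]
      rw [show m + 1 - 1 = m by omega] at ih
      obtain ⟨j, rfl⟩ : ∃ j, q = j + 1 := ⟨q - 1, by omega⟩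
      rw [show j + 1 - 1 = j by omega] at ih ⊢
      -- `(n + 1)^(q-1) ≤ q · n^(q-1)` as `n ≥ q - 1`
      have h : ∀ i, i ≤ j → (m + 2) ^ i ≤ (i + 1) * (m + 1) ^ i := by
        intro i
        induction i with
        | zero => simp
        | succ i ih =>
          intro hi
          have h1 := ih (by omega)
          calc (m + 2) ^ (i + 1) = (m + 2) ^ i * (m + 2) := pow_succ _ _
            _ ≤ (i + 1) * (m + 1) ^ i * (m + 2) := Nat.mul_le_mul_right _ h1
            _ = (m + 1) ^ i * ((i + 1) * (m + 2)) := by ring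
            _ ≤ (m + 1) ^ i * ((i + 2) * (m + 1)) := Nat.mul_le_mul_left _ (by nlinarith)
            _ = _ := by ring
      calc 2 * (m + 1 + 1) ^ j ≤ 2 * ((j + 1) * (m + 1) ^ j) := Nat.mul_le_mul_left _ (h j le_rfl)
        _ = 2 * (m + 1) ^ j * (j + 1) := by ring
        _ ≤ (j + 1) ^ m * (j + 1) := Nat.mul_le_mul_right _ ih
  refine key q p O.q_ge ?_
  have hodd := O.hp.odd_of_ne_two (by have := O.p_ge; omega)
  have hodd' := O.hq.odd_of_ne_two (by have := O.q_ge; omega)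
  obtain ⟨a, ha⟩ := hodd
  obtain ⟨b, hb⟩ := hodd'
  have := O.lt
  omega

theorem Orders.u_lt_v (O : Orders p q u v) : u < v :=
  O.u_facts.2.1.trans_le ((two_mul_pow_lt O).trans O.v_facts.1)

theorem Orders.u_gt (O : Orders p q u v) : p * q + 1 ≤ u := by
  refine le_trans ?_ O.u_facts.1
  have h3 := O.q_ge
  have h := O.lt
  calc p * q + 1 ≤ p ^ 2 := by nlinarith
    _ ≤ p ^ (q - 1) := Nat.pow_le_pow_right O.hp.pos (by omega)

theorem Orders.v_gt (O : Orders p q u v) : p * q + 1 ≤ v := O.u_gt.trans O.u_lt_v.le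

/-- What the characters say about one kernel `L_σ` of order `l` with complement of order `e`:
`a`, `b` are the coefficients of `τθ_L` at `η_i0`, `η_0j`, and `zS`, `zT` those of `τθ_S`, `τθ_T`
at the family of `L`. -/
structure FinalData (p q u v l e : ℕ) (a b zS zT : ℤ) : Prop where
  dvd : e ∣ l - 1
  two_le : 2 ≤ l
  dvdS : (q : ℤ) ∣ zS
  dvdT : (p : ℤ) ∣ zT
  oddS : Odd (zS + b)
  oddT : Odd (zT + a)
  costS : zS ^ 2 * (l - 1 : ℕ) ≤ (e * (q * (u + 1)) : ℕ)
  costT : zT ^ 2 * (l - 1 : ℕ) ≤ (e * (p * (v + 1)) : ℕ)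
  norm : (p - 1 : ℤ) * b ^ 2 + (q - 1 : ℤ) * a ^ 2 + (p - 1 : ℤ) * (q - 1 : ℤ) * (a + b - 1) ^ 2 + 1 ≤ e
  boundF : ((a + b : ℚ) ^ 2 - (a + b : ℚ)) * ((l : ℚ) - 1) / (e * l) +
      (1 / p - ((v : ℚ) + 1) / (p * (q : ℚ) ^ p)) + (1 / q - ((u : ℚ) + 1) / (q * (p : ℚ) ^ q)) ≤
      1 / p + 1 / q - 2 / (p * q)
  boundB : ((b : ℚ) ^ 2 - (b : ℚ)) * ((l : ℚ) - 1) / (e * l) + (1 / q - ((u : ℚ) + 1) / (q * (p : ℚ) ^ q)) ≤ 1 / q
  boundA : ((a : ℚ) ^ 2 - (a : ℚ)) * ((l : ℚ) - 1) / (e * l) + (1 / p - ((v : ℚ) + 1) / (p * (q : ℚ) ^ p)) ≤ 1 / p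

variable {l e : ℕ} {a b zS zT : ℤ}

theorem sq_ge_one {z : ℤ} (h : Odd z) : 1 ≤ z ^ 2 := by
  have : z ≠ 0 := fun h0 => by simp [h0] at h
  have h1 := Int.natAbs_pos.2 this
  rw [← Int.natAbs_sq]
  exact_mod_cast Nat.one_le_pow _ _ h1

theorem eq_pm_one {z : ℤ} (h : z ^ 2 ≤ 1) (h' : Odd z) : z = 1 ∨ z = -1 := by
  have h1 := sq_ge_one h'
  exact sq_eq_one_iff.1 (le_antisymm h h1)

/-- If the coefficient at `τθ_S` vanishes then the complement is not of order `q`. -/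
theorem FinalData.e_ne (O : Orders p q u v) (D : FinalData p q u v l e a b zS zT) (h : zS = 0) :
    e ≠ q := by
  intro he
  have hb : Odd b := by simpa [h] using D.oddS
  have h1 := sq_ge_one hb
  have h3 := O.q_ge
  have hlt := O.lt
  have hn := D.norm
  subst he
  have e1 : (p - 1 : ℤ) ≤ (p - 1 : ℤ) * b ^ 2 := le_mul_of_one_le_right (by omega) h1
  have e2 : (0 : ℤ) ≤ (e - 1 : ℤ) * a ^ 2 := mul_nonneg (by omega) (sq_nonneg _)
  have e3 : (0 : ℤ) ≤ (p - 1 : ℤ) * (e - 1 : ℤ) * (a + b - 1) ^ 2 :=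
    mul_nonneg (mul_nonneg (by omega) (by omega)) (sq_nonneg _)
  omega

/-- The two coefficients do not both vanish. -/
theorem FinalData.not_both (O : Orders p q u v) (D : FinalData p q u v l e a b zS zT)
    (he : e = q ∨ e = p ∨ e = p * q) (hS : zS = 0) (hT : zT = 0) : False := by
  have hb : Odd b := by simpa [hS] using D.oddS
  have ha : Odd a := by simpa [hT] using D.oddT
  have hab : Odd (a + b - 1) := by
    obtain ⟨i, rfl⟩ := ha; obtain ⟨j, rfl⟩ := hb; exact ⟨i + j, by ring⟩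
  have h3 := O.q_ge
  have h5 := O.p_ge
  have hlt := O.lt
  have hq1 : (2 : ℤ) ≤ (q : ℤ) - 1 := by omega
  have hp1 : (4 : ℤ) ≤ (p : ℤ) - 1 := by omega
  have hn := D.norm
  have b1 := sq_ge_one hb
  have a1 := sq_ge_one ha
  have t1 := sq_ge_one hab
  have x1 : (0 : ℤ) ≤ (p - 1 : ℤ) * (b ^ 2 - 1) := mul_nonneg (by omega) (by omega)
  have x2 : (0 : ℤ) ≤ (q - 1 : ℤ) * (a ^ 2 - 1) := mul_nonneg (by omega) (by omega)
  have x3 : (0 : ℤ) ≤ (p - 1 : ℤ) * (q - 1 : ℤ) * ((a + b - 1) ^ 2 - 1) :=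
    mul_nonneg (mul_nonneg (by omega) (by omega)) (by omega)
  have hfull : e = p * q := by
    rcases he with rfl | rfl | h
    · exact absurd rfl (D.e_ne O hS)
    · exfalso; nlinarith
    · exact h
  subst hfull
  push_cast at hn
  have y1 : b ^ 2 ≤ 1 := by nlinarith
  have y2 : a ^ 2 ≤ 1 := by nlinarith
  have y3 : (a + b - 1) ^ 2 ≤ 1 := by
    by_contra hy
    have h2 : (p - 1 : ℤ) * (q - 1 : ℤ) * 1 ≤ (p - 1 : ℤ) * (q - 1 : ℤ) * ((a + b - 1) ^ 2 - 1) :=
      mul_le_mul_of_nonneg_left (by omega) (mul_nonneg (by omega) (by omega))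
    nlinarith
  have hP : (0 : ℚ) < p := by exact_mod_cast O.hp.pos
  have hQ : (0 : ℚ) < q := by exact_mod_cast O.hq.pos
  have hPq : (0 : ℚ) < (p : ℚ) ^ q := pow_pos hP q
  have hQp : (0 : ℚ) < (q : ℚ) ^ p := pow_pos hQ p
  -- `p (u + 1) ≤ (5/4 + 1/25) p^q` and `q (v + 1) ≤ (3/2 + 1/9) q^p`
  have hU : 100 * ((p : ℚ) * ((u : ℚ) + 1)) ≤ 129 * (p : ℚ) ^ q := by
    have h1 : (u : ℚ) * ((p : ℚ) - 1) + 1 = (p : ℚ) ^ q := by
      have := congrArg (Nat.cast : ℕ → ℚ) O.hu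
      push_cast [Nat.cast_sub O.hp.one_lt.le] at this
      exact this
    have h5' : (5 : ℚ) ≤ p := by exact_mod_cast h5
    have h2 : (25 : ℚ) * p ≤ (p : ℚ) ^ q := by
      calc (25 : ℚ) * p ≤ (p : ℚ) ^ 3 := by nlinarith [mul_le_mul h5' h5' (by norm_num) hP.le]
        _ ≤ (p : ℚ) ^ q := pow_le_pow_right₀ (by linarith) h3
    have h4 : (0 : ℚ) ≤ u := Nat.cast_nonneg u
    nlinarith
  have hV : 18 * ((q : ℚ) * ((v : ℚ) + 1)) ≤ 29 * (q : ℚ) ^ p := by
    have h1 : (v : ℚ) * ((q : ℚ) - 1) + 1 = (q : ℚ) ^ p := by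
      have := congrArg (Nat.cast : ℕ → ℚ) O.hv
      push_cast [Nat.cast_sub O.hq.one_lt.le] at this
      exact this
    have h3' : (3 : ℚ) ≤ q := by exact_mod_cast h3
    have h2 : (9 : ℚ) * q ≤ (q : ℚ) ^ p := by
      calc (9 : ℚ) * q ≤ (q : ℚ) ^ 3 := by nlinarith [mul_le_mul h3' h3' (by norm_num) hQ.le]
        _ ≤ (q : ℚ) ^ p := pow_le_pow_right₀ (by linarith) (by omega)
    have h4 : (0 : ℚ) ≤ v := Nat.cast_nonneg v
    nlinarith
  have hl : 16 ≤ l := by
    have := Nat.le_of_dvd (by have := D.two_le; omega) D.dvd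
    have : 15 ≤ p * q := by nlinarith
    omega
  have hL : (16 : ℚ) ≤ l := by exact_mod_cast hl
  -- the common shape of the three bounds
  have clear_den : ∀ x : ℚ, x * ((l : ℚ) - 1) / (((p * q : ℕ) : ℚ) * l) * ((p : ℚ) * q) =
      x * (((l : ℚ) - 1) / l) := fun x => by
    push_cast
    field_simp
  have hfrac : (15 : ℚ) / 16 ≤ ((l : ℚ) - 1) / l := by
    rw [le_div_iff₀ (by linarith)]; linarith
  have eV : ((v : ℚ) + 1) / (p * (q : ℚ) ^ p) * ((p : ℚ) * q) = q * ((v : ℚ) + 1) / (q : ℚ) ^ p := by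
    field_simp
  have eU : ((u : ℚ) + 1) / (q * (p : ℚ) ^ q) * ((p : ℚ) * q) = p * ((u : ℚ) + 1) / (p : ℚ) ^ q := by
    field_simp
  have e2 : 2 / ((p : ℚ) * q) * ((p : ℚ) * q) = 2 := by field_simp
  have bU : p * ((u : ℚ) + 1) / (p : ℚ) ^ q ≤ 129 / 100 := by
    rw [div_le_iff₀ hPq]; linarith
  have bV : q * ((v : ℚ) + 1) / (q : ℚ) ^ p ≤ 29 / 18 := by
    rw [div_le_iff₀ hQp]; linarith
  have hpos : (0 : ℚ) ≤ (p : ℚ) * q := by positivity
  rcases eq_pm_one y2 ha with rfl | rfl <;> rcases eq_pm_one y1 hb with rfl | rfl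
  · have h := D.boundF
    push_cast at h
    have := mul_le_mul_of_nonneg_right h hpos
    have hc := clear_den 2
    norm_num at this hc
    nlinarith
  · have h := D.boundB
    push_cast at h
    have := mul_le_mul_of_nonneg_right h hpos
    have hc := clear_den 2
    norm_num at this hc
    nlinarith
  · have h := D.boundA
    push_cast at h
    have := mul_le_mul_of_nonneg_right h hpos
    have hc := clear_den 2
    norm_num at this hc
    nlinarith
  · norm_num at y3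

theorem cast_sq_le {c : ℕ} {z : ℤ} (hd : (c : ℤ) ∣ z) (hz : z ≠ 0) {x y : ℕ}
    (h : z ^ 2 * (x : ℤ) ≤ (y : ℤ)) : c ^ 2 * x ≤ y := by
  have h1 : (c ^ 2 : ℤ) ≤ z ^ 2 := by
    obtain ⟨k, rfl⟩ := hd
    have hk : k ≠ 0 := fun h0 => hz (by simp [h0])
    rw [mul_pow]
    exact le_mul_of_one_le_right (sq_nonneg _) (by
      rw [← Int.natAbs_sq]; exact_mod_cast Nat.one_le_pow _ _ (Int.natAbs_pos.2 hk))
  have h2 : (c ^ 2 : ℤ) * (x : ℤ) ≤ (y : ℤ) := (mul_le_mul_of_nonneg_right h1 (Int.natCast_nonneg x)).trans h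
  exact_mod_cast h2

/-- A multiple `l = j w` congruent to `1` modulo `c` below `c w + c + 1` is `w`. -/
theorem eq_of_small {w c : ℕ} (hc : 2 ≤ c) (hw : c + 1 < w) (hwc : w ≡ 1 [MOD c]) (hdiv : w ∣ l)
    (hlc : l ≡ 1 [MOD c]) (hle : l ≤ c * (w + 1) + 1) : l = w := by
  obtain ⟨j, rfl⟩ := hdiv
  have hj : j ≤ c := by
    by_contra h
    have : w * (c + 1) ≤ w * j := Nat.mul_le_mul_left _ (by omega)
    nlinarith
  have hjc : j % c = 1 := by
    have h1 : w * j ≡ 1 * j [MOD c] := hwc.mul_right j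
    have h2 : j % c = 1 % c := by simpa [Nat.ModEq] using h1.symm.trans hlc
    rwa [Nat.mod_eq_of_lt (by omega : 1 < c)] at h2
  rcases eq_or_lt_of_le hj with h | h
  · rw [h, Nat.mod_self] at hjc; omega
  · rw [Nat.mod_eq_of_lt h] at hjc; rw [hjc, mul_one]

theorem modEq_one_of_dvd {c : ℕ} (hl : 1 ≤ l) (h : c ∣ l - 1) : l ≡ 1 [MOD c] :=
  ((Nat.modEq_iff_dvd' hl).2 h).symm

/-- A non-zero coefficient at `τθ_S` forces `l = u` when `u ∣ l`. -/
theorem FinalData.eq_u (O : Orders p q u v) (D : FinalData p q u v l e a b zS zT) (h : zS ≠ 0)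
    (hd : u ∣ l) (he : e = q ∨ e = p * q) : l = u := by
  have hc := cast_sq_le D.dvdS h D.costS
  have h2 := D.two_le
  obtain ⟨hup, -, hmp, hmq⟩ := O.u_facts
  have hu := O.u_gt
  have h3 := O.q_ge
  have h5 := O.p_ge
  rcases he with rfl | rfl
  · obtain ⟨j, rfl⟩ := hd
    have hle : u * j - 1 ≤ u + 1 := Nat.le_of_mul_le_mul_left (hc.trans (le_of_eq (by ring))) (pow_pos O.hq.pos 2)
    rcases Nat.lt_or_ge j 2 with hj | hj
    · interval_cases j <;> omega
    · have : u * 2 ≤ u * j := Nat.mul_le_mul_left _ hj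
      have : 3 ≤ u := le_trans (by omega) (O.u_facts.1.trans' (Nat.le_self_pow (by omega) p))
      omega
  · have hle : l - 1 ≤ p * (u + 1) := Nat.le_of_mul_le_mul_left (hc.trans (le_of_eq (by ring))) (pow_pos O.hq.pos 2)
    exact eq_of_small (by omega) (by nlinarith) hmp hd
      (modEq_one_of_dvd (by omega) ((Dvd.intro q rfl).trans D.dvd)) (by omega)

/-- A non-zero coefficient at `τθ_T` forces `l = v` when `v ∣ l`. -/
theorem FinalData.eq_v (O : Orders p q u v) (D : FinalData p q u v l e a b zS zT) (h : zT ≠ 0)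
    (hd : v ∣ l) (he : e = p * q) : l = v := by
  have hc := cast_sq_le D.dvdT h D.costT
  have h2 := D.two_le
  obtain ⟨-, -, hmq, -⟩ := O.v_facts
  have hv := O.v_gt
  have h3 := O.q_ge
  have h5 := O.p_ge
  subst he
  have hle : l - 1 ≤ q * (v + 1) := Nat.le_of_mul_le_mul_left (hc.trans (le_of_eq (by ring))) (pow_pos O.hp.pos 2)
  exact eq_of_small (by omega) (by nlinarith) hmq hd
    (modEq_one_of_dvd (by omega) ((Dvd.intro_left p rfl).trans D.dvd)) (by omega)

/-- The complement over `U` has order `p q`. -/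
theorem FinalData.e_eq (O : Orders p q u v) (D : FinalData p q u v l e a b zS zT) (hd : u ∣ l)
    (he : e = q ∨ e = p * q) (hne : l = u → e ≠ q) : e = p * q := by
  refine he.resolve_left fun h => ?_
  by_cases hS : zS = 0
  · exact D.e_ne O hS h
  · exact hne (D.eq_u O hS hd he) h

/-- The same kernel over `U` and `V`: it has order `v`. -/
theorem eq_v_of_common (O : Orders p q u v) (D : FinalData p q u v l e a b zS zT)
    (hdu : u ∣ l) (hdv : v ∣ l) (he : e = q ∨ e = p * q) (hne : l = u → e ≠ q) : l = v := by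
  have h := D.e_eq O hdu he hne
  by_cases hS : zS = 0
  · exact D.eq_v O (fun hT => D.not_both O (Or.inr (Or.inr h)) hS hT) hdv h
  · exfalso
    rw [D.eq_u O hS hdu (Or.inr h)] at hdv
    have := O.u_lt_v
    have := Nat.le_of_dvd (by have := O.u_gt; omega) hdv
    omega

/-- Two kernels, `l` over `U` and `l'` over `V`: the one over `U` has order `u`. -/
theorem eq_u_of_pair (O : Orders p q u v) (D : FinalData p q u v l e a b zS zT)
    (hd : u ∣ l) (he : e = q ∨ e = p * q) (hne : l = u → e ≠ q) {l' e' : ℕ} {w w' : ℤ}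
    (hd' : v ∣ l') (hl' : 1 ≤ l') (he' : e' = p ∨ e' = p * q) (hpar : Odd (w + w'))
    (hw : w ^ 2 * (l' - 1 : ℕ) ≤ (e * e' : ℕ)) (hw' : w' ^ 2 * (l - 1 : ℕ) ≤ (e * e' : ℕ)) : l = u := by
  have h := D.e_eq O hd he hne
  have h2 := D.two_le
  by_cases hS : zS = 0
  swap
  · exact D.eq_u O hS hd he
  have hT : zT ≠ 0 := fun hT => D.not_both O (Or.inr (Or.inr h)) hS hT
  subst h
  have h3 := O.q_ge
  have h5 := O.p_ge
  have hlt := O.lt
  have hee : p * q * e' ≤ (p * q) ^ 2 := by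
    rw [pow_two]
    refine Nat.mul_le_mul_left _ ?_
    rcases he' with rfl | rfl
    · exact Nat.le_mul_of_pos_right _ O.hq.pos
    · exact le_rfl
  obtain ⟨-, -, hmp, hmq⟩ := O.u_facts
  have hlpq : l ≡ 1 [MOD p * q] := modEq_one_of_dvd (by omega) D.dvd
  have hupq : u ≡ 1 [MOD p * q] :=
    (Nat.modEq_and_modEq_iff_modEq_mul ((Nat.coprime_primes O.hp O.hq).2 (by omega))).1 ⟨hmp, hmq⟩
  -- a bound on `l` is enough
  have small : l ≤ p * q * u → l = u := fun hle => by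
    obtain ⟨j, rfl⟩ := hd
    have hu0 : 0 < u := by have := O.u_gt; omega
    have hj : j ≤ p * q := Nat.le_of_mul_le_mul_left (by rwa [mul_comm (p * q) u] at hle) hu0
    have h1 : j ≡ 1 [MOD p * q] := by
      have h1 : u * j ≡ 1 * j [MOD p * q] := hupq.mul_right j
      rw [one_mul] at h1
      exact h1.symm.trans hlpq
    have h15 : 1 < p * q := by nlinarith
    rcases eq_or_lt_of_le hj with hj | hj
    · rw [hj] at h1
      simp [Nat.ModEq, Nat.mod_eq_of_lt h15] at h1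
    · rw [Nat.ModEq, Nat.mod_eq_of_lt hj, Nat.mod_eq_of_lt h15] at h1
      rw [h1, mul_one]
  by_cases hw0 : w' = 0
  swap
  · have hc := cast_sq_le (c := 1) (one_dvd _) hw0 hw'
    refine small ?_
    have hu := O.u_gt
    have h6 : p * q * (p * q + 1) ≤ p * q * u := Nat.mul_le_mul_left _ hu
    have : (p * q) ^ 2 + p * q = p * q * (p * q + 1) := by ring
    have : 15 ≤ p * q := by nlinarith
    omega
  have hwn : w ≠ 0 := fun h0 => by simp [h0, hw0] at hpar
  have hc := cast_sq_le (c := 1) (one_dvd _) hwn hw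
  have hv : v ≤ (p * q) ^ 2 + 1 := by
    have := Nat.le_of_dvd (by omega) hd'
    omega
  have hp7 : p < 7 := by
    by_contra h7
    have key : ∀ n, 4 ≤ n → (n + 3) ^ 2 + 1 < 3 ^ n := by
      intro n hn
      induction n, hn using Nat.le_induction with
      | base => norm_num
      | succ n hn ih =>
        have h : (n + 1 + 3) ^ 2 + 1 ≤ 3 * ((n + 3) ^ 2 + 1) := by ring_nf; omega
        rw [pow_succ 3 n]; omega
    have h1 := key (p - 3) (by omega)
    rw [show p - 3 + 3 = p by omega] at h1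
    have h8 : 3 ^ (p - 3) ≤ q ^ (p - 3) := Nat.pow_le_pow_left h3 _
    have h9 : q ^ (p - 1) = q ^ 2 * q ^ (p - 3) := by
      rw [← pow_add]; congr 1; omega
    have := O.v_facts.1
    nlinarith
  obtain rfl : p = 5 := by
    interval_cases p
    · rfl
    · exact absurd O.hp (by norm_num)
  obtain rfl : q = 3 := by
    interval_cases q
    · rfl
    · exact absurd O.hq (by norm_num)
  have hu31 : u = 31 := by have := O.hu; norm_num at this; omega
  have hv121 : v = 121 := by have := O.hv; norm_num at this; omega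
  have hc5 := cast_sq_le D.dvdT hT D.costT
  refine small ?_
  subst hu31 hv121
  omega

end CfsgLib.FT.Final
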