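import Cfsg.Agent.Lib.FT.FinalPair
import Cfsg.Agent.Lib.FT.SlackNum

/-!
# The last step of the short route to the odd order theorem: both members of type II

`not_both_typeTwo`: in a pair `U ≠ ⊥` does not occur.
-/

set_option autoImplicit false
set_option linter.unusedSectionVars false
set_option linter.style.haveILetI false

open Subgroup

namespace CfsgLib.FT.Final

open CfsgLib.Char CfsgLib.Char.Signed CfsgLib.FT.Rect CfsgLib.CFun CfsgLib.CFun.TauTwo
open Cfsg (IsClassFunction IsGeneralizedCharacter classInner IsCyclicTIFamily)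

universe u

variable {G : Type u} [Group G] [Fintype G] (hG : Cfsg.IsMinSimpleOddOrder G) (hNB : NoBad G)
include hG hNB

/-- Both members of type II: both complements are full. -/
theorem full_of_both {S T W₁ W₂ U V : Subgroup G} (hP : Pair S T W₁ W₂ U V) (hU : U ≠ ⊥) :
    Nat.card U = full (Nat.card W₂) (Nat.card W₁) ∧ Nat.card V = full (Nat.card W₁) (Nat.card W₂) := by
  classical
  have hodd : Odd (Nat.card G) := hG.1
  have hp := (Pair.prime_card_sigmaT hG hP).1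
  have hq := (Pair.prime_card_sigmaT hG (hP.swap hU)).1
  have DT := CfsgLib.FT.Pair.twoSide hG hP hNB
  have DS := CfsgLib.FT.Pair.twoSide hG (hP.swap hU) hNB
  have hQa := (CfsgLib.FT.Pair.elementary_sigmaT hG hP hNB hq).1
  have hPa := (CfsgLib.FT.Pair.elementary_sigmaT hG (hP.swap hU) hNB hp).1
  have ho : ∀ W : Subgroup G, Odd (Nat.card W) := fun W => hodd.of_dvd_nat (card_subgroup_dvd_card W)
  have hne : Nat.card W₂ ≠ Nat.card W₁ := fun e =>
    DT.not_dvd_Q (e.symm ▸ card_dvd_of_le DT.leW₁)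
  have hk := kappaS hG hP
  obtain ⟨η, hη⟩ := hk.exists_family
  have hη' := isCyclicTIFamily_swap hη
  let _ := Fintype.ofFinite (Cfsg.sigmaCore T)
  let _ := Fintype.ofFinite (Cfsg.sigmaCore S)
  obtain ⟨φ, hφ, hφ1, -⟩ := DT.exists_ne 1
  obtain ⟨ψ', hψ', hψ'1, -⟩ := DS.exists_ne 1
  have hψ : flipHom ψ' ∈ trivOn (W₁ ⊔ W₂) W₁ := flip_mem hψ'
  set XS := conjSet ((Cfsg.sigmaCore S : Set G) \ {1})
  set XT := conjSet ((Cfsg.sigmaCore T : Set G) \ {1})
  have hST : Disjoint XS XT := by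
    rw [Set.disjoint_left]
    rintro _ ⟨y, x, ⟨hx, hx1⟩, rfl⟩ ⟨y', c, ⟨hc, -⟩, e⟩
    refine hx1 (orderOf_eq_one_iff.1 (Nat.eq_one_of_dvd_coprimes (Nat.coprime_of_dvd fun r hr h1 h2 => by
      obtain ⟨g, hg⟩ := CfsgLib.CFun.Disjoint.exists_conj_of_sigma hG hP.coatomS hP.coatomT
        ((sigmaCore_hall hG hP.coatomS).1.2.1 r hr h1) ((sigmaCore_hall hG hP.coatomT).1.2.1 r hr h2)
      exact hP.notConj g hg) (Subgroup.orderOf_dvd_natCard _ hx) ?_))
    rw [← (MulAut.conj y).orderOf_eq x, MulAut.conj_apply, e, ← MulAut.conj_apply,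
      (MulAut.conj y').orderOf_eq c]
    exact Subgroup.orderOf_dvd_natCard _ hc
  have hX : PowClosed (XS ∪ XT) :=
    powClosed_union (powClosed_conjSet (powClosed_sharp _)) (powClosed_conjSet (powClosed_sharp _))
  have h1 := s_bound hk hη hφ hφ1 hψ (flip_ne hψ'1) hX
    ((hk.disjoint_sigma_zSet hP.coatomS).union_left (hk.disjoint_sigma_zSet hP.coatomT))
  rw [mass_union hST] at h1
  have h2 := DT.bound_sum hη hQa hφ hφ1 hψ
  have h3 := DS.bound_sum hη' hPa hψ' hψ'1 (flip_mem (W₁ := W₁) (W₂ := W₂) hφ)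
  change _ ≤ mass XS (slack (η (flipHom ψ') + η φ)) at h3
  rw [add_comm (η (flipHom ψ')) (η φ)] at h3
  rw [(Pair.prime_card_sigmaT hG hP).2] at h2
  rw [(Pair.prime_card_sigmaT hG (hP.swap hU)).2] at h3
  set p := Nat.card W₂
  set q := Nat.card W₁
  set u := Nat.card U
  set v := Nat.card V
  have hp0 : (0 : ℝ) < p := Nat.cast_pos.2 hp.pos
  have hq0 : (0 : ℝ) < q := Nat.cast_pos.2 hq.pos
  have hsum : 2 ≤ ((u : ℝ) + 1) / (p : ℝ) ^ (q - 1) + ((v : ℝ) + 1) / (q : ℝ) ^ (p - 1) := by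
    push_cast at h2 h3
    have e1 : ((v : ℝ) + 1) / ((p : ℝ) * (q : ℝ) ^ p) * ((p : ℝ) * q) = ((v : ℝ) + 1) / (q : ℝ) ^ (p - 1) := by
      rw [show p = p - 1 + 1 from (Nat.sub_add_cancel hp.one_le).symm, pow_succ, Nat.add_sub_cancel]
      field_simp
    have e2 : ((u : ℝ) + 1) / ((q : ℝ) * (p : ℝ) ^ q) * ((p : ℝ) * q) = ((u : ℝ) + 1) / (p : ℝ) ^ (q - 1) := by
      rw [show q = q - 1 + 1 from (Nat.sub_add_cancel hq.one_le).symm, pow_succ, Nat.add_sub_cancel]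
      field_simp
    have e3 : 2 / ((p : ℝ) * q) * ((p : ℝ) * q) = 2 := by field_simp
    have h4 := mul_le_mul_of_nonneg_right
      (show 2 / ((p : ℝ) * q) ≤ ((u : ℝ) + 1) / ((q : ℝ) * (p : ℝ) ^ q) +
        ((v : ℝ) + 1) / ((p : ℝ) * (q : ℝ) ^ p) by linarith) (mul_nonneg hp0.le hq0.le)
    rw [add_mul, e1, e2, e3] at h4
    linarith
  have hmod : ∀ {n r : ℕ}, 2 ≤ r → (2 * r : ℤ) ∣ (n : ℤ) - 1 → 1 ≤ n → n % r = 1 := fun {n r} hr h h1 => by
    have h' : r ∣ n - 1 := by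
      have h' := (dvd_mul_left (r : ℤ) 2).trans h
      rw [← Nat.cast_one, ← Nat.cast_sub h1] at h'
      exact Int.natCast_dvd_natCast.1 h'
    obtain ⟨c, hc⟩ := h'
    rw [show n = 1 + r * c by omega, Nat.add_mul_mod_self_left, Nat.mod_eq_of_lt (by omega)]
  obtain ⟨eu, ev, -⟩ := both_full hp hq (ho W₂) (ho W₁) hne
    ((CfsgLib.FT.Pair.dvd_cases_V hG (hP.swap hU) hNB hp).symm.imp (fun h => h.2) id)
    (hmod hq.two_le DS.card_V_mod Nat.card_pos)
    ((CfsgLib.FT.Pair.dvd_cases_V hG hP hNB hq).symm.imp (fun h => h.2) id)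
    (hmod hp.two_le DT.card_V_mod Nat.card_pos) hsum
  exact ⟨eu, ev⟩

/-- In a pair `S` is not of type II. -/
theorem not_both_typeTwo {S T W₁ W₂ U V : Subgroup G} (hP : Pair S T W₁ W₂ U V) : U = ⊥ := by
  by_contra hU
  obtain ⟨hu, hv⟩ := full_of_both hG hNB hP hU
  exact false_of_both_typeTwo hG hNB hP hU hu hv

end CfsgLib.FT.Final
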