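import Cfsg.Agent.Lib.Char.CyclicTIConseq
import Cfsg.Agent.Lib.Char.SignedIrr
import Cfsg.Agent.Lib.Char.NormTwo

/-!
# Rectangles: coefficients with respect to a cyclic TI family (docs/FT.md §3, RECTANGLE)

For a class function vanishing on `Ẑ = W \ (W₁ ∪ W₂)` the coefficients with respect to the family form a
rectangle; here are the consequences used in the short route to the odd order theorem.
-/

set_option autoImplicit false
set_option linter.unusedSectionVars false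

namespace CfsgLib.FT.Rect

open scoped ComplexConjugate
open Cfsg CfsgLib.Char CfsgLib.Char.Signed

universe u

variable {G : Type u} [Group G] {W₁ W₂ : Subgroup G}

/-! ### The two groups of indices -/

/-- The characters of `W` trivial on `K`, as a finset. -/
noncomputable def dualFin [Finite G] (W K : Subgroup G) : Finset (↥W →* ℂˣ) :=
  haveI := finite_dual (K := ↥W)
  (Set.toFinite (trivOn W K : Set (↥W →* ℂˣ))).toFinset

theorem mem_dualFin [Finite G] {W K : Subgroup G} {ω : ↥W →* ℂˣ} :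
    ω ∈ dualFin W K ↔ ω ∈ trivOn W K := by
  simp [dualFin]

/-- The sum of a family over the column of `ψ`. -/
noncomputable def colSum [Finite G] {X : Type*} (f : (↥(W₁ ⊔ W₂) →* ℂˣ) → (X → ℂ))
    (ψ : ↥(W₁ ⊔ W₂) →* ℂˣ) : X → ℂ :=
  ∑ φ ∈ dualFin (W₁ ⊔ W₂) W₂, f (φ * ψ)

theorem card_dualFin [Finite G] (hW : IsSelfNormalizingCyclic W₁ W₂) :
    (dualFin (W₁ ⊔ W₂) W₂).card = Nat.card W₁ := by
  rw [← card_trivOn_snd (snc_disj hW) (snc_comm hW) (snc_mul_comm_fst hW),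
    ← Nat.card_eq_finsetCard]
  exact Nat.card_congr (Equiv.subtypeEquivRight fun _ => mem_dualFin)

theorem three_le_card [Finite G] (hodd : Odd (Nat.card ↥(W₁ ⊔ W₂))) {K : Subgroup G}
    (hK : K ≤ W₁ ⊔ W₂) (hne : K ≠ ⊥) : 3 ≤ Nat.card K := by
  have h1 : 1 < Nat.card K := (Subgroup.one_lt_card_iff_ne_bot K).mpr hne
  obtain ⟨k, hk⟩ := hodd.of_dvd_nat (Subgroup.card_dvd_of_le hK)
  omega

/-- A linear character of odd order group equal to its inverse is trivial. -/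
theorem eq_one_of_eq_inv {K : Type*} [Group K] (hodd : Odd (Nat.card K))
    {ω : K →* ℂˣ} (h : ω⁻¹ = ω) : ω = 1 := by
  obtain ⟨k, hk⟩ := hodd
  haveI : Finite K := Nat.finite_of_card_ne_zero (by omega)
  refine MonoidHom.ext fun w => ?_
  have h2 : ω w * ω w = 1 := by
    conv_lhs => enter [1]; rw [← h]
    rw [MonoidHom.inv_apply, inv_mul_cancel]
  have hn : ω w ^ Nat.card K = 1 := by rw [← map_pow, pow_card_eq_one', map_one]
  rw [hk, pow_succ, pow_mul, sq, h2, one_pow, one_mul] at hn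
  exact hn

/-! ### Projections on orthonormal families of signed irreducibles -/

section proj

variable [Fintype G]

theorem gen_sum_smul {ι : Type*} (s : Finset ι) (u : ι → G → ℂ) (hu : ∀ i ∈ s, Sg (u i))
    (c : ι → ℤ) : Gen (∑ i ∈ s, (c i : ℂ) • u i) := by
  classical
  induction s using Finset.induction_on with
  | empty => rw [Finset.sum_empty]; exact isGeneralizedCharacter_zero
  | insert a s ha ih =>
    rw [Finset.sum_insert ha]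
    exact isGeneralizedCharacter_add (Gen.zsmul (hu a (Finset.mem_insert_self a s)).gen _)
      (ih fun i hi => hu i (Finset.mem_insert_of_mem hi))

theorem iq_sum_smul_left {ι : Type*} (s : Finset ι) (u : ι → G → ℂ) (hu : ∀ i ∈ s, Sg (u i))
    (c : ι → ℤ) {g : G → ℂ} (hg : Gen g) :
    iq (∑ i ∈ s, (c i : ℂ) • u i) g = ∑ i ∈ s, c i * iq (u i) g := by
  classical
  induction s using Finset.induction_on with
  | empty => exact iq_eq 0 (by simp [classInner])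
  | insert a s ha ih =>
    have hu' : ∀ i ∈ s, Sg (u i) := fun i hi => hu i (Finset.mem_insert_of_mem hi)
    rw [Finset.sum_insert ha, Finset.sum_insert ha,
      iq_add_left (Gen.zsmul (hu a (Finset.mem_insert_self a s)).gen _) (gen_sum_smul s u hu' c) hg,
      iq_smul_left (hu a (Finset.mem_insert_self a s)).gen hg, ih hu']

/-- The remainder after projecting on an orthonormal family. -/
theorem proj_remainder {ι : Type*} (s : Finset ι) (u : ι → G → ℂ) (hu : ∀ i ∈ s, Sg (u i))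
    (ho : ∀ i ∈ s, ∀ j ∈ s, i ≠ j → iq (u i) (u j) = 0) {f : G → ℂ} (hf : Gen f) :
    Gen (f - ∑ i ∈ s, (iq f (u i) : ℂ) • u i) ∧
      (∀ j ∈ s, iq (f - ∑ i ∈ s, (iq f (u i) : ℂ) • u i) (u j) = 0) ∧
      iq (f - ∑ i ∈ s, (iq f (u i) : ℂ) • u i) (f - ∑ i ∈ s, (iq f (u i) : ℂ) • u i) =
        iq f f - ∑ i ∈ s, iq f (u i) ^ 2 := by
  have hp : Gen (∑ i ∈ s, (iq f (u i) : ℂ) • u i) := gen_sum_smul s u hu _
  have hr := isGeneralizedCharacter_sub hf hp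
  have hperp : ∀ j ∈ s, iq (f - ∑ i ∈ s, (iq f (u i) : ℂ) • u i) (u j) = 0 := by
    intro j hj
    rw [iq_sub_left hf hp (hu j hj).gen, iq_sum_smul_left s u hu _ (hu j hj).gen,
      Finset.sum_eq_single_of_mem j hj fun i hi hij => by rw [ho i hi j hj hij, mul_zero],
      (hu j hj).iq_self, mul_one, sub_self]
  refine ⟨hr, hperp, ?_⟩
  have h1 : iq (∑ i ∈ s, (iq f (u i) : ℂ) • u i) (f - ∑ i ∈ s, (iq f (u i) : ℂ) • u i) = 0 :=
    (iq_sum_smul_left s u hu _ hr).trans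
      (Finset.sum_eq_zero fun i hi => by rw [iq_comm (hu i hi).gen hr, hperp i hi, mul_zero])
  rw [iq_sub_right hr hf hp, iq_comm hr hp, h1, sub_zero, iq_comm hr hf, iq_sub_right hf hf hp,
    iq_comm hf hp, iq_sum_smul_left s u hu _ hf]
  congr 1
  exact Finset.sum_congr rfl fun i hi => by rw [iq_comm (hu i hi).gen hf, sq]

theorem sum_sq_le_norm {ι : Type*} (s : Finset ι) (u : ι → G → ℂ) (hu : ∀ i ∈ s, Sg (u i))
    (ho : ∀ i ∈ s, ∀ j ∈ s, i ≠ j → iq (u i) (u j) = 0) {f : G → ℂ} (hf : Gen f) :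
    ∑ i ∈ s, iq f (u i) ^ 2 ≤ iq f f := by
  obtain ⟨hr, -, hn⟩ := proj_remainder s u hu ho hf
  have := iq_self_nonneg hr
  omega

theorem eq_proj_of_le {ι : Type*} (s : Finset ι) (u : ι → G → ℂ) (hu : ∀ i ∈ s, Sg (u i))
    (ho : ∀ i ∈ s, ∀ j ∈ s, i ≠ j → iq (u i) (u j) = 0) {f : G → ℂ} (hf : Gen f)
    (h : iq f f ≤ ∑ i ∈ s, iq f (u i) ^ 2) :
    f = ∑ i ∈ s, (iq f (u i) : ℂ) • u i := by
  obtain ⟨hr, -, hn⟩ := proj_remainder s u hu ho hf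
  exact sub_eq_zero.1 (eq_zero_of_iq_self hr (le_antisymm (by omega) (iq_self_nonneg hr)))

end proj

/-! ### The family -/

section family

variable [Fintype G] {χ : (↥(W₁ ⊔ W₂) →* ℂˣ) → (G → ℂ)}
variable (hW : IsSelfNormalizingCyclic W₁ W₂) (hodd : Odd (Nat.card ↥(W₁ ⊔ W₂)))
variable (hχ : IsCyclicTIFamily W₁ W₂ χ)

include hχ in
theorem sg_eta (ω : ↥(W₁ ⊔ W₂) →* ℂˣ) : Sg (χ ω) :=
  ⟨signed_irr_generalized (hχ.irr_or_neg ω), by rw [hχ.orthonormal, if_pos rfl]⟩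

include hχ in
theorem iq_eta (ω ω' : ↥(W₁ ⊔ W₂) →* ℂˣ) [Decidable (ω = ω')] :
    iq (χ ω) (χ ω') = if ω = ω' then 1 else 0 := by
  refine iq_eq _ ?_
  rw [hχ.orthonormal]
  split_ifs <;> simp

include hχ in
theorem iq_eta_ne {ω ω' : ↥(W₁ ⊔ W₂) →* ℂˣ} (h : ω ≠ ω') : iq (χ ω) (χ ω') = 0 := by
  classical rw [iq_eta hχ, if_neg h]

include hW hχ in
theorem iq_rule {f : G → ℂ} (hf : Gen f)
    (hV : ∀ w : ↥(W₁ ⊔ W₂), (w : G) ∉ W₁ → (w : G) ∉ W₂ → f w = 0)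
    {φ ψ : ↥(W₁ ⊔ W₂) →* ℂˣ} (hφ : φ ∈ trivOn _ W₂) (hψ : ψ ∈ trivOn _ W₁) :
    iq f (χ (φ * ψ)) = iq f (χ φ) + iq f (χ ψ) - iq f (χ 1) := by
  have h := coeff_rule hW hχ (isClassFunction_of_isGeneralized hf) hV hφ hψ
  rw [iq_spec hf (sg_eta hχ _).gen, iq_spec hf (sg_eta hχ _).gen, iq_spec hf (sg_eta hχ _).gen,
    iq_spec hf (sg_eta hχ _).gen] at h
  exact_mod_cast h

include hW hodd hχ in
/-- A generalized character of norm at most two vanishing on `Ẑ` is orthogonal to the whole family. -/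
theorem perp_of_norm_two {f : G → ℂ} (hf : Gen f) (h2 : iq f f ≤ 2)
    (hV : ∀ w : ↥(W₁ ⊔ W₂), (w : G) ∉ W₁ → (w : G) ∉ W₂ → f w = 0)
    (ω : ↥(W₁ ⊔ W₂) →* ℂˣ) : classInner f (χ ω) = 0 := by
  classical
  haveI := finite_dual (K := ↥(W₁ ⊔ W₂))
  let _ := Fintype.ofFinite (↥(W₁ ⊔ W₂) →* ℂˣ)
  refine coeff_zero_of_two hW hodd (fun ω => classInner f (χ ω))
    (fun φ hφ ψ hψ => coeff_rule hW hχ (isClassFunction_of_isGeneralized hf) hV hφ hψ) ?_ ω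
  set S : Finset (↥(W₁ ⊔ W₂) →* ℂˣ) := Finset.univ.filter fun ω => iq f (χ ω) ≠ 0 with hS
  have hle := sum_sq_le_norm S χ (fun i _ => sg_eta hχ i) (fun i _ j _ h => iq_eta_ne hχ h) hf
  have hcard : (S.card : ℤ) ≤ ∑ i ∈ S, iq f (χ i) ^ 2 := by
    rw [Finset.card_eq_sum_ones, Nat.cast_sum, Nat.cast_one]
    refine Finset.sum_le_sum fun i hi => ?_
    have h1 : 0 < iq f (χ i) ^ 2 := by
      have := (Finset.mem_filter.1 hi).2
      positivity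
    omega
  have hiff : ∀ i, classInner f (χ i) ≠ 0 ↔ i ∈ S := fun i => by
    rw [iq_spec hf (sg_eta hχ i).gen]
    simp [hS]
  rw [Nat.card_congr (Equiv.subtypeEquivRight hiff), Nat.card_eq_finsetCard]
  omega

include hW hodd hχ in
/-- A signed irreducible other than `±1` whose difference with its conjugate vanishes on `Ẑ` is no
member of the family. -/
theorem perp_of_conj {X : G → ℂ} (hX : IsIrrCharacter G X) (hX1 : X ≠ fun _ => 1)
    (hV : ∀ w : ↥(W₁ ⊔ W₂), (w : G) ∉ W₁ → (w : G) ∉ W₂ → X w = conj (X w))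
    (ω : ↥(W₁ ⊔ W₂) →* ℂˣ) : classInner X (χ ω) = 0 := by
  classical
  by_contra hne
  obtain ⟨s, hs, hXe, -⟩ := signed_irr_inner_zero (Or.inl hX) (hχ.irr_or_neg ω) hne
  have hreal : ∀ w : ↥(W₁ ⊔ W₂), (w : G) ∉ W₁ → (w : G) ∉ W₂ → ω w = 1 := by
    intro w h1 h2
    have h := hV w h1 h2
    rw [hXe, Pi.smul_apply, smul_eq_mul, hχ.eq_on ω w h1 h2] at h
    have hp : ((ω w : ℂˣ) : ℂ) ^ Nat.card ↥(W₁ ⊔ W₂) = 1 := by
      rw [← Units.val_pow_eq_pow_val, ← map_pow, pow_card_eq_one', map_one, Units.val_one]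
    have hc : conj ((ω w : ℂˣ) : ℂ) = ((ω w : ℂˣ) : ℂ)⁻¹ :=
      conj_eq_inv_of_pow_eq_one Nat.card_pos.ne' hp
    have hsc : conj s = s := by rcases hs with rfl | rfl <;> simp
    have hs0 : s ≠ 0 := by rcases hs with rfl | rfl <;> simp
    rw [map_mul, hsc, hc] at h
    have h1' := mul_left_cancel₀ hs0 h
    have hsq : ((ω w : ℂˣ) : ℂ) ^ 2 = 1 := by
      rw [sq]
      nth_rw 2 [h1']
      exact mul_inv_cancel₀ (Units.ne_zero _)
    obtain ⟨k, hk⟩ := hodd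
    rw [hk, pow_succ, pow_mul, hsq, one_pow, one_mul] at hp
    exact Units.ext hp
  have hω : ω = 1 := by
    refine MonoidHom.ext fun w => ?_
    obtain ⟨a, b, ha, hb, rfl⟩ := exists_decomp (snc_disj hW) (snc_comm hW) w
    have hgen : ∀ (a b : ↥(W₁ ⊔ W₂)), (a : G) ∈ W₁ → (b : G) ∈ W₂ → a ≠ 1 → b ≠ 1 →
        ω (a * b) = 1 := by
      intro a b ha hb ha1 hb1
      refine hreal _ (fun h => hb1 ?_) fun h => ha1 ?_
      · have hb' : (b : G) ∈ W₁ := by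
          have := mul_mem (inv_mem ha) h
          simpa using this
        have : (b : G) ∈ W₁ ⊓ W₂ := ⟨hb', hb⟩
        rw [snc_disj hW, Subgroup.mem_bot] at this
        exact Subtype.ext this
      · have ha' : (a : G) ∈ W₂ := by
          have := mul_mem h (inv_mem hb)
          simpa using this
        have : (a : G) ∈ W₁ ⊓ W₂ := ⟨ha, ha'⟩
        rw [snc_disj hW, Subgroup.mem_bot] at this
        exact Subtype.ext this
    have hex : ∀ K : Subgroup G, K ≤ W₁ ⊔ W₂ → K ≠ ⊥ → ∀ a : ↥(W₁ ⊔ W₂), (a : G) ∈ K →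
        ∃ a' : ↥(W₁ ⊔ W₂), (a' : G) ∈ K ∧ a' ≠ 1 ∧ a' ≠ a⁻¹ := by
      intro K hK hne a ha
      by_contra hc
      push Not at hc
      have h3 := three_le_card hodd hK hne
      have hsub : (K : Set G) ⊆ {1, (a : G)⁻¹} := fun x hx => by
        rcases eq_or_ne (⟨x, hK hx⟩ : ↥(W₁ ⊔ W₂)) 1 with e | e
        · exact Or.inl (congrArg Subtype.val e)
        · exact Or.inr (Set.mem_singleton_iff.2 (congrArg Subtype.val (hc _ hx e)))
      have := (Set.ncard_le_ncard hsub (Set.toFinite _)).trans (Set.ncard_insert_le _ _)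
      rw [Set.ncard_singleton, ← Nat.card_coe_set_eq] at this
      simp only [SetLike.coe_sort_coe] at this
      omega
    have hone : ∀ a : ↥(W₁ ⊔ W₂), (a : G) ∈ W₁ → ω a = 1 := by
      intro a ha
      obtain ⟨a', ha', hne1, hne2⟩ := hex W₁ le_sup_left hW.1 a ha
      obtain ⟨b', hb', hb1, -⟩ := hex W₂ le_sup_right hW.2.1 1 (one_mem _)
      have hne3 : a' * a ≠ 1 := fun e => hne2 (eq_inv_of_mul_eq_one_left e)
      have e1 := hgen a' b' ha' hb' hne1 hb1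
      have e2 := hgen (a' * a) b' (mul_mem ha' ha) hb' hne3 hb1
      rw [map_mul] at e1
      rw [map_mul, map_mul, mul_right_comm, e1, one_mul] at e2
      exact e2
    have htwo : ∀ b : ↥(W₁ ⊔ W₂), (b : G) ∈ W₂ → ω b = 1 := by
      intro b hb
      obtain ⟨b', hb', hne1, hne2⟩ := hex W₂ le_sup_right hW.2.1 b hb
      obtain ⟨a', ha', ha1, -⟩ := hex W₁ le_sup_left hW.1 1 (one_mem _)
      have e1 := hgen a' b' ha' hb' ha1 hne1
      have hne3 : b' * b ≠ 1 := fun e => hne2 (eq_inv_of_mul_eq_one_left e)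
      have e2 := hgen a' (b' * b) ha' (mul_mem hb' hb) ha1 hne3
      rw [← mul_assoc, map_mul, e1, one_mul] at e2
      exact e2
    rw [map_mul, hone a ha, htwo b hb, one_mul, MonoidHom.one_apply]
  subst hω
  refine hX1 ?_
  rw [hχ.map_one] at hXe
  have h1 := congrFun hXe 1
  obtain ⟨d, -, hd⟩ := isIrrCharacter_degree hX
  rw [hd, Pi.smul_apply, smul_eq_mul, mul_one] at h1
  rcases hs with rfl | rfl
  · rw [hXe, one_smul]
  · exfalso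
    have : ((d : ℤ) : ℂ) = ((-1 : ℤ) : ℂ) := by push_cast; exact h1
    have := Int.cast_injective this
    omega

include hW hodd hχ in
/-- `τ(μ_ij − μ_il) = δ(η_ij − η_il)`. -/
theorem diff_eq_of_norm_two {f : G → ℂ} (hf : Gen f) (h2 : iq f f = 2)
    {φ ψ ψ' : ↥(W₁ ⊔ W₂) →* ℂˣ} (hφ : φ ∈ trivOn _ W₂) (hψ : ψ ∈ trivOn _ W₁)
    (hψ' : ψ' ∈ trivOn _ W₁) (hne : ψ ≠ ψ') (s : ℤ) (hs : s = 1 ∨ s = -1)
    (hV : ∀ w : ↥(W₁ ⊔ W₂), (w : G) ∉ W₁ → (w : G) ∉ W₂ →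
      f w = (s : ℂ) * (((φ * ψ) w : ℂ) - ((φ * ψ') w : ℂ))) :
    f = (s : ℂ) • (χ (φ * ψ) - χ (φ * ψ')) := by
  classical
  haveI := finite_dual (K := ↥(W₁ ⊔ W₂))
  let _ := Fintype.ofFinite (↥(W₁ ⊔ W₂) →* ℂˣ)
  set a := φ * ψ with ha
  set b := φ * ψ' with hb
  have hab : a ≠ b := fun e => hne (mul_left_cancel e)
  set g := f - (s : ℂ) • (χ a - χ b) with hgdef
  have hd : Gen (χ a - χ b) := isGeneralizedCharacter_sub (sg_eta hχ a).gen (sg_eta hχ b).gen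
  have hg : Gen g := isGeneralizedCharacter_sub hf (Gen.zsmul hd s)
  have hgV : ∀ w : ↥(W₁ ⊔ W₂), (w : G) ∉ W₁ → (w : G) ∉ W₂ → g w = 0 := by
    intro w h1 h2'
    rw [hgdef, Pi.sub_apply, Pi.smul_apply, smul_eq_mul, Pi.sub_apply, hχ.eq_on a w h1 h2',
      hχ.eq_on b w h1 h2', hV w h1 h2', sub_self]
  have hgc : ∀ ω, iq g (χ ω) =
      iq f (χ ω) - s * ((if a = ω then 1 else 0) - if b = ω then 1 else 0) := by
    intro ω
    have hω := (sg_eta hχ ω).gen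
    rw [hgdef, iq_sub_left hf (Gen.zsmul hd s) hω, iq_smul_left hd hω,
      iq_sub_left (sg_eta hχ a).gen (sg_eta hχ b).gen hω, iq_eta hχ, iq_eta hχ]
  -- the rectangle rule leaves no room unless both coefficients are there
  have hsum : ∀ S : Finset (↥(W₁ ⊔ W₂) →* ℂˣ), ∑ ω ∈ S, iq f (χ ω) ^ 2 ≤ 2 := fun S =>
    h2 ▸ sum_sq_le_norm S χ (fun i _ => sg_eta hχ i) (fun i _ j _ h => iq_eta_ne hχ h) hf
  have key : iq f (χ a) = s ∧ iq f (χ b) = -s := by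
    have hm : 3 ≤ Nat.card W₁ := three_le_card hodd le_sup_left hW.1
    have hn : 3 ≤ Nat.card W₂ := three_le_card hodd le_sup_right hW.2.1
    have hab' : ∀ (φ' : ↥(W₁ ⊔ W₂) →* ℂˣ), φ' ∈ trivOn _ W₂ → φ' ≠ φ →
        iq f (χ a) - iq f (χ b) - iq f (χ (φ' * ψ)) + iq f (χ (φ' * ψ')) = 2 * s := by
      intro φ' hφ' hφne
      have n1 : a ≠ φ' * ψ := fun e => hφne (mul_right_cancel e).symm
      have n2 : b ≠ φ' * ψ := fun e =>
        hne (trivOn_mul_inj (snc_disj hW) (snc_comm hW) hφ hφ' hψ' hψ e).2.symm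
      have n3 : a ≠ φ' * ψ' := fun e =>
        hne (trivOn_mul_inj (snc_disj hW) (snc_comm hW) hφ hφ' hψ hψ' e).2
      have n4 : b ≠ φ' * ψ' := fun e => hφne (mul_right_cancel e).symm
      have r1 := iq_rule hW hχ hg hgV hφ hψ
      have r2 := iq_rule hW hχ hg hgV hφ hψ'
      have r3 := iq_rule hW hχ hg hgV hφ' hψ
      have r4 := iq_rule hW hχ hg hgV hφ' hψ'
      rw [← ha] at r1
      rw [← hb] at r2
      simp only [hgc] at r1 r2 r3 r4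
      simp only [hab, hab.symm, if_true, if_false] at r1 r2
      rw [if_neg n1, if_neg n2] at r3
      rw [if_neg n3, if_neg n4] at r4
      linarith
    -- all other rows contribute: their number is at least two
    have hrows : 2 ≤ ((dualFin (W₁ ⊔ W₂) W₂).erase φ).card := by
      rw [Finset.card_erase_of_mem (mem_dualFin.2 hφ), card_dualFin hW]
      omega
    obtain ⟨φ₁, h1, φ₂, h2', h12⟩ := Finset.one_lt_card.1 hrows
    obtain ⟨hφ₁ne, hφ₁⟩ := Finset.mem_erase.1 h1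
    obtain ⟨hφ₂ne, hφ₂⟩ := Finset.mem_erase.1 h2'
    rw [mem_dualFin] at hφ₁ hφ₂
    have e1 := hab' φ₁ hφ₁ hφ₁ne
    have e2 := hab' φ₂ hφ₂ hφ₂ne
    have ne2 : ∀ {x y : ↥(W₁ ⊔ W₂) →* ℂˣ}, x ∈ trivOn _ W₂ → y ∈ trivOn _ W₂ →
        x * ψ ≠ y * ψ' := fun hx hy e =>
      hne (trivOn_mul_inj (snc_disj hW) (snc_comm hW) hx hy hψ hψ' e).2
    have hs6 := hsum {a, b, φ₁ * ψ, φ₁ * ψ', φ₂ * ψ, φ₂ * ψ'}
    rw [Finset.sum_insert (by
        simp [hab, show ∀ x, (a = x) = (φ * ψ = x) from fun x => rfl, mul_right_cancel_iff, hφ₁ne.symm, hφ₂ne.symm, ne2 hφ hφ₁, ne2 hφ hφ₂]),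
      Finset.sum_insert (by
        simp [hb, mul_right_cancel_iff, hφ₁ne.symm, hφ₂ne.symm, (ne2 hφ₁ hφ).symm,
          (ne2 hφ₂ hφ).symm]),
      Finset.sum_insert (by
        simp [mul_right_cancel_iff, h12, ne2 hφ₁ hφ₁, ne2 hφ₁ hφ₂]),
      Finset.sum_insert (by
        simp [mul_right_cancel_iff, h12, (ne2 hφ₂ hφ₁).symm]),
      Finset.sum_pair (ne2 hφ₂ hφ₂)] at hs6
    set A := iq f (χ a)
    set B := iq f (χ b)
    set C := iq f (χ (φ₁ * ψ))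
    set D := iq f (χ (φ₁ * ψ'))
    set E' := iq f (χ (φ₂ * ψ))
    set F' := iq f (χ (φ₂ * ψ'))
    have bnd : ∀ x : ℤ, x ^ 2 ≤ 2 → -1 ≤ x ∧ x ≤ 1 := fun x hx => ⟨by nlinarith, by nlinarith⟩
    obtain ⟨a1, a2⟩ := bnd A (by linarith [sq_nonneg B, sq_nonneg C, sq_nonneg D, sq_nonneg E', sq_nonneg F'])
    obtain ⟨b1, b2⟩ := bnd B (by linarith [sq_nonneg A, sq_nonneg C, sq_nonneg D, sq_nonneg E', sq_nonneg F'])
    have hint : ∀ x y : ℤ, x ≠ y → 1 ≤ x ^ 2 + y ^ 2 := fun x y hxy => by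
      rcases eq_or_ne x 0 with rfl | hx
      · have : 0 < y ^ 2 := by have := hxy.symm; positivity
        omega
      · have : 0 < x ^ 2 := by positivity
        have := sq_nonneg y
        omega
    have hCD := hint C D
    have hEF := hint E' F'
    rcases hs with rfl | rfl <;> interval_cases A <;> interval_cases B <;>
      first
        | exact ⟨rfl, rfl⟩
        | (exfalso; have := hCD (by omega); have := hEF (by omega); linarith)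
        | (exfalso; nlinarith [sq_nonneg (C + D), sq_nonneg (E' + F'), sq_nonneg (C - D), sq_nonneg (E' - F')])
  have hfa := key.1
  have hfb := key.2
  have hP := eq_proj_of_le {a, b} χ (fun i _ => sg_eta hχ i) (fun i _ j _ h => iq_eta_ne hχ h) hf (by
    rw [Finset.sum_pair hab, hfa, hfb, h2]
    rcases hs with rfl | rfl <;> norm_num)
  rw [Finset.sum_pair hab, hfa, hfb] at hP
  rw [hP, smul_sub]
  push_cast
  rw [neg_smul, sub_eq_add_neg]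

include hW hodd hχ in
/-- The coefficients of a function with one unit per row fill exactly one column. -/
theorem column_coeff {F : G → ℂ} (hF : Gen F)
    (hV : ∀ w : ↥(W₁ ⊔ W₂), (w : G) ∉ W₁ → (w : G) ∉ W₂ → F w = 0)
    {ψ₀ : ↥(W₁ ⊔ W₂) →* ℂˣ} (hψ₀ : ψ₀ ∈ trivOn _ W₁) (hψ₀1 : ψ₀ ≠ 1)
    (J : Finset (↥(W₁ ⊔ W₂) →* ℂˣ)) (hJne : J.Nonempty)
    (hJ : ∀ l ∈ J, l ∈ trivOn (W₁ ⊔ W₂) W₁ ∧ l ≠ 1 ∧ l ≠ ψ₀) (s : ℤ) (hs : s = 1 ∨ s = -1)
    (hdiff : ∀ φ ∈ trivOn (W₁ ⊔ W₂) W₂, ∀ l ∈ J, iq F (χ (φ * ψ₀)) - iq F (χ (φ * l)) = s)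
    (hsum : ∀ S : Finset (↥(W₁ ⊔ W₂) →* ℂˣ), ∑ ω ∈ S, iq F (χ ω) ^ 2 ≤ Nat.card W₁) :
    ∃ ψ₁ s₁, ((ψ₁ = ψ₀ ∧ s₁ = s) ∨ (ψ₁ ∈ J ∧ (∀ l ∈ J, l = ψ₁) ∧ s₁ = -s)) ∧
      (∀ φ ∈ trivOn (W₁ ⊔ W₂) W₂, iq F (χ (φ * ψ₁)) = s₁) ∧
      ∀ φ ∈ trivOn (W₁ ⊔ W₂) W₂, ∀ ψ ∈ trivOn (W₁ ⊔ W₂) W₁, ψ ≠ ψ₁ → iq F (χ (φ * ψ)) = 0 := by
  classical
  haveI := finite_dual (K := ↥(W₁ ⊔ W₂))
  set P := dualFin (W₁ ⊔ W₂) W₂ with hP
  set Q := dualFin (W₁ ⊔ W₂) W₁ with hQ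
  set c := fun φ ψ : ↥(W₁ ⊔ W₂) →* ℂˣ => iq F (χ (φ * ψ)) with hc
  have hprod : ∑ φ ∈ P, ∑ ψ ∈ Q, c φ ψ ^ 2 ≤ (P.card : ℤ) := by
    rw [card_dualFin hW, ← Finset.sum_product']
    refine le_trans (le_of_eq ?_) (hsum ((P ×ˢ Q).image fun x => x.1 * x.2))
    rw [Finset.sum_image]
    rintro ⟨x, y⟩ hxy ⟨x', y'⟩ hxy' e
    simp only [Finset.coe_product, Set.mem_prod, Finset.mem_coe, hP, hQ, mem_dualFin] at hxy hxy'
    obtain ⟨e1, e2⟩ := trivOn_mul_inj (snc_disj hW) (snc_comm hW) hxy.1 hxy'.1 hxy.2 hxy'.2 e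
    rw [e1, e2]
  obtain ⟨l₀, hl₀⟩ := hJne
  have hrow1 : ∀ φ ∈ P, (1 : ℤ) ≤ ∑ ψ ∈ Q, c φ ψ ^ 2 := by
    intro φ hφ
    have hd := hdiff φ (mem_dualFin.1 hφ) l₀ hl₀
    have h : c φ ψ₀ ≠ 0 ∨ c φ l₀ ≠ 0 := by
      by_contra h'
      push Not at h'
      simp only [hc] at h'
      rw [h'.1, h'.2] at hd
      omega
    rcases h with h | h
    · refine le_trans ?_ (Finset.single_le_sum (f := fun ψ => c φ ψ ^ 2) (fun i _ => sq_nonneg _)
        (mem_dualFin.2 hψ₀))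
      have : 0 < c φ ψ₀ ^ 2 := by positivity
      omega
    · refine le_trans ?_ (Finset.single_le_sum (f := fun ψ => c φ ψ ^ 2) (fun i _ => sq_nonneg _)
        (mem_dualFin.2 (hJ l₀ hl₀).1))
      have : 0 < c φ l₀ ^ 2 := by positivity
      omega
  have hrow : ∀ φ ∈ P, ∑ ψ ∈ Q, c φ ψ ^ 2 = 1 := by
    intro φ hφ
    refine le_antisymm ?_ (hrow1 φ hφ)
    have h1 := Finset.add_sum_erase P (fun φ => ∑ ψ ∈ Q, c φ ψ ^ 2) hφ
    have h2 := Finset.card_nsmul_le_sum (P.erase φ) (fun φ => ∑ ψ ∈ Q, c φ ψ ^ 2) (1 : ℤ)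
      fun i hi => hrow1 i (Finset.mem_of_mem_erase hi)
    rw [Finset.card_erase_of_mem hφ, nsmul_one] at h2
    have : 1 ≤ P.card := Finset.card_pos.2 ⟨φ, hφ⟩
    omega
  have honly : ∀ φ ∈ P, ∀ ψ ∈ Q, c φ ψ ≠ 0 → ∀ ψ' ∈ Q, ψ' ≠ ψ → c φ ψ' = 0 := by
    intro φ hφ ψ hψ hne ψ' hψ' hne'
    have h := Finset.sum_le_sum_of_subset_of_nonneg (f := fun x => c φ x ^ 2)
      (show ({ψ', ψ} : Finset _) ⊆ Q by simp [Finset.insert_subset_iff, hψ, hψ'])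
      fun i _ _ => sq_nonneg _
    rw [Finset.sum_pair hne', hrow φ hφ] at h
    have h0 : 0 < c φ ψ ^ 2 := by positivity
    have := sq_nonneg (c φ ψ')
    exact pow_eq_zero_iff (n := 2) (by norm_num) |>.1 (by omega)
  have h1Q : (1 : ↥(W₁ ⊔ W₂) →* ℂˣ) ∈ Q := mem_dualFin.2 (one_mem _)
  have hq₀ := mem_dualFin.2 hψ₀
  have hconst : ∀ φ ∈ P, c φ ψ₀ - c φ 1 = c 1 ψ₀ - c 1 1 := by
    intro φ hφ
    simp only [hc]
    have m1 : ∀ x : ↥(W₁ ⊔ W₂) →* ℂˣ, x * 1 = x := fun x => mul_one x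
    have m2 : ∀ x : ↥(W₁ ⊔ W₂) →* ℂˣ, 1 * x = x := fun x => one_mul x
    rw [iq_rule hW hχ hF hV (mem_dualFin.1 hφ) hψ₀, m1, m2, m2]
    ring
  by_cases h0 : ∀ φ ∈ P, c φ ψ₀ ≠ 0
  · refine ⟨ψ₀, s, Or.inl ⟨rfl, rfl⟩, fun φ hφ => ?_, fun φ hφ ψ hψ hne => ?_⟩
    · have hd := hdiff φ hφ l₀ hl₀
      have := honly φ (mem_dualFin.2 hφ) ψ₀ hq₀ (h0 φ (mem_dualFin.2 hφ)) l₀
        (mem_dualFin.2 (hJ l₀ hl₀).1) (hJ l₀ hl₀).2.2
      simp only [hc] at this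
      rw [this, sub_zero] at hd
      exact hd
    · exact honly φ (mem_dualFin.2 hφ) ψ₀ hq₀ (h0 φ (mem_dualFin.2 hφ)) ψ (mem_dualFin.2 hψ) hne
  · push Not at h0
    obtain ⟨φ₀, hφ₀, h00⟩ := h0
    have hl : ∀ l ∈ J, c φ₀ l = -s := fun l hl => by
      have hd := hdiff φ₀ (mem_dualFin.1 hφ₀) l hl
      simp only [hc] at h00 ⊢
      omega
    have huniq : ∀ l ∈ J, l = l₀ := fun l hl' => by
      by_contra hne
      have := honly φ₀ hφ₀ l₀ (mem_dualFin.2 (hJ l₀ hl₀).1) (by rw [hl l₀ hl₀]; omega) l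
        (mem_dualFin.2 (hJ l hl').1) hne
      rw [hl l hl'] at this
      omega
    have h01 : c φ₀ 1 = 0 := honly φ₀ hφ₀ l₀ (mem_dualFin.2 (hJ l₀ hl₀).1)
      (by rw [hl l₀ hl₀]; omega) 1 h1Q (hJ l₀ hl₀).2.1.symm
    have hall : ∀ φ ∈ P, c φ ψ₀ = 0 := by
      intro φ hφ
      by_contra hne
      have h1 := honly φ hφ ψ₀ hq₀ hne 1 h1Q hψ₀1.symm
      have := hconst φ hφ
      have := hconst φ₀ hφ₀
      omega
    refine ⟨l₀, -s, Or.inr ⟨hl₀, huniq, rfl⟩, fun φ hφ => ?_, fun φ hφ ψ hψ hne => ?_⟩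
    · have hd := hdiff φ hφ l₀ hl₀
      have := hall φ (mem_dualFin.2 hφ)
      simp only [hc] at this
      omega
    · refine honly φ (mem_dualFin.2 hφ) l₀ (mem_dualFin.2 (hJ l₀ hl₀).1) ?_ ψ (mem_dualFin.2 hψ) hne
      have hd := hdiff φ hφ l₀ hl₀
      have := hall φ (mem_dualFin.2 hφ)
      simp only [hc] at this ⊢
      omega

include hW hodd hχ in
/-- A generalized character with one unit per row and norm `|W₁| + 1` which is not in the span of the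
family: a column minus one signed irreducible outside the family. -/
theorem column_form {F : G → ℂ} (hF : Gen F)
    (hV : ∀ w : ↥(W₁ ⊔ W₂), (w : G) ∉ W₁ → (w : G) ∉ W₂ → F w = 0)
    (hn : iq F F = (Nat.card W₁ : ℤ) + 1)
    {g : G → ℂ} (hg : Gen g) (hgp : ∀ ω, classInner g (χ ω) = 0) (hgF : iq F g ≠ 0)
    {ψ₀ : ↥(W₁ ⊔ W₂) →* ℂˣ} (hψ₀ : ψ₀ ∈ trivOn _ W₁) (hψ₀1 : ψ₀ ≠ 1)
    (J : Finset (↥(W₁ ⊔ W₂) →* ℂˣ)) (hJne : J.Nonempty)
    (hJ : ∀ l ∈ J, l ∈ trivOn (W₁ ⊔ W₂) W₁ ∧ l ≠ 1 ∧ l ≠ ψ₀) (s : ℤ) (hs : s = 1 ∨ s = -1)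
    (hdiff : ∀ φ ∈ trivOn (W₁ ⊔ W₂) W₂, ∀ l ∈ J, iq F (χ (φ * ψ₀)) - iq F (χ (φ * l)) = s) :
    ∃ ψ₁ s₁ X, ((ψ₁ = ψ₀ ∧ s₁ = s) ∨ (ψ₁ ∈ J ∧ (∀ l ∈ J, l = ψ₁) ∧ s₁ = -s)) ∧
      Sg X ∧ (∀ ω, classInner X (χ ω) = 0) ∧ F = (s₁ : ℂ) • colSum χ ψ₁ - X := by
  classical
  haveI := finite_dual (K := ↥(W₁ ⊔ W₂))
  have hsum : ∀ S : Finset (↥(W₁ ⊔ W₂) →* ℂˣ), ∑ ω ∈ S, iq F (χ ω) ^ 2 ≤ Nat.card W₁ := by
    intro S
    obtain ⟨hr, -, hrn⟩ :=
      proj_remainder S χ (fun i _ => sg_eta hχ i) (fun i _ j _ h => iq_eta_ne hχ h) hF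
    by_contra hc
    have h0 := iq_self_nonneg hr
    have he := eq_zero_of_iq_self hr (by omega)
    rw [sub_eq_zero] at he
    refine hgF ?_
    rw [he, iq_sum_smul_left S χ (fun i _ => sg_eta hχ i) _ hg]
    refine Finset.sum_eq_zero fun i _ => ?_
    have hz : iq g (χ i) = 0 := iq_eq 0 (by rw [hgp i, Int.cast_zero])
    rw [iq_comm (sg_eta hχ i).gen hg, hz, mul_zero]
  obtain ⟨ψ₁, s₁, hpick, h1, h2⟩ :=
    column_coeff hW hodd hχ hF hV hψ₀ hψ₀1 J hJne hJ s hs hdiff hsum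
  have hψ₁ : ψ₁ ∈ trivOn (W₁ ⊔ W₂) W₁ := by
    rcases hpick with ⟨rfl, -⟩ | ⟨h, -, -⟩
    exacts [hψ₀, (hJ _ h).1]
  set S := (dualFin (W₁ ⊔ W₂) W₂).image (· * ψ₁) with hS
  have hinj : Set.InjOn (· * ψ₁) (dualFin (W₁ ⊔ W₂) W₂ : Set (↥(W₁ ⊔ W₂) →* ℂˣ)) :=
    fun x _ y _ e => mul_right_cancel e
  obtain ⟨hr, -, hrn⟩ :=
    proj_remainder S χ (fun i _ => sg_eta hχ i) (fun i _ j _ h => iq_eta_ne hχ h) hF
  have hcol : ∑ i ∈ S, (iq F (χ i) : ℂ) • χ i = (s₁ : ℂ) • colSum χ ψ₁ := by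
    rw [hS, Finset.sum_image hinj, colSum, Finset.smul_sum]
    exact Finset.sum_congr rfl fun φ hφ => by rw [h1 φ (mem_dualFin.1 hφ)]
  have hsq : ∑ i ∈ S, iq F (χ i) ^ 2 = (Nat.card W₁ : ℤ) := by
    rw [hS, Finset.sum_image hinj, Finset.sum_congr rfl fun φ hφ => by
      rw [h1 φ (mem_dualFin.1 hφ)], Finset.sum_const, card_dualFin hW, nsmul_eq_mul]
    rcases hpick with ⟨-, rfl⟩ | ⟨-, -, rfl⟩ <;> rcases hs with rfl | rfl <;> simp
  rw [hcol] at hr hrn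
  refine ⟨ψ₁, s₁, -(F - (s₁ : ℂ) • colSum χ ψ₁), hpick, (Sg.of_iq hr (by omega)).neg,
    fun ω => ?_, (by abel)⟩
  obtain ⟨φ, hφ, ψ, hψ, rfl⟩ := exists_trivOn_mul (snc_disj hW) (snc_comm hW) ω
  rw [iq_spec (isGeneralizedCharacter_neg hr) (sg_eta hχ _).gen, Int.cast_eq_zero,
    iq_neg_left hr (sg_eta hχ _).gen, neg_eq_zero, ← hcol,
    iq_sub_left hF (gen_sum_smul S χ (fun i _ => sg_eta hχ i) _) (sg_eta hχ _).gen,
    iq_sum_smul_left S χ (fun i _ => sg_eta hχ i) _ (sg_eta hχ _).gen, hS, Finset.sum_image hinj]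
  rcases eq_or_ne ψ ψ₁ with rfl | hne
  · rw [Finset.sum_eq_single_of_mem φ (mem_dualFin.2 hφ) fun i _ hi => by
      rw [iq_eta_ne hχ fun e => hi (mul_right_cancel e), mul_zero], (sg_eta hχ _).iq_self, mul_one,
      sub_self]
  · rw [Finset.sum_eq_zero fun i hi => by
      rw [iq_eta_ne hχ fun e => hne
        (trivOn_mul_inj (snc_disj hW) (snc_comm hW) (mem_dualFin.1 hi) hφ hψ₁ hψ e).2.symm,
        mul_zero], h2 φ hφ ψ hψ hne, sub_zero]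

end family

end CfsgLib.FT.Rect
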