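import Cfsg.Agent.Lib.FT.FinalKernelChar
import Cfsg.Agent.Lib.FT.RectFamily

/-!
# The last step of the short route to the odd order theorem: one kernel and the cyclic TI family

`η = χ` is the cyclic TI family of `W = W₁ × W₂` and `H` a TI Frobenius kernel of order prime to `|W|`.
`eCoef χ₀ χ ω` is the coefficient of `kTheta` at `η ω`; it is also the value of `η ω` on `H#`.
-/

set_option autoImplicit false
set_option linter.unusedSectionVars false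
set_option linter.style.haveILetI false

open Subgroup

namespace CfsgLib.FT.Final

open CfsgLib.Char CfsgLib.Char.Signed CfsgLib.FT.Rect
open Cfsg (IsClassFunction IsGeneralizedCharacter IrrCharacter classInner indFun IsIrrCharacter
  IsSelfNormalizingCyclic IsCyclicTIFamily)
open scoped ComplexConjugate

universe u

variable {G : Type u} [Group G] [Fintype G] {W₁ W₂ : Subgroup G}

/-- The cyclic TI family commutes with powers prime to `|G|`. -/
theorem eta_pow (hW : IsSelfNormalizingCyclic W₁ W₂) (hodd : Odd (Nat.card ↥(W₁ ⊔ W₂)))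
    {η : (↥(W₁ ⊔ W₂) →* ℂˣ) → (G → ℂ)} (hη : IsCyclicTIFamily W₁ W₂ η)
    (ω : ↥(W₁ ⊔ W₂) →* ℂˣ) {k : ℕ} (hk : Nat.Coprime (Nat.card G) k) :
    (fun g => η ω (g ^ k)) = η (ω ^ k) := by
  classical
  haveI : Fintype ↥(W₁ ⊔ W₂) := Fintype.ofFinite _
  let X : G → ℂ := fun g => η ω (g ^ k)
  have hX : IsIrrCharacter G X ∨ IsIrrCharacter G (-X) := signed_irr_powMap hk (hη.irr_or_neg ω)
  have hback : ∀ (K : Subgroup G) (w : G), w ^ k ∈ K → w ∈ K := fun K w h => by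
    have h3 : (powCoprime hk).symm (w ^ k) = w := (powCoprime hk).symm_apply_apply _
    rw [← h3, powCoprime_symm_apply]
    exact K.zpow_mem h _
  have hXV : ∀ w : ↥(W₁ ⊔ W₂), (w : G) ∉ W₁ → (w : G) ∉ W₂ → X w = ((ω ^ k) w : ℂ) := by
    intro w h1 h2
    show η ω ((w : G) ^ k) = _
    rw [show (w : G) ^ k = ((w ^ k : ↥(W₁ ⊔ W₂)) : G) from rfl,
      hη.eq_on ω (w ^ k) (fun h => h1 (hback _ _ h)) fun h => h2 (hback _ _ h), map_pow,
      ← MonoidHom.pow_apply]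
  have hpt : ∀ a b : ↥(W₁ ⊔ W₂), (a : G) ∈ W₁ → (b : G) ∈ W₂ → a ≠ 1 → b ≠ 1 →
      ((a * b : ↥(W₁ ⊔ W₂)) : G) ∉ W₁ ∧ ((a * b : ↥(W₁ ⊔ W₂)) : G) ∉ W₂ := by
    intro a b ha hb ha1 hb1
    refine ⟨fun h => hb1 ?_, fun h => ha1 ?_⟩
    · have hb' : (b : G) ∈ W₁ := by
        have := mul_mem (inv_mem ha) h
        simpa using this
      have : (b : G) ∈ W₁ ⊓ W₂ := ⟨hb', hb⟩
      rw [snc_disj hW, mem_bot] at this
      exact Subtype.ext this
    · have ha' : (a : G) ∈ W₂ := by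
        have := mul_mem h (inv_mem hb)
        simpa using this
      have : (a : G) ∈ W₁ ⊓ W₂ := ⟨ha, ha'⟩
      rw [snc_disj hW, mem_bot] at this
      exact Subtype.ext this
  have hex : ∀ K : Subgroup G, K ≤ W₁ ⊔ W₂ → K ≠ ⊥ → ∃ a : ↥(W₁ ⊔ W₂), (a : G) ∈ K ∧ a ≠ 1 :=
    fun K hK hne => by
      obtain ⟨⟨x, hx⟩, hx1⟩ := Subgroup.ne_bot_iff_exists_ne_one.1 hne
      exact ⟨⟨x, hK hx⟩, hx, fun e => hx1 (Subtype.ext (congrArg Subtype.val e :))⟩
  obtain ⟨a₀, ha₀, ha₀1⟩ := hex W₁ le_sup_left hW.1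
  obtain ⟨b₀, hb₀, hb₀1⟩ := hex W₂ le_sup_right hW.2.1
  obtain ⟨hab1, hab2⟩ := hpt a₀ b₀ ha₀ hb₀ ha₀1 hb₀1
  -- `X` is a member of the family
  obtain ⟨ω', hne⟩ : ∃ ω', classInner X (η ω') ≠ 0 := by
    by_contra hc
    push Not at hc
    have h0 : X (a₀ * b₀ : ↥(W₁ ⊔ W₂)) = 0 :=
      vanish_of_perp_alpha hW (fun w : ↥(W₁ ⊔ W₂) => X w) (fun φ ψ hφ1 hψ1 hφ hψ => by
        rw [← classInner_indFun_right (W₁ ⊔ W₂) _ _
          (isClassFunction_of_isGeneralized (signed_irr_generalized hX))]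
        show classInner X (indFun (W₁ ⊔ W₂) (fun w => 1 - (φ w : ℂ) - (ψ w : ℂ) + (φ w : ℂ) * (ψ w : ℂ))) = 0
        rw [hη.induced_eq φ ψ hφ1 hψ1 hφ hψ,
          show (fun g => 1 - η φ g - η ψ g + η (φ * ψ) g) = η 1 - η φ - η ψ + η (φ * ψ) from
            funext fun g => by simp [hη.map_one],
          classInner_add_right, classInner_sub_right, classInner_sub_right, hc, hc, hc, hc]
        ring) _ hab1 hab2
    rw [hXV _ hab1 hab2] at h0
    exact Units.ne_zero _ h0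
  obtain ⟨s, hs, hXe, -⟩ := signed_irr_inner_zero hX (hη.irr_or_neg ω') hne
  have hs0 : s ≠ 0 := by rcases hs with rfl | rfl <;> norm_num
  have heq : ∀ w : ↥(W₁ ⊔ W₂), (w : G) ∉ W₁ → (w : G) ∉ W₂ →
      s * (ω' w : ℂ) = ((ω ^ k) w : ℂ) := fun w h1 h2 => by
    rw [← hXV w h1 h2, congrFun hXe, Pi.smul_apply, smul_eq_mul, hη.eq_on ω' w h1 h2]
  have hsq : ∀ w : ↥(W₁ ⊔ W₂), w ≠ 1 → w * w ≠ 1 := fun w hw hw2 => hw (by
    obtain ⟨j, hj⟩ := hodd
    have hp : w ^ Nat.card ↥(W₁ ⊔ W₂) = 1 := pow_card_eq_one'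
    rw [hj, pow_succ, pow_mul, sq, hw2, one_pow, one_mul] at hp
    exact hp)
  set r : ↥(W₁ ⊔ W₂) →* ℂˣ := ω ^ k * ω'⁻¹ with hr
  have hrv : ∀ w : ↥(W₁ ⊔ W₂), (w : G) ∉ W₁ → (w : G) ∉ W₂ → (r w : ℂ) = s := fun w h1 h2 => by
    rw [hr, MonoidHom.mul_apply, MonoidHom.inv_apply, Units.val_mul, Units.val_inv_eq_inv_val,
      ← heq w h1 h2, mul_assoc, mul_inv_cancel₀ (Units.ne_zero _), mul_one]
  have hr1 : ∀ a : ↥(W₁ ⊔ W₂), (a : G) ∈ W₁ → r a = 1 := fun a ha => by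
    rcases eq_or_ne a 1 with rfl | ha1
    · exact map_one r
    obtain ⟨p1, p2⟩ := hpt a b₀ ha hb₀ ha1 hb₀1
    obtain ⟨q1, q2⟩ := hpt (a * a) b₀ (mul_mem ha ha) hb₀ (hsq a ha1) hb₀1
    have e1 := hrv _ p1 p2
    have e2 := hrv _ q1 q2
    rw [mul_assoc, map_mul, Units.val_mul, e1] at e2
    exact Units.ext (by simpa [hs0] using e2)
  have hr2 : ∀ b : ↥(W₁ ⊔ W₂), (b : G) ∈ W₂ → r b = 1 := fun b hb => by
    rcases eq_or_ne b 1 with rfl | hb1
    · exact map_one r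
    obtain ⟨p1, p2⟩ := hpt a₀ b ha₀ hb ha₀1 hb1
    obtain ⟨q1, q2⟩ := hpt a₀ (b * b) ha₀ (mul_mem hb hb) ha₀1 (hsq b hb1)
    have e1 := hrv _ p1 p2
    have e2 := hrv _ q1 q2
    rw [← mul_assoc, map_mul, Units.val_mul, e1] at e2
    exact Units.ext (by simpa [hs0] using e2)
  have hrone : r = 1 := MonoidHom.ext fun w => by
    obtain ⟨a, b, ha, hb, rfl⟩ := exists_decomp (snc_disj hW) (snc_comm hW) w
    rw [map_mul, hr1 a ha, hr2 b hb, one_mul, MonoidHom.one_apply]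
  have hs1 : s = 1 := by
    rw [← hrv _ hab1 hab2, hrone, MonoidHom.one_apply, Units.val_one]
  show X = _
  rw [hXe, hs1, one_smul]
  congr 1
  refine MonoidHom.ext fun w => ?_
  have := DFunLike.congr_fun hrone w
  rw [hr, MonoidHom.mul_apply, MonoidHom.inv_apply, MonoidHom.one_apply, mul_inv_eq_one] at this
  exact this.symm

variable {H : Subgroup G} {η : (↥(W₁ ⊔ W₂) →* ℂˣ) → (G → ℂ)}

/-- The coefficient of `kTheta χ₀` at `η ω`. -/
noncomputable def eCoef (χ₀ : Exc H) (η : (↥(W₁ ⊔ W₂) →* ℂˣ) → (G → ℂ))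
    (ω : ↥(W₁ ⊔ W₂) →* ℂˣ) : ℤ :=
  iq (kTheta χ₀) (η ω)

variable (hK : IsTIKernel H) (D : KData H) (hodd : Odd (Nat.card G))
  (hW : IsSelfNormalizingCyclic W₁ W₂) (hη : IsCyclicTIFamily W₁ W₂ η)
  (hcop : (Nat.card H).Coprime (Nat.card ↥(W₁ ⊔ W₂)))
  {χ₀ : Exc H} (h0 : excFun χ₀ 1 = (excIndex H : ℂ))

include hodd in
theorem odd_W : Odd (Nat.card ↥(W₁ ⊔ W₂)) :=
  hodd.of_dvd_nat (card_subgroup_dvd_card _)

include hK hW hη hcop hodd

/-- The images of the family are orthogonal to the cyclic TI family. -/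
theorem perp_eta (χ : Exc H) (ω : ↥(W₁ ⊔ W₂) →* ℂˣ) : classInner (D.θ χ : G → ℂ) (η ω) = 0 := by
  classical
  obtain ⟨m, hm0, hm⟩ := exc_degree_nat χ
  have hd : excFun (cjExc χ) 1 = (m : ℂ) := by rw [cjExc_val, Cfsg.conjFun, hm, map_natCast]
  have hne : D.θ χ ≠ D.θ (cjExc χ) := fun e => by
    haveI : Fintype ↥(normalizer (H : Set G)) := Fintype.ofFinite _
    exact exc_ne_one χ (irr_eq_one_of_real (hodd.of_dvd_nat (card_subgroup_dvd_card _)) χ.1 fun g =>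
      (congrFun (congrArg excFun (D.inj e)) g).symm)
  set a := (D.θ χ : G → ℂ)
  set b := (D.θ (cjExc χ) : G → ℂ)
  have hag : Gen a := (Sg.of_irr (D.θ χ)).gen
  have hbg : Gen b := (Sg.of_irr (D.θ (cjExc χ))).gen
  have hV : ∀ w : ↥(W₁ ⊔ W₂), (w : G) ∉ W₁ → (w : G) ∉ W₂ → (a - b) w = 0 := by
    intro w h1 h2
    have h := congrFun (D.ind χ (cjExc χ)) w
    simp only [excFun] at hd hm
    rw [kernel_diff_vanish H hK χ (cjExc χ) w fun y hy => ?_, hd, hm] at h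
    · have : (0 : ℂ) = (D.ε : ℂ) * ((m : ℂ) * ((D.θ χ : G → ℂ) w - (D.θ (cjExc χ) : G → ℂ) w)) := by
        rw [h]; simp only [Pi.smul_apply, Pi.sub_apply, smul_eq_mul]; ring
      rcases mul_eq_zero.1 this.symm with h' | h'
      · exact absurd h' (left_ne_zero_of_mul_eq_one (eps_sq D))
      · exact (mul_eq_zero.1 h').resolve_left (Nat.cast_ne_zero.2 hm0.ne')
    · refine orderOf_eq_one_iff.1 (Nat.eq_one_of_dvd_coprimes hcop
        (Subgroup.orderOf_dvd_natCard H hy) ?_)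
      rw [show orderOf (y * (w : G) * y⁻¹) = orderOf (w : G) from (MulAut.conj y).orderOf_eq _]
      exact Subgroup.orderOf_dvd_natCard _ w.2
  have h2 : iq (a - b) (a - b) ≤ 2 := le_of_eq (iq_eq 2 (by
    simp only [classInner_sub_left, classInner_sub_right, a, b, classInner_irr_self,
      classInner_irr_ne hne, classInner_irr_ne hne.symm]
    push_cast
    ring))
  have h := perp_of_norm_two hW (odd_W hodd) hη (isGeneralizedCharacter_sub hag hbg) h2 hV ω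
  rw [classInner_sub_left, sub_eq_zero] at h
  by_contra hne0
  obtain ⟨s, hs, e1, -⟩ := signed_irr_inner_zero (Or.inl (D.θ χ).2) (hη.irr_or_neg ω) hne0
  obtain ⟨t, ht, e2, -⟩ := signed_irr_inner_zero (Or.inl (D.θ (cjExc χ)).2) (hη.irr_or_neg ω)
    (h ▸ hne0)
  have h3 := classInner_irr_ne hne
  rw [show (D.θ χ : G → ℂ) = _ from e1, show (D.θ (cjExc χ) : G → ℂ) = _ from e2, classInner_smul_left,
    classInner_smul_right, hη.orthonormal, if_pos rfl] at h3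
  rcases hs with rfl | rfl <;> rcases ht with rfl | rfl <;> simp at h3

theorem theta_ne_one (χ : Exc H) : (D.θ χ : G → ℂ) ≠ fun _ => 1 := fun e => by
  have h := perp_eta hK D hodd hW hη hcop χ 1
  rw [e, hη.map_one] at h
  exact one_ne_zero ((classInner_irr_self (⟨_, isIrrCharacter_one⟩ : IrrCharacter G)).symm.trans h)

/-- The images vanish on `Ẑ`. -/
theorem theta_zSet (χ : Exc H) (w : ↥(W₁ ⊔ W₂)) (h1 : (w : G) ∉ W₁) (h2 : (w : G) ∉ W₂) :
    (D.θ χ : G → ℂ) w = 0 := by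
  classical
  haveI : Fintype ↥(W₁ ⊔ W₂) := Fintype.ofFinite _
  refine vanish_of_perp_alpha hW (fun w : ↥(W₁ ⊔ W₂) => (D.θ χ : G → ℂ) w) (fun φ ψ hφ1 hψ1 hφ hψ => ?_) w h1 h2
  rw [← classInner_indFun_right (W₁ ⊔ W₂) _ _ (isClassFunction_irr _)]
  show classInner (D.θ χ : G → ℂ) (indFun (W₁ ⊔ W₂)
    (fun w => 1 - (φ w : ℂ) - (ψ w : ℂ) + (φ w : ℂ) * (ψ w : ℂ))) = 0
  rw [hη.induced_eq φ ψ hφ1 hψ1 hφ hψ,
    show (fun g => 1 - η φ g - η ψ g + η (φ * ψ) g) = η 1 - η φ - η ψ + η (φ * ψ) from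
      funext fun g => by simp [hη.map_one],
    classInner_add_right, classInner_sub_right, classInner_sub_right]
  simp only [perp_eta hK D hodd hW hη hcop χ]
  ring

include D h0

/-- On `H#` every `η ω` is the integer `eCoef`. -/
theorem eta_on (ω : ↥(W₁ ⊔ W₂) →* ℂˣ) {k : G} (hk : k ∈ H) (hk1 : k ≠ 1) :
    η ω k = (eCoef χ₀ η ω : ℂ) := by
  classical
  obtain ⟨c, s, hs, hc⟩ := signed_irr_data (hη.irr_or_neg ω)
  obtain ⟨m, hm⟩ := D.other c fun χ e => by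
    have h := perp_eta hK D hodd hW hη hcop χ ω
    rw [hc, e, classInner_smul_right, classInner_irr_self, mul_one] at h
    rcases hs with rfl | rfl <;> simp at h
  obtain ⟨z, hz⟩ : ∃ z : ℤ, s = (z : ℂ) := by
    rcases hs with rfl | rfl
    · exact ⟨1, by simp⟩
    · exact ⟨-1, by simp⟩
  have hval : ∀ k ∈ H, k ≠ 1 → η ω k = ((z * m : ℤ) : ℂ) := fun k hk hk1 => by
    rw [hc, Pi.smul_apply, smul_eq_mul, hm k hk hk1, hz, Int.cast_mul]
  rw [hval k hk hk1, eCoef, iq_eq (z * m) (kTheta_inner_int hK h0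
    (isClassFunction_of_isGeneralized (sg_eta hη ω).gen) hval)]

theorem eCoef_one : eCoef χ₀ η 1 = 1 :=
  iq_eq 1 (by rw [hη.map_one, kTheta_one hK h0, Int.cast_one])

theorem eCoef_pow (ω : ↥(W₁ ⊔ W₂) →* ℂˣ) {k : ℕ} (hk : Nat.Coprime (Nat.card G) k) :
    eCoef χ₀ η (ω ^ k) = eCoef χ₀ η ω := by
  obtain ⟨⟨x, hx⟩, hx1⟩ := Subgroup.ne_bot_iff_exists_ne_one.1 hK.ne_bot
  have hx1' : x ≠ 1 := fun e => hx1 (Subtype.ext e)
  have hxk : x ^ k ≠ 1 := fun e => hx1' (orderOf_eq_one_iff.1 (Nat.eq_one_of_dvd_coprimes hk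
    (orderOf_dvd_natCard x) (orderOf_dvd_of_pow_eq_one e)))
  have h := eta_on hK D hodd hW hη hcop h0 (ω ^ k) hx hx1'
  rw [← eta_pow hW (odd_W hodd) hη ω hk] at h
  beta_reduce at h
  show eCoef χ₀ η (ω ^ k) = _
  rw [eta_on hK D hodd hW hη hcop h0 ω (pow_mem hx k) hxk] at h
  exact_mod_cast h.symm

/-- All non-trivial characters trivial on a factor of prime index have the same coefficient. -/
theorem eCoef_const {K : Subgroup G} {r : ℕ} (hr : r.Prime)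
    (hcard : Nat.card (trivOn (W₁ ⊔ W₂) K) = r) {φ φ' : ↥(W₁ ⊔ W₂) →* ℂˣ}
    (hφ : φ ∈ trivOn (W₁ ⊔ W₂) K) (hφ1 : φ ≠ 1) (hφ' : φ' ∈ trivOn (W₁ ⊔ W₂) K) (hφ'1 : φ' ≠ 1) :
    eCoef χ₀ η φ' = eCoef χ₀ η φ := by
  haveI := Fact.mk hr
  haveI : Finite (trivOn (W₁ ⊔ W₂) K) := Nat.finite_of_card_ne_zero (by rw [hcard]; exact hr.ne_zero)
  obtain ⟨i, hi⟩ := mem_powers_iff_mem_zpowers.2
    (mem_zpowers_of_prime_card hcard (g := (⟨φ, hφ⟩ : trivOn (W₁ ⊔ W₂) K)) (g' := ⟨φ', hφ'⟩)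
      fun e => hφ1 (congrArg Subtype.val e))
  have hi' : φ ^ i = φ' := congrArg Subtype.val hi
  have hord : orderOf φ = r := orderOf_eq_prime (by
    have h1 := congrArg Subtype.val (pow_card_eq_one' (x := (⟨φ, hφ⟩ : trivOn (W₁ ⊔ W₂) K)))
    rw [hcard] at h1
    exact h1) hφ1
  have hir : i.Coprime r := (hr.coprime_iff_not_dvd.2 fun hd => hφ'1 (by
    exact hi'.symm.trans (orderOf_dvd_iff_pow_eq_one.1 (hord.symm ▸ hd)))).symm
  haveI : NeZero (Nat.card G) := ⟨Nat.card_pos.ne'⟩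
  have hrG : r * 1 ∣ Nat.card G := by
    rw [mul_one, ← hord]
    refine (orderOf_dvd_of_pow_eq_one ?_).trans (card_subgroup_dvd_card (W₁ ⊔ W₂))
    refine MonoidHom.ext fun w => ?_
    rw [MonoidHom.pow_apply, ← map_pow, pow_card_eq_one', map_one]
    rfl
  obtain ⟨k, hk, hki, -⟩ := exists_coprime_lift hrG (Nat.coprime_one_right r) hir
  have hik : φ ^ i = φ ^ k := by
    have e1 := pow_mod_orderOf φ i
    have e2 := pow_mod_orderOf φ k
    rw [hord] at e1 e2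
    exact e1.symm.trans ((congrArg (φ ^ ·) hki.symm).trans e2)
  rw [← hi']
  exact (congrArg (eCoef χ₀ η) hik).trans (eCoef_pow hK D hodd hW hη hcop h0 φ hk.symm)

omit D in
/-- The rectangle rule. -/
theorem eCoef_mul {φ ψ : ↥(W₁ ⊔ W₂) →* ℂˣ} (hφ : φ ∈ trivOn _ W₂) (hψ : ψ ∈ trivOn _ W₁) :
    eCoef χ₀ η (φ * ψ) = eCoef χ₀ η φ + eCoef χ₀ η ψ - 1 := by
  have h := iq_rule hW hη (kTheta_gen χ₀) (fun w h1 h2 => by
    by_contra hne
    obtain ⟨hw1, hwH⟩ := kTheta_support hK χ₀ h0 hne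
    exact hw1 (orderOf_eq_one_iff.1 (Nat.eq_one_of_dvd_coprimes hcop
      (orderOf_dvd_of_pow_eq_one hwH) (Subgroup.orderOf_dvd_natCard _ w.2)))) hφ hψ
  rw [show iq (kTheta χ₀) (η 1) = 1 from
    iq_eq 1 (by rw [hη.map_one, kTheta_one hK h0, Int.cast_one])] at h
  exact h

/-- A function without values on `H#` is seen by the family in proportion to the degrees. -/
theorem iq_prop {f : G → ℂ} (hf : Gen f) (hfH : ∀ k ∈ H, k ≠ 1 → f k = 0) (χ : Exc H) :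
    (excIndex H : ℂ) * (iq (D.θ χ : G → ℂ) f : ℂ) = excFun χ 1 * (iq (D.θ χ₀ : G → ℂ) f : ℂ) := by
  rw [← iq_spec (Sg.of_irr (D.θ χ)).gen hf, ← iq_spec (Sg.of_irr (D.θ χ₀)).gen hf, ← h0]
  exact inner_prop hK D (isClassFunction_of_isGeneralized hf) hfH χ χ₀

/-- The cost of a coefficient at the family. -/
theorem cost {f : G → ℂ} (hf : Gen f) (hfH : ∀ k ∈ H, k ≠ 1 → f k = 0) :
    (iq (D.θ χ₀ : G → ℂ) f) ^ 2 * (Nat.card H - 1 : ℕ) + (excIndex H : ℤ) * (iq f (fun _ => 1)) ^ 2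
      ≤ (excIndex H : ℤ) * iq f f := by
  classical
  haveI : Finite (Exc H) := Finite.of_injective D.θ D.inj
  haveI := Fintype.ofFinite (Exc H)
  let one : IrrCharacter G := ⟨_, isIrrCharacter_one⟩
  have hno : ∀ χ, D.θ χ ≠ one := fun χ e =>
    theta_ne_one hK D hodd hW hη hcop χ (congrArg Subtype.val e)
  have hb := sum_sq_le_norm (insert one (Finset.univ.image D.θ)) (fun c : IrrCharacter G => (c : G → ℂ))
    (fun c _ => Sg.of_irr c) (fun a _ b _ hab => iq_eq 0 (by rw [classInner_irr_ne hab, Int.cast_zero]))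
    hf
  rw [Finset.sum_insert (by simpa using hno), Finset.sum_image fun a _ b _ e => D.inj e] at hb
  set w := iq (D.θ χ₀ : G → ℂ) f
  have hs : ((excIndex H : ℤ) ^ 2 * ∑ χ : Exc H, iq f (D.θ χ : G → ℂ) ^ 2 : ℤ) =
      ((excIndex H : ℤ) * (w ^ 2 * (Nat.card H - 1 : ℕ)) : ℤ) := by
    apply Int.cast_injective (α := ℂ)
    push_cast [Nat.cast_sub Nat.card_pos]
    rw [Finset.mul_sum, show (excIndex H : ℂ) * ((w : ℂ) ^ 2 * ((Nat.card H : ℂ) - 1)) =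
      ((excIndex H : ℂ) * ((Nat.card H : ℂ) - 1)) * (w : ℂ) ^ 2 by ring, ← sum_degree_sq_exc hK,
      Finset.sum_mul]
    refine Finset.sum_congr rfl fun χ _ => ?_
    rw [iq_comm hf (Sg.of_irr (D.θ χ)).gen, ← mul_pow,
      iq_prop hK D hodd hW hη hcop h0 hf hfH χ, mul_pow]
  have he : (0 : ℤ) < excIndex H := by exact_mod_cast excIndex_pos
  have h2 := mul_le_mul_of_nonneg_left hb (sq_nonneg (excIndex H : ℤ))
  rw [mul_add, hs] at h2
  change (excIndex H : ℤ) ^ 2 * iq f (fun _ => 1) ^ 2 + _ ≤ _ at h2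
  refine le_of_mul_le_mul_left ?_ he
  linarith

/-- The norm of `kTheta` pays for its coefficients at the cyclic TI family. -/
theorem eCoef_norm [DecidableEq (↥(W₁ ⊔ W₂) →* ℂˣ)] (S : Finset (↥(W₁ ⊔ W₂) →* ℂˣ)) :
    ∑ ω ∈ S, eCoef χ₀ η ω ^ 2 + 1 ≤ (excIndex H : ℤ) + 1 := by
  classical
  obtain ⟨χ, hχ⟩ : ∃ χ : Exc H, iq (kTheta χ₀) (D.θ χ : G → ℂ) ≠ 0 := by
    by_contra hc
    push Not at hc
    have h := theta_diff hK D h0 hodd
    rw [iq_spec (Sg.of_irr _).gen (kTheta_gen χ₀), iq_spec (Sg.of_irr _).gen (kTheta_gen χ₀),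
      iq_comm (Sg.of_irr _).gen (kTheta_gen χ₀), iq_comm (Sg.of_irr (D.θ (cjExc χ₀))).gen (kTheta_gen χ₀),
      hc, hc] at h
    rcases D.sign with e | e <;> simp [e] at h
  let u : Option (↥(W₁ ⊔ W₂) →* ℂˣ) → G → ℂ := fun o => o.elim (D.θ χ : G → ℂ) η
  have hperp : ∀ ω, iq (η ω) (D.θ χ : G → ℂ) = 0 := fun ω => by
    rw [iq_comm (sg_eta hη ω).gen (Sg.of_irr _).gen]
    exact iq_eq 0 (by rw [perp_eta hK D hodd hW hη hcop χ ω, Int.cast_zero])
  have hb := sum_sq_le_norm (insert none (S.image some)) u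
    (fun i _ => by cases i with
      | none => exact Sg.of_irr _
      | some ω => exact sg_eta hη ω)
    (fun i _ j _ hij => by
      cases i <;> cases j
      · exact absurd rfl hij
      · exact (iq_comm (Sg.of_irr _).gen (sg_eta hη _).gen).trans (hperp _)
      · exact hperp _
      · exact iq_eta_ne hη fun e => hij (congrArg some e))
    (kTheta_gen χ₀)
  rw [Finset.sum_insert (by simp), Finset.sum_image fun a _ b _ e => Option.some.inj e,
    show iq (kTheta χ₀) (kTheta χ₀) = (excIndex H : ℤ) + 1 from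
      iq_eq _ (by rw [kTheta_norm hK h0]; push_cast; rfl)] at hb
  have h1 : (1 : ℤ) ≤ iq (kTheta χ₀) (D.θ χ : G → ℂ) ^ 2 := by
    have : 0 < iq (kTheta χ₀) (D.θ χ : G → ℂ) ^ 2 := by positivity
    omega
  simp only [u, Option.elim] at hb
  simp only [eCoef]
  linarith

end CfsgLib.FT.Final
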