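import Cfsg.Agent.S1472
import Cfsg.Agent.Lib.Rep.AbelianSelfDual
import Mathlib.Algebra.Module.ZMod

/-!
# The last step of the short route to the odd order theorem: the field

A full `U` makes `P` a field, and then Appendix C of Bender–Glauberman applies.
-/

set_option autoImplicit false

open Subgroup

namespace CfsgLib.FT.Final

universe u

variable {G : Type u} [Group G] [Finite G]

/-- A commutative fixed-point-free group of order `(p^q - 1)/(p - 1)` on an elementary abelian `P` of order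
`p^q` turns `P` into a field on which it acts by multiplication, any `w₀ ≠ 1` being the one. -/
theorem exists_field {p q u : ℕ} [Fact p.Prime] (hq : 1 ≤ q) {P U : Subgroup G}
    (hPc : ∀ a ∈ P, ∀ b ∈ P, a * b = b * a) (hPp : ∀ x ∈ P, x ^ p = 1) (hPcard : Nat.card P = p ^ q)
    (hUc : ∀ a ∈ U, ∀ b ∈ U, a * b = b * a) (hUP : U ≤ normalizer (P : Set G))
    (hfpf : ∀ a ∈ U, a ≠ 1 → P ⊓ centralizer ({a} : Set G) = ⊥)
    (hUcard : Nat.card U = u) (hu : u * (p - 1) + 1 = p ^ q) {w₀ : G} (hw₀ : w₀ ∈ P) (hw₀1 : w₀ ≠ 1) :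
    ∃ (F : Type u) (_ : Field F) (_ : Fintype F) (f ψ : G → F), Fintype.card F = p ^ q ∧
      Set.BijOn f (P : Set G) Set.univ ∧ (∀ x ∈ P, ∀ z ∈ P, f (x * z) = f x + f z) ∧
      (∀ a ∈ U, ψ a ≠ 0 ∧ ∀ x ∈ P, f (a * x * a⁻¹) = ψ a * f x) ∧
      (∀ a ∈ U, ∀ b ∈ U, ψ (a * b) = ψ a * ψ b) ∧ Set.InjOn ψ (U : Set G) ∧ f w₀ = 1 := by
  classical
  have hp := (Fact.out : p.Prime)
  letI : CommGroup P :=
    { (inferInstance : Group P) with mul_comm := fun a b => Subtype.ext (hPc a a.2 b b.2) }
  letI : CommGroup U :=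
    { (inferInstance : Group U) with mul_comm := fun a b => Subtype.ext (hUc a a.2 b b.2) }
  haveI : Module (ZMod p) (Additive P) := AddCommGroup.zmodModule fun x => by
    show Additive.ofMul (Additive.toMul x ^ p) = Additive.ofMul 1
    exact congrArg Additive.ofMul (Subtype.ext (hPp _ (Additive.toMul x).2))
  haveI : Finite (Additive P) := inferInstanceAs (Finite P)
  haveI : FiniteDimensional (ZMod p) (Additive P) := Module.Finite.of_finite
  have hmem : ∀ a : U, ∀ x : G, x ∈ P → (a : G) * x * (a : G)⁻¹ ∈ P := fun a x hx =>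
    (mem_normalizer_iff.1 (hUP a.2) x).1 hx
  let act : U → (Additive P →+ Additive P) := fun a =>
    { toFun := fun x => Additive.ofMul ⟨(a : G) * (Additive.toMul x : P) * (a : G)⁻¹, hmem a _ (Additive.toMul x).2⟩
      map_zero' := congrArg Additive.ofMul (Subtype.ext (by simp))
      map_add' := fun x z => congrArg Additive.ofMul (Subtype.ext (by simp [mul_assoc])) }
  let ρ : U →* Module.End (ZMod p) (Additive P) :=
    { toFun := fun a => (act a).toZModLinearMap p
      map_one' := LinearMap.ext fun x => Additive.toMul.injective (Subtype.ext (by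
        show ((1 : U) : G) * (Additive.toMul x : P) * ((1 : U) : G)⁻¹ = (Additive.toMul x : P)
        simp))
      map_mul' := fun a b => LinearMap.ext fun x => Additive.toMul.injective (Subtype.ext (by
        show ((a * b : U) : G) * (Additive.toMul x : P) * ((a * b : U) : G)⁻¹
          = (a : G) * ((b : G) * (Additive.toMul x : P) * (b : G)⁻¹) * (a : G)⁻¹
        simp [mul_assoc])) }
  have hρ : ∀ (a : U) (x : P), ((Additive.toMul (ρ a (Additive.ofMul x)) : P) : G) = (a : G) * x * (a : G)⁻¹ :=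
    fun a x => rfl
  have hfix : ∀ (a : U) (x : P), ρ a (Additive.ofMul x) = Additive.ofMul x → a = 1 ∨ x = 1 := by
    intro a x h
    by_cases ha : a = 1
    · exact Or.inl ha
    refine Or.inr (Subtype.ext (mem_bot.1 ?_))
    rw [← hfpf a a.2 fun e => ha (Subtype.ext e)]
    refine mem_inf.2 ⟨x.2, mem_centralizer_singleton_iff.2 ?_⟩
    have h' : (a : G) * x * (a : G)⁻¹ = x := (hρ a x).symm.trans (congrArg (fun z : Additive P => ((Additive.toMul z : P) : G)) h)
    exact (mul_inv_eq_iff_eq_mul.1 h').symm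
  have hfaith : Function.Injective ρ := by
    intro a b h
    have hx : ∀ x : P, ρ (b⁻¹ * a) (Additive.ofMul x) = Additive.ofMul x := fun x => by
      rw [map_mul, h, ← map_mul, inv_mul_cancel, map_one]; rfl
    rcases hfix (b⁻¹ * a) ⟨w₀, hw₀⟩ (hx _) with h' | h'
    · exact (inv_mul_eq_one.1 h').symm
    · exact absurd (congrArg Subtype.val h') hw₀1
  have hp2 := hp.two_le
  have hu0 : 1 ≤ u := by
    rcases Nat.eq_zero_or_pos u with h | h
    · subst h
      have := Nat.one_lt_pow (by omega : q ≠ 0) hp.one_lt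
      omega
    · exact h
  have hV : Nontrivial (Additive P) :=
    ⟨Additive.ofMul ⟨w₀, hw₀⟩, 0, fun h => hw₀1 (congrArg (fun z : Additive P => ((Additive.toMul z : P) : G)) h)⟩
  have hcardV : Nat.card (Additive P) = p ^ q := hPcard
  have hirr : ∀ S : Submodule (ZMod p) (Additive P), (∀ a : U, ∀ x ∈ S, ρ a x ∈ S) → S = ⊥ ∨ S = ⊤ := by
    intro S hS
    by_contra hne
    rw [not_or] at hne
    obtain ⟨x, hx, hx0⟩ := (Submodule.ne_bot_iff S).1 hne.1
    -- the orbit of a non-zero vector is a copy of `U` inside `S ∖ 0`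
    let o : U → {z : S // z ≠ 0} := fun a => ⟨⟨ρ a x, hS a x hx⟩, fun h => hx0 (by
      have h' : ρ a x = 0 := congrArg Subtype.val h
      have : ρ a⁻¹ (ρ a x) = x := by
        rw [← Module.End.mul_apply, ← map_mul, inv_mul_cancel, map_one]; rfl
      rw [h', map_zero] at this
      exact this.symm)⟩
    have ho : Function.Injective o := by
      intro a b h
      have h' : ρ a x = ρ b x := congrArg (fun z : {z : S // z ≠ 0} => ((z : S) : Additive P)) h
      have hx' : ρ (b⁻¹ * a) x = x := by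
        rw [map_mul, Module.End.mul_apply, h', ← Module.End.mul_apply, ← map_mul, inv_mul_cancel, map_one]; rfl
      rcases hfix (b⁻¹ * a) (Additive.toMul x) hx' with h'' | h''
      · exact (inv_mul_eq_one.1 h'').symm
      · exact absurd (congrArg Additive.ofMul h'') hx0
    have hle := Nat.card_le_card_of_injective o ho
    haveI := Fintype.ofFinite S
    rw [hUcard, Nat.card_eq_fintype_card, Fintype.card_subtype_compl, Fintype.card_subtype_eq,
      Module.card_eq_pow_finrank (K := ZMod p) (V := S), ZMod.card] at hle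
    have hd : Module.finrank (ZMod p) S < q := by
      have h1 := Submodule.finrank_lt hne.2
      have h2 : Module.finrank (ZMod p) (Additive P) = q := by
        haveI := Fintype.ofFinite (Additive P)
        have h3 := Module.card_eq_pow_finrank (K := ZMod p) (V := Additive P)
        rw [ZMod.card, ← Nat.card_eq_fintype_card, hcardV] at h3
        exact Nat.pow_right_injective hp2 h3.symm
      omega
    have h4 : p ^ Module.finrank (ZMod p) S ≤ p ^ (q - 1) := Nat.pow_le_pow_right hp.pos (by omega)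
    have h5 : p ^ q = p * p ^ (q - 1) := by rw [← pow_succ', Nat.sub_add_cancel hq]
    obtain ⟨d, hd'⟩ : ∃ d, p = d + 2 := ⟨p - 2, by omega⟩
    have h6 : u + 1 ≤ p ^ (q - 1) := by
      have := Nat.one_le_pow (Module.finrank (ZMod p) S) p hp.pos
      omega
    have h7 : p - 1 = d + 1 := by omega
    rw [h7, h5, hd'] at hu
    rw [hd'] at h6
    nlinarith
  obtain ⟨E, hE, e, L, -, heinj, hL, -⟩ := AbelianSelfDual.exists_field_structure ρ hfaith hirr hV
  letI : Field E := hE.toField
  haveI : Finite E := Finite.of_equiv _ L.symm.toEquiv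
  letI := Fintype.ofFinite E
  set c : E := L.symm (Additive.ofMul ⟨w₀, hw₀⟩) with hc
  have hc0 : c ≠ 0 := fun h => hw₀1 (by
    have := L.symm.injective (h.trans (map_zero L.symm).symm)
    exact congrArg (fun z : Additive P => ((Additive.toMul z : P) : G)) this)
  refine ⟨E, inferInstance, inferInstance,
    fun x => if hx : x ∈ P then L.symm (Additive.ofMul ⟨x, hx⟩) * c⁻¹ else 0,
    fun a => if ha : a ∈ U then e ⟨a, ha⟩ else 0, ?_, ⟨fun _ _ => Set.mem_univ _, ?_, ?_⟩, ?_, ?_, ?_, ?_, ?_⟩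
  · rw [← Nat.card_eq_fintype_card, Nat.card_congr L.toEquiv, hcardV]
  · intro x hx z hz h
    simp only [dif_pos (show x ∈ P from hx), dif_pos (show z ∈ P from hz)] at h
    exact congrArg (fun z : Additive P => ((Additive.toMul z : P) : G)) (L.symm.injective (mul_right_cancel₀ (inv_ne_zero hc0) h))
  · intro z _
    refine ⟨(Additive.toMul (L (z * c)) : P), (Additive.toMul (L (z * c))).2, ?_⟩
    simp only [dif_pos (Additive.toMul (L (z * c))).2, Subtype.coe_eta, ofMul_toMul, LinearEquiv.symm_apply_apply]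
    rw [mul_assoc, mul_inv_cancel₀ hc0, mul_one]
  · intro x hx z hz
    simp only [dif_pos hx, dif_pos hz, dif_pos (P.mul_mem hx hz), ← add_mul, ← map_add]
    rfl
  · intro a ha
    simp only [dif_pos ha]
    refine ⟨fun h => ?_, fun x hx => ?_⟩
    · have h1 := congrArg (fun t => t * e ⟨a, ha⟩⁻¹) h
      simp only [zero_mul] at h1
      rw [← map_mul, mul_inv_cancel, map_one] at h1
      exact one_ne_zero h1
    · have hax : a * x * a⁻¹ ∈ P := hmem ⟨a, ha⟩ x hx
      simp only [dif_pos hx, dif_pos hax]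
      rw [← mul_assoc]
      congr 1
      apply L.injective
      rw [hL, L.apply_symm_apply, L.apply_symm_apply]
      rfl
  · intro a ha b hb
    simp only [dif_pos ha, dif_pos hb, dif_pos (U.mul_mem ha hb), ← map_mul]
    rfl
  · intro a ha b hb h
    simp only [dif_pos (show a ∈ U from ha), dif_pos (show b ∈ U from hb)] at h
    exact congrArg Subtype.val (heinj h)
  · simp only [dif_pos hw₀, ← hc]
    exact mul_inv_cancel₀ hc0

/-- Appendix C: with `U` full and a conjugate of `W` by an element of `Q` normalising `U`, `p ≤ q`. -/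
theorem le_of_full {p q u : ℕ} (hp : p.Prime) (hq : q.Prime) (hnd : ¬ q ∣ p - 1) {P U Q W : Subgroup G}
    (hPc : ∀ a ∈ P, ∀ b ∈ P, a * b = b * a) (hPp : ∀ x ∈ P, x ^ p = 1) (hPcard : Nat.card P = p ^ q)
    (hUc : ∀ a ∈ U, ∀ b ∈ U, a * b = b * a) (hUP : U ≤ normalizer (P : Set G))
    (hfpf : ∀ a ∈ U, a ≠ 1 → P ⊓ centralizer ({a} : Set G) = ⊥)
    (hUcard : Nat.card U = u) (hu : u * (p - 1) + 1 = p ^ q)
    (hW : W ≤ P) (hWc : Nat.card W = p) (hQ : IsMulCommutative Q) (hQp : (Nat.card Q).Coprime p)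
    (hWQ : W ≤ normalizer (Q : Set G)) {y : G} (hy : y ∈ Q)
    (hyU : ∀ x ∈ W, y * x * y⁻¹ ∈ normalizer (U : Set G)) : p ≤ q := by
  classical
  haveI := Fact.mk hp
  haveI := Fact.mk hq
  obtain ⟨⟨w₀, hw₀⟩, hw₀1⟩ := (ne_bot_iff_exists_ne_one.1 (fun h => by
    rw [h, card_bot] at hWc; exact hp.one_lt.ne hWc) : ∃ a : W, a ≠ 1)
  have hw₀1' : w₀ ≠ 1 := fun h => hw₀1 (Subtype.ext h)
  obtain ⟨F, _, _, f, ψ, hcard, hbij, hadd, hψ, hψmul, hψinj, hf1⟩ :=
    exists_field hq.pos hPc hPp hPcard hUc hUP hfpf hUcard hu (hW hw₀) hw₀1'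
  haveI : CharP F p := Cfsg.Agent.Lib.CFun.AppendixC.charP_field hcard
  have hf0 : f 1 = 0 := by
    have := hadd 1 P.one_mem 1 P.one_mem
    rw [mul_one] at this
    exact left_eq_add.1 this
  have hpow : ∀ n : ℕ, f (w₀ ^ n) = n := by
    intro n
    induction n with
    | zero => simpa using hf0
    | succ n ih => rw [pow_succ, hadd _ (pow_mem (hW hw₀) n) _ (hW hw₀), ih, hf1, Nat.cast_succ]
  have hfix : ∀ x ∈ P, f x ^ p = f x → x ∈ W := by
    intro x hx h
    have h' := (Subfield.mem_bot_iff_pow_eq_self F p).2 h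
    rw [← ZMod.fieldRange_castHom_eq_bot p] at h'
    obtain ⟨c, hc⟩ := h'
    rw [← ZMod.natCast_zmod_val c, map_natCast, ← hpow c.val] at hc
    rw [hbij.injOn hx (pow_mem (hW hw₀) c.val) hc.symm]
    exact pow_mem hw₀ _
  have hp1 : 1 ≤ p := hp.pos
  have hn : (p ^ q - 1) / (p - 1) = u := by
    rw [show p ^ q - 1 = u * (p - 1) by omega]
    exact Nat.mul_div_cancel _ (by have := hp.two_le; omega)
  refine Cfsg.Agent.S1472.result p q ?_ F hcard P U Q f ψ hbij hadd hUP hψ hψmul hψinj ?_ hQ hQp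
    (fun x hx h => hWQ (hfix x hx h)) y hy fun x hx h => hyU x (hfix x hx h)
  · rw [hn]
    refine Nat.coprime_of_dvd fun r hr hru hrp => hnd ?_
    haveI := Fact.mk hr
    -- `u ≡ q` modulo `p - 1`
    have h1 : ((p : ℕ) : ZMod r) = 1 := by
      have := (ZMod.natCast_eq_zero_iff (p - 1) r).2 hrp
      rw [Nat.cast_sub hp1, Nat.cast_one, sub_eq_zero] at this
      exact this
    have hsum : u = ∑ i ∈ Finset.range q, p ^ i := by
      rw [← hn]; exact (Nat.geomSum_eq hp.two_le q).symm
    have h2 := (ZMod.natCast_eq_zero_iff u r).2 hru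
    rw [hsum] at h2
    push_cast at h2
    simp only [h1, one_pow, Finset.sum_const, Finset.card_range, nsmul_eq_mul, mul_one] at h2
    have h3 : r = q := (Nat.prime_dvd_prime_iff_eq hr hq).1 ((ZMod.natCast_eq_zero_iff q r).1 h2)
    exact h3 ▸ hrp
  · rw [hUcard]; omega

end CfsgLib.FT.Final
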