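import Cfsg.Agent.Lib.FT.FinalArith
import Cfsg.Agent.Lib.FT.FinalField
import Cfsg.Agent.Lib.FT.FinalNeighbour
import Cfsg.Agent.Lib.PGroup.Kulakoff

/-!
# The last step of the short route to the odd order theorem: assembly

`false_of_data`: given the integers of `FinalData` for the Frobenius maximals not conjugate to `S`, `T`
and the parity between two of them, both partners cannot be of type II with `u`, `v` full.
-/

set_option autoImplicit false
set_option linter.style.haveILetI false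
set_option linter.unusedSectionVars false

open Subgroup
open CfsgLib.Coprime (conjBy conjBy_conjBy conjBy_one conj_mem_conjBy card_conjBy)

namespace CfsgLib.FT.Final

open CfsgLib.CFun CfsgLib.CFun.TauTwo

universe u

variable {G : Type u} [Group G] [Finite G]

/-- A Frobenius maximal subgroup with complement `E`, not conjugate to `S` or `T`. -/
structure Kernel (S T L E : Subgroup G) : Prop where
  coatom : IsCoatom L
  kappaEmpty : Cfsg.kappa L = ∅
  compl : Cfsg.IsComplIn E (Cfsg.sigmaCore L) L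
  frob : ∀ h ∈ Cfsg.sigmaCore L, h ≠ 1 → L ⊓ centralizer ({h} : Set G) ≤ Cfsg.sigmaCore L
  notConjS : NotConj S L
  notConjT : NotConj T L

theorem Neighbour.kernel {S T W₁ W₂ U L E : Subgroup G} {p q : ℕ}
    (h : Neighbour S T W₁ W₂ U L E p q) : Kernel S T L E :=
  ⟨h.coatom, h.kappaEmpty, h.compl, h.frob, h.notConjS, h.notConjT⟩

theorem Kernel.swap {S T L E : Subgroup G} (h : Kernel S T L E) : Kernel T S L E :=
  ⟨h.coatom, h.kappaEmpty, h.compl, h.frob, h.notConjT, h.notConjS⟩

/-- The case of two partners of type II with `u`, `v` full does not occur. -/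
theorem false_of_data (hG : Cfsg.IsMinSimpleOddOrder G) (hNB : NoBad G)
    {S T W₁ W₂ U V : Subgroup G} {p q u v : ℕ} (hP : Pair S T W₁ W₂ U V) (O : Orders p q u v)
    (hW₁ : Nat.card W₁ = q) (hW₂ : Nat.card W₂ = p) (hUc : Nat.card U = u) (hVc : Nat.card V = v)
    (hPe : Cfsg.IsElementaryAbelian p (Cfsg.sigmaCore S))
    (hPcard : Nat.card (Cfsg.sigmaCore S) = p ^ q)
    (hQe : Cfsg.IsElementaryAbelian q (Cfsg.sigmaCore T))
    (hdata : ∀ L E : Subgroup G, Kernel S T L E → ∃ a b zS zT : ℤ,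
      FinalData p q u v (Nat.card (Cfsg.sigmaCore L)) (Nat.card E) a b zS zT)
    (hpar : ∀ L E L' E' : Subgroup G, Kernel S T L E → Kernel S T L' E' → NotConj L L' →
      ∃ w w' : ℤ, Odd (w + w') ∧
        w ^ 2 * (Nat.card (Cfsg.sigmaCore L') - 1 : ℕ) ≤ (Nat.card E * Nat.card E' : ℕ) ∧
        w' ^ 2 * (Nat.card (Cfsg.sigmaCore L) - 1 : ℕ) ≤ (Nat.card E * Nat.card E' : ℕ)) :
    False := by
  have h5 := O.p_ge
  have h3 := O.q_ge
  have hlt := O.lt
  haveI := Fact.mk O.hp
  haveI := Fact.mk O.hq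
  have hu0 : 1 < u := by have := O.u_gt; have := Nat.mul_pos O.hp.pos O.hq.pos; omega
  have hU : U ≠ ⊥ := fun e => by rw [e, card_bot] at hUc; omega
  have hne : p ≠ q := by omega
  have hvcop : (Nat.card V).Coprime (q - 1) := by
    refine Nat.coprime_of_dvd fun r hr h1 h2 => ?_
    haveI := Fact.mk hr
    rw [hVc, geom_sum_eq (by omega) O.hv, ← ZMod.natCast_eq_zero_iff] at h1
    have h1' : ((q : ℕ) : ZMod r) = 1 := by
      have := (ZMod.natCast_eq_zero_iff (q - 1) r).2 h2
      rwa [Nat.cast_sub (by omega), Nat.cast_one, sub_eq_zero] at this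
    push_cast at h1
    simp only [h1', one_pow, Finset.sum_const, Finset.card_range, nsmul_eq_mul, mul_one] at h1
    have h4 := (Nat.prime_dvd_prime_iff_eq hr O.hp).1 ((ZMod.natCast_eq_zero_iff p r).1 h1)
    have := Nat.le_of_dvd (by omega) h2
    omega
  have hucop : (Nat.card U).Coprime (p - 1) := by
    refine Nat.coprime_of_dvd fun r hr h1 h2 => O.not_dvd ?_
    haveI := Fact.mk hr
    rw [hUc, geom_sum_eq (by omega) O.hu, ← ZMod.natCast_eq_zero_iff] at h1
    have h1' : ((p : ℕ) : ZMod r) = 1 := by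
      have := (ZMod.natCast_eq_zero_iff (p - 1) r).2 h2
      rwa [Nat.cast_sub (by omega), Nat.cast_one, sub_eq_zero] at this
    push_cast at h1
    simp only [h1', one_pow, Finset.sum_const, Finset.card_range, nsmul_eq_mul, mul_one] at h1
    exact (Nat.prime_dvd_prime_iff_eq hr O.hq).1 ((ZMod.natCast_eq_zero_iff q r).1 h1) ▸ h2
  obtain ⟨L, E, hN⟩ := exists_neighbour hG hNB hP hU hne hQe hW₁ hW₂ hvcop
  obtain ⟨L', E', hN'⟩ := exists_neighbour hG hNB (hP.swap hU) hP.neV hne.symm hPe hW₂ hW₁ hucop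
  set l := Nat.card (Cfsg.sigmaCore L) with hl
  obtain ⟨a, b, zS, zT, D⟩ := hdata L E hN.kernel
  have hdu : u ∣ l := hUc ▸ card_dvd_of_le hN.core
  have hne' : l = u → Nat.card E ≠ q := fun h => hN.ne (h.trans hUc.symm)
  have heq : Nat.card E = p * q := D.e_eq O hdu hN.cardE hne'
  -- in both cases the complement normalises `U`
  have hchar : ∀ x ∈ E, ∀ z ∈ U, x * z * x⁻¹ ∈ U := by
    intro x hx z hz
    have hxN := sigmaCore_normal hG L (hN.compl.1 hx)
    have hxz : x * z * x⁻¹ ∈ Cfsg.sigmaCore L := (mem_normalizer_iff.1 hxN z).1 (hN.core hz)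
    by_cases hconj : ∃ g : G, conjBy g L' = L
    · obtain ⟨g, hg⟩ := hconj
      have hll : Nat.card (Cfsg.sigmaCore L) = Nat.card (Cfsg.sigmaCore L') := by
        refine le_antisymm ?_ ?_
        · rw [← card_conjBy g⁻¹ (Cfsg.sigmaCore L)]
          refine Nat.le_of_dvd Nat.card_pos (card_dvd_of_le ?_)
          rintro _ ⟨c, hc, rfl⟩
          have := Tilde.conj_mem_sigmaCore hG hN.coatom g⁻¹ hc
          rwa [← hg, conjBy_conjBy, inv_mul_cancel, conjBy_one] at this
        · rw [← card_conjBy g (Cfsg.sigmaCore L')]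
          refine Nat.le_of_dvd Nat.card_pos (card_dvd_of_le ?_)
          rintro _ ⟨c, hc, rfl⟩
          have := Tilde.conj_mem_sigmaCore hG hN'.coatom g hc
          rwa [hg] at this
      have hdv : v ∣ l := by rw [hl, hll, ← hVc]; exact card_dvd_of_le hN'.core
      have hlv := eq_v_of_common O D hdu hdv hN.cardE hne'
      have hVL : V = Cfsg.sigmaCore L' :=
        eq_of_le_of_card_ge hN'.core (by rw [← hll, hlv, hVc])
      -- `V` is cyclic, so the kernel is
      haveI := Decomp.isMulCommutative hG hP.coatomT hP.decompT hP.neW₂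
      have hfpf : CfsgLib.Coprime.IsFpfOn V (Cfsg.sigmaCore T) := fun c hc hc1 =>
        regular_U hG hNB hP.coatomT hP.decompT hc hc1
      haveI := hfpf.isCyclic (hP.decompT.compl.1.trans (sigmaCore_normal hG T))
        (sigmaCore_ne_bot hG hP.coatomT)
      have hsub : conjBy g V = Cfsg.sigmaCore L := by
        refine eq_of_le_of_card_ge ?_ (by rw [card_conjBy, hlv, hVc])
        rintro _ ⟨c, hc, rfl⟩
        have := Tilde.conj_mem_sigmaCore hG hN'.coatom g (hVL.le hc)
        rwa [hg] at this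
      haveI : IsCyclic (Cfsg.sigmaCore L) :=
        (((V.equivMapOfInjective _ (MulEquiv.injective (MulAut.conj g))).trans
          (MulEquiv.subgroupCongr hsub)).isCyclic).1 inferInstance
      have hle : conjBy x U ≤ Cfsg.sigmaCore L := by
        rintro _ ⟨c, hc, rfl⟩
        exact (mem_normalizer_iff.1 hxN c).1 (hN.core hc)
      have h := CfsgLib.PGroup.Kulakoff.eq_of_card_eq (G := Cfsg.sigmaCore L)
        (H := (conjBy x U).subgroupOf (Cfsg.sigmaCore L)) (K := U.subgroupOf (Cfsg.sigmaCore L))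
        (by rw [Nat.card_congr (subgroupOfEquivOfLe hle).toEquiv,
          Nat.card_congr (subgroupOfEquivOfLe hN.core).toEquiv, card_conjBy])
      exact (show (⟨_, hxz⟩ : Cfsg.sigmaCore L) ∈ U.subgroupOf (Cfsg.sigmaCore L) from
        h ▸ conj_mem_conjBy hz)
    · obtain ⟨w, w', hw, hw1, hw2⟩ := hpar L E L' E' hN.kernel hN'.kernel.swap
        (fun g hg => hconj ⟨g⁻¹, by rw [← hg, conjBy_conjBy, inv_mul_cancel, conjBy_one]⟩)
      have he' : Nat.card E' = p ∨ Nat.card E' = p * q :=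
        hN'.cardE.imp id fun h => h.trans (mul_comm q p)
      have hlu := eq_u_of_pair O D hdu hN.cardE hne' (hVc ▸ card_dvd_of_le hN'.core) Nat.card_pos
        he' hw hw1 hw2
      have hUL : U = Cfsg.sigmaCore L := eq_of_le_of_card_ge hN.core (by rw [hlu, hUc])
      exact hUL.ge hxz
  obtain ⟨y, hy, hyE⟩ := hN.conj heq
  have hEN : ∀ x ∈ W₂, y * x * y⁻¹ ∈ normalizer (U : Set G) := by
    intro x hx
    refine mem_normalizer_iff.2 fun z => ⟨hchar _ (hyE x hx) z, fun h => ?_⟩
    have := hchar _ (inv_mem (hyE x hx)) _ h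
    rwa [inv_inv, show (y * x * y⁻¹)⁻¹ * (y * x * y⁻¹ * z * (y * x * y⁻¹)⁻¹) * (y * x * y⁻¹) = z by
      group] at this
  have hUcomm := Decomp.isMulCommutative hG hP.coatomS hP.decompS hP.neW₁
  have hle : p ≤ q := le_of_full O.hp O.hq O.not_dvd (P := Cfsg.sigmaCore S) (U := U)
    (Q := Cfsg.sigmaCore T) (W := W₂)
    (fun a ha b hb => congrArg Subtype.val (hPe.1.is_comm.comm (⟨a, ha⟩ : Cfsg.sigmaCore S) ⟨b, hb⟩))
    hPe.2 hPcard (fun a ha b hb => congrArg Subtype.val (hUcomm.is_comm.comm (⟨a, ha⟩ : U) ⟨b, hb⟩))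
    (hP.decompS.compl.1.trans (sigmaCore_normal hG S))
    (fun a ha ha1 => regular_U hG hNB hP.coatomS hP.decompS ha ha1) hUc O.hu
    (hP.eqW₂ ▸ inf_le_left) hW₂ hQe.1 ?_ (hP.decompT.hall.1.trans (sigmaCore_normal hG T)) hy hEN
  · omega
  · refine (O.hp.coprime_iff_not_dvd.2 fun hd => ?_).symm
    obtain ⟨a, ha⟩ := exists_prime_orderOf_dvd_card' p hd
    rw [← Subgroup.orderOf_coe] at ha
    exact hne ((Nat.prime_dvd_prime_iff_eq O.hp O.hq).1 (ha ▸ orderOf_dvd_of_pow_eq_one (hQe.2 _ a.2)))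

end CfsgLib.FT.Final
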