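import Cfsg.Agent.Lib.FT.FinalSide
import Cfsg.Agent.Lib.FT.FinalMain
import Cfsg.Agent.Lib.FT.ZPart
import Cfsg.Agent.Lib.FT.Rectangle
import Cfsg.Agent.Lib.FT.TypeTwoGroup
import Cfsg.Agent.Lib.CFun.OddFifteenTwo
import Cfsg.Agent.Lib.CFun.OddBeta

/-!
# The last step of the short route to the odd order theorem: the integers of one kernel

A Frobenius maximal `L` not conjugate to `S`, `T` yields `FinalData`.
-/

set_option autoImplicit false
set_option linter.unusedSectionVars false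
set_option linter.style.haveILetI false

open Subgroup

namespace CfsgLib.FT.Final

open CfsgLib.Char CfsgLib.Char.Signed CfsgLib.FT.Rect CfsgLib.CFun CfsgLib.CFun.TauTwo
open Cfsg (IsClassFunction IsGeneralizedCharacter IrrCharacter classInner indFun IsIrrCharacter
  IsSelfNormalizingCyclic IsCyclicTIFamily)
open CfsgLib.Coprime (conjBy)

universe u

variable {G : Type u} [Group G] [Fintype G] (hG : Cfsg.IsMinSimpleOddOrder G)

section groups

variable (hNB : NoBad G) {S T L E : Subgroup G} (hL : Kernel S T L E)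
include hG hL

theorem Kernel.card_eq : Nat.card L = Nat.card E * Nat.card (Cfsg.sigmaCore L) :=
  CfsgLib.CFun.Kappa.card_of_compl hL.compl

theorem Kernel.sigma_lt : Cfsg.sigmaCore L < L :=
  lt_of_le_of_lt (CfsgLib.CFun.sigmaCore_le_derived hG hL.coatom)
    (CfsgLib.CFun.FifteenTwo.derived_lt hG hL.coatom)

include hNB

/-- The kernel of a Frobenius maximal subgroup. -/
theorem Kernel.isTIKernel : IsTIKernel (Cfsg.sigmaCore L) where
  ti := isTISubset_sigmaCore hG hNB hL.coatom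
  cent k hk hk1 := fun c hc => hL.frob k hk hk1 (mem_inf.2 ⟨hNB L hL.coatom k hk hk1 hc, hc⟩)
  ne_bot := sigmaCore_ne_bot hG hL.coatom
  lt := by
    rw [normalizer_sigmaCore hG hNB hL.coatom]
    exact hL.sigma_lt hG

theorem Kernel.excIndex_eq : excIndex (Cfsg.sigmaCore L) = Nat.card E := by
  rw [excIndex, normalizer_sigmaCore hG hNB hL.coatom]
  have h := index_mul_card ((Cfsg.sigmaCore L).subgroupOf L)
  rw [Nat.card_congr (subgroupOfEquivOfLe (hL.sigma_lt hG).le).toEquiv, hL.card_eq hG] at h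
  exact Nat.eq_of_mul_eq_mul_right Nat.card_pos h

omit hNB

/-- The order of the kernel is prime to the orders of `S_σ` and `T_σ`. -/
theorem Kernel.coprime {M : Subgroup G} (hM : IsCoatom M) (hn : NotConj M L) :
    (Nat.card (Cfsg.sigmaCore L)).Coprime (Nat.card (Cfsg.sigmaCore M)) :=
  Nat.coprime_of_dvd fun r hr h1 h2 => by
    obtain ⟨g, hg⟩ := CfsgLib.CFun.Disjoint.exists_conj_of_sigma hG hM hL.coatom
      ((sigmaCore_hall hG hM).1.2.1 r hr h2) ((sigmaCore_hall hG hL.coatom).1.2.1 r hr h1)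
    exact hn g hg

theorem Kernel.disjoint {M : Subgroup G} (hM : IsCoatom M) (hn : NotConj M L) :
    Disjoint (conjSet ((Cfsg.sigmaCore L : Set G) \ {1}))
      (conjSet ((Cfsg.sigmaCore M : Set G) \ {1})) := by
  rw [Set.disjoint_left]
  rintro _ ⟨y, a, ⟨ha, ha1⟩, rfl⟩ ⟨y', c, ⟨hc, -⟩, e⟩
  refine ha1 (orderOf_eq_one_iff.1 (Nat.eq_one_of_dvd_coprimes (hL.coprime hG hM hn)
    (Subgroup.orderOf_dvd_natCard _ ha) ?_))
  rw [← (MulAut.conj y).orderOf_eq a, MulAut.conj_apply, e, ← MulAut.conj_apply,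
    (MulAut.conj y').orderOf_eq c]
  exact Subgroup.orderOf_dvd_natCard _ hc

include hNB

/-- The mass of a function that is a constant integer on the kernel. -/
theorem Kernel.mass_const {f : G → ℂ} (hf : IsClassFunction G f) {c : ℤ}
    (hc : ∀ k ∈ Cfsg.sigmaCore L, k ≠ 1 → f k = c) :
    mass (conjSet ((Cfsg.sigmaCore L : Set G) \ {1})) (slack f) =
      ((c : ℝ) ^ 2 - c) * ((Nat.card (Cfsg.sigmaCore L) : ℝ) - 1) /
        ((Nat.card E : ℝ) * Nat.card (Cfsg.sigmaCore L)) := by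
  classical
  let _ := Fintype.ofFinite L
  rw [mass_conjSet (L := L) (A := (Cfsg.sigmaCore L : Set G) \ {1})
    (fun a ha => (hL.sigma_lt hG).le ha.1) (fun x hx a ha =>
      ⟨(mem_normalizer_iff.1 (sigmaCore_normal hG L hx) a).1 ha.1,
        fun h => ha.2 (by simpa using h)⟩)
    (fun g a ha hga => mem_of_conj_mem hG hNB hL.coatom ha.1 (fun e => ha.2 e)
      ((hL.sigma_lt hG).le hga.1)) (fun g h => slack_conj hf g h), mass]
  rw [Finset.sum_congr rfl (g := fun x : L =>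
      if (x : G) ∈ (Cfsg.sigmaCore L : Set G) \ {1} then ((c : ℝ) ^ 2 - c) else 0) fun x _ => ?_,
    ← Finset.sum_filter, Finset.sum_const, nsmul_eq_mul]
  swap
  · simp only [Set.mem_setOf_eq]
    split_ifs with hx
    · rw [slack, hc x hx.1 fun e => hx.2 e]
      simp [Complex.norm_intCast, sq_abs]
    · rfl
  have hcount : ((Finset.univ.filter fun x : L => (x : G) ∈ (Cfsg.sigmaCore L : Set G) \ {1}).card : ℝ) =
      (Nat.card (Cfsg.sigmaCore L) : ℝ) - 1 := by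
    have hle := (hL.sigma_lt hG).le
    rw [← Nat.card_congr (subgroupOfEquivOfLe hle).toEquiv, Nat.card_eq_fintype_card,
      show Finset.univ.filter (fun x : L => (x : G) ∈ (Cfsg.sigmaCore L : Set G) \ {1}) =
        (Finset.univ.filter fun x : L => x ∈ (Cfsg.sigmaCore L).subgroupOf L).erase 1 by
        ext x; simp [mem_subgroupOf, and_comm],
      Finset.card_erase_of_mem (by simp), ← Fintype.card_subtype, Nat.cast_sub Fintype.card_pos]
    simp
  rw [hcount, hL.card_eq hG]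
  push_cast
  ring

end groups

section swap

variable {W₁ W₂ : Subgroup G} (η : (↥(W₁ ⊔ W₂) →* ℂˣ) → (G → ℂ))

/-- A character of `W₁ ⊔ W₂` as one of `W₂ ⊔ W₁`. -/
noncomputable def flipHom (ω : ↥(W₁ ⊔ W₂) →* ℂˣ) : ↥(W₂ ⊔ W₁) →* ℂˣ :=
  ω.comp (MulEquiv.subgroupCongr (sup_comm W₂ W₁)).toMonoidHom

theorem swapFamily_flip (ω : ↥(W₁ ⊔ W₂) →* ℂˣ) : swapFamily η (flipHom ω) = η ω := rfl

theorem flip_mem {K : Subgroup G} {ω : ↥(W₁ ⊔ W₂) →* ℂˣ} (h : ω ∈ trivOn (W₁ ⊔ W₂) K) :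
    flipHom ω ∈ trivOn (W₂ ⊔ W₁) K := fun w hw => h _ hw

theorem flip_ne {ω : ↥(W₁ ⊔ W₂) →* ℂˣ} (h : ω ≠ 1) : flipHom ω ≠ 1 := fun e => h (MonoidHom.ext fun w => by
  have := DFunLike.congr_fun e ((MulEquiv.subgroupCongr (sup_comm W₂ W₁)).symm w)
  simpa [flipHom] using this)

end swap

section data

variable (hNB : NoBad G) {S T W₁ W₂ U V L E : Subgroup G} {p q u v : ℕ}

include hG hNB in
/-- The integers of `FinalData` for one Frobenius maximal subgroup. -/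
theorem kernel_data (hP : Pair S T W₁ W₂ U V) (hU : U ≠ ⊥) (hW₁ : Nat.card W₁ = q)
    (hW₂ : Nat.card W₂ = p) (hUc : Nat.card U = u) (hVc : Nat.card V = v)
    (hPa : ∀ a ∈ Cfsg.sigmaCore S, ∀ b ∈ Cfsg.sigmaCore S, a * b = b * a)
    (hQa : ∀ a ∈ Cfsg.sigmaCore T, ∀ b ∈ Cfsg.sigmaCore T, a * b = b * a)
    (hL : Kernel S T L E) :
    ∃ a b zS zT : ℤ, FinalData p q u v (Nat.card (Cfsg.sigmaCore L)) (Nat.card E) a b zS zT := by
  classical
  have hodd : Odd (Nat.card G) := hG.1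
  have hK := hL.isTIKernel hG hNB
  obtain ⟨K⟩ := nonempty_kData _ hK hodd
  obtain ⟨χ₀, h0⟩ := K.lin
  replace h0 : excFun χ₀ 1 = (excIndex (Cfsg.sigmaCore L) : ℂ) := h0
  have DT := CfsgLib.FT.Pair.twoSide hG hP hNB
  have DS := CfsgLib.FT.Pair.twoSide hG (hP.swap hU) hNB
  have hk := kappaS hG hP
  obtain ⟨η, hη⟩ := hk.exists_family
  have hη' := isCyclicTIFamily_swap hη
  have hcopS := hL.coprime hG hP.coatomS hL.notConjS
  have hcopT := hL.coprime hG hP.coatomT hL.notConjT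
  have hcop : (Nat.card (Cfsg.sigmaCore L)).Coprime (Nat.card ↥(W₁ ⊔ W₂)) := by
    rw [snc_card DT.snc]
    exact (hcopT.coprime_dvd_right (card_dvd_of_le DT.leW₁)).mul_right
      (hcopS.coprime_dvd_right (card_dvd_of_le DS.leW₁))
  have hcop' : (Nat.card (Cfsg.sigmaCore L)).Coprime (Nat.card ↥(W₂ ⊔ W₁)) := by
    rwa [sup_comm]
  let _ := Fintype.ofFinite (Cfsg.sigmaCore T)
  let _ := Fintype.ofFinite (Cfsg.sigmaCore S)
  have hW := DT.snc
  obtain ⟨φ, hφ, hφ1, -⟩ := DT.exists_ne 1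
  obtain ⟨ψ', hψ'm, hψ'1, -⟩ := DS.exists_ne 1
  set ψ : ↥(W₁ ⊔ W₂) →* ℂˣ := flipHom ψ' with hψdef
  have hψ : ψ ∈ trivOn (W₁ ⊔ W₂) W₁ := flip_mem hψ'm
  have hψ1 : ψ ≠ 1 := flip_ne hψ'1
  set a := eCoef χ₀ η φ with hadef
  set b := eCoef χ₀ η ψ with hbdef
  obtain ⟨zT, hdT, hoT, hcT⟩ := side_coeff hK K DT hη hQa hcop hcopT h0 hφ hφ1 hψ hψ1
  obtain ⟨zS, hdS, hoS, hcS⟩ := side_coeff hK K DS hη' hPa hcop' hcopS h0 hψ'm hψ'1
    (flip_mem (W₁ := W₁) (W₂ := W₂) hφ) (flip_ne hφ1)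
  have hb' : eCoef χ₀ (swapFamily η) ψ' = b := rfl
  rw [hb'] at hoS
  have he := hL.excIndex_eq hG hNB
  rw [hW₂, hVc, he] at hcT
  rw [hW₁, hUc, he] at hcS
  rw [hW₂] at hdT
  rw [hW₁] at hdS
  set l := Nat.card (Cfsg.sigmaCore L) with hl
  -- the masses
  have hYS := hk.disjoint_sigma_zSet hP.coatomS
  have hYT := hk.disjoint_sigma_zSet hP.coatomT
  have hYL := hk.disjoint_sigma_zSet hL.coatom
  set Z := conjSet (zSet W₁ W₂)
  set XL := conjSet ((Cfsg.sigmaCore L : Set G) \ {1})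
  set XS := conjSet ((Cfsg.sigmaCore S : Set G) \ {1})
  set XT := conjSet ((Cfsg.sigmaCore T : Set G) \ {1})
  have hST : Disjoint XS XT := by
    rw [Set.disjoint_left]
    rintro _ ⟨y, x, ⟨hx, hx1⟩, rfl⟩ ⟨y', c, ⟨hc, -⟩, e⟩
    refine hx1 (orderOf_eq_one_iff.1 (Nat.eq_one_of_dvd_coprimes (Nat.coprime_of_dvd fun r hr h1 h2 => by
      obtain ⟨g, hg⟩ := CfsgLib.CFun.Disjoint.exists_conj_of_sigma hG hP.coatomS hP.coatomT
        ((sigmaCore_hall hG hP.coatomS).1.2.1 r hr h1) ((sigmaCore_hall hG hP.coatomT).1.2.1 r hr h2)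
      exact hP.notConj g hg) (Subgroup.orderOf_dvd_natCard _ hx) ?_))
    rw [← (MulAut.conj y).orderOf_eq x, MulAut.conj_apply, e, ← MulAut.conj_apply,
      (MulAut.conj y').orderOf_eq c]
    exact Subgroup.orderOf_dvd_natCard _ hc
  have hdXY : Disjoint XL (XS ∪ XT) := Disjoint.union_right (hL.disjoint hG hP.coatomS hL.notConjS)
    (hL.disjoint hG hP.coatomT hL.notConjT)
  have hdZ : Disjoint (XL ∪ (XS ∪ XT)) Z := hYL.union_left (hYS.union_left hYT)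
  have hpc : ∀ H : Subgroup G, PowClosed (conjSet ((H : Set G) \ {1})) := fun H =>
    powClosed_conjSet (powClosed_sharp H)
  have hX : PowClosed (XL ∪ (XS ∪ XT)) :=
    powClosed_union (hpc _) (powClosed_union (hpc _) (hpc _))
  have hsplit : ∀ f : G → ℂ, mass (XL ∪ (XS ∪ XT)) (slack f) =
      mass XL (slack f) + (mass XS (slack f) + mass XT (slack f)) := fun f => by
    rw [mass_union hdXY, mass_union hST]
  have hon : ∀ ω, ∀ k ∈ Cfsg.sigmaCore L, k ≠ 1 → η ω k = (eCoef χ₀ η ω : ℂ) := fun ω k hk hk1 =>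
    eta_on hK K hodd hW hη hcop h0 ω hk hk1
  have hgen := fun ω => (sg_eta hη ω).gen
  have hcl := fun ω => isClassFunction_of_isGeneralized (hgen ω)
  -- `a`
  have hA : ((a : ℝ) ^ 2 - a) * ((l : ℝ) - 1) / ((Nat.card E : ℝ) * l) +
      (1 / (p : ℝ) - ((v : ℝ) + 1) / ((p : ℝ) * (q : ℝ) ^ p)) ≤ 1 / (p : ℝ) := by
    have h1 := a_bound hk hη hφ hφ1 hX hdZ
    rw [hsplit, hL.mass_const hG hNB (hcl φ) (hon φ)] at h1
    have h2 := DT.bound_row hη hQa hφ hφ1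
    have h3 : 0 ≤ mass XS (slack (η φ)) := mass_slack_nonneg (hgen φ) (hpc _)
    rw [hW₂, hVc, (CfsgLib.FT.Pair.prime_card_sigmaT hG hP).2, hW₁, hW₂] at h2
    rw [hW₂] at h1
    push_cast at h2
    linarith
  -- `b`
  have hB : ((b : ℝ) ^ 2 - b) * ((l : ℝ) - 1) / ((Nat.card E : ℝ) * l) +
      (1 / (q : ℝ) - ((u : ℝ) + 1) / ((q : ℝ) * (p : ℝ) ^ q)) ≤ 1 / (q : ℝ) := by
    have h1 := b_bound hk hη hψ hψ1 hX hdZ
    rw [hsplit, hL.mass_const hG hNB (hcl ψ) (hon ψ)] at h1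
    have h2 := DS.bound_row hη' hPa hψ'm hψ'1
    change _ ≤ mass XS (slack (η ψ)) at h2
    have h3 : 0 ≤ mass XT (slack (η ψ)) := mass_slack_nonneg (hgen ψ) (hpc _)
    rw [hW₁, hUc, (CfsgLib.FT.Pair.prime_card_sigmaT hG (hP.swap hU)).2, hW₁, hW₂] at h2
    rw [hW₁] at h1
    push_cast at h2
    linarith
  -- `a + b`
  have hF : (((a : ℝ) + b) ^ 2 - ((a : ℝ) + b)) * ((l : ℝ) - 1) / ((Nat.card E : ℝ) * l) +
      (1 / (p : ℝ) - ((v : ℝ) + 1) / ((p : ℝ) * (q : ℝ) ^ p)) +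
      (1 / (q : ℝ) - ((u : ℝ) + 1) / ((q : ℝ) * (p : ℝ) ^ q)) ≤
      1 / (p : ℝ) + 1 / (q : ℝ) - 2 / ((p : ℝ) * q) := by
    have h1 := s_bound hk hη hφ hφ1 hψ hψ1 hX hdZ
    rw [hsplit, hL.mass_const hG hNB (isClassFunction_of_isGeneralized
      (isGeneralizedCharacter_add (hgen φ) (hgen ψ))) (c := a + b) fun k hk hk1 => by
        rw [Pi.add_apply, hon φ k hk hk1, hon ψ k hk hk1, Int.cast_add]] at h1
    have h2 := DT.bound_sum hη hQa hφ hφ1 hψ
    have h3 := DS.bound_sum hη' hPa hψ'm hψ'1 (flip_mem (W₁ := W₁) (W₂ := W₂) hφ)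
    change _ ≤ mass XS (slack (η ψ + η φ)) at h3
    rw [add_comm (η ψ) (η φ)] at h3
    rw [hW₂, hVc, (CfsgLib.FT.Pair.prime_card_sigmaT hG hP).2, hW₁, hW₂] at h2
    rw [hW₁, hUc, (CfsgLib.FT.Pair.prime_card_sigmaT hG (hP.swap hU)).2, hW₁, hW₂] at h3
    rw [hW₁, hW₂] at h1
    push_cast at h1 h2 h3
    linarith
  refine ⟨a, b, zS, zT, ?_⟩
  have hl2 : 2 ≤ l := Subgroup.one_lt_card_iff_ne_bot _ |>.2 hK.ne_bot
  have hp' : p.Prime := hW₂ ▸ DT.prime
  have hq' : q.Prime := hW₁ ▸ DS.prime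
  refine ⟨?_, hl2, hdS, hdT, hoS, hoT, hcS, hcT, ?_, ?_, ?_, ?_⟩
  · rw [← he]
    have h := index_dvd_card_sub_one ((Cfsg.sigmaCore L).subgroupOf (normalizer (Cfsg.sigmaCore L : Set G)))
      (kernel_centralizer_le _ hK) (le_refl _)
    rwa [Nat.card_congr (subgroupOfEquivOfLe le_normalizer).toEquiv] at h
  · -- the norm
    set Φ := dualFin (W₁ ⊔ W₂) W₂
    set Ψ := dualFin (W₁ ⊔ W₂) W₁
    have hinj : Set.InjOn (fun x : (↥(W₁ ⊔ W₂) →* ℂˣ) × (↥(W₁ ⊔ W₂) →* ℂˣ) => x.1 * x.2)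
        (Φ ×ˢ Ψ : Finset _) := by
      intro x hx y hy e
      simp only [Finset.coe_product, Set.mem_prod, Finset.mem_coe] at hx hy
      have h := trivOn_mul_inj (snc_disj hW) (snc_comm hW) (mem_dualFin.1 hx.1) (mem_dualFin.1 hy.1)
        (mem_dualFin.1 hx.2) (mem_dualFin.1 hy.2) e
      exact Prod.ext h.1 h.2
    have h := eCoef_norm hK K hodd hW hη hcop h0 ((Φ ×ˢ Ψ).image fun x => x.1 * x.2)
    rw [Finset.sum_image hinj, Finset.sum_product, he] at h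
    have cΦ : Φ.card = q := (card_dualFin hW).trans hW₁
    have cΨ : Ψ.card = p := (TwoSide.Data.pair_coeff.card_dual₁ DT).trans hW₂
    have nΦ : Nat.card (trivOn (W₁ ⊔ W₂) W₂) = q := by
      rw [← cΦ, ← Nat.card_eq_finsetCard]
      exact Nat.card_congr (Equiv.subtypeEquivRight fun _ => mem_dualFin.symm)
    have nΨ : Nat.card (trivOn (W₁ ⊔ W₂) W₁) = p := by
      rw [← cΨ, ← Nat.card_eq_finsetCard]
      exact Nat.card_congr (Equiv.subtypeEquivRight fun _ => mem_dualFin.symm)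
    have v1 : ∀ x ∈ Φ.erase 1, eCoef χ₀ η x = a := fun x hx =>
      eCoef_const hK K hodd hW hη hcop h0 hq' nΦ hφ hφ1 (mem_dualFin.1 (Finset.mem_erase.1 hx).2)
        (Finset.mem_erase.1 hx).1
    have v2 : ∀ y ∈ Ψ.erase 1, eCoef χ₀ η y = b := fun y hy =>
      eCoef_const hK K hodd hW hη hcop h0 hp' nΨ hψ hψ1 (mem_dualFin.1 (Finset.mem_erase.1 hy).2)
        (Finset.mem_erase.1 hy).1
    have hrow : ∀ x ∈ Φ, ∑ y ∈ Ψ, eCoef χ₀ η (x * y) ^ 2 =
        eCoef χ₀ η x ^ 2 + ((p : ℤ) - 1) * (eCoef χ₀ η x + b - 1) ^ 2 := fun x hx => by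
      have h1 : (1 : ↥(W₁ ⊔ W₂) →* ℂˣ) ∈ Ψ := mem_dualFin.2 (one_mem _)
      rw [← Finset.add_sum_erase _ _ h1, show x * 1 = x from mul_one x,
        Finset.sum_congr rfl (g := fun _ => (eCoef χ₀ η x + b - 1) ^ 2) fun y hy => ?_,
        Finset.sum_const, Finset.card_erase_of_mem h1, cΨ, nsmul_eq_mul, Nat.cast_sub hp'.one_le]
      · simp
      · rw [eCoef_mul hK hodd hW hη hcop h0 (mem_dualFin.1 hx)
          (mem_dualFin.1 (Finset.mem_erase.1 hy).2), v2 y hy]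
    have h1 : (1 : ↥(W₁ ⊔ W₂) →* ℂˣ) ∈ Φ := mem_dualFin.2 (one_mem _)
    rw [Finset.sum_congr rfl hrow, ← Finset.add_sum_erase _ _ h1,
      eCoef_one hK K hodd hW hη hcop h0,
      Finset.sum_congr rfl (g := fun _ => a ^ 2 + ((p : ℤ) - 1) * (a + b - 1) ^ 2) fun x hx => by
        rw [v1 x hx],
      Finset.sum_const, Finset.card_erase_of_mem h1, cΦ, nsmul_eq_mul, Nat.cast_sub hq'.one_le] at h
    push_cast at h
    linarith
  all_goals rw [← Rat.cast_le (K := ℝ)]; push_cast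
  · exact hF
  · exact hB
  · exact hA

end data

end CfsgLib.FT.Final
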