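import Cfsg.Agent.Lib.Char.KernelFamily
import Cfsg.Agent.Lib.Char.SignedIrr
import Cfsg.Agent.Lib.Char.RealChar

/-!
# The last step of the short route to the odd order theorem: the characters of one kernel

`H` is a TI Frobenius kernel (`IsTIKernel`), `D : KData H` its coherent family.  `kTheta H φ₀` is
`Ind (Ind_H 1 - φ₀)` for a member `φ₀` of degree `e = excIndex H`.  Everything a function orthogonal to
the differences of the family satisfies is derived here.
-/

set_option autoImplicit false
set_option linter.unusedSectionVars false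
set_option linter.style.haveILetI false

open Subgroup

namespace CfsgLib.FT.Final

open CfsgLib.Char CfsgLib.Char.Signed
open Cfsg (IsClassFunction IsGeneralizedCharacter IrrCharacter classInner indFun IsIrrCharacter)
open scoped ComplexConjugate

universe u

variable {G : Type u} [Group G] [Fintype G]

/-- A member of the exceptional set as a function. -/
abbrev excFun {H : Subgroup G} (χ : Exc H) : ↥(normalizer (H : Set G)) → ℂ := χ.1

open Classical in
/-- `Ind_H 1` as a function on the normalizer. -/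
noncomputable def kOne (H : Subgroup G) : ↥(normalizer (H : Set G)) → ℂ :=
  fun x => if (x : G) ∈ H then (excIndex H : ℂ) else 0

/-- `Ind (Ind_H 1 - φ₀)`. -/
noncomputable def kTheta {H : Subgroup G} (χ₀ : Exc H) : G → ℂ :=
  indFun (normalizer (H : Set G)) (kOne H - excFun χ₀)

/-- The complex conjugate of a member. -/
noncomputable def cjExc {H : Subgroup G} (χ : Exc H) : Exc H :=
  ⟨⟨Cfsg.conjFun (excFun χ), @isIrrCharacter_starFun _ _ (Fintype.ofFinite _) χ.1⟩,
    χ.2.imp fun _ h => ⟨h.1, fun e => h.2 ((starRingEnd ℂ).injective e)⟩⟩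

theorem cjExc_val {H : Subgroup G} (χ : Exc H) : excFun (cjExc χ) = Cfsg.conjFun (excFun χ) := rfl

variable {H : Subgroup G}

theorem exc_gen (χ : Exc H) : IsGeneralizedCharacter _ (excFun χ) :=
  isGeneralizedCharacter_of_isCharacter (isCharacter_irr χ.1)

theorem exc_degree_nat (χ : Exc H) : ∃ m : ℕ, 0 < m ∧ excFun χ 1 = (m : ℂ) :=
  isIrrCharacter_degree χ.1.2

theorem exc_ne_one (χ : Exc H) : excFun χ ≠ fun _ => 1 := fun e => by
  obtain ⟨k, hk, hne⟩ := χ.2
  exact hne ((congrFun e k).trans (congrFun e 1).symm)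

theorem card_normalizer_eq :
    Nat.card (normalizer (H : Set G)) = excIndex H * Nat.card H := by
  rw [← (H.subgroupOf (normalizer (H : Set G))).index_mul_card,
    Nat.card_congr (subgroupOfEquivOfLe le_normalizer).toEquiv]

theorem excIndex_pos : 0 < excIndex H := by
  have h := card_normalizer_eq (H := H)
  rcases Nat.eq_zero_or_pos (excIndex H) with h0 | h0
  · rw [h0, zero_mul] at h
    exact absurd h (Nat.card_pos (α := normalizer (H : Set G))).ne'
  · exact h0

theorem kOne_gen : IsGeneralizedCharacter _ (kOne H) := by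
  haveI := normal_in_normalizer (H := H)
  haveI : Fintype ↥(normalizer (H : Set G)) := Fintype.ofFinite _
  haveI : Fintype ↥(H.subgroupOf (normalizer (H : Set G))) := Fintype.ofFinite _
  have e : kOne H = indFun (H.subgroupOf (normalizer (H : Set G))) (fun _ => 1) := by
    funext x
    by_cases hx : (x : G) ∈ H
    · have h := indFun_normal_mem (H.subgroupOf (normalizer (H : Set G))) (fun _ => (1 : ℂ)) ⟨x, hx⟩
      rw [h, kOne, if_pos hx, Finset.sum_const, Finset.card_univ, nsmul_eq_mul, mul_one,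
        ← Nat.card_eq_fintype_card, card_normalizer_eq,
        Nat.card_congr (subgroupOfEquivOfLe (le_normalizer (H := H))).toEquiv, Nat.cast_mul, mul_comm,
        mul_assoc, mul_inv_cancel₀ (Nat.cast_ne_zero.2 Nat.card_pos.ne'), mul_one]
    · rw [kOne, if_neg hx]
      exact (indFun_normal_not_mem _ _ (g := x) hx).symm
  rw [e]
  exact isGeneralizedCharacter_indFun _ (isGeneralizedCharacter_of_isCharacter
    (isCharacter_of_isIrr isIrrCharacter_one))

theorem kTheta_gen (χ₀ : Exc H) : IsGeneralizedCharacter G (kTheta χ₀) :=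
  isGeneralizedCharacter_indFun _ (isGeneralizedCharacter_sub kOne_gen (exc_gen χ₀))

section Sums

variable [Fintype ↥(normalizer (H : Set G))]

/-- An inner product with a function constant `a` on `H` and zero outside. -/
theorem inner_of_const (a : ℂ) {f : ↥(normalizer (H : Set G)) → ℂ}
    (hf : ∀ x : ↥(normalizer (H : Set G)), (x : G) ∈ H → f x = a)
    (hf0 : ∀ x : ↥(normalizer (H : Set G)), (x : G) ∉ H → f x = 0) :
    classInner f (fun _ => 1) = a / (excIndex H : ℂ) := by
  classical
  haveI : Fintype H := Fintype.ofFinite H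
  simp only [classInner, map_one, mul_one]
  rw [← Finset.sum_filter_of_ne (p := fun x : ↥(normalizer (H : Set G)) => (x : G) ∈ H)
    fun x _ h => by_contra fun h' => h (hf0 x h'),
    Finset.sum_congr rfl (g := fun _ => a) fun x hx => hf x (Finset.mem_filter.1 hx).2,
    Finset.sum_const, ← Fintype.card_subtype, ← Nat.card_eq_fintype_card,
    show Nat.card {x : ↥(normalizer (H : Set G)) // (x : G) ∈ H} = Nat.card H from
      Nat.card_congr ((subgroupOfEquivOfLe (le_normalizer (H := H))).toEquiv),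
    card_normalizer_eq, nsmul_eq_mul, Nat.cast_mul]
  have h1 : (Nat.card H : ℂ) ≠ 0 := Nat.cast_ne_zero.2 Nat.card_pos.ne'
  have h2 : (excIndex H : ℂ) ≠ 0 := Nat.cast_ne_zero.2 excIndex_pos.ne'
  field_simp

end Sums

section Kernel

variable (hK : IsTIKernel H)
include hK

theorem exc_vanish' (χ : Exc H) (x : ↥(normalizer (H : Set G))) (hx : (x : G) ∉ H) : excFun χ x = 0 :=
  kernel_vanish H hK χ x hx

theorem sub_vanish (χ₀ : Exc H) (x : ↥(normalizer (H : Set G))) (hx : (x : G) ∉ H) :
    (kOne H - excFun χ₀) x = 0 := by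
  rw [Pi.sub_apply, exc_vanish' hK χ₀ x hx, kOne, if_neg hx, sub_zero]

theorem sub_one {χ₀ : Exc H} (h0 : excFun χ₀ 1 = (excIndex H : ℂ)) : (kOne H - excFun χ₀) 1 = 0 := by
  rw [Pi.sub_apply, h0, kOne, if_pos (by simp), sub_self]

/-- A function with no value on the conjugates of `H#` is orthogonal to everything induced from `H#`. -/
theorem inner_ind_zero {α : ↥(normalizer (H : Set G)) → ℂ}
    (hα : ∀ x : ↥(normalizer (H : Set G)), (x : G) ∉ H → α x = 0) (hα1 : α 1 = 0)
    {f : G → ℂ} (hf : IsClassFunction G f) (hfH : ∀ k ∈ H, k ≠ 1 → f k = 0) :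
    classInner (indFun (normalizer (H : Set G)) α) f = 0 := by
  haveI : Fintype ↥(normalizer (H : Set G)) := Fintype.ofFinite _
  rw [classInner_indFun _ _ _ hf]
  simp only [classInner]
  rw [Finset.sum_eq_zero, mul_zero]
  intro x _
  by_cases hx : (x : G) ∈ H
  · by_cases h1 : x = 1
    · rw [h1, hα1, zero_mul]
    · rw [hfH x hx fun e => h1 (Subtype.ext e), map_zero, mul_zero]
  · rw [hα x hx, zero_mul]

theorem kTheta_inner_zero {χ₀ : Exc H} (h0 : excFun χ₀ 1 = (excIndex H : ℂ)) {f : G → ℂ}
    (hf : IsClassFunction G f) (hfH : ∀ k ∈ H, k ≠ 1 → f k = 0) : classInner (kTheta χ₀) f = 0 :=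
  inner_ind_zero hK (sub_vanish hK χ₀) (sub_one hK h0) hf hfH

theorem kTheta_support (χ₀ : Exc H) (h0 : excFun χ₀ 1 = (excIndex H : ℂ)) {g : G}
    (hg : kTheta χ₀ g ≠ 0) : g ≠ 1 ∧ g ^ Nat.card H = 1 := by
  haveI : Fintype ↥(normalizer (H : Set G)) := Fintype.ofFinite _
  obtain ⟨y, hy, hy1⟩ : ∃ y : G, y⁻¹ * g * y ∈ H ∧ y⁻¹ * g * y ≠ 1 := by
    by_contra hc
    push Not at hc
    refine hg ?_
    rw [kTheta, indFun, Finset.sum_eq_zero, mul_zero]
    intro y _
    by_cases hm : y⁻¹ * g * y ∈ normalizer (H : Set G)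
    · rw [extendByZero_mem _ _ hm]
      by_cases hA : y⁻¹ * g * y ∈ H
      · rw [show (⟨_, hm⟩ : ↥(normalizer (H : Set G))) = 1 from Subtype.ext (hc y hA), sub_one hK h0]
      · exact sub_vanish hK χ₀ ⟨_, hm⟩ hA
    · exact extendByZero_not_mem _ _ hm
  refine ⟨fun e => hy1 (by rw [e]; group), ?_⟩
  have h := pow_card_eq_one' (x := (⟨_, hy⟩ : H))
  have h2 : (y⁻¹ * g * y) ^ Nat.card H = 1 := congrArg Subtype.val h
  have h3 : y⁻¹ * g * y = MulAut.conj y⁻¹ g := by simp
  rw [h3, ← map_pow] at h2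
  exact (MulAut.conj y⁻¹).injective (h2.trans (map_one _).symm)

theorem kTheta_one {χ₀ : Exc H} (h0 : excFun χ₀ 1 = (excIndex H : ℂ)) :
    classInner (kTheta χ₀) (fun _ => 1) = 1 := by
  haveI : Fintype ↥(normalizer (H : Set G)) := Fintype.ofFinite _
  rw [kTheta, classInner_indFun _ _ _ (fun _ _ => rfl), classInner_sub_left,
    show classInner (excFun χ₀) (fun _ => 1) = 0 from classInner_irr_ne
      (χ := χ₀.1) (ψ := ⟨_, isIrrCharacter_one⟩) fun e => exc_ne_one χ₀ (congrArg Subtype.val e),
    sub_zero, inner_of_const (excIndex H : ℂ) (f := kOne H) (fun x hx => if_pos hx) (fun x hx => if_neg hx),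
    div_self (Nat.cast_ne_zero.2 excIndex_pos.ne')]

theorem kTheta_norm {χ₀ : Exc H} (h0 : excFun χ₀ 1 = (excIndex H : ℂ)) :
    classInner (kTheta χ₀) (kTheta χ₀) = (excIndex H : ℂ) + 1 := by
  classical
  haveI : Fintype ↥(normalizer (H : Set G)) := Fintype.ofFinite _
  set e : ℂ := (excIndex H : ℂ) with he
  have h01 : classInner (excFun χ₀) (fun _ => 1) = 0 :=
    classInner_irr_ne (χ := χ₀.1) (ψ := ⟨_, isIrrCharacter_one⟩) fun h =>
      exc_ne_one χ₀ (congrArg Subtype.val h)
  have hχI : classInner (excFun χ₀) (kOne H) = 0 := by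
    have : classInner (excFun χ₀) (kOne H) = e * classInner (excFun χ₀) (fun _ => 1) := by
      simp only [classInner, Finset.mul_sum]
      refine Finset.sum_congr rfl fun x _ => ?_
      by_cases hx : (x : G) ∈ H
      · rw [kOne, if_pos hx, map_natCast, map_one]; ring
      · rw [exc_vanish' hK χ₀ x hx]; ring
    rw [this, h01, mul_zero]
  have hII : classInner (kOne H) (kOne H) = e := by
    have : classInner (kOne H) (kOne H) = e * classInner (kOne H) (fun _ => 1) := by
      simp only [classInner, Finset.mul_sum]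
      refine Finset.sum_congr rfl fun x _ => ?_
      by_cases hx : (x : G) ∈ H
      · rw [kOne, if_pos hx, map_natCast, map_one]; ring
      · rw [kOne, if_neg hx]; simp
    rw [this, inner_of_const e (f := kOne H) (fun x hx => if_pos hx) (fun x hx => if_neg hx),
      div_self (Nat.cast_ne_zero.2 excIndex_pos.ne'), mul_one]
  rw [kTheta, classInner_indFun_TI (H : Set G) hK.ti _ _
    (isClassFunction_of_isGeneralized (isGeneralizedCharacter_sub kOne_gen (exc_gen χ₀)))
    (sub_vanish hK χ₀) (sub_vanish hK χ₀) (sub_one hK h0)]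
  simp only [classInner_sub_left, classInner_sub_right, hII, hχI,
    show classInner (excFun χ₀) (excFun χ₀) = 1 from classInner_irr_self χ₀.1,
    show classInner (kOne H) (excFun χ₀) = 0 by rw [← classInner_conj, hχI, map_zero]]
  ring

/-- A generalized character equal to the integer `m` on `H#` has inner product `m` with `kTheta`. -/
theorem kTheta_inner_int {χ₀ : Exc H} (h0 : excFun χ₀ 1 = (excIndex H : ℂ)) {f : G → ℂ}
    (hf : IsClassFunction G f) {m : ℤ} (hm : ∀ k ∈ H, k ≠ 1 → f k = m) :
    classInner (kTheta χ₀) f = m := by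
  have h : classInner (kTheta χ₀) (f - (m : ℂ) • fun _ => 1) = 0 :=
    kTheta_inner_zero hK h0 (fun g x => by simp [hf g x]) fun k hk hk1 => by simp [hm k hk hk1]
  rw [classInner_sub_right, classInner_smul_right, kTheta_one hK h0, map_intCast, mul_one, sub_eq_zero] at h
  exact h

variable (D : KData H)

omit hK in
theorem eps_sq (D : KData H) : (D.ε : ℂ) * D.ε = 1 := by
  rcases D.sign with h | h <;> simp [h]

/-- Functions without values on the conjugates of `H#` see the family in proportion to the degrees. -/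
theorem inner_prop {f : G → ℂ} (hf : IsClassFunction G f) (hfH : ∀ k ∈ H, k ≠ 1 → f k = 0)
    (χ ξ : Exc H) :
    excFun ξ 1 * classInner (D.θ χ : G → ℂ) f = excFun χ 1 * classInner (D.θ ξ : G → ℂ) f := by
  have h := inner_ind_zero hK
    (α := excFun ξ 1 • excFun χ - excFun χ 1 • excFun ξ)
    (fun x hx => by simp [exc_vanish' hK χ x hx, exc_vanish' hK ξ x hx])
    (by simp [mul_comm]) hf hfH
  rw [D.ind χ ξ, classInner_smul_left, classInner_sub_left, classInner_smul_left, classInner_smul_left,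
    mul_eq_zero, sub_eq_zero] at h
  exact h.resolve_left (left_ne_zero_of_mul_eq_one (eps_sq D))

/-- The images of a member and of its conjugate are complex conjugates. -/
theorem theta_conj (hodd : Odd (Nat.card G)) (χ : Exc H) :
    (D.θ (cjExc χ) : G → ℂ) = Cfsg.conjFun (D.θ χ) := by
  classical
  haveI : Fintype ↥(normalizer (H : Set G)) := Fintype.ofFinite _
  obtain ⟨m, hm0, hm⟩ := exc_degree_nat χ
  have hne : cjExc χ ≠ χ := fun e => exc_ne_one χ (irr_eq_one_of_real
    (hodd.of_dvd_nat (card_subgroup_dvd_card _)) χ.1 fun g =>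
      congrFun (congrArg excFun e) g)
  have h := D.ind χ (cjExc χ)
  have hd : excFun (cjExc χ) 1 = (m : ℂ) := by
    rw [cjExc_val, Cfsg.conjFun, hm, map_natCast]
  simp only [excFun] at hd hm
  rw [hd, hm, ← smul_sub, ← smul_sub, indFun_smul, smul_comm (D.ε : ℂ)] at h
  have h1 := smul_right_injective _ (Nat.cast_ne_zero.2 hm0.ne' : (m : ℂ) ≠ 0) h
  set a := D.θ χ
  set b := D.θ (cjExc χ) with hb
  have h2 : Cfsg.conjFun (a : G → ℂ) - Cfsg.conjFun (b : G → ℂ) = (b : G → ℂ) - (a : G → ℂ) := by
    have e1 := congrArg Cfsg.conjFun h1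
    rw [star_indFun] at e1
    have e2 : Cfsg.conjFun ((χ.1 : ↥(normalizer (H : Set G)) → ℂ) - ((cjExc χ).1 : _ → ℂ)) =
        -((χ.1 : ↥(normalizer (H : Set G)) → ℂ) - ((cjExc χ).1 : _ → ℂ)) := by
      funext x
      show conj (excFun χ x - excFun (cjExc χ) x) = -(excFun χ x - excFun (cjExc χ) x)
      simp [cjExc_val, Cfsg.conjFun]
    rw [e2, indFun_neg, h1] at e1
    funext g
    have := congrFun e1 g
    simp only [Cfsg.conjFun, Pi.neg_apply, Pi.smul_apply, Pi.sub_apply, smul_eq_mul, map_mul, map_sub,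
      map_intCast] at this ⊢
    have he := eps_sq D
    linear_combination -(D.ε : ℂ) * this - (conj ((a : G → ℂ) g) - conj ((b : G → ℂ) g)
      + (a : G → ℂ) g - (b : G → ℂ) g) * he
  let a' : IrrCharacter G := ⟨_, isIrrCharacter_starFun a⟩
  let b' : IrrCharacter G := ⟨_, isIrrCharacter_starFun b⟩
  have hab : a ≠ b := fun e => hne (D.inj e).symm
  have hab' : a' ≠ b' := fun e => hab (Subtype.ext (funext fun g => by
    simpa [a', b', Cfsg.conjFun] using congrArg (fun t : IrrCharacter G => conj ((t : G → ℂ) g)) e))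
  have h3 := congrArg (fun f => classInner f (b : G → ℂ)) h2
  simp only [classInner_sub_left] at h3
  change classInner (a' : G → ℂ) (b : G → ℂ) - classInner (b' : G → ℂ) (b : G → ℂ) = _ at h3
  rw [classInner_irr, classInner_irr, classInner_irr_self, classInner_irr_ne hab] at h3
  by_contra hneq
  have hne2 : a' ≠ b := fun e => hneq (congrArg Subtype.val e).symm
  rw [if_neg hne2] at h3
  split_ifs at h3 <;> norm_num at h3

/-- The coefficients of `kTheta` at the images of a member of degree `e` and of its conjugate differ. -/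
theorem theta_diff {χ₀ : Exc H} (h0 : excFun χ₀ 1 = (excIndex H : ℂ)) (hodd : Odd (Nat.card G)) :
    classInner (D.θ χ₀ : G → ℂ) (kTheta χ₀) - classInner (D.θ (cjExc χ₀) : G → ℂ) (kTheta χ₀) =
      -(D.ε : ℂ) := by
  classical
  haveI : Fintype ↥(normalizer (H : Set G)) := Fintype.ofFinite _
  have h := D.ind χ₀ (cjExc χ₀)
  have hd : excFun (cjExc χ₀) 1 = (excIndex H : ℂ) := by
    rw [cjExc_val, Cfsg.conjFun, h0, map_natCast]
  have h0' := h0
  simp only [excFun] at hd h0'
  rw [hd, h0', ← smul_sub, ← smul_sub, indFun_smul, smul_comm (D.ε : ℂ)] at h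
  have h1 := smul_right_injective _ (Nat.cast_ne_zero.2 excIndex_pos.ne' : (excIndex H : ℂ) ≠ 0) h
  have hne : cjExc χ₀ ≠ χ₀ := fun e => exc_ne_one χ₀ (irr_eq_one_of_real
    (hodd.of_dvd_nat (card_subgroup_dvd_card _)) χ₀.1 fun g =>
      congrFun (congrArg excFun e) g)
  have hI : ∀ χ : Exc H, classInner (excFun χ) (kOne H) = 0 := fun χ => by
    have : classInner (excFun χ) (kOne H) = (excIndex H : ℂ) * classInner (excFun χ) (fun _ => 1) := by
      simp only [classInner, Finset.mul_sum]
      refine Finset.sum_congr rfl fun x _ => ?_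
      by_cases hx : (x : G) ∈ H
      · rw [kOne, if_pos hx, map_natCast, map_one]; ring
      · rw [exc_vanish' hK χ x hx]; ring
    rw [this, show classInner (excFun χ) (fun _ => 1) = 0 from classInner_irr_ne
      (χ := χ.1) (ψ := ⟨_, isIrrCharacter_one⟩) fun h => exc_ne_one χ (congrArg Subtype.val h), mul_zero]
  have key : classInner (indFun (normalizer (H : Set G)) (excFun χ₀ - excFun (cjExc χ₀))) (kTheta χ₀) = -1 := by
    rw [kTheta, classInner_indFun_TI (H : Set G) hK.ti _ _
      (isClassFunction_of_isGeneralized (isGeneralizedCharacter_sub kOne_gen (exc_gen χ₀)))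
      (fun x hx => by simp [exc_vanish' hK _ x hx]) (sub_vanish hK χ₀)
      (by rw [Pi.sub_apply]; simp only [excFun]; rw [hd, h0', sub_self])]
    rw [classInner_sub_left, classInner_sub_right, classInner_sub_right, hI, hI,
      show classInner (excFun χ₀) (excFun χ₀) = 1 from classInner_irr_self χ₀.1,
      show classInner (excFun (cjExc χ₀)) (excFun χ₀) = 0 from classInner_irr_ne
        (χ := (cjExc χ₀).1) (ψ := χ₀.1) fun e => hne (Subtype.ext e)]
    ring
  rw [show excFun χ₀ - excFun (cjExc χ₀) = ((χ₀.1 : _ → ℂ) - ((cjExc χ₀).1 : _ → ℂ)) from rfl, h1,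
    classInner_smul_left, classInner_sub_left] at key
  linear_combination (D.ε : ℂ) * key - (classInner (D.θ χ₀ : G → ℂ) (kTheta χ₀) -
    classInner (D.θ (cjExc χ₀) : G → ℂ) (kTheta χ₀)) * eps_sq D

/-- `kTheta + ε ψ` is real. -/
theorem kTheta_real {χ₀ : Exc H} (h0 : excFun χ₀ 1 = (excIndex H : ℂ)) (hodd : Odd (Nat.card G)) :
    Cfsg.conjFun (kTheta χ₀ - (-(D.ε : ℂ)) • (D.θ χ₀ : G → ℂ)) =
      kTheta χ₀ - (-(D.ε : ℂ)) • (D.θ χ₀ : G → ℂ) := by
  have h := D.ind χ₀ (cjExc χ₀)
  have hd : excFun (cjExc χ₀) 1 = (excIndex H : ℂ) := by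
    rw [cjExc_val, Cfsg.conjFun, h0, map_natCast]
  have h0' := h0
  simp only [excFun] at hd h0'
  rw [hd, h0', ← smul_sub, ← smul_sub, indFun_smul, smul_comm (D.ε : ℂ)] at h
  have h1 := smul_right_injective _ (Nat.cast_ne_zero.2 excIndex_pos.ne' : (excIndex H : ℂ) ≠ 0) h
  have e : Cfsg.conjFun (kTheta χ₀) = kTheta χ₀ + indFun (normalizer (H : Set G))
      ((χ₀.1 : _ → ℂ) - ((cjExc χ₀).1 : _ → ℂ)) := by
    rw [kTheta, star_indFun, ← indFun_add]
    congr 1
    funext x
    show conj (kOne H x - excFun χ₀ x) = _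
    simp only [Pi.add_apply, Pi.sub_apply, map_sub, kOne]
    split_ifs <;> simp [excFun, cjExc, Cfsg.conjFun] <;> ring
  rw [h1] at e
  funext g
  have h2 := congrFun e g
  have h3 := congrFun (theta_conj hK D hodd χ₀) g
  simp only [Cfsg.conjFun, Pi.add_apply, Pi.sub_apply, Pi.smul_apply, smul_eq_mul, map_sub, map_mul,
    map_neg, map_intCast] at h2 h3 ⊢
  rw [h2, h3]
  ring

/-- The weighted number of members. -/
theorem sum_degree_sq_exc [Fintype (Exc H)] :
    ∑ χ : Exc H, excFun χ 1 ^ 2 = (excIndex H : ℂ) * ((Nat.card H : ℂ) - 1) := by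
  obtain ⟨⟨k, hk⟩, hk1⟩ := Subgroup.ne_bot_iff_exists_ne_one.1 hK.ne_bot
  exact (kernel_exc_column H hK (k := ⟨k, le_normalizer hk⟩) hk
    fun e => hk1 (Subtype.ext (congrArg (fun t : ↥(normalizer (H : Set G)) => (t : G)) e :))).2.2

end Kernel

end CfsgLib.FT.Final
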