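import Cfsg.Agent.Lib.FT.FinalKernel

/-!
# The last step of the short route to the odd order theorem: two kernels, conclusion

`false_of_both_typeTwo`: a pair with both members of type II and `|U|`, `|V|` full does not exist.
-/

set_option autoImplicit false
set_option linter.unusedSectionVars false
set_option linter.style.haveILetI false

open Subgroup

namespace CfsgLib.FT.Final

open CfsgLib.Char CfsgLib.Char.Signed CfsgLib.FT.Rect CfsgLib.CFun CfsgLib.CFun.TauTwo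
open Cfsg (IsClassFunction IsGeneralizedCharacter IrrCharacter classInner indFun IsIrrCharacter
  IsSelfNormalizingCyclic IsCyclicTIFamily)
open scoped ComplexConjugate

universe u

variable {G : Type u} [Group G] [Fintype G]

section two

variable {H : Subgroup G} (hK : IsTIKernel H) (K : KData H) {χ₀ : Exc H}
  (h0 : excFun χ₀ 1 = (excIndex H : ℂ))
include hK h0

/-- Off the conjugates of the kernel the image of a member of degree `e` is real. -/
theorem theta_real_off (hodd : Odd (Nat.card G)) {x : G}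
    (hx : ∀ y : G, y * x * y⁻¹ ∈ H → y * x * y⁻¹ = 1) :
    conj ((K.θ χ₀ : G → ℂ) x) = (K.θ χ₀ : G → ℂ) x := by
  have hd : excFun (cjExc χ₀) 1 = (excIndex H : ℂ) := by
    rw [cjExc_val, Cfsg.conjFun, h0, map_natCast]
  have h0' := h0
  simp only [excFun] at hd h0'
  have h := congrFun (K.ind χ₀ (cjExc χ₀)) x
  rw [kernel_diff_vanish H hK χ₀ (cjExc χ₀) x hx, hd, h0'] at h
  have h' : (0 : ℂ) = (K.ε : ℂ) * ((excIndex H : ℂ) *
      ((K.θ χ₀ : G → ℂ) x - (K.θ (cjExc χ₀) : G → ℂ) x)) := by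
    rw [h]; simp only [Pi.smul_apply, Pi.sub_apply, smul_eq_mul]; ring
  rcases mul_eq_zero.1 h'.symm with h1 | h1
  · exact absurd h1 (left_ne_zero_of_mul_eq_one (eps_sq K))
  · have h2 := sub_eq_zero.1 ((mul_eq_zero.1 h1).resolve_left (Nat.cast_ne_zero.2 excIndex_pos.ne'))
    have h3 := congrFun (theta_conj hK K hodd χ₀) x
    rw [h3] at h2
    exact h2.symm

end two

variable (hG : Cfsg.IsMinSimpleOddOrder G) (hNB : NoBad G)
include hG hNB

/-- The parity between two Frobenius maximal subgroups that are not conjugate. -/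
theorem kernel_parity {S T W₁ W₂ U V : Subgroup G} (hP : Pair S T W₁ W₂ U V)
    {L E L' E' : Subgroup G} (hL : Kernel S T L E) (hL' : Kernel S T L' E') (hn : NotConj L L') :
    ∃ w w' : ℤ, Odd (w + w') ∧
      w ^ 2 * (Nat.card (Cfsg.sigmaCore L') - 1 : ℕ) ≤ (Nat.card E * Nat.card E' : ℕ) ∧
      w' ^ 2 * (Nat.card (Cfsg.sigmaCore L) - 1 : ℕ) ≤ (Nat.card E * Nat.card E' : ℕ) := by
  classical
  have hodd : Odd (Nat.card G) := hG.1
  have hk := kappaS hG hP
  obtain ⟨η, hη⟩ := hk.exists_family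
  have hW := hk.snc
  have hK := hL.isTIKernel hG hNB
  have hK' := hL'.isTIKernel hG hNB
  obtain ⟨K⟩ := nonempty_kData _ hK hodd
  obtain ⟨K'⟩ := nonempty_kData _ hK' hodd
  obtain ⟨χ₀, h0⟩ := K.lin
  obtain ⟨χ₁, h1⟩ := K'.lin
  replace h0 : excFun χ₀ 1 = (excIndex (Cfsg.sigmaCore L) : ℂ) := h0
  replace h1 : excFun χ₁ 1 = (excIndex (Cfsg.sigmaCore L') : ℂ) := h1
  have hleT : W₁ ≤ Cfsg.sigmaCore T := hP.eqW₁.ge.trans inf_le_left
  have hleS : W₂ ≤ Cfsg.sigmaCore S := hP.eqW₂.ge.trans inf_le_left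
  have hcop : ∀ {M F : Subgroup G}, Kernel S T M F →
      (Nat.card (Cfsg.sigmaCore M)).Coprime (Nat.card ↥(W₁ ⊔ W₂)) := fun {M F} hM => by
    rw [snc_card hW]
    exact ((hM.coprime hG hP.coatomT hM.notConjT).coprime_dvd_right (card_dvd_of_le hleT)).mul_right
      ((hM.coprime hG hP.coatomS hM.notConjS).coprime_dvd_right (card_dvd_of_le hleS))
  have hll : (Nat.card (Cfsg.sigmaCore L')).Coprime (Nat.card (Cfsg.sigmaCore L)) :=
    hL'.coprime hG hL.coatom hn
  set ψ := (K.θ χ₀ : G → ℂ) with hψ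
  set ψ' := (K'.θ χ₁ : G → ℂ) with hψ'
  have hord : ∀ {M : Subgroup G} {y x : G}, y * x * y⁻¹ ∈ M → orderOf x ∣ Nat.card M :=
    fun {M y x} h => by
      rw [← (MulAut.conj y).orderOf_eq x]
      exact Subgroup.orderOf_dvd_natCard _ h
  -- the two images differ
  have hne : K.θ χ₀ ≠ K'.θ χ₁ := fun e => by
    refine theta_ne_one hK K hodd hW hη (hcop hL) χ₀ ?_
    refine irr_eq_one_of_real hodd (K.θ χ₀) fun g => ?_
    by_cases hg : ∀ y : G, y * g * y⁻¹ ∈ Cfsg.sigmaCore L → y * g * y⁻¹ = 1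
    · exact theta_real_off hK K h0 hodd hg
    · push Not at hg
      obtain ⟨y, hy, hy1⟩ := hg
      rw [e]
      refine theta_real_off hK' K' h1 hodd fun y' hy' => ?_
      have : g = 1 := orderOf_eq_one_iff.1
        (Nat.eq_one_of_dvd_coprimes hll (hord hy') (hord hy))
      exact absurd (by rw [this]; simp) hy1
  have hs : ∀ {M : Subgroup G} (hM : IsTIKernel M) {χ : Exc M},
      excFun χ 1 = (excIndex M : ℂ) → ∀ {g : G}, kTheta χ g ≠ 0 → g ≠ 1 ∧ orderOf g ∣ Nat.card M :=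
    fun {M} hM {χ} hχ {g} hg => ⟨(kTheta_support hM χ hχ hg).1,
      orderOf_dvd_of_pow_eq_one (kTheta_support hM χ hχ hg).2⟩
  have horth : classInner (kTheta χ₀) (kTheta χ₁) = 0 := by
    rw [classInner, Finset.sum_eq_zero fun g _ => ?_, mul_zero]
    by_contra hne0
    have ha := hs hK h0 (g := g) fun e => hne0 (by rw [e, zero_mul])
    have hb := hs hK' h1 (g := g) fun e => hne0 (by rw [e, map_zero, mul_zero])
    exact ha.1 (orderOf_eq_one_iff.1 (Nat.eq_one_of_dvd_coprimes hll hb.2 ha.2))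
  have hv : ∀ {M M' : Subgroup G} (hM : IsTIKernel M) {χ : Exc M}, excFun χ 1 = (excIndex M : ℂ) →
      (Nat.card M').Coprime (Nat.card M) → ∀ k ∈ M', k ≠ 1 → kTheta χ k = 0 :=
    fun {M M'} hM {χ} hχ hc k hk hk1 => by
      by_contra hne0
      exact hk1 (orderOf_eq_one_iff.1 (Nat.eq_one_of_dvd_coprimes hc
        (Subgroup.orderOf_dvd_natCard _ hk) (hs hM hχ hne0).2))
  have hone : ∀ {M : Subgroup G} (D : KData M) (hM : IsTIKernel M) (χ : Exc M),
      (Nat.card M).Coprime (Nat.card ↥(W₁ ⊔ W₂)) →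
      classInner ((-(D.ε : ℂ)) • (D.θ χ : G → ℂ)) (fun _ => 1) = 0 := fun D hM χ hc => by
    rw [classInner_smul_left, ← hη.map_one, perp_eta hM D hodd hW hη hc χ 1, mul_zero]
  have hgen : ∀ {M : Subgroup G} (D : KData M) (χ : Exc M),
      IsGeneralizedCharacter G ((-(D.ε : ℂ)) • (D.θ χ : G → ℂ)) := fun D χ => by
    rw [show (-(D.ε : ℂ)) • (D.θ χ : G → ℂ) = ((-D.ε : ℤ) : ℂ) • (D.θ χ : G → ℂ) by push_cast; rfl]
    exact Gen.zsmul (Sg.of_irr _).gen _
  obtain ⟨k, hk'⟩ := parity_core hodd (kTheta_gen χ₀) (kTheta_gen χ₁) (hgen K χ₀) (hgen K' χ₁)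
    (kTheta_real hK K h0 hodd) (kTheta_real hK' K' h1 hodd) (kTheta_one hK h0) (kTheta_one hK' h1)
    (hone K hK χ₀ (hcop hL)) (hone K' hK' χ₁ (hcop hL')) horth
  set w := iq ψ' (kTheta χ₀) with hwdef
  set w' := iq ψ (kTheta χ₁) with hw'def
  rw [classInner_smul_left, classInner_smul_left, classInner_smul_left, classInner_smul_right,
    classInner_irr_ne hne, mul_zero, mul_zero, sub_zero,
    iq_spec (Sg.of_irr (K'.θ χ₁)).gen (kTheta_gen χ₀),
    iq_spec (Sg.of_irr (K.θ χ₀)).gen (kTheta_gen χ₁)] at hk'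
  have hk2 : -K.ε * w' + -K'.ε * w = 2 * k + 1 := by
    apply Int.cast_injective (α := ℂ)
    push_cast at hk' ⊢
    exact hk'
  refine ⟨w, w', ?_, ?_, ?_⟩
  · rw [Int.odd_iff]
    rcases K.sign with e | e <;> rcases K'.sign with e' | e' <;> rw [e, e'] at hk2 <;> omega
  · have h := cost hK' K' hodd hW hη (hcop hL') h1 (kTheta_gen χ₀) (hv hK h0 hll)
    rw [show iq (kTheta χ₀) (fun _ => 1) = 1 from iq_eq 1 (by rw [kTheta_one hK h0, Int.cast_one]),
      show iq (kTheta χ₀) (kTheta χ₀) = (excIndex (Cfsg.sigmaCore L) : ℤ) + 1 from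
        iq_eq _ (by rw [kTheta_norm hK h0]; push_cast; rfl),
      hL.excIndex_eq hG hNB, hL'.excIndex_eq hG hNB] at h
    push_cast at h ⊢
    nlinarith
  · have h := cost hK K hodd hW hη (hcop hL) h0 (kTheta_gen χ₁) (hv hK' h1 hll.symm)
    rw [show iq (kTheta χ₁) (fun _ => 1) = 1 from iq_eq 1 (by rw [kTheta_one hK' h1, Int.cast_one]),
      show iq (kTheta χ₁) (kTheta χ₁) = (excIndex (Cfsg.sigmaCore L') : ℤ) + 1 from
        iq_eq _ (by rw [kTheta_norm hK' h1]; push_cast; rfl),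
      hL.excIndex_eq hG hNB, hL'.excIndex_eq hG hNB] at h
    push_cast at h ⊢
    nlinarith

/-- The pair in the order `|W₁| < |W₂|`. -/
theorem false_of_lt {S T W₁ W₂ U V : Subgroup G} (hP : Pair S T W₁ W₂ U V) (hU : U ≠ ⊥)
    (hlt : Nat.card W₁ < Nat.card W₂)
    (hu : Nat.card U = ∑ i ∈ Finset.range (Nat.card W₁), Nat.card W₂ ^ i)
    (hv : Nat.card V = ∑ i ∈ Finset.range (Nat.card W₂), Nat.card W₁ ^ i) : False := by
  have hodd : Odd (Nat.card G) := hG.1
  have hp := (Pair.prime_card_sigmaT hG hP).1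
  have hq := (Pair.prime_card_sigmaT hG (hP.swap hU)).1
  have hQ := CfsgLib.FT.Pair.elementary_sigmaT hG hP hNB hq
  have hPe := CfsgLib.FT.Pair.elementary_sigmaT hG (hP.swap hU) hNB hp
  have h3 : ∀ W : Subgroup G, (Nat.card W).Prime → 3 ≤ Nat.card W := fun W hW => by
    have := hW.two_le
    obtain ⟨k, hk⟩ := hodd.of_dvd_nat (card_subgroup_dvd_card W)
    omega
  have hgs : ∀ m n : ℕ, 1 ≤ m → (∑ i ∈ Finset.range n, m ^ i) * (m - 1) + 1 = m ^ n := fun m n hm => by
    induction n with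
    | zero => simp
    | succ n ih =>
      rw [Finset.sum_range_succ, add_mul, add_right_comm, ih, pow_succ, ← mul_one_add,
        show 1 + (m - 1) = m by omega]
  have O : Orders (Nat.card W₂) (Nat.card W₁) (Nat.card U) (Nat.card V) :=
    { hp := hp
      hq := hq
      q_ge := h3 W₁ hq
      lt := hlt
      hu := by rw [hu]; exact hgs _ _ hp.one_le
      hv := by rw [hv]; exact hgs _ _ hq.one_le
      not_dvd := TwoSide.Data.not_dvd_of_full (CfsgLib.FT.Pair.twoSide hG (hP.swap hU) hNB) hu }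
  exact false_of_data hG hNB hP O rfl rfl rfl rfl
    ⟨⟨⟨fun a b => Subtype.ext (hPe.1 a a.2 b b.2)⟩⟩, hPe.2⟩
    (Pair.prime_card_sigmaT hG (hP.swap hU)).2
    ⟨⟨⟨fun a b => Subtype.ext (hQ.1 a a.2 b b.2)⟩⟩, hQ.2⟩
    (fun L E hL => kernel_data hG hNB hP hU rfl rfl rfl rfl hPe.1 hQ.1 hL)
    (fun L E L' E' hL hL' hn => kernel_parity hG hNB hP hL hL' hn)

/-- Both members of type II with `|U|`, `|V|` full: impossible. -/
theorem false_of_both_typeTwo {S T W₁ W₂ U V : Subgroup G} (hP : Pair S T W₁ W₂ U V) (hU : U ≠ ⊥)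
    (hu : Nat.card U = ∑ i ∈ Finset.range (Nat.card W₁), Nat.card W₂ ^ i)
    (hv : Nat.card V = ∑ i ∈ Finset.range (Nat.card W₂), Nat.card W₁ ^ i) : False := by
  have D := CfsgLib.FT.Pair.twoSide hG hP hNB
  rcases lt_trichotomy (Nat.card W₁) (Nat.card W₂) with h | h | h
  · exact false_of_lt hG hNB hP hU h hu hv
  · exact D.not_dvd_Q (h ▸ card_dvd_of_le D.leW₁)
  · exact false_of_lt hG hNB (hP.swap hU) hP.neV h hv hu

end CfsgLib.FT.Final
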