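import Cfsg.Agent.Lib.FT.FinalEta
import Cfsg.Agent.Lib.FT.FamilyParity
import Cfsg.Agent.Lib.FT.TypeTwoSide

/-!
# The last step of the short route to the odd order theorem: one kernel against a type II side

For a TI Frobenius kernel `H` of order `l` prime to `|W|` and `|Q|`, the coefficient `zT` of `τ θ_T` at
the image of a member of degree `e` is divisible by `p`, `zT + a` is odd and `zT² (l - 1) ≤ e p (v + 1)`.
-/

set_option autoImplicit false
set_option linter.unusedSectionVars false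
set_option linter.style.haveILetI false

open Subgroup

namespace CfsgLib.FT.Final

open CfsgLib.Char CfsgLib.Char.Signed CfsgLib.FT.Rect CfsgLib.FT.TwoSide
open Cfsg (IsClassFunction IsGeneralizedCharacter IrrCharacter classInner indFun IsIrrCharacter
  IsSelfNormalizingCyclic IsCyclicTIFamily)
open scoped ComplexConjugate

universe u

variable {G : Type u} [Group G] [Fintype G] {W₁ W₂ : Subgroup G}

variable {H : Subgroup G} {η : (↥(W₁ ⊔ W₂) →* ℂˣ) → (G → ℂ)}
  {T Q V : Subgroup G} {p : ℕ}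
  (hK : IsTIKernel H) (K : KData H) (D : TwoSide.Data T Q W₁ W₂ V p)
  (hη : IsCyclicTIFamily W₁ W₂ η) (hQ : ∀ a ∈ Q, ∀ b ∈ Q, a * b = b * a)
  (hcop : (Nat.card H).Coprime (Nat.card ↥(W₁ ⊔ W₂))) (hcopQ : (Nat.card H).Coprime (Nat.card Q))
  {χ₀ : Exc H} (h0 : excFun χ₀ 1 = (excIndex H : ℂ))

include hcopQ in
theorem eq_one_of_meet {x t : G} (hx : t * x * t⁻¹ ∈ H) {s : G} (hs : s * x * s⁻¹ ∈ Q) : x = 1 := by
  refine orderOf_eq_one_iff.1 (Nat.eq_one_of_dvd_coprimes hcopQ ?_ ?_)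
  · rw [← (show orderOf (t * x * t⁻¹) = orderOf x from (MulAut.conj t).orderOf_eq x)]
    exact Subgroup.orderOf_dvd_natCard _ hx
  · rw [← (show orderOf (s * x * s⁻¹) = orderOf x from (MulAut.conj s).orderOf_eq x)]
    exact Subgroup.orderOf_dvd_natCard _ hs

include hK hcopQ h0 in
/-- The images of a member of degree `e` and of its conjugate agree on `Q`. -/
theorem theta_agree (x : Q) :
    (K.θ χ₀ : G → ℂ) x = (K.θ (cjExc χ₀) : G → ℂ) x := by
  have hd : excFun (cjExc χ₀) 1 = (excIndex H : ℂ) := by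
    rw [cjExc_val, Cfsg.conjFun, h0, map_natCast]
  have h0' := h0
  simp only [excFun] at hd h0'
  have h := congrFun (K.ind χ₀ (cjExc χ₀)) (x : G)
  rw [kernel_diff_vanish H hK χ₀ (cjExc χ₀) x fun y hy => ?_, hd, h0'] at h
  · have : (0 : ℂ) = (K.ε : ℂ) * ((excIndex H : ℂ) *
        ((K.θ χ₀ : G → ℂ) x - (K.θ (cjExc χ₀) : G → ℂ) x)) := by
      rw [h]; simp only [Pi.smul_apply, Pi.sub_apply, smul_eq_mul]; ring
    rcases mul_eq_zero.1 this.symm with h' | h'
    · exact absurd h' (left_ne_zero_of_mul_eq_one (eps_sq K))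
    · exact sub_eq_zero.1 ((mul_eq_zero.1 h').resolve_left (Nat.cast_ne_zero.2 excIndex_pos.ne'))
  · rw [eq_one_of_meet hcopQ hy (s := 1) (by simp), mul_one, mul_inv_cancel]

include hK K D hQ hcop hcopQ h0 hη in
/-- `τ θ_T` at a member of degree `e`: divisibility by `p`, parity against `a` and `b`, cost. -/
theorem side_coeff [Fintype Q] {φ : ↥(W₁ ⊔ W₂) →* ℂˣ} (hφ : φ ∈ trivOn _ W₂) (hφ1 : φ ≠ 1)
    {ψ : ↥(W₁ ⊔ W₂) →* ℂˣ} (hψ : ψ ∈ trivOn _ W₁) (hψ1 : ψ ≠ 1) :
    ∃ z : ℤ, (p : ℤ) ∣ z ∧ Odd (z + eCoef χ₀ η φ) ∧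
      z ^ 2 * (Nat.card H - 1 : ℕ) ≤ (excIndex H * (p * (Nat.card V + 1)) : ℕ) := by
  classical
  have hodd := D.odd
  have hW := D.snc
  set X := K.θ χ₀ with hX
  set X' := K.θ (cjExc χ₀) with hX'
  have hne : X ≠ X' := fun e => by
    haveI : Fintype ↥(normalizer (H : Set G)) := Fintype.ofFinite _
    exact exc_ne_one χ₀ (irr_eq_one_of_real (hodd.of_dvd_nat (card_subgroup_dvd_card _)) χ₀.1 fun g =>
      (congrFun (congrArg excFun (K.inj e)) g).symm)
  have ho := perp_eta hK K hodd hW hη hcop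
  have hxx : (fun x : Q => (X : G → ℂ) x) = fun x : Q => (X' : G → ℂ) x :=
    funext fun x => theta_agree hK K hcopQ h0 x
  obtain ⟨z, hz, hzv⟩ := D.int_of_orth hQ (Sg.of_irr X).gen (fun lam mu hl hm =>
    (D.orth_of_two hη hQ hne (ho χ₀) (ho (cjExc χ₀)) (fun lam mu _ _ => by
      rw [inner_Df _ _ (isClassFunction_irr X), inner_Df _ _ (isClassFunction_irr X'), hxx]) lam mu hl hm).1) hφ hφ1
  set Θ := D.Theta hQ φ with hΘ
  have hΘg : Gen Θ := D.Theta_gen hQ φ
  have hΘH : ∀ k ∈ H, k ≠ 1 → Θ k = 0 := fun k hk hk1 => Df_vanish _ _ fun t ht =>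
    hk1 (eq_one_of_meet hcopQ (x := k) (t := 1) (by simpa using hk) ht)
  have hiq : iq (X : G → ℂ) Θ = z := iq_eq z hz
  refine ⟨z, ?_, ?_, ?_⟩
  · obtain ⟨a, ha, ha1⟩ := (bot_or_exists_ne_one W₁).resolve_left hW.1
    obtain ⟨b, hb, hb1⟩ := (bot_or_exists_ne_one W₂).resolve_left hW.2.1
    refine D.dvd_of_vanish hQ (Sg.of_irr X).gen hzv ha ha1 hb
      (theta_zSet hK K hodd hW hη hcop χ₀ ⟨a * b, mul_mem_sup ha hb⟩ (fun h => hb1 ?_) fun h => ha1 ?_)
    · have : b ∈ W₁ ⊓ W₂ := ⟨by simpa using mul_mem (inv_mem ha) h, hb⟩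
      rwa [snc_disj hW, mem_bot] at this
    · have : a ∈ W₁ ⊓ W₂ := ⟨ha, by simpa using mul_mem h (inv_mem hb)⟩
      rwa [snc_disj hW, mem_bot] at this
  · -- parity
    have hp2 : (2 : ℤ) ∣ (p : ℤ) - 1 := by
      obtain ⟨k, hk⟩ := D.prime.odd_of_ne_two D.p_ne_two
      exact ⟨k, by rw [hk]; push_cast; ring⟩
    have hmem : ∀ y ∈ dualFin (W₁ ⊔ W₂) W₁, φ * y ≠ 1 := fun y hy e =>
      hφ1 (trivOn_mul_inj (snc_disj hW) (snc_comm hW) hφ (one_mem _) (mem_dualFin.1 hy) (one_mem _)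
        (by rw [mul_one]; exact e)).1
    have hr2 : Cfsg.conjFun (Θ - -rowSum η φ) = Θ - -rowSum η φ := by
      have e1 : Cfsg.conjFun (Θ - -rowSum η φ) = D.Theta hQ φ⁻¹ + rowSum η φ⁻¹ := by
        have e2 : Cfsg.conjFun (rowSum η φ) = rowSum η φ⁻¹ := by
          funext g
          simp only [Cfsg.conjFun, rowSum, Finset.sum_apply, map_sum]
          refine Finset.sum_nbij' (fun y => y⁻¹) (fun y => y⁻¹)
            (fun y hy => mem_dualFin.2 (inv_mem (mem_dualFin.1 hy)))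
            (fun y hy => mem_dualFin.2 (inv_mem (mem_dualFin.1 hy))) (fun y _ => inv_inv y)
            (fun y _ => inv_inv y) fun y _ => ?_
          rw [show φ⁻¹ * y⁻¹ = (φ * y)⁻¹ from (mul_inv φ y).symm]
          exact congrFun (D.conj_eta hη (φ * y)) g
        rw [← D.Theta_conj hQ φ, ← e2, sub_neg_eq_add]
        funext g
        simp [Cfsg.conjFun, hΘ]
      rw [e1, sub_neg_eq_add]
      rcases eq_or_ne φ⁻¹ φ with e | e
      · rw [e, hΘ]
      · have h := D.Theta_sub hη hQ (inv_mem hφ) hφ (fun e1 => hφ1 ((inv_inv φ).symm.trans ((congrArg (·⁻¹) e1).trans (MonoidHom.ext fun _ => by simp)))) hφ1 e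
        rw [hΘ]
        linear_combination h
    have hp1 : classInner (rowSum η φ) (fun _ => 1) = 0 := by
      rw [rowSum, classInner_sum_left, ← hη.map_one]
      exact Finset.sum_eq_zero fun y hy => by rw [hη.orthonormal, if_neg (hmem y hy)]
    have horth : classInner (kTheta χ₀) Θ = 0 := by
      rw [classInner, Finset.sum_eq_zero fun g _ => ?_, mul_zero]
      by_contra hne'
      obtain ⟨hg1, hgH⟩ := kTheta_support hK χ₀ h0 (fun e => hne' (by rw [e, zero_mul]))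
      refine hne' ?_
      rw [hΘ, TwoSide.Data.Theta, Df_vanish _ _ fun t ht => hg1 (orderOf_eq_one_iff.1
        (Nat.eq_one_of_dvd_coprimes hcopQ (orderOf_dvd_of_pow_eq_one hgH) (by
          rw [← (show orderOf (t * g * t⁻¹) = orderOf g from (MulAut.conj t).orderOf_eq g)]
          exact Subgroup.orderOf_dvd_natCard _ ht))), map_zero, mul_zero]
    obtain ⟨k, hk⟩ := parity_core hodd (θ₁ := kTheta χ₀) (θ₂ := Θ)
      (ξ₁ := (-(K.ε : ℂ)) • (X : G → ℂ)) (ξ₂ := -rowSum η φ) (kTheta_gen χ₀) hΘg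
      (by
        rw [show (-(K.ε : ℂ)) • (X : G → ℂ) = ((-K.ε : ℤ) : ℂ) • (X : G → ℂ) by push_cast; rfl]
        exact Gen.zsmul (Sg.of_irr X).gen _)
      (isGeneralizedCharacter_neg (isGeneralizedCharacter_sum _ _ fun y _ => (sg_eta hη _).gen))
      (kTheta_real hK K h0 hodd) hr2 (kTheta_one hK h0) (D.Theta_one hQ hφ hφ1)
      (by
        rw [classInner_smul_left, ← hη.map_one, ho χ₀ 1, mul_zero])
      (by rw [classInner_neg_left, hp1, neg_zero]) horth
    have h3 : classInner (rowSum η φ) (kTheta χ₀) =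
        ((eCoef χ₀ η φ + ((p : ℤ) - 1) * (eCoef χ₀ η φ + eCoef χ₀ η ψ - 1) : ℤ) : ℂ) := by
      rw [rowSum, classInner_sum_left, Finset.sum_congr rfl fun y _ => show
        classInner (η (φ * y)) (kTheta χ₀) = (eCoef χ₀ η (φ * y) : ℂ) by
          rw [iq_spec (sg_eta hη _).gen (kTheta_gen χ₀), iq_comm (sg_eta hη _).gen (kTheta_gen χ₀)]; rfl,
        ← Int.cast_sum]
      congr 1
      have h1 : (1 : ↥(W₁ ⊔ W₂) →* ℂˣ) ∈ dualFin (W₁ ⊔ W₂) W₁ := mem_dualFin.2 (one_mem _)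
      rw [← Finset.add_sum_erase _ _ h1, show φ * 1 = φ from mul_one φ,
        Finset.sum_congr rfl (g := fun _ => eCoef χ₀ η φ + eCoef χ₀ η ψ - 1) fun y hy => ?_,
        Finset.sum_const, Finset.card_erase_of_mem h1, TwoSide.Data.pair_coeff.card_dual₁ D, nsmul_eq_mul]
      · push_cast [Nat.cast_sub D.prime.one_le]
        ring
      · have hy1 := (Finset.mem_erase.1 hy).1
        have hy2 := mem_dualFin.1 (Finset.mem_erase.1 hy).2
        rw [eCoef_mul hK hodd hW hη hcop h0 hφ hy2,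
          eCoef_const hK K hodd hW hη hcop h0 D.prime ?_ hψ hψ1 hy2 hy1]
        rw [← TwoSide.Data.pair_coeff.card_dual₁ D, ← Nat.card_eq_finsetCard]
        exact Nat.card_congr (Equiv.subtypeEquivRight fun _ => mem_dualFin.symm)
    have h4 : classInner (X : G → ℂ) (rowSum η φ) = 0 := by
      rw [rowSum, classInner_sum_right]
      exact Finset.sum_eq_zero fun y _ => ho χ₀ _
    rw [classInner_smul_left, classInner_neg_left, hz, h3, classInner_smul_left, classInner_neg_right,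
      h4] at hk
    have hk' : -K.ε * z - (eCoef χ₀ η φ + ((p : ℤ) - 1) * (eCoef χ₀ η φ + eCoef χ₀ η ψ - 1)) =
        2 * k + 1 := by
      apply Int.cast_injective (α := ℂ)
      push_cast at hk ⊢
      linear_combination hk
    obtain ⟨j, hj⟩ := hp2
    rw [hj, mul_assoc] at hk'
    generalize j * (eCoef χ₀ η φ + eCoef χ₀ η ψ - 1) = J at hk'
    rw [Int.odd_iff]
    rcases K.sign with e | e <;> rw [e] at hk' <;> omega
  · have h := cost hK K hodd hW hη hcop h0 hΘg hΘH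
    rw [hiq, iq_eq 1 (by rw [D.Theta_one hQ hφ hφ1, Int.cast_one]),
      iq_eq ((p * (Nat.card V + 1) : ℕ) : ℤ) (by rw [D.Theta_norm hQ hφ hφ1]; push_cast; rfl)] at h
    push_cast at h ⊢
    nlinarith [Int.natCast_nonneg (excIndex H)]

end CfsgLib.FT.Final
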