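import Cfsg.Agent.Lib.PGroup.AssociatedLieRing
import Cfsg.Agent.Lib.PGroup.Alperin.Powerful
import Cfsg.Agent.Lib.Coprime.Hall

/-!
# A nilpotent group whose invariant subgroups are measured in a cyclic subgroup

`Ctx C p`: every subgroup `X` invariant under all automorphisms has order `|X ⊓ C| ^ p`, `C` cyclic.
For `n = |C : C ⊓ γ₁|` and a prime `r ∣ n` with `γ₁ ≠ γ₁^r γ₂` the power map `x ↦ x^n` identifies
`Γ / Γ^r γ₁` with `γ₁ / γ₁^r γ₂`, so that the commutator becomes a product on the first layer.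
This is the group theory behind `|W₁|` being prime (`docs/FT.md` §3).
-/

set_option autoImplicit false
set_option linter.unusedSectionVars false
set_option linter.style.haveILetI false

open Subgroup
open scoped commutatorElement

namespace CfsgLib.FT.FrobLayer

open CfsgLib.GrLie

universe u

variable {Γ : Type u} [Group Γ]

/-- Invariant under every automorphism. -/
def Inv (X : Subgroup Γ) : Prop := ∀ φ : MulAut Γ, ∀ x ∈ X, φ x ∈ X

theorem Inv.normal {X : Subgroup Γ} (h : Inv X) : X.Normal :=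
  ⟨fun x hx g => h (MulAut.conj g) x hx⟩

theorem inv_γ (k : ℕ) : Inv (γ Γ k) := fun φ _ hx => map_γ_le φ.toMonoidHom k hx

theorem inv_top : Inv (⊤ : Subgroup Γ) := fun _ _ _ => mem_top _

theorem γ_zero : γ Γ 0 = ⊤ := rfl

theorem comm_one (x y : Γ) : ⁅x, y⁆ ∈ γ Γ 1 :=
  comm_mem (i := 0) (j := 0) (by rw [γ_zero]; exact mem_top _) (by rw [γ_zero]; exact mem_top _)

theorem comm_succ {k : ℕ} {x : Γ} (hx : x ∈ γ Γ k) (y : Γ) : ⁅x, y⁆ ∈ γ Γ (k + 1) := by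
  rw [← commutatorElement_inv]
  exact inv_mem (comm_mem_succ y hx)

/-- `γ_k ^ r γ_{k+1}`. -/
def Mk (k r : ℕ) : Subgroup Γ :=
  Subgroup.closure ((fun x : Γ => x ^ r) '' (γ Γ k : Set Γ)) ⊔ γ Γ (k + 1)

theorem inv_Mk (k r : ℕ) : Inv (Mk (Γ := Γ) k r) := by
  intro φ x hx
  have h : (Mk k r).map φ.toMonoidHom ≤ Mk (Γ := Γ) k r := by
    rw [Mk, Subgroup.map_sup, MonoidHom.map_closure]
    refine sup_le ((closure_le _).2 ?_) ((map_le_iff_le_comap.2 fun z hz =>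
      mem_sup_right (inv_γ _ φ z hz)))
    rintro _ ⟨_, ⟨y, hy, rfl⟩, rfl⟩
    exact mem_sup_left (subset_closure ⟨φ y, inv_γ _ φ y hy, by simp⟩)
  exact h ⟨x, hx, rfl⟩

instance normal_Mk (k r : ℕ) : (Mk (Γ := Γ) k r).Normal := (inv_Mk k r).normal

theorem Mk_le (k r : ℕ) : Mk (Γ := Γ) k r ≤ γ Γ k :=
  sup_le ((closure_le _).2 (by rintro _ ⟨y, hy, rfl⟩; exact pow_mem hy r))
    (γ_antitone k.le_succ)

theorem pow_mem_Mk {k r : ℕ} {x : Γ} (hx : x ∈ γ Γ k) : x ^ r ∈ Mk (Γ := Γ) k r :=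
  mem_sup_left (subset_closure ⟨x, hx, rfl⟩)

theorem succ_le_Mk {k r : ℕ} {x : Γ} (hx : x ∈ γ Γ (k + 1)) : x ∈ Mk (Γ := Γ) k r := mem_sup_right hx

/-- The quotient map modulo `Mk k r`. -/
abbrev qm (k r : ℕ) : Γ →* Γ ⧸ Mk (Γ := Γ) k r := QuotientGroup.mk' _

section quot

variable {k r : ℕ}

theorem qm_eq_one {x : Γ} : qm k r x = 1 ↔ x ∈ Mk (Γ := Γ) k r := QuotientGroup.eq_one_iff x

theorem qm_central {x : Γ} (hx : x ∈ γ Γ k) (y : Γ) : Commute (qm k r x) (qm k r y) := by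
  rw [commute_iff_eq, ← commutatorElement_eq_one_iff_mul_comm, ← map_commutatorElement, qm_eq_one]
  exact succ_le_Mk (comm_succ hx y)

theorem qm_pow {x : Γ} (hx : x ∈ γ Γ k) : qm k r x ^ r = 1 := by
  rw [← map_pow, qm_eq_one]
  exact pow_mem_Mk hx

theorem qm_comm_mul_left {x x' y : Γ} (h : ⁅x', y⁆ ∈ γ Γ k) :
    qm k r ⁅x * x', y⁆ = qm k r ⁅x, y⁆ * qm k r ⁅x', y⁆ := by
  rw [show ⁅x * x', y⁆ = x * ⁅x', y⁆ * x⁻¹ * ⁅x, y⁆ by simp only [commutatorElement_def]; group,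
    map_mul, map_mul, map_mul, ← (qm_central h x).eq, map_inv, mul_inv_cancel_right,
    (qm_central h _).eq]

theorem qm_comm_mul_right {x y y' : Γ} (h : ⁅x, y'⁆ ∈ γ Γ k) :
    qm k r ⁅x, y * y'⁆ = qm k r ⁅x, y⁆ * qm k r ⁅x, y'⁆ := by
  rw [show ⁅x, y * y'⁆ = ⁅x, y⁆ * (y * ⁅x, y'⁆ * y⁻¹) by simp only [commutatorElement_def]; group,
    map_mul, map_mul, map_mul, ← (qm_central h y).eq, map_inv, mul_inv_cancel_right]

theorem qm_comm_pow_left {x y : Γ} (h : ∀ m : ℕ, ⁅x ^ m, y⁆ ∈ γ Γ k) (m : ℕ) :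
    qm k r ⁅x ^ m, y⁆ = qm k r ⁅x, y⁆ ^ m := by
  induction m with
  | zero => simp
  | succ m ih => rw [pow_succ', qm_comm_mul_left (h m), ih, pow_succ']

theorem qm_comm_swap {x y : Γ} : qm k r ⁅x, y⁆ = (qm k r ⁅y, x⁆)⁻¹ := by
  rw [← map_inv, commutatorElement_inv]

/-- `⁅c, y⁆` with `c` in `γ₁` only depends on `c` modulo `γ₁^r γ₂`. -/
theorem qm_comm_Mk {j : ℕ} {c : Γ} (hc : c ∈ Mk (Γ := Γ) j r) (y : Γ) :
    qm (j + 1) r ⁅c, y⁆ = 1 := by
  have h : Mk (Γ := Γ) j r ≤ γ Γ j := Mk_le j r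
  suffices hsuf : ∀ z ∈ Mk (Γ := Γ) j r, qm (j + 1) r ⁅z, y⁆ = 1 from hsuf c hc
  intro z hz
  have hle : Mk (Γ := Γ) j r ≤
      { carrier := {z | z ∈ γ Γ j ∧ qm (j + 1) r ⁅z, y⁆ = 1}
        one_mem' := ⟨one_mem _, by simp⟩
        mul_mem' := fun {a b} ha hb => ⟨mul_mem ha.1 hb.1, by
          rw [qm_comm_mul_left (comm_succ hb.1 y), ha.2, hb.2, mul_one]⟩
        inv_mem' := fun {a} ha => ⟨inv_mem ha.1, by
          have e := qm_comm_mul_left (k := j + 1) (r := r) (x := a) (comm_succ (inv_mem ha.1) y)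
          rw [mul_inv_cancel, commutatorElement_one_left, map_one, ha.2, one_mul] at e
          exact e.symm⟩ : Subgroup Γ } := by
    refine sup_le ((closure_le _).2 ?_) fun z hz => ⟨γ_antitone j.le_succ hz,
      qm_eq_one.2 (succ_le_Mk (comm_succ hz y))⟩
    rintro _ ⟨a, ha, rfl⟩
    refine ⟨pow_mem ha r, ?_⟩
    rw [qm_comm_pow_left (fun m => comm_succ (pow_mem ha m) y), qm_pow (comm_succ ha y)]
  exact (hle hz).2

theorem qm_comm_congr {j : ℕ} {c c' : Γ} (hc : c ∈ γ Γ j) (h : qm j r c = qm j r c') (y : Γ) :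
    qm (j + 1) r ⁅c, y⁆ = qm (j + 1) r ⁅c', y⁆ := by
  have hm : c⁻¹ * c' ∈ Mk (Γ := Γ) j r := by
    rw [← qm_eq_one, map_mul, map_inv, h, inv_mul_cancel]
  have e := qm_comm_mul_left (k := j + 1) (r := r) (x := c) (comm_succ (Mk_le j r hm) y)
  rw [mul_inv_cancel_left, qm_comm_Mk hm, mul_one] at e
  exact e.symm

end quot

/-- The hypothesis. -/
structure Ctx (C : Subgroup Γ) (p : ℕ) : Prop where
  odd : Odd (Nat.card Γ)
  pos : 0 < p
  cyclic : IsCyclic C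
  nilp : Group.IsNilpotent Γ
  card_eq : ∀ X : Subgroup Γ, Inv X → Nat.card X = Nat.card ↥(X ⊓ C) ^ p

/-- `|C : C ⊓ γ₁|`. -/
noncomputable def expo (C : Subgroup Γ) : ℕ := (γ Γ 1 ⊓ C).relIndex C

variable [Finite Γ] {C : Subgroup Γ} {p : ℕ} (h : Ctx C p)
include h

theorem eq_of_inf_le {X Y : Subgroup Γ} (hX : Inv X) (hY : Inv Y) (hle : Y ≤ X)
    (hC : X ⊓ C ≤ Y) : Y = X := by
  have e : Y ⊓ C = X ⊓ C := le_antisymm (inf_le_inf_right _ hle) (le_inf hC inf_le_right)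
  exact eq_of_le_of_card_ge hle (by rw [h.card_eq X hX, h.card_eq Y hY, e])

theorem relIndex_eq {X Y : Subgroup Γ} (hX : Inv X) (hY : Inv Y) (hle : Y ≤ X) {r : ℕ}
    (hr : r.Prime) (hpow : ∀ c ∈ X ⊓ C, c ^ r ∈ Y) (hne : Y ≠ X) : Y.relIndex X = r ^ p := by
  haveI := h.cyclic
  haveI : IsCyclic ↥(X ⊓ C) :=
    isCyclic_of_injective (Subgroup.inclusion (inf_le_right : X ⊓ C ≤ C)) (inclusion_injective _)
  have hle' : Y ⊓ C ≤ X ⊓ C := inf_le_inf_right _ hle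
  set D := (Y ⊓ C).subgroupOf (X ⊓ C) with hD
  letI : CommGroup ↥(X ⊓ C) := IsCyclic.commGroup
  haveI : IsCyclic (↥(X ⊓ C) ⧸ D) :=
    isCyclic_of_surjective (QuotientGroup.mk' D) (QuotientGroup.mk'_surjective D)
  have hdvd : (Y ⊓ C).relIndex (X ⊓ C) ∣ r := by
    show D.index ∣ r
    rw [index_eq_card, ← IsCyclic.exponent_eq_card]
    refine Monoid.exponent_dvd_of_forall_pow_eq_one fun a => ?_
    obtain ⟨⟨c, hc⟩, rfl⟩ := QuotientGroup.mk_surjective a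
    rw [← QuotientGroup.mk_pow, QuotientGroup.eq_one_iff, hD, mem_subgroupOf]
    exact mem_inf.2 ⟨hpow c hc, pow_mem (mem_inf.1 hc).2 r⟩
  have hc := CfsgLib.Coprime.card_mul_relIndex hle'
  rcases (Nat.dvd_prime hr).1 hdvd with e | e
  · refine absurd (eq_of_inf_le h hX hY hle ?_) hne
    rw [relIndex_eq_one] at e
    exact e.trans inf_le_left
  · have h1 := CfsgLib.Coprime.card_mul_relIndex hle
    rw [h.card_eq X hX, ← hc, e, mul_pow, h.card_eq Y hY] at h1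
    exact Nat.eq_of_mul_eq_mul_left (pow_pos Nat.card_pos p) h1

theorem pow_expo_mem (x : Γ) : x ^ expo C ∈ γ Γ 1 := by
  haveI := h.cyclic
  have hγ : γ Γ 1 = commutator Γ := Subgroup.lowerCentralSeries_one
  rw [hγ]
  let X : Subgroup Γ := (powMonoidHom (expo C) : Abelianization Γ →* _).ker.comap Abelianization.of
  have hmem : ∀ y : Γ, y ∈ X ↔ y ^ expo C ∈ commutator Γ := fun y => by
    rw [mem_comap, MonoidHom.mem_ker, powMonoidHom_apply, ← map_pow]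
    exact QuotientGroup.eq_one_iff _
  have hX : Inv X := fun φ y hy => by
    rw [hmem] at hy ⊢
    rw [← map_pow]
    rw [← hγ] at hy ⊢
    exact inv_γ 1 φ _ hy
  have htop : X = ⊤ := eq_of_inf_le h inv_top hX le_top fun c hc => by
    rw [hmem, ← hγ]
    have hcC : c ∈ C := (mem_inf.1 hc).2
    letI : CommGroup C := IsCyclic.commGroup
    have := Subgroup.pow_index_mem ((γ Γ 1 ⊓ C).subgroupOf C) ⟨c, hcC⟩
    exact (mem_inf.1 (mem_subgroupOf.1 this)).1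
  exact (hmem x).1 (htop ▸ mem_top x)

theorem exists_pow_of_mem {c : Γ} (hc : c ∈ γ Γ 1 ⊓ C) : ∃ a ∈ C, a ^ expo C = c := by
  haveI := h.cyclic
  letI : CommGroup C := IsCyclic.commGroup
  obtain ⟨g, hg⟩ := IsCyclic.exists_generator (α := C)
  set D := (γ Γ 1 ⊓ C).subgroupOf C with hD
  have hord : orderOf (QuotientGroup.mk' D g) = expo C := by
    rw [orderOf_eq_card_of_forall_mem_zpowers fun a => ?_]
    · rw [← index_eq_card]; rfl
    obtain ⟨b, rfl⟩ := QuotientGroup.mk'_surjective D a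
    obtain ⟨i, rfl⟩ := mem_zpowers_iff.1 (hg b)
    exact mem_zpowers_iff.2 ⟨i, (map_zpow _ _ _).symm⟩
  obtain ⟨i, hi⟩ := mem_zpowers_iff.1 (hg ⟨c, (mem_inf.1 hc).2⟩)
  have h1 : QuotientGroup.mk' D g ^ i = 1 := by
    rw [← map_zpow, hi]
    exact (QuotientGroup.eq_one_iff _).2 (mem_subgroupOf.2 hc)
  rw [← orderOf_dvd_iff_zpow_eq_one, hord] at h1
  obtain ⟨j, rfl⟩ := h1
  refine ⟨((g ^ j : C) : Γ), SetLike.coe_mem _, ?_⟩
  rw [← zpow_natCast, ← SubgroupClass.coe_zpow, ← zpow_mul, mul_comm j, hi]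

theorem pow_expo_mem_succ {x : Γ} (hx : x ∈ γ Γ 1) : x ^ expo C ∈ γ Γ 2 := by
  set n := expo C
  have key : ∀ g ∈ γ Γ 1, n • el 1 g = 0 := by
    intro g hg
    rw [show γ Γ 1 = ⁅(⊤ : Subgroup Γ), ⊤⁆ from Subgroup.lowerCentralSeries_one] at hg
    have h' : g ∈ γ Γ 1 ∧ n • el 1 g = 0 := by
      induction hg using Subgroup.closure_induction with
      | mem z hz =>
        obtain ⟨a, -, b, -, rfl⟩ := hz
        refine ⟨comm_one a b, ?_⟩
        have hm : ∀ m : ℕ, el 1 ⁅a ^ m, b⁆ = m • el 1 ⁅a, b⁆ := by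
          intro m
          induction m with
          | zero => rw [pow_zero, commutatorElement_one_left, el_one, zero_nsmul]
          | succ m ih =>
            rw [pow_succ, el_comm_mul_left (i := 0) (j := 0) (by rw [γ_zero]; exact mem_top _)
              (by rw [γ_zero]; exact mem_top _) (by rw [γ_zero]; exact mem_top _), ih, succ_nsmul]
        rw [← hm]
        exact el_eq_zero_of_mem (comm_succ (pow_expo_mem h a) b)
      | one => exact ⟨one_mem _, by rw [el_one, smul_zero]⟩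
      | mul a b _ _ ha hb => exact ⟨mul_mem ha.1 hb.1, by rw [el_mul ha.1 hb.1, smul_add, ha.2, hb.2, add_zero]⟩
      | inv a _ ha => exact ⟨inv_mem ha.1, by rw [el_inv ha.1, smul_neg, ha.2, neg_zero]⟩
    exact h'.2
  rw [← el_eq_zero_iff (pow_mem hx n)]
  have hm : ∀ m : ℕ, el 1 (x ^ m) = m • el 1 x := by
    intro m
    induction m with
    | zero => rw [pow_zero, el_one, zero_nsmul]
    | succ m ih => rw [pow_succ, el_mul (pow_mem hx m) hx, ih, succ_nsmul]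
  rw [hm]
  exact key x hx

variable {r : ℕ}

theorem pow_congr_Mk (hrn : r ∣ expo C) {k : ℕ} (hk : k = 0 ∨ k = 1) {x : Γ}
    (hx : x ∈ Mk (Γ := Γ) k r) (hmul : ∀ a ∈ γ Γ k, ∀ b ∈ γ Γ k,
      qm (k + 1) r ((a * b) ^ expo C) = qm (k + 1) r (a ^ expo C) * qm (k + 1) r (b ^ expo C)) :
    qm (k + 1) r (x ^ expo C) = 1 := by
  obtain ⟨m, hm⟩ := hrn
  have hup : ∀ y ∈ γ Γ k, y ^ expo C ∈ γ Γ (k + 1) := fun y hy => by
    rcases hk with rfl | rfl
    exacts [pow_expo_mem h y, pow_expo_mem_succ h hy]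
  have hle : Mk (Γ := Γ) k r ≤
      { carrier := {z | z ∈ γ Γ k ∧ qm (k + 1) r (z ^ expo C) = 1}
        one_mem' := ⟨one_mem _, by simp⟩
        mul_mem' := fun {a b} ha hb => ⟨mul_mem ha.1 hb.1, by
          rw [hmul a ha.1 b hb.1, ha.2, hb.2, mul_one]⟩
        inv_mem' := fun {a} ha => ⟨inv_mem ha.1, by rw [inv_pow, map_inv, ha.2, inv_one]⟩ :
          Subgroup Γ } := by
    refine sup_le ((closure_le _).2 ?_) fun z hz => ⟨γ_antitone k.le_succ hz, ?_⟩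
    · rintro _ ⟨a, ha, rfl⟩
      refine ⟨pow_mem ha r, ?_⟩
      rw [← pow_mul, mul_comm, pow_mul, qm_eq_one]
      exact pow_mem_Mk (hup a ha)
    · rw [hm, pow_mul, map_pow, map_pow, qm_pow hz, one_pow]
  exact (hle hx).2

theorem pow_mul_one (hr : r.Prime) (hr2 : r ≠ 2) (hrn : r ∣ expo C) (a b : Γ) :
    qm 1 r ((a * b) ^ expo C) = qm 1 r (a ^ expo C) * qm 1 r (b ^ expo C) := by
  obtain ⟨m, hm⟩ := hrn
  have hw : ∀ x : Γ, Commute (qm 1 r ⁅b, a⁆) (qm 1 r x) := qm_central (comm_one b a)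
  have e := CfsgLib.Alperin.mul_pow_prime hr hr2 (a := qm 1 r a) (b := qm 1 r b)
    (w := qm 1 r ⁅b, a⁆) (by rw [commutatorElement_def]; simp [mul_assoc]) (hw a) (hw b)
    (qm_pow (comm_one b a))
  have hc : Commute (qm 1 r a ^ r) (qm 1 r b ^ r) := by
    rw [← map_pow, ← map_pow, commute_iff_eq, ← commutatorElement_eq_one_iff_mul_comm,
      ← map_commutatorElement, qm_comm_pow_left (fun _ => comm_one _ _), qm_pow (comm_one _ _)]
  rw [hm, pow_mul, pow_mul, pow_mul, map_pow, map_pow, map_pow, map_pow, map_pow, map_pow, map_mul, e,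
    hc.mul_pow]

/-- `x ↦ x ^ n` modulo `γ₁^r γ₂`. -/
noncomputable def pw (hr : r.Prime) (hr2 : r ≠ 2) (hrn : r ∣ expo C) : Γ →* Γ ⧸ Mk (Γ := Γ) 1 r :=
  MonoidHom.mk' (fun x => qm 1 r (x ^ expo C)) (pow_mul_one h hr hr2 hrn)

theorem pw_apply (hr : r.Prime) (hr2 : r ≠ 2) (hrn : r ∣ expo C) (x : Γ) :
    pw h hr hr2 hrn x = qm 1 r (x ^ expo C) := rfl

variable (hr : r.Prime) (hr2 : r ≠ 2) (hrn : r ∣ expo C)
include hr hr2 hrn

/-- Every element of `γ₁` is an `n`-th power modulo `γ₁^r γ₂`. -/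
theorem exists_pw {y : Γ} (hy : y ∈ γ Γ 1) : ∃ x, pw h hr hr2 hrn x = qm 1 r y := by
  set X := γ Γ 1 ⊓ ((pw h hr hr2 hrn).range).comap (qm 1 r) with hX
  have hinv : Inv X := fun φ z hz => by
    obtain ⟨hz1, x, hx⟩ := mem_inf.1 hz
    refine mem_inf.2 ⟨inv_γ 1 φ z hz1, φ x, ?_⟩
    rw [pw_apply] at hx ⊢
    have hd : (x ^ expo C)⁻¹ * z ∈ Mk (Γ := Γ) 1 r := by
      rw [← qm_eq_one, map_mul, map_inv, hx, inv_mul_cancel]
    have h2 := qm_eq_one.2 (inv_Mk 1 r φ _ hd)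
    rwa [map_mul, map_inv, map_pow φ, map_mul, map_inv, inv_mul_eq_one] at h2
  have e := eq_of_inf_le h (inv_γ 1) hinv inf_le_left fun c hc => by
    obtain ⟨a, -, ha⟩ := exists_pow_of_mem h hc
    exact mem_inf.2 ⟨(mem_inf.1 hc).1, a, by rw [pw_apply, ha]⟩
  rw [← e] at hy
  exact (mem_inf.1 hy).2

theorem range_pw : (pw h hr hr2 hrn).range = (γ Γ 1).map (qm 1 r) := by
  refine le_antisymm ?_ ?_
  · rintro _ ⟨x, rfl⟩
    exact ⟨_, pow_expo_mem h x, rfl⟩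
  · rintro _ ⟨y, hy, rfl⟩
    exact exists_pw h hr hr2 hrn hy

variable (hne : Mk (Γ := Γ) 1 r ≠ γ Γ 1)
include hne

theorem card_map_one : Nat.card ↥((γ Γ 1).map (qm 1 r)) = r ^ p := by
  rw [← relIndex_ker, QuotientGroup.ker_mk']
  exact relIndex_eq h (inv_γ 1) (inv_Mk 1 r) (Mk_le 1 r) hr
    (fun c hc => pow_mem_Mk (mem_inf.1 hc).1) hne

/-- The kernel of the power map. -/
theorem ker_pw : (pw h hr hr2 hrn).ker = Mk (Γ := Γ) 0 r := by
  have hle : Mk (Γ := Γ) 0 r ≤ (pw h hr hr2 hrn).ker := fun x hx =>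
    MonoidHom.mem_ker.2 (pow_congr_Mk h hrn (Or.inl rfl) hx fun a _ b _ => pow_mul_one h hr hr2 hrn a b)
  have hk : (pw h hr hr2 hrn).ker.index = r ^ p := by
    rw [index_ker, range_pw h hr hr2 hrn, card_map_one h hr hr2 hrn hne]
  have hM : Mk (Γ := Γ) 0 r ≠ ⊤ := fun e => by
    rw [eq_top_iff.2 (e.symm.le.trans hle), index_top] at hk
    exact absurd hk.symm (Nat.one_lt_pow h.pos.ne' hr.one_lt).ne'
  have h0 := relIndex_eq h inv_top (inv_Mk 0 r) le_top hr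
    (fun c hc => pow_mem_Mk (by rw [γ_zero]; exact (mem_inf.1 hc).1)) hM
  rw [relIndex_top_right] at h0
  exact (eq_of_le_of_card_ge hle (by
    have e1 := (pw h hr hr2 hrn).ker.card_mul_index
    have e2 := (Mk (Γ := Γ) 0 r).card_mul_index
    rw [hk] at e1
    rw [h0, ← e1] at e2
    exact (Nat.eq_of_mul_eq_mul_right (pow_pos hr.pos p) e2).ge)).symm

theorem card_range_pw : Nat.card (pw h hr hr2 hrn).range = r ^ p := by
  rw [range_pw h hr hr2 hrn, card_map_one h hr hr2 hrn hne]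

theorem pw_congr_comm {x x' : Γ} (e : pw h hr hr2 hrn x = pw h hr hr2 hrn x') (y : Γ) :
    qm 1 r ⁅x, y⁆ = qm 1 r ⁅x', y⁆ := by
  refine qm_comm_congr (j := 0) (by rw [γ_zero]; exact mem_top _) ?_ y
  have hm : x⁻¹ * x' ∈ (pw h hr hr2 hrn).ker := by
    rw [MonoidHom.mem_ker, map_mul, map_inv, e, inv_mul_cancel]
  rw [ker_pw h hr hr2 hrn hne, ← qm_eq_one, map_mul, map_inv, inv_mul_eq_one] at hm
  exact hm

/-- The commutator read through the power map. -/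
theorem exists_bracket : ∃ β : ↥(pw h hr hr2 hrn).range → ↥(pw h hr hr2 hrn).range →
      ↥(pw h hr hr2 hrn).range,
    ∀ x y : Γ, ((β ⟨_, x, rfl⟩ ⟨_, y, rfl⟩ : ↥(pw h hr hr2 hrn).range) : Γ ⧸ Mk (Γ := Γ) 1 r) =
      qm 1 r ⁅x, y⁆ := by
  refine ⟨fun a b => ⟨qm 1 r ⁅a.2.choose, b.2.choose⁆, exists_pw h hr hr2 hrn (comm_one _ _)⟩,
    fun x y => ?_⟩
  have hx := (⟨x, rfl⟩ : ∃ x', pw h hr hr2 hrn x' = pw h hr hr2 hrn x).choose_spec
  have hy := (⟨y, rfl⟩ : ∃ y', pw h hr hr2 hrn y' = pw h hr hr2 hrn y).choose_spec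
  show qm 1 r ⁅_, _⁆ = _
  rw [pw_congr_comm h hr hr2 hrn hne hx, qm_comm_swap, pw_congr_comm h hr hr2 hrn hne hy, ← qm_comm_swap]

end CfsgLib.FT.FrobLayer
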