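import Cfsg.Agent.Lib.FT.FamilyParity

/-!
# Larger members of a family, one level after the other (`docs/FT-meet-weights.md`, (G))

`X` is a finite set of irreducible characters of `M` of degrees `e D`, `D ≥ 2`, vanishing outside
`M_σ`, ranked by `ℓ`.  When `2 D + 2 ≤ n + Σ D'²` over the smaller ranks, each of them has an image
`τ(χ - D φ₀) = δ ν - D ε ψ` with distinct new irreducible characters `ν`.
-/

set_option autoImplicit false
set_option linter.unusedSectionVars false
set_option linter.style.haveILetI false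

open Subgroup

namespace CfsgLib.FT

open CfsgLib.CFun CfsgLib.Char
open Cfsg (IsClassFunction IsGeneralizedCharacter IsCharacter IsIrrCharacter IrrCharacter classInner
  sigmaCore IsMinSimpleOddOrder)
open scoped ComplexConjugate

universe u

variable {G : Type u} [Group G] [Fintype G]

/-- `χ` is a larger member with image `ν`. -/
structure ExtraImage {M : Subgroup G} (FM : Family M) (D : ℕ) (χ : M → ℂ) (δ : ℤ)
    (ν : IrrCharacter G) : Prop where
  sign : δ = 1 ∨ δ = -1
  not_mu : ν ∉ Set.range FM.μ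
  ne_one : (ν : G → ℂ) ≠ fun _ => 1
  image : tau M (χ - (D : ℂ) • FM.base.1) = (δ : ℂ) • (ν : G → ℂ) - ((D : ℂ) * FM.ε) • FM.psi

namespace Family

variable (hG : IsMinSimpleOddOrder G) {M : Subgroup G} (hM : FpfAb M) (FM : Family M)
  (X : Finset (M → ℂ)) (D : (M → ℂ) → ℕ) (ℓ : (M → ℂ) → ℕ)
  (hirr : ∀ χ ∈ X, IsIrrCharacter M χ ∧ χ 1 = (D χ : ℂ) * eIndex M ∧ 2 ≤ D χ ∧
    ∀ x : M, (x : G) ∉ sigmaCore M → χ x = 0)
include hG hM hirr

/-- One step: the previous images leave no room for a shift. -/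
theorem extra_step {χ : M → ℂ} (hχ : χ ∈ X) (Y : Finset (M → ℂ)) (hYX : Y ⊆ X) (hχY : χ ∉ Y)
    (δ : (M → ℂ) → ℤ) (ν : (M → ℂ) → IrrCharacter G)
    (hY : ∀ ξ ∈ Y, ExtraImage FM (D ξ) ξ (δ ξ) (ν ξ))
    (hrank : 2 * D χ + 2 ≤ Nat.card (Member M) + ∑ ξ ∈ Y, D ξ ^ 2) :
    ∃ (d : ℤ) (μ' : IrrCharacter G), ExtraImage FM (D χ) χ d μ' := by
  classical
  haveI := member_finite hG hM
  haveI := Fintype.ofFinite (Member M)
  haveI : Nonempty (Member M) := ⟨FM.base⟩
  haveI := Fintype.ofFinite M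
  haveI := Fintype.ofFinite (IrrCharacter G)
  obtain ⟨hφ, hd, hp, hv⟩ := hirr χ hχ
  set p := D χ with hpdef
  set α := χ - (p : ℂ) • FM.base.1 with hα
  let φ' : IrrCharacter M := ⟨χ, hφ⟩
  have hαc : IsClassFunction M α := fun x y => by
    simp only [α, Pi.sub_apply, Pi.smul_apply, member_class hG FM.base x y]
    exact congrArg₂ _ (isClassFunction_irr φ' x y) rfl
  have hcls : ∀ ξ ∈ Y, IsClassFunction M (ξ - (D ξ : ℂ) • FM.base.1) := fun ξ hξ x y => by
    simp only [Pi.sub_apply, Pi.smul_apply, member_class hG FM.base x y]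
    exact congrArg₂ _ (isClassFunction_irr (⟨ξ, (hirr ξ (hYX hξ)).1⟩ : IrrCharacter M) x y) rfl
  have hαg : IsGeneralizedCharacter M α := by
    refine isGeneralizedCharacter_sub (isGeneralizedCharacter_of_isCharacter (isCharacter_irr φ')) ?_
    have := isGeneralizedCharacter_zsmul (member_gen hG FM.base) (p : ℤ)
    rwa [Int.cast_natCast] at this
  have hαs : SharpSupp M α := by
    intro x hx
    by_cases hxs : (x : G) ∈ sigmaCore M
    · have hx1 : x = 1 := Subtype.ext (by_contra fun h => hx ⟨hxs, h⟩)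
      simp [α, hx1, hd, member_one]
    · simp [α, hv x hxs, member_vanish hG FM.base hxs]
  have hne : ∀ ξ ∈ X, ∀ i : Member M, classInner ξ i.1 = 0 := fun ξ hξ i =>
    classInner_irr_ne (χ := ⟨ξ, (hirr ξ hξ).1⟩) (ψ := ⟨i.1, member_irr hG hM i⟩) fun e => by
      have h := congrFun (congrArg Subtype.val e) 1
      change ξ 1 = i.1 1 at h
      obtain ⟨-, hd', hp', -⟩ := hirr ξ hξ
      rw [hd', member_one, mul_eq_right₀ (by exact_mod_cast eIndex_pos.ne')] at h
      norm_cast at h
      omega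
  have hαn : classInner α α = (p : ℂ) ^ 2 + 1 := by
    simp only [α, classInner_sub_left, classInner_sub_right, classInner_smul_left, classInner_smul_right,
      hne χ hχ, ← classInner_conj χ FM.base.1, member_self hG hM, map_zero, map_natCast,
      show classInner χ χ = 1 from classInner_irr_self φ']
    ring
  have hγg := tau_gen hG hM.coatom hαg hαs
  have hγn : classInner (tau M α) (tau M α) = (p : ℂ) ^ 2 + 1 := by
    rw [tau_inner hG hM.coatom hαc hαs hαc, hαn]
  obtain ⟨m, hm, hexp, hnorm⟩ := generalized_expand hγg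
  have hμ : ∀ i, i ≠ FM.base → m (FM.μ i) = m (FM.μ FM.base) + FM.ε * p := by
    intro i hi
    have h := tau_inner hG hM.coatom hαc hαs (β := i.1 - FM.base.1) fun x y => by
      simp only [Pi.sub_apply, member_class hG i x y, member_class hG FM.base x y]
    rw [FM.image, classInner_smul_right, classInner_sub_right, hm, hm, eps_conj] at h
    simp only [α, classInner_sub_left, classInner_sub_right, classInner_smul_left, hne χ hχ,
      member_self hG hM, member_orth hG hM (Ne.symm hi)] at h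
    apply Int.cast_injective (α := ℂ)
    push_cast
    linear_combination (FM.ε : ℂ) * h - ((m (FM.μ i) : ℂ) - m (FM.μ FM.base)) * FM.eps_sq
  set y := m (FM.μ FM.base) + FM.ε * p with hy
  have he : FM.ε * FM.ε = 1 := by rcases FM.sign with e | e <;> simp [e]
  -- the coefficients at the previous images
  have hprev : ∀ ξ ∈ Y, m (ν ξ) ^ 2 = (D ξ : ℤ) ^ 2 * y ^ 2 := by
    intro ξ hξ
    have hξne : χ ≠ ξ := fun e => hχY (e ▸ hξ)
    have h := tau_inner hG hM.coatom hαc hαs (hcls ξ hξ)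
    rw [(hY ξ hξ).image, classInner_sub_right, classInner_smul_right, classInner_smul_right, hm,
      show classInner (tau M α) FM.psi = (m (FM.μ FM.base) : ℂ) from hm _] at h
    simp only [α, classInner_sub_left, classInner_sub_right, classInner_smul_left, classInner_smul_right,
      map_mul, map_natCast, map_intCast, hne χ hχ, ← classInner_conj ξ FM.base.1, hne ξ (hYX hξ),
      member_self hG hM, map_zero,
      show classInner χ ξ = 0 from classInner_irr_ne (χ := φ') (ψ := ⟨ξ, (hirr ξ (hYX hξ)).1⟩)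
        (fun e => hξne (congrArg Subtype.val e))] at h
    have hdd : δ ξ * δ ξ = 1 := by rcases (hY ξ hξ).sign with e | e <;> simp [e]
    have h' : δ ξ * m (ν ξ) = (D ξ : ℤ) * (FM.ε * y) := by
      apply Int.cast_injective (α := ℂ)
      rw [hy]
      push_cast
      linear_combination h - ((D ξ : ℂ) * p) * FM.eps_sq
    calc m (ν ξ) ^ 2 = (δ ξ * m (ν ξ)) ^ 2 := by linear_combination -(m (ν ξ)) ^ 2 * hdd
      _ = _ := by rw [h']; linear_combination ((D ξ : ℤ) ^ 2 * y ^ 2) * he
  have hνinj : Set.InjOn ν (Y : Set (M → ℂ)) := by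
    intro ξ hξ ξ' hξ' e
    by_contra hne'
    obtain ⟨h1, h2, h3, h4⟩ := hirr ξ (hYX hξ)
    obtain ⟨k1, k2, k3, k4⟩ := hirr ξ' (hYX hξ')
    exact FM.extra_ne hG hM h1 k1 hne' h4 k4 h3 k3 h2 k2 (hY ξ hξ).sign (hY ξ' hξ').sign (hY ξ hξ).image
      (hY ξ' hξ').image (hY ξ hξ).not_mu (hY ξ' hξ').not_mu e
  have htot : ∑ χ, m χ ^ 2 = (p : ℤ) ^ 2 + 1 := by
    have h := hnorm.symm.trans hγn
    exact_mod_cast h
  set R : Finset (IrrCharacter G) := Finset.univ.image FM.μ ∪ Y.image ν with hR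
  set W : ℤ := (Nat.card (Member M) : ℤ) + ∑ ξ ∈ Y, (D ξ : ℤ) ^ 2 with hW
  have hRsum : ∑ χ ∈ R, m χ ^ 2 = W * y ^ 2 - 2 * y * FM.ε * p + (p : ℤ) ^ 2 := by
    rw [hR, Finset.sum_union (Finset.disjoint_left.2 fun a ha hb => by
        obtain ⟨i, -, rfl⟩ := Finset.mem_image.1 ha
        obtain ⟨ξ, hξ, e⟩ := Finset.mem_image.1 hb
        exact (hY ξ hξ).not_mu ⟨i, e.symm⟩),
      Finset.sum_image hνinj, Finset.sum_congr rfl hprev, ← Finset.sum_mul,
      Finset.sum_image fun a _ b _ h => FM.inj h, ← Finset.add_sum_erase _ _ (Finset.mem_univ FM.base),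
      Finset.sum_congr rfl (g := fun _ => y ^ 2) fun i hi => by rw [hμ i (Finset.mem_erase.1 hi).1],
      Finset.sum_const, Finset.card_erase_of_mem (Finset.mem_univ _), Finset.card_univ, nsmul_eq_mul,
      ← Nat.card_eq_fintype_card, Nat.cast_sub (Nat.card_pos (α := Member M)),
      show m (FM.μ FM.base) = y - FM.ε * p by rw [hy]; ring]
    rw [hW]
    push_cast
    linear_combination (p : ℤ) ^ 2 * he
  have hy0 : y = 0 := by
    by_contra hy0
    have hle : ∑ χ ∈ R, m χ ^ 2 ≤ (p : ℤ) ^ 2 + 1 := htot ▸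
      Finset.sum_le_sum_of_subset_of_nonneg (Finset.subset_univ R) fun _ _ _ => sq_nonneg _
    rw [hRsum] at hle
    have h1 : (1 : ℤ) ≤ |y| := Int.one_le_abs hy0
    have h2 : y * FM.ε ≤ |y| := by
      rcases FM.sign with e | e <;> rw [e]
      · simpa using le_abs_self y
      · simpa using neg_le_abs y
    have hW2 : (2 * p + 2 : ℤ) ≤ W := by rw [hW]; exact_mod_cast hrank
    have hp0 : (0 : ℤ) ≤ p := Int.natCast_nonneg p
    nlinarith [sq_abs y, mul_le_mul_of_nonneg_right hW2 (sq_nonneg y),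
      mul_le_mul_of_nonneg_right h2 (by positivity : (0 : ℤ) ≤ 2 * p),
      mul_le_mul_of_nonneg_left h1 (mul_nonneg hp0 (abs_nonneg y))]
  have hrest : ∑ χ ∈ Finset.univ \ R, m χ ^ 2 = 1 := by
    rw [Finset.sum_sdiff_eq_sub (Finset.subset_univ R), htot, hRsum, hy0]
    ring
  obtain ⟨ν', hνR, hν⟩ : ∃ ν' ∈ Finset.univ \ R, m ν' ≠ 0 := by
    by_contra hc
    push Not at hc
    rw [Finset.sum_eq_zero fun χ hχ => by rw [hc χ hχ]; norm_num] at hrest
    exact zero_ne_one hrest
  have hothers : ∀ χ ∈ Finset.univ \ R, χ ≠ ν' → m χ = 0 := by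
    intro χ hχ hne'
    by_contra hχ0
    have h := Finset.sum_le_sum_of_subset_of_nonneg (f := fun χ => m χ ^ 2)
      (show {χ, ν'} ⊆ Finset.univ \ R by simp_all [Finset.insert_subset_iff]) fun _ _ _ => sq_nonneg _
    rw [Finset.sum_pair hne', hrest] at h
    have a1 : 0 < m χ ^ 2 := by positivity
    have a2 : 0 < m ν' ^ 2 := by positivity
    omega
  have hν1 : m ν' = 1 ∨ m ν' = -1 := by
    rw [Finset.sum_eq_single ν' (fun b hb hb' => by rw [hothers b hb hb']; norm_num)
      (fun h => absurd hνR h)] at hrest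
    exact sq_eq_one_iff.1 hrest
  refine ⟨m ν', ν', ⟨hν1, ?_, ?_, ?_⟩⟩
  · rintro ⟨i, rfl⟩
    exact (Finset.mem_sdiff.1 hνR).2 (Finset.mem_union_left _ (Finset.mem_image_of_mem _ (Finset.mem_univ i)))
  · intro e
    have h := hm ν'
    rw [e, tau_inner_one hG hM.coatom hαc hαs, classInner_sub_left, classInner_smul_left,
      member_inner_one hG, mul_zero, sub_zero,
      classInner_irr_ne (χ := φ') (ψ := ⟨_, isIrrCharacter_one⟩) fun e' => by
        have h1 := congrFun (congrArg Subtype.val e') 1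
        change χ 1 = 1 at h1
        rw [hd] at h1
        norm_cast at h1
        have := Nat.eq_one_of_mul_eq_one_right h1
        omega] at h
    exact hν (by exact_mod_cast h.symm)
  · rw [hexp, ← Finset.sum_sdiff (Finset.subset_univ R), sub_eq_add_neg]
    congr 1
    · exact Finset.sum_eq_single ν' (fun b hb hb' => by rw [hothers b hb hb']; simp)
        fun h => absurd hνR h
    · rw [Finset.sum_eq_single (FM.μ FM.base) (fun b hb hb' => ?_) (fun h => absurd
        (Finset.mem_union_left _ (Finset.mem_image_of_mem FM.μ (Finset.mem_univ FM.base))) h),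
        show m (FM.μ FM.base) = -(FM.ε * p) by linarith [hy, hy0]]
      · rw [psi, ← neg_smul]
        congr 1
        push_cast
        ring
      · have h0 : m b = 0 := by
          rcases Finset.mem_union.1 hb with hb | hb
          · obtain ⟨i, -, rfl⟩ := Finset.mem_image.1 hb
            rw [hμ i fun e => hb' (by rw [e]), hy0]
          · obtain ⟨ξ, hξ, rfl⟩ := Finset.mem_image.1 hb
            have := hprev ξ hξ
            rwa [hy0, zero_pow two_ne_zero, mul_zero, sq_eq_zero_iff] at this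
        rw [h0]; simp

variable (hrank : ∀ χ ∈ X,
  2 * D χ + 2 ≤ Nat.card (Member M) + ∑ ξ ∈ X.filter (fun ξ => ℓ ξ < ℓ χ), D ξ ^ 2)
include hrank

/-- All of `X` has distinct new images. -/
theorem exists_greedy :
    ∃ (δ : X → ℤ) (ν : X → IrrCharacter G), Function.Injective ν ∧
      ∀ χ : X, ExtraImage FM (D χ) χ (δ χ) (ν χ) := by
  classical
  have key : ∀ L, ∀ χ ∈ X, ℓ χ < L → ∃ (d : ℤ) (μ' : IrrCharacter G), ExtraImage FM (D χ) χ d μ' := by
    intro L
    induction L with
    | zero => exact fun χ _ h => absurd h (Nat.not_lt_zero _)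
    | succ L ih =>
      intro χ hχ hl
      set Y := X.filter (fun ξ => ℓ ξ < ℓ χ) with hY
      have hex : ∀ ξ, ∃ (d : ℤ) (μ' : IrrCharacter G), ξ ∈ Y → ExtraImage FM (D ξ) ξ d μ' := by
        intro ξ
        by_cases hξ : ξ ∈ Y
        · obtain ⟨hξX, hξl⟩ := Finset.mem_filter.1 hξ
          obtain ⟨d, μ', hd⟩ := ih ξ hξX (by omega)
          exact ⟨d, μ', fun _ => hd⟩
        · exact ⟨0, FM.μ FM.base, fun h => absurd h hξ⟩
      choose δ ν hν using hex
      exact FM.extra_step hG hM X D hirr hχ Y (Finset.filter_subset _ _)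
        (fun h => lt_irrefl _ (Finset.mem_filter.1 h).2) δ ν hν (hrank χ hχ)
  choose δ ν hν using fun χ : X => key (ℓ χ.1 + 1) χ.1 χ.2 (Nat.lt_succ_self _)
  refine ⟨δ, ν, fun χ χ' e => ?_, hν⟩
  by_contra hne
  obtain ⟨h1, h2, h3, h4⟩ := hirr χ.1 χ.2
  obtain ⟨k1, k2, k3, k4⟩ := hirr χ'.1 χ'.2
  exact FM.extra_ne hG hM h1 k1 (fun e' => hne (Subtype.ext e')) h4 k4 h3 k3 h2 k2 (hν χ).sign (hν χ').sign
    (hν χ).image (hν χ').image (hν χ).not_mu (hν χ').not_mu e

end Family

end CfsgLib.FT
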