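import Cfsg.Agent.Lib.FT.MeetCore

/-!
# The extraspecial leaf of case B2 (`docs/FT-meet-weights.md`)

`|M_σ : M_σ'| = p²`, `|D₁| ≤ p²` and a character `φ` of degree `e p` and norm `e`, orthogonal to the
family (induced from an invariant non-linear character of `M_σ`): Cauchy–Schwarz outside the family
for `τ(φ - p φ₀) ⊥ τθ_N`.
-/

set_option autoImplicit false
set_option linter.unusedSectionVars false
set_option linter.style.haveILetI false

open Subgroup

namespace CfsgLib.FT

open CfsgLib.CFun CfsgLib.CFun.TauTwo Cfsg CfsgLib.Char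
open scoped ComplexConjugate

universe u

variable {G : Type u} [Group G] [Fintype G] (hG : IsMinSimpleOddOrder G) {M N : Subgroup G} {x : G}
  {p : ℕ} (h : BadData M N x p) (hM : FpfAb M) (F : Family M) (hnum : MeetNums M p)
include hG h hM hnum

/-- No bad pair with such an invariant character. -/
theorem false_of_invariant [Fintype M] (hcong : Cong p (F.psi x) ((F.ε * eIndex M : ℤ) : ℂ))
    (hk : kZero M = p ^ 2) (hD1 : Nat.card (sigmaCore M ⊓ N : Subgroup G) ≤ p ^ 2)
    (hn : 2 * p ≤ Nat.card (Member M)) {φ : M → ℂ} (hφg : IsGeneralizedCharacter M φ)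
    (hφc : IsClassFunction M φ) (hφ1 : φ 1 = (p : ℂ) * eIndex M)
    (hφv : ∀ g : M, (g : G) ∉ sigmaCore M → φ g = 0)
    (hφn : classInner φ φ = (eIndex M : ℂ)) (hφm : ∀ i : Member M, classInner φ i.1 = 0) : False := by
  classical
  obtain ⟨θ, a, hθ, hdvd, hai, -⟩ := core hG h hM F hnum hcong
  haveI : (sigmaIn N).Normal := sigmaIn_normal hG
  haveI : (kerN N).Normal := sigmaIn_normal hG
  haveI := member_finite hG hM
  haveI := Fintype.ofFinite (Member M)
  haveI := Fintype.ofFinite (IrrCharacter G)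
  haveI : Nonempty (Member M) := ⟨F.base⟩
  have hp : (5 : ℤ) ≤ p := by exact_mod_cast hnum.five_le
  have hne : (Nat.card (Member M) : ℤ) * eIndex M + 1 = (p : ℤ) ^ 2 := by
    have := member_card hG hM
    rw [hk] at this
    exact_mod_cast this
  set e : ℤ := (eIndex M : ℤ) with he
  set n : ℤ := (Nat.card (Member M) : ℤ) with hn'
  have he0 : 1 ≤ e := by rw [he]; exact_mod_cast eIndex_pos
  have hn2 : 2 * (p : ℤ) ≤ n := by rw [hn']; exact_mod_cast hn
  have h2e : 2 * e < p := by
    by_contra hc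
    rw [not_lt] at hc
    nlinarith [mul_le_mul_of_nonneg_right hn2 (by linarith : (0 : ℤ) ≤ e)]
  have ha : e ^ 2 ≤ a ^ 2 := by
    refine sq_le_sq.2 ?_
    rw [abs_of_nonneg (by linarith : 0 ≤ e)]
    rcases eq_or_ne (a - F.ε * e) 0 with h0 | h0
    · rw [sub_eq_zero] at h0
      rw [h0]
      rcases F.sign with e' | e' <;> simp [e', abs_of_nonneg (by linarith : 0 ≤ e)]
    · have h1 := Int.le_of_dvd (abs_pos.2 h0) ((dvd_abs _ _).2 hdvd)
      have h2 := abs_sub a (F.ε * e)
      have h3 : |F.ε * e| = e := by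
        rcases F.sign with e' | e' <;> simp [e', abs_of_nonneg (by linarith : 0 ≤ e)]
      linarith
  -- `Γ = τ(φ - p φ₀)`
  set α := φ - (p : ℂ) • F.base.1 with hα
  have hαc : IsClassFunction M α := fun g t => by
    simp only [α, Pi.sub_apply, Pi.smul_apply, member_class hG F.base g t, hφc g t]
  have hαg : IsGeneralizedCharacter M α := by
    refine isGeneralizedCharacter_sub hφg ?_
    have := isGeneralizedCharacter_zsmul (member_gen hG F.base) (p : ℤ)
    rwa [Int.cast_natCast] at this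
  have hαs : SharpSupp M α := by
    intro g hg
    by_cases hgs : (g : G) ∈ sigmaCore M
    · have hg1 : g = 1 := Subtype.ext (by_contra fun h => hg ⟨hgs, h⟩)
      simp [α, hg1, hφ1, member_one]
    · simp [α, hφv g hgs, member_vanish hG F.base hgs]
  obtain ⟨m, hm, hexp, hnorm⟩ := generalized_expand (tau_gen hG h.bad.coatom hαg hαs)
  obtain ⟨mT, hmT, hexpT, hnormT⟩ :=
    generalized_expand (tau_gen hG h.coatom (thetaN_gen hG h θ) (thetaN_supp hG h θ))
  have hμT : ∀ i, mT (F.μ i) = a := fun i => by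
    have e' := hmT (F.μ i)
    rw [← classInner_conj, hai i, map_intCast] at e'
    exact_mod_cast e'.symm
  have horth : (∑ χ : IrrCharacter G, m χ * mT χ : ℤ) = 0 := by
    have h0 : classInner (tau M α) (tau N (thetaN N θ)) = 0 :=
      tau_orth hG h.bad.coatom h.coatom h.notConj _ _
    conv at h0 => lhs; rw [hexpT]
    rw [classInner_sum_right] at h0
    simp only [classInner_smul_right, hm, map_intCast] at h0
    have : ((∑ χ : IrrCharacter G, m χ * mT χ : ℤ) : ℂ) = 0 := by
      rw [← h0, Int.cast_sum]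
      exact Finset.sum_congr rfl fun χ _ => by push_cast; ring
    exact_mod_cast this
  have hγn : (∑ χ : IrrCharacter G, m χ ^ 2 : ℤ) = (p : ℤ) ^ 2 + e := by
    have h1 : classInner (tau M α) (tau M α) = (p : ℂ) ^ 2 + (eIndex M : ℂ) := by
      rw [tau_inner hG h.bad.coatom hαc hαs hαc]
      simp only [α, classInner_sub_left, classInner_sub_right, classInner_smul_left, classInner_smul_right,
        hφn, hφm, ← classInner_conj φ F.base.1, member_self hG hM, map_zero, map_natCast]
      ring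
    have h2 := hnorm.symm.trans h1
    rw [he]
    exact_mod_cast h2
  have hμ : ∀ i, i ≠ F.base → m (F.μ i) = m (F.μ F.base) + F.ε * p := by
    intro i hi
    have h1 := tau_inner hG hM.coatom hαc hαs (β := i.1 - F.base.1) fun g t => by
      simp only [Pi.sub_apply, member_class hG i g t, member_class hG F.base g t]
    rw [F.image, classInner_smul_right, classInner_sub_right, hm, hm, Family.eps_conj] at h1
    simp only [α, classInner_sub_left, classInner_sub_right, classInner_smul_left, hφm,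
      member_self hG hM, member_orth hG hM (Ne.symm hi)] at h1
    apply Int.cast_injective (α := ℂ)
    push_cast
    linear_combination (F.ε : ℂ) * h1 - ((m (F.μ i) : ℂ) - m (F.μ F.base)) * F.eps_sq
  set y := m (F.μ F.base) + F.ε * p with hy
  have heps : F.ε * F.ε = 1 := by rcases F.sign with e' | e' <;> simp [e']
  set R : Finset (IrrCharacter G) := Finset.univ.image F.μ with hR
  have hsum : ∀ f : IrrCharacter G → ℤ, ∑ χ ∈ R, f χ =
      f (F.μ F.base) + ∑ i ∈ Finset.univ.erase F.base, f (F.μ i) := fun f => by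
    rw [hR, Finset.sum_image fun a _ b _ h => F.inj h, ← Finset.add_sum_erase _ _ (Finset.mem_univ F.base)]
  have hcard : ((Finset.univ.erase F.base).card : ℤ) = n - 1 := by
    rw [Finset.card_erase_of_mem (Finset.mem_univ _), Finset.card_univ, ← Nat.card_eq_fintype_card,
      Nat.cast_sub Nat.card_pos, hn']
    rfl
  have hR2 : ∑ χ ∈ R, m χ ^ 2 = n * y ^ 2 - 2 * y * F.ε * p + (p : ℤ) ^ 2 := by
    rw [hsum, Finset.sum_congr rfl (g := fun _ => y ^ 2) fun i hi => by rw [hμ i (Finset.mem_erase.1 hi).1],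
      Finset.sum_const, nsmul_eq_mul, hcard, show m (F.μ F.base) = y - F.ε * p by rw [hy]; ring]
    linear_combination (p : ℤ) ^ 2 * heps
  have hRT : ∑ χ ∈ R, mT χ ^ 2 = n * a ^ 2 := by
    rw [hsum, hμT, Finset.sum_congr rfl (g := fun _ => a ^ 2) fun i _ => by rw [hμT i], Finset.sum_const,
      nsmul_eq_mul, hcard]
    ring
  have hRm : ∑ χ ∈ R, m χ * mT χ = (n * y - F.ε * p) * a := by
    rw [hsum, hμT, Finset.sum_congr rfl (g := fun _ => y * a) fun i hi => by
        rw [hμ i (Finset.mem_erase.1 hi).1, hμT i],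
      Finset.sum_const, nsmul_eq_mul, hcard, show m (F.μ F.base) = y - F.ε * p by rw [hy]; ring]
    ring
  -- Cauchy–Schwarz outside the family
  have hCS := Finset.sum_mul_sq_le_sq_mul_sq (Finset.univ \ R) m mT
  rw [Finset.sum_sdiff_eq_sub (Finset.subset_univ R), Finset.sum_sdiff_eq_sub (Finset.subset_univ R),
    Finset.sum_sdiff_eq_sub (Finset.subset_univ R), horth, hγn, hR2, hRT, hRm] at hCS
  have hTn : (p : ℤ) * ∑ χ : IrrCharacter G, mT χ ^ 2 ≤ ((p : ℤ) + 1) * (e * (p : ℤ) ^ 2) := by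
    have h1 := hnormT.symm.trans (tau_thetaN_norm hG h θ hθ)
    have hI : (p : ℝ) ≤ ((inertia (sigmaIn N) (fun z => (θ z : ℂ))).index : ℝ) := by
      exact_mod_cast le_index_inertia hG h (θ := θ) hθ
    have h2 := congrArg Complex.re h1
    rw [Complex.intCast_re, Complex.add_re, Complex.natCast_re, Complex.div_natCast_re,
      Complex.natCast_re] at h2
    have hidx : ((sigmaIn N).index : ℝ) ≤ (eIndex M : ℝ) * (p : ℝ) ^ 2 := by
      rw [show (sigmaIn N).index = (kerN N).index from rfl, ← index_zeroN hG h]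
      exact_mod_cast Nat.mul_le_mul (Nat.le_of_dvd eIndex_pos (index_zeroN_dvd hG h)) hD1
    have hp0 : (0 : ℝ) < p := by exact_mod_cast h.bad.prime.pos
    have h3 : ((sigmaIn N).index : ℝ) / ((inertia (sigmaIn N) (fun z => (θ z : ℂ))).index : ℝ) ≤
        ((sigmaIn N).index : ℝ) / (p : ℝ) := div_le_div_of_nonneg_left (Nat.cast_nonneg _) hp0 hI
    have h4 : (p : ℝ) * ((∑ χ : IrrCharacter G, mT χ ^ 2 : ℤ) : ℝ) ≤
        ((p : ℝ) + 1) * ((eIndex M : ℝ) * (p : ℝ) ^ 2) := by
      rw [h2]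
      calc (p : ℝ) * ((sigmaIn N).index + ((sigmaIn N).index : ℝ) /
            ((inertia (sigmaIn N) (fun z => (θ z : ℂ))).index : ℝ)) ≤
          (p : ℝ) * ((sigmaIn N).index + ((sigmaIn N).index : ℝ) / (p : ℝ)) := by gcongr
        _ = ((p : ℝ) + 1) * (sigmaIn N).index := by field_simp
        _ ≤ _ := by gcongr
    rw [he]
    exact_mod_cast h4
  -- the inequality
  set U : ℤ := (p : ℤ) ^ 2 + e - (n * y ^ 2 - 2 * y * F.ε * p + (p : ℤ) ^ 2) with hU
  set V : ℤ := ∑ χ : IrrCharacter G, mT χ ^ 2 - n * a ^ 2 with hV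
  have hU' : U ≤ e := by
    rw [hU]
    rcases eq_or_ne y 0 with h0 | h0
    · rw [h0]; ring_nf; rfl
    · have h1 : (1 : ℤ) ≤ |y| := Int.one_le_abs h0
      have h2 : y * F.ε ≤ |y| := by
        rcases F.sign with e' | e' <;> rw [e']
        · simpa using le_abs_self y
        · simpa using neg_le_abs y
      have k1 : |y| ≤ y ^ 2 := by rw [← sq_abs y, pow_two]; exact le_mul_of_one_le_left (abs_nonneg y) h1
      have k2 := mul_le_mul_of_nonneg_right hn2 (sq_nonneg y)
      have k3 := mul_le_mul_of_nonneg_left (h2.trans k1) (by linarith : (0 : ℤ) ≤ 2 * (p : ℤ))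
      linarith
  have hV' : (p : ℤ) * V ≤ (p : ℤ) * (e * ((p : ℤ) + 1)) := by
    have h1 : n * e ^ 2 ≤ n * a ^ 2 := mul_le_mul_of_nonneg_left ha (by linarith)
    rw [hV, mul_sub]
    have h2 : n * e ^ 2 = e * ((p : ℤ) ^ 2 - 1) := by linear_combination e * hne
    have h3 := mul_le_mul_of_nonneg_left h1 (by linarith : (0 : ℤ) ≤ (p : ℤ))
    linarith [congrArg (fun z => (p : ℤ) * z) h2]
  have hV0 : V ≤ e * ((p : ℤ) + 1) := le_of_mul_le_mul_left hV' (by linarith)
  have hL : (p : ℤ) ^ 2 * e ^ 2 ≤ (0 - (n * y - F.ε * p) * a) ^ 2 := by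
    have h1 : (p : ℤ) ^ 2 ≤ (n * y - F.ε * p) ^ 2 := by
      rcases eq_or_ne y 0 with h0 | h0
      · rw [h0]
        exact le_of_eq (by linear_combination -((p : ℤ) ^ 2) * heps)
      · have h1 : (1 : ℤ) ≤ |y| := Int.one_le_abs h0
        refine sq_le_sq.2 ?_
        have h2 := abs_sub_abs_le_abs_sub (n * y) (F.ε * p)
        have h3 : |F.ε * (p : ℤ)| = p := by
          rcases F.sign with e' | e' <;> simp [e']
        rw [h3, abs_mul, abs_of_nonneg (by linarith : 0 ≤ n)] at h2
        rw [Nat.abs_cast]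
        have h4 := le_mul_of_one_le_right (by linarith : 0 ≤ n) h1
        linarith
    rw [show (0 - (n * y - F.ε * p) * a) ^ 2 = (n * y - F.ε * p) ^ 2 * a ^ 2 by ring]
    exact mul_le_mul h1 ha (sq_nonneg _) (sq_nonneg _)
  have hU0 : 0 ≤ U := by
    rw [hU, ← hγn, ← hR2, ← Finset.sum_sdiff_eq_sub (Finset.subset_univ R)]
    exact Finset.sum_nonneg fun _ _ => sq_nonneg _
  have h5 : U * V ≤ e * (e * ((p : ℤ) + 1)) :=
    mul_le_mul hU' hV0 (by
      rw [hV, ← hRT, ← Finset.sum_sdiff_eq_sub (Finset.subset_univ R)]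
      exact Finset.sum_nonneg fun _ _ => sq_nonneg _) (by linarith)
  have h6 : (p : ℤ) ^ 2 * e ^ 2 ≤ e * (e * ((p : ℤ) + 1)) := (hL.trans hCS).trans h5
  have h7 : ((p : ℤ) ^ 2 - p - 1) * e ^ 2 ≤ 0 := by linarith
  have h8 : (0 : ℤ) < ((p : ℤ) ^ 2 - p - 1) * e ^ 2 :=
    mul_pos (by nlinarith) (pow_pos (by linarith) 2)
  linarith

end CfsgLib.FT
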