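import Cfsg.Agent.Lib.FT.FamilyBasic
import Cfsg.Agent.Lib.Char.PPrimeDegreeSquares
import Cfsg.Agent.Lib.Char.CoherenceDescend
import Cfsg.Agent.Lib.Char.TypePLike
import Cfsg.Agent.Lib.Char.InducedSet
import Cfsg.Agent.Lib.Char.SignedIrr
import Cfsg.Agent.Lib.Char.InvariantRelative
import Cfsg.Agent.Lib.Char.CoreInduced

/-!
# The non-linear characters of a nilpotent quotient of `M_σ` (`docs/FT-meet-weights.md`, (L))

For `L ≤ M_σ'` normal in `M` with `M_σ / L` a central extension of a `p`-group the irreducible characters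
of `M_σ / L` have degrees `p ^ i` with `p ^ (2 i) ∣ |M_σ : L|`; those of smaller degree have squares
adding up to a multiple of `p ^ (2 i)`, so the characters induced from the ones not fixed outside `M_σ`
satisfy the hypothesis of `FT/GreedyExtra` with the degree as rank.  `irregular_eq_empty` and
`irregular_ncard_le` bound the excluded ones, `exists_layer` gives the characters of one more layer.
-/

set_option autoImplicit false
set_option linter.unusedSectionVars false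
set_option linter.style.haveILetI false

open Subgroup

namespace CfsgLib.FT

open CfsgLib.CFun CfsgLib.Char
open Cfsg (IsClassFunction IsCharacter IsIrrCharacter IrrCharacter classInner indFun charDegree
  sigmaCore IsMinSimpleOddOrder)
open scoped commutatorElement

universe u

namespace Levels

section generic

variable {Γ : Type u} [Group Γ] (K : Subgroup Γ) [K.Normal]

variable [Fintype Γ] [Fintype K]

theorem indFun_irr_of_inertia {θ : K → ℂ} (hθ : IsIrrCharacter K θ) (hreg : inertia K θ = K) :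
    IsIrrCharacter Γ (indFun K θ) := by
  refine isIrr_of_isCharacter_norm_one (isCharacter_indFun K (isCharacter_of_isIrr hθ)) ?_
  have h := card_smul_classInner_indFun_self K hθ
  rw [hreg] at h
  exact mul_left_cancel₀ (Nat.cast_ne_zero.2 Nat.card_pos.ne') (h.trans (mul_one _).symm)

theorem indFun_conjFun (θ : K → ℂ) (x : Γ) : indFun K (conjFun K θ x) = indFun K θ := by
  funext y
  simp only [indFun]
  congr 1
  rw [← Equiv.sum_comp (Equiv.mulRight x)]
  refine Finset.sum_congr rfl fun z _ => ?_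
  have e : (z * x)⁻¹ * y * (z * x) = x⁻¹ * (z⁻¹ * y * z) * x := by group
  simp only [Equiv.coe_mulRight]
  rw [e]
  by_cases hm : z⁻¹ * y * z ∈ K
  · have hm' : x⁻¹ * (z⁻¹ * y * z) * x ∈ K := by simpa using ‹K.Normal›.conj_mem _ hm x⁻¹
    rw [extendByZero_mem _ _ hm', extendByZero_mem _ _ hm]
    exact congrArg θ (Subtype.ext (by group))
  · rw [extendByZero_not_mem, extendByZero_not_mem _ _ hm]
    intro hm'
    exact hm (by simpa [mul_assoc] using ‹K.Normal›.conj_mem _ hm' x)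

theorem exists_conj_of_indFun_eq {ψ θ : K → ℂ} (hψ : IsIrrCharacter K ψ) (hθ : IsIrrCharacter K θ)
    (e : indFun K ψ = indFun K θ) : ∃ x : Γ, conjFun K θ x = ψ := by
  have h : classInner (fun n : K => indFun K θ n) ψ ≠ 0 := by
    rw [← e, classInner_restrict_indFun K hψ hψ]
    refine mul_ne_zero (inv_ne_zero card_ne_zero') (Nat.cast_ne_zero.2 ?_)
    haveI : Nonempty {x : Γ // conjFun K ψ x = ψ} := ⟨⟨1, conjFun_one K _⟩⟩
    exact Nat.card_pos.ne'
  rw [classInner_restrict_indFun K hθ hψ] at h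
  by_contra hno
  haveI : IsEmpty {x : Γ // conjFun K θ x = ψ} := ⟨fun x => hno ⟨x.1, x.2⟩⟩
  simp at h

open Classical in
/-- A regular character has `|Γ : K|` conjugates. -/
theorem card_regular_fiber [Fintype (IrrCharacter K)] (θ : IrrCharacter K)
    (hreg : inertia K (θ : K → ℂ) = K) :
    (Finset.univ.filter fun ψ : IrrCharacter K =>
      indFun K (ψ : K → ℂ) = indFun K (θ : K → ℂ)).card = K.index := by
  rw [← Fintype.card_subtype, ← Nat.card_eq_fintype_card, index_eq_card]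
  symm
  refine Nat.card_eq_of_bijective (fun q : Γ ⧸ K =>
    (⟨⟨_, isIrrCharacter_conjFun K θ.2 q.out⁻¹⟩, indFun_conjFun K _ _⟩ :
      {ψ : IrrCharacter K // indFun K (ψ : K → ℂ) = indFun K (θ : K → ℂ)})) ⟨fun q r e => ?_, ?_⟩
  · have e' : conjFun K (θ : K → ℂ) q.out⁻¹ = conjFun K (θ : K → ℂ) r.out⁻¹ :=
      congrArg (fun z : {ψ : IrrCharacter K // indFun K (ψ : K → ℂ) = indFun K (θ : K → ℂ)} =>
        (z.1 : K → ℂ)) e
    have h1 : q.out⁻¹ * r.out ∈ inertia K (θ : K → ℂ) := by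
      show conjFun K _ _ = _
      rw [conjFun_mul, e', ← conjFun_mul, inv_mul_cancel, conjFun_one]
    rw [hreg] at h1
    rw [← QuotientGroup.out_eq' q, ← QuotientGroup.out_eq' r, QuotientGroup.eq]
    exact h1
  · rintro ⟨ψ, hψ⟩
    obtain ⟨x, hx⟩ := exists_conj_of_indFun_eq K ψ.2 θ.2 hψ
    refine ⟨((x⁻¹ : Γ) : Γ ⧸ K), Subtype.ext (Subtype.ext ?_)⟩
    obtain ⟨s, hs⟩ := QuotientGroup.mk_out_eq_mul K x⁻¹
    show conjFun K (θ : K → ℂ) ((x⁻¹ : Γ) : Γ ⧸ K).out⁻¹ = _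
    rw [hs, mul_inv_rev, inv_inv, conjFun_mul]
    rw [show conjFun K (θ : K → ℂ) (s : Γ)⁻¹ = (θ : K → ℂ) from
      le_inertia K (isClassFunction_irr θ) (inv_mem s.2), hx]

/-- `degree = p ^ i`, `p ^ (2 i) ≤ p ^ s` below a central extension of a `p`-group. -/
theorem degree_facts {A C : Subgroup Γ} [A.Normal] [C.Normal] (hCK : C ≤ K)
    (hcent : ∀ x ∈ C, ∀ y ∈ K, x * y * x⁻¹ * y⁻¹ ∈ A) {p s : ℕ} (hp : p.Prime)
    (hidx : C.relIndex K = p ^ s) (θ : IrrCharacter K)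
    (hA : ∀ a : K, (a : Γ) ∈ A → (θ : K → ℂ) a = (θ : K → ℂ) 1) :
    ∃ i : ℕ, charDegree (θ : K → ℂ) = p ^ i ∧ p ^ (2 * i) ≤ p ^ s := by
  have hdvd := PPrimeSquares.deg_dvd_index (C.subgroupOf K) (A.subgroupOf K) θ
    (fun a ha b _ => hcent a ha b b.2) fun a ha => hA a ha
  change charDegree (θ : K → ℂ) ∣ C.relIndex K at hdvd
  rw [hidx] at hdvd
  obtain ⟨i, -, hi⟩ := (Nat.dvd_prime_pow hp).1 hdvd
  refine ⟨i, hi, ?_⟩
  have h := degree_sq_le_of_central_section (B := A) (C := K) (D := C) θ hA hCK le_rfl hcent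
    (b := charDegree (θ : K → ℂ)) (PPrimeSquares.deg_spec θ)
  rwa [Subgroup.relIndex_self, one_pow, one_mul, hi, ← pow_mul, mul_comm i 2, hidx] at h

end generic

/-- The arithmetic of one rank. -/
theorem rank_arith {p e i T R U : ℕ} (hp : 3 ≤ p) (he : 2 * e ≤ p - 1) (hi : 1 ≤ i) (hT : T = R + U)
    (hbig : p ^ (2 * i) ≤ T) (hU : U ≤ (p - 1) * p ^ (2 * (i - 1))) (hR : p ^ 2 ≤ R) :
    e * (2 * p ^ i + 2) + 1 ≤ R := by
  obtain ⟨q, rfl⟩ : ∃ q, p = q + 1 := ⟨p - 1, by omega⟩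
  rw [Nat.add_sub_cancel] at he hU
  have h1 : e * (2 * (q + 1) ^ i + 2) ≤ q * ((q + 1) ^ i + 1) := by
    calc e * (2 * (q + 1) ^ i + 2) = 2 * e * ((q + 1) ^ i + 1) := by ring
      _ ≤ q * ((q + 1) ^ i + 1) := Nat.mul_le_mul_right _ he
  rcases Nat.lt_or_ge i 2 with h2 | h2
  · obtain rfl : i = 1 := by omega
    rw [pow_one] at h1 ⊢
    nlinarith
  · obtain ⟨j, rfl⟩ : ∃ j, i = j + 2 := ⟨i - 2, by omega⟩
    rw [show 2 * (j + 2 - 1) = 2 * j + 2 by omega] at hU
    rw [show 2 * (j + 2) = 2 * j + 2 + 2 by omega, pow_add] at hbig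
    have h3 : (q + 1) ^ (j + 2) ≤ (q + 1) ^ (2 * j + 2) := Nat.pow_le_pow_right (by omega) (by omega)
    have h4 : q + 1 ≤ (q + 1) ^ (j + 2) := Nat.le_self_pow (by omega) _
    nlinarith

/-- An automorphism fixing only `1` fixes only the principal character. -/
theorem eq_one_of_fixed {Q : Type u} [Group Q] [Finite Q] (α : Q ≃* Q) (hfpf : ∀ q, α q = q → q = 1)
    (χ : IrrCharacter Q) (hχ : (χ : Q → ℂ) ∘ α = (χ : Q → ℂ)) : (χ : Q → ℂ) = fun _ => 1 := by
  have hsurj : Function.Surjective fun t : Q => t⁻¹ * α t := Finite.injective_iff_surjective.1 fun a b e => by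
    have e' : α (b * a⁻¹) = b * a⁻¹ := by
      rw [map_mul, map_inv, mul_inv_eq_iff_eq_mul, mul_assoc, e, mul_inv_cancel_left]
    exact (mul_inv_eq_one.1 (hfpf _ e')).symm
  have hfix : ∀ C : ConjClasses Q, ConjClasses.map α.toMonoidHom C = C → C = ConjClasses.mk 1 := by
    intro C hC
    obtain ⟨g, rfl⟩ := ConjClasses.exists_rep C
    obtain ⟨u, hu⟩ := isConj_iff.1 (ConjClasses.mk_eq_mk_iff_isConj.1 hC)
    obtain ⟨t, ht⟩ := hsurj u
    have hαg : α g = u⁻¹ * g * u :=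
      calc α g = u⁻¹ * (u * α g * u⁻¹) * u := by group
        _ = _ := congrArg (fun z => u⁻¹ * z * u) hu
    have h1 : t * g * t⁻¹ = 1 := hfpf _ (by
      rw [map_mul, map_mul, map_inv, hαg, ← ht]
      group)
    rw [conj_eq_one_iff] at h1
    rw [h1]
  have hle : Nat.card {C : ConjClasses Q // ConjClasses.map α.toMonoidHom C = C} ≤ 1 :=
    Finite.card_le_one_iff_subsingleton.2
      ⟨fun a b => Subtype.ext ((hfix a.1 a.2).trans (hfix b.1 b.2).symm)⟩
  rw [card_fixed_classes_aut] at hle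
  have hs := Finite.card_le_one_iff_subsingleton.1 hle
  exact congrArg (fun z => ((z.1 : IrrCharacter Q) : Q → ℂ))
    (Subsingleton.elim (⟨χ, hχ⟩ : {φ : IrrCharacter Q // (φ : Q → ℂ) ∘ α = (φ : Q → ℂ)})
      ⟨⟨fun _ => 1, isIrrCharacter_one⟩, rfl⟩)

theorem exists_kernel {Q : Type u} [Group Q] [Finite Q] {θ : Q → ℂ} (hθ : IsCharacter Q θ) :
    ∃ N : Subgroup Q, ∀ a, a ∈ N ↔ θ a = θ 1 := by
  obtain ⟨n, σ, rfl⟩ := hθ
  refine ⟨σ.toHomUnits.ker, fun a => ?_⟩
  rw [MonoidHom.mem_ker, Units.ext_iff, MonoidHom.coe_toHomUnits, Units.val_one, Representation.char_one σ]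
  exact (CfsgLib.Char.char_eq_degree_iff σ a).symm

/-- `θ(1) ≤ |Q : Y|` for `θ` trivial on `A` and `Y / A` abelian. -/
theorem degree_le_index_mod {Q : Type u} [Group Q] [Finite Q] (A Y : Subgroup Q) [A.Normal] (hAY : A ≤ Y)
    (hcomm : ∀ a ∈ Y, ∀ b ∈ Y, a * b * a⁻¹ * b⁻¹ ∈ A) (θ : IrrCharacter Q)
    (hA : ∀ a ∈ A, (θ : Q → ℂ) a = (θ : Q → ℂ) 1) : charDegree (θ : Q → ℂ) ≤ Y.index := by
  haveI := Fintype.ofFinite Q
  haveI := Fintype.ofFinite (Q ⧸ A)
  obtain ⟨χ, hχ, hχe⟩ := InvariantRelative.exists_char_of_ker (QuotientGroup.mk' A) (QuotientGroup.mk'_surjective A)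
    (isCharacter_of_isIrr θ.2) fun a ha => hA a ((QuotientGroup.eq_one_iff a).1 ha)
  have hirr : IsIrrCharacter (Q ⧸ A) χ := CoreInduced.isIrr_of_comp (QuotientGroup.mk' A) hχ (by
    rw [show (fun a => χ (QuotientGroup.mk' A a)) = (θ : Q → ℂ) from funext hχe]; exact θ.2)
  have h := degree_le_index hirr (Y.map (QuotientGroup.mk' A)) (fun a ha b hb => ?_)
    (d := charDegree (θ : Q → ℂ)) (by rw [← map_one (QuotientGroup.mk' A), hχe, PPrimeSquares.deg_spec])
  · rwa [index_map_eq _ (QuotientGroup.mk'_surjective A) (by rwa [QuotientGroup.ker_mk'])] at h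
  · obtain ⟨a', ha', rfl⟩ := mem_map.1 ha
    obtain ⟨b', hb', rfl⟩ := mem_map.1 hb
    rw [← commutatorElement_eq_one_iff_mul_comm, commutatorElement_def, ← map_inv, ← map_inv, ← map_mul,
      ← map_mul, ← map_mul]
    exact (QuotientGroup.eq_one_iff _).2 (hcomm a' ha' b' hb')

end Levels

variable {G : Type u} [Group G]

/-- Non-linear characters of `M_σ`, trivial on `L` and fixed by an element of `M` outside `M_σ`. -/
def irregular (M L : Subgroup G) : Set (sigmaIn M → ℂ) :=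
  {θ | IsIrrCharacter (sigmaIn M) θ ∧ θ 1 ≠ 1 ∧ (∀ a : sigmaIn M, ((a : M) : G) ∈ L → θ a = θ 1) ∧
    ∃ x : M, (x : G) ∉ sigmaCore M ∧ ∀ n n' : sigmaIn M, (n' : M) = x * n * x⁻¹ → θ n' = θ n}

theorem fixed_iff_conjFun {M : Subgroup G} [(sigmaIn M).Normal] (θ : sigmaIn M → ℂ) (x : M) :
    (∀ n n' : sigmaIn M, (n' : M) = x * n * x⁻¹ → θ n' = θ n) ↔ conjFun (sigmaIn M) θ x = θ := by
  refine ⟨fun h => funext fun n => h n _ rfl, fun h n n' e => ?_⟩
  conv_rhs => rw [← h]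
  exact congrArg θ (Subtype.ext e)

theorem mem_irregular {M L : Subgroup G} [(sigmaIn M).Normal] {θ : IrrCharacter (sigmaIn M)}
    (h1 : (θ : sigmaIn M → ℂ) 1 ≠ 1)
    (hA : ∀ a : sigmaIn M, ((a : M) : G) ∈ L → (θ : sigmaIn M → ℂ) a = (θ : sigmaIn M → ℂ) 1) :
    (θ : sigmaIn M → ℂ) ∈ irregular M L ↔ inertia (sigmaIn M) (θ : sigmaIn M → ℂ) ≠ sigmaIn M := by
  constructor
  · rintro ⟨-, -, -, x, hx, hfix⟩ e
    exact hx (e.le ((fixed_iff_conjFun _ x).1 hfix) :)
  · intro hne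
    obtain ⟨x, hx, hxK⟩ := SetLike.exists_of_lt
      (lt_of_le_of_ne (le_inertia (sigmaIn M) (isClassFunction_irr θ)) (Ne.symm hne))
    exact ⟨θ.2, h1, hA, x, fun h => hxK h, (fixed_iff_conjFun _ x).2 hx⟩

/-- The input of `exists_levels`. -/
structure LevelData (M L C : Subgroup G) (p s : ℕ) : Prop where
  prime : p.Prime
  le_der : L ≤ sigmaDer M
  normL : M ≤ normalizer (L : Set G)
  normC : M ≤ normalizer (C : Set G)
  le : L ≤ C
  leC : C ≤ sigmaCore M
  cent : ∀ x ∈ C, ∀ y ∈ sigmaCore M, x * y * x⁻¹ * y⁻¹ ∈ L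
  index : C.relIndex (sigmaCore M) = p ^ s
  e_le : 2 * eIndex M ≤ p - 1
  k_le : p ^ 2 ≤ kZero M

theorem relIndex_sigmaIn {M H : Subgroup G} (hH : H ≤ sigmaCore M) :
    (H.subgroupOf M).relIndex (sigmaIn M) = H.relIndex (sigmaCore M) := by
  rw [← relIndex_map_map_of_injective _ _ M.subtype_injective,
    map_subgroupOf_eq_of_le (hH.trans (map_subtype_le _)),
    show (sigmaIn M).map M.subtype = sigmaCore M from map_subgroupOf_eq_of_le (map_subtype_le _)]

variable [Fintype G] (hG : IsMinSimpleOddOrder G) {M L C : Subgroup G} {p s : ℕ}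

theorem irregular_finite : (irregular M L).Finite :=
  (Set.finite_range fun θ : IrrCharacter (sigmaIn M) => (θ : sigmaIn M → ℂ)).subset
    fun θ h => ⟨⟨θ, h.1⟩, rfl⟩

include hG

open Classical in
/-- The rank structure: the characters induced from the regular non-linear characters of `M_σ / L`. -/
theorem exists_levels (hM : FpfAb M) (d : LevelData M L C p s)
    (hinv : (irregular M L).ncard ≤ p - 1) :
    ∃ (X : Finset (M → ℂ)) (D : (M → ℂ) → ℕ),
      (∀ χ ∈ X, IsIrrCharacter M χ ∧ χ 1 = (D χ : ℂ) * eIndex M ∧ 2 ≤ D χ ∧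
        ∀ x : M, (x : G) ∉ sigmaCore M → χ x = 0) ∧
      (∀ χ ∈ X, ∃ i : ℕ, D χ = p ^ i ∧ p ^ (2 * i) ≤ p ^ s) ∧
      (∀ χ ∈ X, ∀ a : M, (a : G) ∈ L → χ a = χ 1) ∧
      (∀ χ ∈ X, 2 * D χ + 2 ≤
        Nat.card (Member M) + ∑ ξ ∈ X.filter (fun ξ => D ξ < D χ), D ξ ^ 2) ∧
      eIndex M * (Nat.card (Member M) + ∑ χ ∈ X, D χ ^ 2) + 1 +
          ∑ᶠ θ ∈ irregular M L, charDegree θ ^ 2 = L.relIndex (sigmaCore M) := by
  haveI := Fintype.ofFinite M
  haveI := Fintype.ofFinite (sigmaIn M)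
  haveI := Fintype.ofFinite (IrrCharacter (sigmaIn M))
  haveI : (sigmaIn M).Normal := sigmaIn_normal hG
  haveI hAn : (L.subgroupOf M).Normal := normal_subgroupOf_of_le_normalizer d.normL
  haveI hCn : (C.subgroupOf M).Normal := normal_subgroupOf_of_le_normalizer d.normC
  have hσM : sigmaCore M ≤ M := map_subtype_le _
  have hCK : C.subgroupOf M ≤ sigmaIn M := fun x hx => d.leC hx
  have hcent : ∀ x ∈ C.subgroupOf M, ∀ y ∈ sigmaIn M, x * y * x⁻¹ * y⁻¹ ∈ L.subgroupOf M :=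
    fun x hx y hy => d.cent x hx y hy
  have hidx : (C.subgroupOf M).relIndex (sigmaIn M) = p ^ s := by rw [relIndex_sigmaIn d.leC, d.index]
  have hp := d.prime
  set e := eIndex M with he_def
  have he : 0 < e := eIndex_pos
  have hmem := member_card hG hM
  -- degrees
  set dg : IrrCharacter (sigmaIn M) → ℕ := fun θ => charDegree (θ : sigmaIn M → ℂ) with hdg
  have hspec : ∀ θ : IrrCharacter (sigmaIn M), (θ : sigmaIn M → ℂ) 1 = (dg θ : ℂ) := fun θ =>
    PPrimeSquares.deg_spec θ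
  set P := Finset.univ.filter fun θ : IrrCharacter (sigmaIn M) =>
    ∀ a ∈ (L.subgroupOf M).subgroupOf (sigmaIn M), (θ : sigmaIn M → ℂ) a = (θ : sigmaIn M → ℂ) 1 with hP
  have hPmem : ∀ θ, θ ∈ P ↔ ∀ a : sigmaIn M, ((a : M) : G) ∈ L →
      (θ : sigmaIn M → ℂ) a = (θ : sigmaIn M → ℂ) 1 := fun θ => by
    rw [hP, Finset.mem_filter]
    exact ⟨fun h a ha => h.2 a ha, fun h => ⟨Finset.mem_univ _, fun a ha => h a ha⟩⟩
  have hdeg : ∀ θ ∈ P, ∃ i : ℕ, dg θ = p ^ i ∧ p ^ (2 * i) ≤ p ^ s := fun θ hθ =>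
    Levels.degree_facts (sigmaIn M) hCK hcent hp hidx θ fun a ha => (hPmem θ).1 hθ a ha
  have hk : ∑ θ ∈ P, dg θ ^ 2 = L.relIndex (sigmaCore M) := by
    have h := sum_sq_trivial_on (Γ := sigmaIn M) ((L.subgroupOf M).subgroupOf (sigmaIn M))
    rw [Finset.sum_congr rfl fun θ _ => by rw [hspec θ], ← hP] at h
    rw [← relIndex_sigmaIn (d.le.trans d.leC)]
    exact_mod_cast h
  -- the linear characters
  set P₁ := P.filter fun θ => dg θ = 1 with hP₁
  have hlin : P₁ = Finset.univ.filter fun θ : IrrCharacter (sigmaIn M) =>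
      ∀ a ∈ commutator (sigmaIn M), (θ : sigmaIn M → ℂ) a = (θ : sigmaIn M → ℂ) 1 := by
    ext θ
    constructor
    · intro hθ
      obtain ⟨-, h1⟩ := Finset.mem_filter.1 hθ
      refine Finset.mem_filter.2 ⟨Finset.mem_univ _, fun a ha => ?_⟩
      obtain ⟨lam, hlam⟩ := (Signed.Sg.of_irr θ).exists_hom
        (show (θ : sigmaIn M → ℂ) 1 = 1 by rw [hspec, h1, Nat.cast_one])
      rw [← hlam, ← hlam, map_one, Abelianization.commutator_subset_ker lam ha]
    · intro hθ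
      obtain ⟨-, h⟩ := Finset.mem_filter.1 hθ
      refine Finset.mem_filter.2
        ⟨(hPmem θ).2 fun a ha => h a ((mem_commutator_iff a).2 (d.le_der ha)), ?_⟩
      have hdvd := PPrimeSquares.deg_dvd_index (⊤ : Subgroup (sigmaIn M)) (commutator (sigmaIn M)) θ
        (fun a _ b _ => by
          rw [← commutatorElement_def, _root_.commutator_def]
          exact commutator_mem_commutator (mem_top a) (mem_top b)) h
      rw [index_top, Nat.dvd_one] at hdvd
      exact hdvd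
  have hk₀ : ∑ θ ∈ P₁, dg θ ^ 2 = kZero M := by
    have h := sum_sq_trivial_on (Γ := sigmaIn M) (commutator (sigmaIn M))
    rw [Finset.sum_congr rfl fun θ _ => by rw [hspec θ], ← hlin] at h
    rw [kZero_eq, show Nat.card (Abelianization (sigmaIn M)) = (commutator (sigmaIn M)).index from
      (index_eq_card _).symm]
    exact_mod_cast h
  -- regular and irregular
  set NL := P.filter fun θ => dg θ ≠ 1 with hNL
  set Reg := NL.filter fun θ : IrrCharacter (sigmaIn M) =>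
    inertia (sigmaIn M) (θ : sigmaIn M → ℂ) = sigmaIn M with hReg
  set Irr := NL.filter fun θ : IrrCharacter (sigmaIn M) =>
    ¬ inertia (sigmaIn M) (θ : sigmaIn M → ℂ) = sigmaIn M with hIrr
  have hne1 : ∀ θ ∈ NL, (θ : sigmaIn M → ℂ) 1 ≠ 1 := fun θ hθ e1 =>
    (Finset.mem_filter.1 hθ).2 (by rw [hspec] at e1; exact_mod_cast e1)
  have hfin : (irregular M L).Finite := irregular_finite
  have hirrset : hfin.toFinset = Irr.image (Subtype.val : IrrCharacter (sigmaIn M) → (sigmaIn M → ℂ)) := by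
    ext θ
    rw [Set.Finite.mem_toFinset, Finset.mem_image]
    constructor
    · intro hθ
      have hθ' : (⟨θ, hθ.1⟩ : IrrCharacter (sigmaIn M)) ∈ NL :=
        Finset.mem_filter.2 ⟨(hPmem _).2 hθ.2.2.1, fun e1 => hθ.2.1 (by
          have := hspec ⟨θ, hθ.1⟩
          rw [e1, Nat.cast_one] at this
          exact this)⟩
      exact ⟨⟨θ, hθ.1⟩, Finset.mem_filter.2 ⟨hθ',
        (mem_irregular (θ := ⟨θ, hθ.1⟩) hθ.2.1 hθ.2.2.1).1 hθ⟩, rfl⟩
    · rintro ⟨θ, hθ, rfl⟩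
      obtain ⟨hθN, hne⟩ := Finset.mem_filter.1 hθ
      exact (mem_irregular (hne1 θ hθN) ((hPmem θ).1 (Finset.mem_filter.1 hθN).1)).2 hne
  have hsumIrr : ∑ᶠ θ ∈ irregular M L, charDegree θ ^ 2 = ∑ θ ∈ Irr, dg θ ^ 2 := by
    rw [finsum_mem_eq_finite_toFinset_sum _ hfin, hirrset,
      Finset.sum_image fun a _ b _ h => Subtype.ext h]
  have hIrrcard : Irr.card ≤ p - 1 := by
    refine le_trans (le_of_eq ?_) hinv
    rw [Set.ncard_eq_toFinset_card _ hfin, hirrset,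
      Finset.card_image_of_injective _ Subtype.val_injective]
  -- the induced characters
  set Ind : IrrCharacter (sigmaIn M) → (M → ℂ) := fun θ => indFun (sigmaIn M) (θ : sigmaIn M → ℂ)
    with hInd
  set X := Reg.image Ind with hX
  set D : (M → ℂ) → ℕ := fun χ => ⌊(χ 1).re⌋₊ / e with hD
  have hval : ∀ θ, Ind θ 1 = ((dg θ * e : ℕ) : ℂ) := fun θ => by
    show indFun (sigmaIn M) _ 1 = _
    rw [indFun_one, hspec, ← eIndex_eq, ← he_def]
    push_cast
    ring
  have hDval : ∀ θ, D (Ind θ) = dg θ := fun θ => by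
    rw [hD]
    dsimp only
    rw [hval, Complex.natCast_re, Nat.floor_natCast, Nat.mul_div_cancel _ he]
  have hfib : ∀ (q : ℕ → Prop) [DecidablePred q],
      ∑ θ ∈ Reg.filter (fun θ => q (dg θ)), dg θ ^ 2 =
        e * ∑ χ ∈ X.filter (fun χ => q (D χ)), D χ ^ 2 := by
    intro q _
    have himg : (Reg.filter fun θ => q (dg θ)).image Ind = X.filter fun χ => q (D χ) := by
      rw [hX, Finset.filter_image]
      simp only [hDval]
    rw [← Finset.sum_fiberwise_of_maps_to (t := X.filter fun χ => q (D χ)) (g := Ind)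
      (fun θ hθ => himg ▸ Finset.mem_image_of_mem _ hθ), Finset.mul_sum]
    refine Finset.sum_congr rfl fun χ hχ => ?_
    rw [← himg, Finset.mem_image] at hχ
    obtain ⟨θ, hθ, rfl⟩ := hχ
    obtain ⟨hθR, hq⟩ := Finset.mem_filter.1 hθ
    obtain ⟨hθN, hreg⟩ := Finset.mem_filter.1 hθR
    have hset : (Reg.filter fun θ => q (dg θ)).filter (fun ψ => Ind ψ = Ind θ) =
        Finset.univ.filter fun ψ => Ind ψ = Ind θ := by
      refine Finset.ext fun ψ => ⟨fun h => Finset.mem_filter.2 ⟨Finset.mem_univ _, (Finset.mem_filter.1 h).2⟩,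
        fun h => ?_⟩
      have hψ : Ind ψ = Ind θ := (Finset.mem_filter.1 h).2
      obtain ⟨x, hx⟩ := Levels.exists_conj_of_indFun_eq (sigmaIn M) ψ.2 θ.2 hψ
      have hdψ : dg ψ = dg θ := by rw [← hDval ψ, hψ, hDval]
      refine Finset.mem_filter.2 ⟨Finset.mem_filter.2 ⟨Finset.mem_filter.2 ⟨Finset.mem_filter.2
        ⟨(hPmem ψ).2 fun a ha => ?_, by rw [hdψ]; exact (Finset.mem_filter.1 hθN).2⟩, ?_⟩,
        by rwa [hdψ]⟩, hψ⟩
      · rw [← hx]
        show (θ : sigmaIn M → ℂ) _ = (θ : sigmaIn M → ℂ) _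
        rw [(hPmem θ).1 (Finset.mem_filter.1 hθN).1
          ⟨x * (a : M) * x⁻¹, Subgroup.Normal.conj_mem inferInstance _ a.2 x⟩
          (mem_subgroupOf.1 (hAn.conj_mem (a : M) ha x))]
        exact congrArg _ (Subtype.ext (by simp))
      · refine le_antisymm (fun y hy => ?_) (le_inertia _ (isClassFunction_irr ψ))
        have hy' : conjFun (sigmaIn M) (θ : sigmaIn M → ℂ) (x * y * x⁻¹) = (θ : sigmaIn M → ℂ) := by
          have h1 : conjFun (sigmaIn M) (ψ : sigmaIn M → ℂ) y = (ψ : sigmaIn M → ℂ) := hy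
          rw [conjFun_mul, conjFun_mul, hx, h1, ← hx, conjFun_inv_cancel]
        have h2 : x * y * x⁻¹ ∈ sigmaIn M := hreg.le hy'
        have h3 := Subgroup.Normal.conj_mem inferInstance _ h2 x⁻¹
        simpa [mul_assoc] using h3
    rw [hset, Finset.sum_congr rfl (g := fun _ => dg θ ^ 2) fun ψ hψ => by
      rw [← hDval ψ, (Finset.mem_filter.1 hψ).2, hDval], Finset.sum_const, smul_eq_mul,
      Levels.card_regular_fiber (sigmaIn M) θ hreg, ← eIndex_eq, ← he_def, hDval]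
  have hsplit : ∀ (q : ℕ → Prop) [DecidablePred q], q 1 →
      ∑ θ ∈ P.filter (fun θ => q (dg θ)), dg θ ^ 2 =
        (kZero M + e * ∑ χ ∈ X.filter (fun χ => q (D χ)), D χ ^ 2) +
          ∑ θ ∈ Irr.filter (fun θ => q (dg θ)), dg θ ^ 2 := by
    intro q _ hq1
    have e1 : (P.filter fun θ => q (dg θ)).filter (fun θ => dg θ = 1) = P₁ := by
      ext θ
      simp only [hP₁, Finset.mem_filter]
      exact ⟨fun h => ⟨h.1.1, h.2⟩, fun h => ⟨⟨h.1, h.2 ▸ hq1⟩, h.2⟩⟩
    have e2 : (P.filter fun θ => q (dg θ)).filter (fun θ => ¬ dg θ = 1) =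
        NL.filter fun θ => q (dg θ) := by
      ext θ
      simp only [hNL, Finset.mem_filter]
      tauto
    have e3 : (NL.filter fun θ => q (dg θ)).filter
        (fun θ : IrrCharacter (sigmaIn M) => inertia (sigmaIn M) (θ : sigmaIn M → ℂ) = sigmaIn M) =
        Reg.filter fun θ => q (dg θ) := by
      ext θ
      simp only [hReg, Finset.mem_filter]
      tauto
    have e4 : (NL.filter fun θ => q (dg θ)).filter
        (fun θ : IrrCharacter (sigmaIn M) => ¬ inertia (sigmaIn M) (θ : sigmaIn M → ℂ) = sigmaIn M) =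
        Irr.filter fun θ => q (dg θ) := by
      ext θ
      simp only [hIrr, Finset.mem_filter]
      tauto
    rw [← Finset.sum_filter_add_sum_filter_not (P.filter fun θ => q (dg θ)) (fun θ => dg θ = 1),
      e1, e2, hk₀, ← Finset.sum_filter_add_sum_filter_not (NL.filter fun θ => q (dg θ))
      (fun θ : IrrCharacter (sigmaIn M) => inertia (sigmaIn M) (θ : sigmaIn M → ℂ) = sigmaIn M), e3, e4, hfib q, add_assoc]
  have hXirr : ∀ χ ∈ X, IsIrrCharacter M χ ∧ χ 1 = (D χ : ℂ) * e ∧ 2 ≤ D χ ∧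
      ∀ x : M, (x : G) ∉ sigmaCore M → χ x = 0 := by
    intro χ hχ
    obtain ⟨θ, hθ, rfl⟩ := Finset.mem_image.1 hχ
    obtain ⟨hθN, hreg⟩ := Finset.mem_filter.1 hθ
    obtain ⟨i, hi, -⟩ := hdeg θ (Finset.mem_filter.1 hθN).1
    refine ⟨Levels.indFun_irr_of_inertia (sigmaIn M) θ.2 hreg, by rw [hDval, hval, Nat.cast_mul], ?_,
      fun x hx => indFun_normal_not_mem (sigmaIn M) _ hx⟩
    rw [hDval]
    have h0 : 0 < dg θ := by rw [hi]; exact pow_pos hp.pos i
    have := (Finset.mem_filter.1 hθN).2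
    omega
  refine ⟨X, D, hXirr, fun χ hχ => ?_, fun χ hχ => ?_, fun χ hχ => ?_, ?_⟩
  · obtain ⟨θ, hθ, rfl⟩ := Finset.mem_image.1 hχ
    rw [hDval]
    exact hdeg θ (Finset.mem_filter.1 (Finset.mem_filter.1 hθ).1).1
  · -- trivial on `L`
    obtain ⟨θ, hθ, rfl⟩ := Finset.mem_image.1 hχ
    intro a ha
    have htriv := (hPmem θ).1 (Finset.mem_filter.1 (Finset.mem_filter.1 hθ).1).1
    show indFun (sigmaIn M) (θ : sigmaIn M → ℂ) a = indFun (sigmaIn M) (θ : sigmaIn M → ℂ) 1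
    simp only [indFun]
    congr 1
    refine Finset.sum_congr rfl fun z _ => ?_
    have hmL : z⁻¹ * a * z ∈ L.subgroupOf M := by
      simpa using hAn.conj_mem a (mem_subgroupOf.2 ha) z⁻¹
    have hmK : z⁻¹ * a * z ∈ sigmaIn M := d.leC (d.le hmL)
    rw [extendByZero_mem _ _ hmK, mul_one, inv_mul_cancel, extendByZero_mem _ _ (one_mem _)]
    exact htriv ⟨_, hmK⟩ hmL
  · -- the rank
    obtain ⟨θ, hθ, rfl⟩ := Finset.mem_image.1 hχ
    obtain ⟨hθN, -⟩ := Finset.mem_filter.1 hθ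
    obtain ⟨i, hi, his⟩ := hdeg θ (Finset.mem_filter.1 hθN).1
    have hi1 : 1 ≤ i := by
      rcases Nat.eq_zero_or_pos i with h0 | h0
      · exact absurd (by rw [hi, h0, pow_zero]) (Finset.mem_filter.1 hθN).2
      · exact h0
    have hp3 : 3 ≤ p := by have := d.e_le; omega
    have hpi : 1 < p ^ i := Nat.one_lt_pow (by omega) hp.one_lt
    have hT := hsplit (fun m => m < p ^ i) hpi
    have hbig : p ^ (2 * i) ≤ ∑ θ ∈ P.filter (fun θ => dg θ < p ^ i), dg θ ^ 2 := by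
      have hall : p ^ (2 * i) ∣ ∑ θ ∈ P, dg θ ^ 2 := by
        rw [hk, ← relIndex_mul_relIndex L C (sigmaCore M) d.le d.leC, d.index]
        exact dvd_mul_of_dvd_right (pow_dvd_pow p ((Nat.pow_le_pow_iff_right hp.one_lt).1 his)) _
      have hrest : p ^ (2 * i) ∣ ∑ θ ∈ P.filter (fun θ => ¬ dg θ < p ^ i), dg θ ^ 2 :=
        Finset.dvd_sum fun ψ hψ => by
          obtain ⟨hψP, hψi⟩ := Finset.mem_filter.1 hψ
          obtain ⟨j, hj, -⟩ := hdeg ψ hψP
          rw [hj] at hψi ⊢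
          rw [not_lt, Nat.pow_le_pow_iff_right hp.one_lt] at hψi
          rw [← pow_mul]
          exact pow_dvd_pow p (by omega)
      rw [← Finset.sum_filter_add_sum_filter_not P (fun θ => dg θ < p ^ i)] at hall
      refine Nat.le_of_dvd ?_ ((Nat.dvd_add_left hrest).1 hall)
      rw [hT]
      exact Nat.lt_of_lt_of_le (by rw [← hmem]; omega) (Nat.le_add_right _ _)
    have hU : ∑ θ ∈ Irr.filter (fun θ => dg θ < p ^ i), dg θ ^ 2 ≤ (p - 1) * p ^ (2 * (i - 1)) := by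
      refine (Finset.sum_le_card_nsmul _ _ (p ^ (2 * (i - 1))) fun ψ hψ => ?_).trans ?_
      · obtain ⟨hψI, hψi⟩ := Finset.mem_filter.1 hψ
        obtain ⟨j, hj, -⟩ := hdeg ψ (Finset.mem_filter.1 (Finset.mem_filter.1 hψI).1).1
        rw [hj, Nat.pow_lt_pow_iff_right hp.one_lt] at hψi
        rw [hj, ← pow_mul]
        exact Nat.pow_le_pow_right hp.pos (by omega)
      · rw [smul_eq_mul]
        exact Nat.mul_le_mul_right _ ((Finset.card_filter_le _ _).trans hIrrcard)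
    have hR := Levels.rank_arith hp3 d.e_le hi1 hT hbig hU (le_trans d.k_le (Nat.le_add_right _ _))
    rw [hDval, hi]
    refine Nat.le_of_mul_le_mul_left ?_ he
    rw [Nat.mul_add e (Nat.card (Member M))]
    nlinarith [hR, hmem, mul_comm e (Nat.card (Member M))]
  · rw [hsumIrr, ← hk]
    have h := hsplit (fun _ => True) trivial
    simp only [Finset.filter_true] at h
    rw [h, ← hmem, Nat.mul_add, mul_comm e (Nat.card (Member M))]
    ring

open Classical in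
/-- The squares of the invariant ones. -/
theorem finsum_irregular_le (d : LevelData M L C p s) :
    ∑ᶠ θ ∈ irregular M L, charDegree θ ^ 2 ≤ (irregular M L).ncard * p ^ s := by
  haveI := Fintype.ofFinite M
  haveI := Fintype.ofFinite (sigmaIn M)
  haveI : (sigmaIn M).Normal := sigmaIn_normal hG
  haveI : (L.subgroupOf M).Normal := normal_subgroupOf_of_le_normalizer d.normL
  haveI : (C.subgroupOf M).Normal := normal_subgroupOf_of_le_normalizer d.normC
  have hfin : (irregular M L).Finite := irregular_finite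
  rw [finsum_mem_eq_finite_toFinset_sum _ hfin, Set.ncard_eq_toFinset_card _ hfin, ← smul_eq_mul]
  refine Finset.sum_le_card_nsmul _ _ _ fun θ hθ => ?_
  rw [Set.Finite.mem_toFinset] at hθ
  obtain ⟨i, hi, his⟩ := Levels.degree_facts (sigmaIn M) (A := L.subgroupOf M) (C := C.subgroupOf M)
    (fun x hx => d.leC hx) (fun x hx y hy => d.cent x hx y hy) d.prime
    (by rw [relIndex_sigmaIn d.leC, d.index]) ⟨θ, hθ.1⟩ fun a ha => hθ.2.2.1 a ha
  rw [hi, ← pow_mul, mul_comm i 2]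
  exact his

/-- `M` acts fixed-point-freely outside `M_σ` on `M_σ / L`: no invariant character. -/
theorem irregular_eq_empty (hL : M ≤ normalizer (L : Set G))
    (hfpf : ∀ x ∈ M, x ∉ sigmaCore M → ∀ v ∈ sigmaCore M, x * v * x⁻¹ * v⁻¹ ∈ L → v ∈ L) :
    irregular M L = ∅ := by
  refine Set.eq_empty_iff_forall_notMem.2 ?_
  rintro θ ⟨hθ, h1, hA, x, hx, hfix⟩
  haveI := Fintype.ofFinite M
  haveI := Fintype.ofFinite (sigmaIn M)
  haveI : (sigmaIn M).Normal := sigmaIn_normal hG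
  haveI hLn : (L.subgroupOf M).Normal := normal_subgroupOf_of_le_normalizer hL
  set A := (L.subgroupOf M).subgroupOf (sigmaIn M) with hAdef
  haveI := Fintype.ofFinite (sigmaIn M ⧸ A)
  let α : sigmaIn M ≃* sigmaIn M := MulAut.conjNormal x
  have hαv : ∀ a : sigmaIn M, ((α a : sigmaIn M) : M) = x * a * x⁻¹ := fun a =>
    MulAut.conjNormal_apply x a
  have hαA : A.map α.toMonoidHom = A := by
    refine eq_of_le_of_card_ge ?_ (le_of_eq (Nat.card_congr (A.equivMapOfInjective _ α.injective).toEquiv))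
    rintro _ ⟨a, ha, rfl⟩
    rw [hAdef, mem_subgroupOf]
    show ((α a : sigmaIn M) : M) ∈ L.subgroupOf M
    rw [hαv]
    exact hLn.conj_mem _ ha x
  let β := QuotientGroup.congr A A α hαA
  have hβ : ∀ a : sigmaIn M, β (a : sigmaIn M ⧸ A) = (α a : sigmaIn M ⧸ A) := fun a => rfl
  obtain ⟨χ, hχ, hχe⟩ := InvariantRelative.exists_char_of_ker (QuotientGroup.mk' A) (QuotientGroup.mk'_surjective A)
    (isCharacter_of_isIrr hθ) fun a ha => hA a ((QuotientGroup.eq_one_iff a).1 ha)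
  have hirr : IsIrrCharacter (sigmaIn M ⧸ A) χ := CoreInduced.isIrr_of_comp (QuotientGroup.mk' A) hχ (by
    rw [show (fun a => χ (QuotientGroup.mk' A a)) = θ from funext hχe]; exact hθ)
  have htriv := Levels.eq_one_of_fixed β (fun q hq => ?_) ⟨χ, hirr⟩ (funext fun q => ?_)
  · apply h1
    rw [← hχe 1]
    exact congrFun htriv _
  · induction q using QuotientGroup.induction_on with
    | H a =>
      rw [hβ, eq_comm, QuotientGroup.eq] at hq
      have h2 : α a * a⁻¹ ∈ A := Subgroup.Normal.mem_comm inferInstance hq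
      rw [hAdef, mem_subgroupOf, mem_subgroupOf] at h2
      simp only [Subgroup.coe_mul, Subgroup.coe_inv, hαv] at h2
      exact (QuotientGroup.eq_one_iff a).2 (hfpf x x.2 hx _ a.2 h2)
  · induction q using QuotientGroup.induction_on with
    | H a =>
      show χ (β a) = χ a
      rw [hβ]
      exact (hχe (α a)).trans ((hfix a (α a) (hαv a)).trans (hχe a).symm)

omit hG in
/-- Like type `P`: at most `|W₂| - 1` invariant characters. -/
theorem irregular_ncard_le {W₁ W₂ : Subgroup M} (hT : TypePLike (sigmaIn M) W₁ W₂) :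
    (irregular M L).ncard ≤ Nat.card W₂ - 1 := by
  haveI := Fintype.ofFinite M
  haveI := Fintype.ofFinite (sigmaIn M)
  haveI : (sigmaIn M).Normal := hT.normal
  set S : Set (sigmaIn M → ℂ) := Set.range fun θ : {θ : IrrCharacter (sigmaIn M) //
    ∀ y ∈ W₁, conjFun (sigmaIn M) (θ : sigmaIn M → ℂ) y = (θ : sigmaIn M → ℂ)} =>
      ((θ : IrrCharacter (sigmaIn M)) : sigmaIn M → ℂ) with hS
  have hScard : S.ncard = Nat.card W₂ := by
    rw [hS, ← Nat.card_coe_set_eq, Nat.card_range_of_injective fun a b e => Subtype.ext (Subtype.ext e)]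
    exact hT.card_invariant
  have h1 : (fun _ => (1 : ℂ)) ∉ irregular M L := fun h => h.2.1 rfl
  have hsub : insert (fun _ => (1 : ℂ)) (irregular M L) ⊆ S := by
    rintro θ (rfl | ⟨hθ, -, -, x, hx, hfix⟩)
    · exact ⟨⟨⟨fun _ => 1, isIrrCharacter_one⟩, fun y _ => rfl⟩, rfl⟩
    · obtain ⟨k, hk, c, hc, e⟩ := hT.exists_factor x
      have hfix' := (fixed_iff_conjFun θ x).1 hfix
      have hkθ : conjFun (sigmaIn M) θ k = θ := le_inertia _ (isClassFunction_irr ⟨θ, hθ⟩) hk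
      rw [e, conjFun_mul, hkθ] at hfix'
      have hc1 : (⟨c, hc⟩ : W₁) ≠ 1 := fun h => hx (by
        rw [e, show c = 1 from congrArg Subtype.val h, mul_one]; exact hk)
      exact ⟨⟨⟨θ, hθ⟩, (hT.fixed_iff ⟨θ, hθ⟩ ⟨c, hc⟩ hc1).1 hfix'⟩, rfl⟩
  have h := Set.ncard_le_ncard hsub (Set.finite_range _)
  rw [Set.ncard_insert_of_notMem h1 irregular_finite, hScard] at h
  omega

open Classical in
/-- The layer above the levels: `|Q : Q₁|` prime, `Q` normal in `M`, `Q₁` moved outside `M_σ`. -/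
theorem exists_layer {Q₁ Q : Subgroup G} (hle : Q₁ ≤ Q) (hQder : Q ≤ sigmaDer M)
    (hnQ : M ≤ normalizer (Q : Set G)) (hnQ₁ : sigmaCore M ≤ normalizer (Q₁ : Set G))
    (hprime : (Q₁.relIndex Q).Prime)
    (hmove : ∀ m ∈ M, m ∉ sigmaCore M → m ∉ normalizer (Q₁ : Set G)) {b : ℕ}
    (hbound : ∀ θ : IrrCharacter (sigmaIn M),
      (∀ a : sigmaIn M, ((a : M) : G) ∈ Q₁ → (θ : sigmaIn M → ℂ) a = (θ : sigmaIn M → ℂ) 1) →
      charDegree (θ : sigmaIn M → ℂ) ≤ b) :
    ∃ (X : Finset (M → ℂ)) (D : (M → ℂ) → ℕ),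
      (∀ χ ∈ X, IsIrrCharacter M χ ∧ χ 1 = (D χ : ℂ) * eIndex M ∧ 2 ≤ D χ ∧
        ∀ x : M, (x : G) ∉ sigmaCore M → χ x = 0) ∧
      (∀ χ ∈ X, D χ ≤ b) ∧ (∀ χ ∈ X, ∃ a : M, (a : G) ∈ Q ∧ χ a ≠ χ 1) ∧
      ∑ χ ∈ X, D χ ^ 2 + Q.relIndex (sigmaCore M) = Q₁.relIndex (sigmaCore M) := by
  haveI := Fintype.ofFinite M
  haveI := Fintype.ofFinite (sigmaIn M)
  haveI := Fintype.ofFinite (IrrCharacter (sigmaIn M))
  haveI : (sigmaIn M).Normal := sigmaIn_normal hG
  have hσM : sigmaCore M ≤ M := map_subtype_le _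
  have hQσ : Q ≤ sigmaCore M := hQder.trans (commutator_le_self _)
  set A₁ := (Q₁.subgroupOf M).subgroupOf (sigmaIn M) with hA₁
  set A := (Q.subgroupOf M).subgroupOf (sigmaIn M) with hA
  haveI hA₁n : A₁.Normal := ⟨fun a ha g => (mem_normalizer_iff.1 (hnQ₁ g.2) _).1 ha⟩
  haveI hAn : A.Normal := ⟨fun a ha g => (mem_normalizer_iff.1 (hnQ (g : M).2) _).1 ha⟩
  have he : 0 < eIndex M := eIndex_pos
  set dg : IrrCharacter (sigmaIn M) → ℕ := fun θ => charDegree (θ : sigmaIn M → ℂ) with hdg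
  have hspec : ∀ θ : IrrCharacter (sigmaIn M), (θ : sigmaIn M → ℂ) 1 = (dg θ : ℂ) := fun θ =>
    PPrimeSquares.deg_spec θ
  set T := Finset.univ.filter fun θ : IrrCharacter (sigmaIn M) =>
    ∀ a ∈ A, (θ : sigmaIn M → ℂ) a = (θ : sigmaIn M → ℂ) 1 with hT
  set T₁ := Finset.univ.filter fun θ : IrrCharacter (sigmaIn M) =>
    ∀ a ∈ A₁, (θ : sigmaIn M → ℂ) a = (θ : sigmaIn M → ℂ) 1 with hT₁
  have hTle : T ⊆ T₁ := fun θ hθ =>
    Finset.mem_filter.2 ⟨Finset.mem_univ _, fun a ha => (Finset.mem_filter.1 hθ).2 a (hle ha)⟩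
  set N := T₁ \ T with hN
  have hsum : ∑ θ ∈ N, dg θ ^ 2 + Q.relIndex (sigmaCore M) = Q₁.relIndex (sigmaCore M) := by
    have h₁ := sum_sq_trivial_on (Γ := sigmaIn M) A₁
    have h := sum_sq_trivial_on (Γ := sigmaIn M) A
    rw [Finset.sum_congr rfl fun θ _ => by rw [hspec θ]] at h h₁
    rw [← hT] at h
    rw [← hT₁] at h₁
    have e : ∑ θ ∈ T, dg θ ^ 2 = Q.relIndex (sigmaCore M) := by
      rw [← relIndex_sigmaIn hQσ]; exact_mod_cast h
    have e₁ : ∑ θ ∈ T₁, dg θ ^ 2 = Q₁.relIndex (sigmaCore M) := by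
      rw [← relIndex_sigmaIn (hle.trans hQσ)]; exact_mod_cast h₁
    rw [← e, ← e₁, hN]
    exact Finset.sum_sdiff hTle
  -- no conjugate outside `M_σ` is trivial on `Q₁`
  have key : ∀ θ ∈ N, ∀ x : M, (x : G) ∉ sigmaCore M → ¬ ∀ a ∈ A₁,
      conjFun (sigmaIn M) (θ : sigmaIn M → ℂ) x a = conjFun (sigmaIn M) (θ : sigmaIn M → ℂ) x 1 := by
    intro θ hθ x hx hall
    obtain ⟨hθ₁, hθA⟩ := Finset.mem_sdiff.1 hθ
    obtain ⟨Ker, hKer⟩ := Levels.exists_kernel (isCharacter_of_isIrr θ.2)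
    set R := Ker.map (M.subtype.comp (sigmaIn M).subtype) ⊓ Q with hR
    have h₁R : Q₁ ≤ R := fun a ha => by
      have haσ : a ∈ sigmaCore M := hQσ (hle ha)
      exact ⟨⟨⟨⟨a, hσM haσ⟩, haσ⟩, (hKer _).2 ((Finset.mem_filter.1 hθ₁).2 _ ha), rfl⟩, hle ha⟩
    have hxR : ∀ a ∈ Q₁, (x : G) * a * (x : G)⁻¹ ∈ R := fun a ha => by
      have haσ : a ∈ sigmaCore M := hQσ (hle ha)
      have hxa : (x : G) * a * (x : G)⁻¹ ∈ Q := (mem_normalizer_iff.1 (hnQ x.2) a).1 (hle ha)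
      refine ⟨⟨⟨⟨_, hσM (hQσ hxa)⟩, hQσ hxa⟩, (hKer _).2 ?_, rfl⟩, hxa⟩
      refine Eq.trans ?_ ((hall ⟨⟨a, hσM haσ⟩, haσ⟩ ha).trans ?_)
      · exact congrArg (θ : sigmaIn M → ℂ) (Subtype.ext (Subtype.ext rfl))
      · exact congrArg (θ : sigmaIn M → ℂ) (Subtype.ext (by simp))
    have hmul := relIndex_mul_relIndex Q₁ R Q h₁R inf_le_right
    rcases hprime.eq_one_or_self_of_dvd (Q₁.relIndex R) ⟨_, hmul.symm⟩ with h | h
    · exact hmove x x.2 hx (mem_normalizer_fintype fun a ha => relIndex_eq_one.1 h (hxR a ha))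
    · rw [h] at hmul
      have hQR : Q ≤ R := relIndex_eq_one.1 ((Nat.mul_eq_left hprime.ne_zero).1 hmul)
      refine hθA (Finset.mem_filter.2 ⟨Finset.mem_univ _, fun a ha => ?_⟩)
      obtain ⟨c, hc, hca⟩ := (hQR (show ((a : M) : G) ∈ Q from ha)).1
      rw [← show c = a from Subtype.ext (Subtype.ext hca)]
      exact (hKer c).1 hc
  have hlin : ∀ θ ∈ N, 2 ≤ dg θ := by
    intro θ hθ
    obtain ⟨-, hθA⟩ := Finset.mem_sdiff.1 hθ
    rcases Nat.lt_or_ge (dg θ) 2 with h2 | h2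
    · refine absurd (Finset.mem_filter.2 ⟨Finset.mem_univ _, fun a ha => ?_⟩) hθA
      have h0 : dg θ ≠ 0 := PPrimeSquares.deg_ne_zero θ
      obtain ⟨lam, hlam⟩ := (Signed.Sg.of_irr θ).exists_hom
        (show (θ : sigmaIn M → ℂ) 1 = 1 by rw [hspec, show dg θ = 1 by omega, Nat.cast_one])
      rw [← hlam, ← hlam, map_one,
        Abelianization.commutator_subset_ker lam ((mem_commutator_iff a).2 (hQder ha))]
    · exact h2
  set Ind : IrrCharacter (sigmaIn M) → (M → ℂ) := fun θ => indFun (sigmaIn M) (θ : sigmaIn M → ℂ)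
    with hInd
  set D : (M → ℂ) → ℕ := fun χ => ⌊(χ 1).re⌋₊ / eIndex M with hD
  have hval : ∀ θ, Ind θ 1 = ((dg θ * eIndex M : ℕ) : ℂ) := fun θ => by
    show indFun (sigmaIn M) _ 1 = _
    rw [indFun_one, hspec, ← eIndex_eq]
    push_cast
    ring
  have hDval : ∀ θ, D (Ind θ) = dg θ := fun θ => by
    rw [hD]
    dsimp only
    rw [hval, Complex.natCast_re, Nat.floor_natCast, Nat.mul_div_cancel _ he]
  have htriv₁ : ∀ θ ∈ N, ∀ a ∈ A₁, (θ : sigmaIn M → ℂ) a = (θ : sigmaIn M → ℂ) 1 := fun θ hθ =>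
    (Finset.mem_filter.1 (Finset.mem_sdiff.1 hθ).1).2
  have hinj : Set.InjOn Ind N := by
    intro ψ hψ θ hθ h
    obtain ⟨x, hx⟩ := Levels.exists_conj_of_indFun_eq (sigmaIn M) ψ.2 θ.2 h
    by_cases hxσ : (x : G) ∈ sigmaCore M
    · exact Subtype.ext (hx.symm.trans (le_inertia (sigmaIn M) (isClassFunction_irr θ) hxσ))
    · exact (key θ hθ x hxσ (by rw [hx]; exact htriv₁ ψ hψ)).elim
  refine ⟨N.image Ind, D, fun χ hχ => ?_, fun χ hχ => ?_, fun χ hχ => ?_, ?_⟩
  · obtain ⟨θ, hθ, rfl⟩ := Finset.mem_image.1 hχ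
    refine ⟨Levels.indFun_irr_of_inertia (sigmaIn M) θ.2 (le_antisymm (fun x hx => ?_)
      (le_inertia _ (isClassFunction_irr θ))), by rw [hDval, hval, Nat.cast_mul],
      by rw [hDval]; exact hlin θ hθ, fun x hx => indFun_normal_not_mem (sigmaIn M) _ hx⟩
    by_contra hxσ
    exact key θ hθ x hxσ (by rw [(hx : conjFun _ _ x = _)]; exact htriv₁ θ hθ)
  · obtain ⟨θ, hθ, rfl⟩ := Finset.mem_image.1 hχ
    rw [hDval]
    exact hbound θ fun a ha => htriv₁ θ hθ a ha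
  · obtain ⟨θ, hθ, rfl⟩ := Finset.mem_image.1 hχ
    by_contra hno
    push Not at hno
    refine (Finset.mem_sdiff.1 hθ).2 (Finset.mem_filter.2 ⟨Finset.mem_univ _, fun a ha => ?_⟩)
    have hres : IsCharacter (sigmaIn M) fun n : sigmaIn M => Ind θ n :=
      isCharacter_comp (isCharacter_indFun _ (isCharacter_of_isIrr θ.2)) (sigmaIn M).subtype
    refine constituent_kernel hres θ ?_ ((hno (a : M) ha).trans (congrArg _ rfl))
    show classInner (fun n : sigmaIn M => indFun (sigmaIn M) (θ : sigmaIn M → ℂ) n) _ ≠ 0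
    rw [classInner_restrict_indFun (sigmaIn M) θ.2 θ.2]
    refine mul_ne_zero (inv_ne_zero card_ne_zero') (Nat.cast_ne_zero.2 ?_)
    haveI : Nonempty {x : M // conjFun (sigmaIn M) (θ : sigmaIn M → ℂ) x = θ} := ⟨⟨1, conjFun_one _ _⟩⟩
    exact Nat.card_pos.ne'
  · rw [Finset.sum_image hinj, ← hsum]
    simp only [hDval]


end CfsgLib.FT
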