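import Cfsg.Agent.Lib.FT.MeetGroupNil
import Cfsg.Agent.Lib.FT.MeetLevels
import Cfsg.Agent.Lib.FT.MeetLeaf
import Cfsg.Agent.Lib.FT.RectMu
import Cfsg.Agent.S1419
import Cfsg.Agent.S1420

/-!
# Case B2 of §1: `K ≠ 1` and `M_σ` nilpotent (`docs/FT-meet-weights.md`)

`D₁` is abelian.  If `e ∤ p - 1` then `|S| = p ^ 3`, so `|D₁| ≤ k₀`, `e' = e`, and an operator of order
`e` normalizes two lines of `A`: absurd.  Otherwise the weight of the levels suffices, except for
`|M_σ| = p ^ 3`, `D₁ = A`, which is the extraspecial leaf.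
-/

set_option autoImplicit false
set_option linter.unusedSectionVars false
set_option linter.style.haveILetI false

open Subgroup
open scoped commutatorElement

namespace CfsgLib.FT

open CfsgLib.CFun CfsgLib.CFun.TauTwo CfsgLib.CFun.Lines Cfsg CfsgLib.Char

universe u

variable {G : Type u} [Group G] [Fintype G]

/-- Hypotheses of case B2. -/
structure BTwoHyp (M N : Subgroup G) (x : G) (p : ℕ) (A K U : Subgroup G) : Prop where
  nbr : Nbr M N x p
  data : BadData M N x p
  torus : Torus M N x p A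
  decomp : Cfsg.IsSigmaDecomposition M K U
  neK : K ≠ ⊥
  nil : Group.IsNilpotent (sigmaCore M)

variable (hG : IsMinSimpleOddOrder G)
include hG

/-- `D₁` is abelian. -/
theorem Nbr.commute_fixed {M N : Subgroup G} {x : G} {p : ℕ} (h : Nbr M N x p)
    (hnil : Group.IsNilpotent (sigmaCore M)) {a b : G} (ha : a ∈ sigmaCore M ⊓ N)
    (hb : b ∈ sigmaCore M ⊓ N) : Commute a b := by
  have hle : sigmaCore M ⊓ N ≤ M ⊓ N := inf_le_inf_right _ (map_subtype_le _)
  have hn : Group.IsNilpotent ↥(sigmaCore M ⊓ N) :=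
    CfsgLib.Coprime.isNilpotent_of_le inf_le_left hnil
  have hc := (Cfsg.Agent.S1420.result hG N h.coatom (M ⊓ N) h.compl).1 (sigmaCore M ⊓ N) inf_le_right hn
    fun t ht htd => by
      haveI : Fact t.Prime := ⟨ht⟩
      exact Compl.compl_not_sigma hG h.coatom h.compl (htd.trans (card_dvd_of_le hle))
  exact (congrArg Subtype.val (hc.is_comm.comm (⟨a, ha⟩ : ↥(sigmaCore M ⊓ N)) ⟨b, hb⟩) :)

namespace BTwoHyp

variable {M N A K U : Subgroup G} {x : G} {p : ℕ} (h : BTwoHyp M N x p A K U)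
include h

theorem nonab : NonabSylow p G := by
  haveI : Fact p.Prime := ⟨h.nbr.bad.prime⟩
  obtain ⟨g, hm⟩ := h.nbr.exists_meet hG h.nil
  intro S hS
  refine h.neK ((MeetStructure.abelian_case hG h.nbr.bad.coatom hm (h.nbr.pow_prime hG) fun T => ?_).2.2.2
    K U h.decomp)
  obtain ⟨c, hc⟩ := exists_conjBy_sylow S T
  rw [hc]
  exact Subgroup.map_isMulCommutative _ _

theorem U_bot : U = ⊥ := by
  haveI : Fact p.Prime := ⟨h.nbr.bad.prime⟩
  obtain ⟨g, hm⟩ := h.nbr.exists_meet hG h.nil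
  exact (MeetStructure.kappa_facts hG h.nbr.bad.coatom hm (h.nbr.pow_prime hG) (h.nonab hG) h.decomp
    h.neK).1

theorem compl : Cfsg.IsComplIn K (sigmaCore M) M :=
  compl_kappa hG h.nbr.bad.coatom h.decomp (h.U_bot hG)

theorem fpfAb : FpfAb M := fpfAb_kappa hG h.nbr.bad.coatom h.decomp h.neK (h.U_bot hG)

theorem e_eq : eIndex M = Nat.card K := eIndex_eq_card hG (h.compl hG)

/-- `e ∣ p - 1`, or `e ∣ p + 1` and the Sylow subgroup has order `p ^ 3`. -/
theorem exists_sylow : ∃ S : Sylow p G, (S : Subgroup G) ≤ sigmaCore M ∧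
    (∀ v ∈ sigmaCore M, (∃ n : ℕ, v ^ p ^ n = 1) → v ∈ (S : Subgroup G)) ∧
    (eIndex M ∣ p - 1 ∨ (Nat.card ↥(S : Subgroup G) = p ^ 3 ∧ eIndex M ∣ p + 1)) := by
  haveI : Fact p.Prime := ⟨h.nbr.bad.prime⟩
  obtain ⟨g, hm⟩ := h.nbr.exists_meet hG h.nil
  obtain ⟨S, hSσ, -, hSn, hmem⟩ :=
    MeetStructure.exists_sylow hG h.nbr.bad.coatom hm (h.nbr.pow_prime hG)
  refine ⟨S, hSσ, hmem, ?_⟩
  rw [h.e_eq hG]
  exact MeetStructure.card_dvd_or hG h.nbr.bad.coatom hm (h.nbr.pow_prime hG) (h.nonab hG) h.decomp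
    h.neK hSσ hSn hmem

theorem meetNums : MeetNums M p := by
  have hp := h.nbr.bad.prime
  haveI : Fact p.Prime := ⟨hp⟩
  have h3 := three_le_eIndex hG h.nbr.bad.coatom
  have hp2 : p ≠ 2 := ms_ne_two hG ((dvd_of_eq h.nbr.bad.ord.symm).trans (orderOf_dvd_natCard x))
  have hpo := hp.eq_two_or_odd
  obtain ⟨S, -, -, hS⟩ := h.exists_sylow hG
  have he : 2 * eIndex M ≤ p + 1 := by
    obtain ⟨t, ht⟩ := eIndex_odd hG (M := M)
    rcases hS with ⟨c, hc⟩ | ⟨-, c, hc⟩ <;>
    · have hc2 : 2 ≤ c := by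
        rcases c with _ | _ | c
        · have := hp.two_le
          rw [Nat.mul_zero] at hc
          omega
        · rw [Nat.zero_add, Nat.mul_one] at hc
          omega
        · omega
      have := Nat.mul_le_mul_left (eIndex M) hc2
      omega
  exact ⟨h.nbr.five_le hG h.torus he, he, h.nbr.sq_le_kZero hG h.torus⟩

theorem exists_family : Nonempty (Family M) := by
  obtain ⟨b⟩ := exists_member hG (h.fpfAb hG)
  obtain ⟨F, -⟩ := Family.exists_family hG (h.fpfAb hG) b
  exact ⟨F⟩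

theorem cong (F : Family M) : Cong p (F.psi x) ((F.ε * eIndex M : ℤ) : ℂ) := by
  have h1 := avgR_cong hG (h.fpfAb hG) F h.nbr.bad.prime (h.nbr.degDiv hG h.nil (h.nonab hG))
    h.nbr.bad.mem h.data.ne_one (k := 1) (by rw [pow_one]; exact h.nbr.pow_prime hG)
  rwa [avgR_x hG h.data (h.fpfAb hG) F (h.meetNums hG),
    c_eq_zero' hG h.data (h.fpfAb hG) F (h.meetNums hG), add_zero] at h1

theorem mem_center {v : G} (hv : v ∈ sigmaCore M) {q : ℕ} (hq : q.Prime) (hqp : q ≠ p)
    (hvq : ∃ n : ℕ, v ^ q ^ n = 1) : v ∈ sigmaCore M ⊓ centralizer (sigmaCore M : Set G) :=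
  mem_inf.2 ⟨hv, mem_centralizer_iff.2 fun w hw =>
    mem_centralizer_singleton_iff.1 (h.nbr.central_of_ne hG h.nil (h.nonab hG) hq hqp hv hvq hw)⟩

omit hG h in
theorem mem_normalizer_inf_of_le {s : G} (hs : s ∈ sigmaCore M) :
    s ∈ normalizer ((sigmaCore M ⊓ centralizer (sigmaCore M : Set G) : Subgroup G) : Set G) := by
  refine CfsgLib.Coprime.centralizer_le_normalizer_self _ (mem_centralizer_iff.2 fun z hz => ?_)
  exact (mem_centralizer_iff.1 (mem_inf.1 hz).2 s hs).symm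

/-- `M_σ' ≤ S'`. -/
theorem sigmaDer_le {S : Subgroup G} (hmem : ∀ v ∈ sigmaCore M, (∃ n : ℕ, v ^ p ^ n = 1) → v ∈ S) :
    sigmaDer M ≤ ⁅S, S⁆ := by
  set C := sigmaCore M ⊓ centralizer (sigmaCore M : Set G)
  set T := S ⊓ sigmaCore M
  have hTC : T ≤ normalizer (C : Set G) := fun s hs => mem_normalizer_inf_of_le hs.2
  have hle : sigmaCore M ≤ C ⊔ T := CfsgLib.Fusion.le_of_forall_prime_pow fun q hq v hv hn => by
    rcases eq_or_ne q p with rfl | hqp
    · exact mem_sup_right (mem_inf.2 ⟨hmem v hv hn, hv⟩)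
    · exact mem_sup_left (h.mem_center hG hv hq hqp hn)
  refine commutator_le.2 fun a ha b hb => ?_
  obtain ⟨c, hc, s, hs, rfl⟩ := CfsgLib.Coprime.mem_sup_exists hTC (hle ha)
  obtain ⟨c', hc', s', hs', rfl⟩ := CfsgLib.Coprime.mem_sup_exists hTC (hle hb)
  have k : ∀ z ∈ C, ∀ w ∈ sigmaCore M, z * w = w * z := fun z hz w hw =>
    (mem_centralizer_iff.1 (mem_inf.1 hz).2 w hw).symm
  have e1 : Commute c s := k c hc s hs.2
  have e2 : Commute c s' := k c hc s' hs'.2
  have e3 : Commute c' s := k c' hc' s hs.2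
  have e4 : Commute c c' := k c hc c' hc'.1
  have e5 : Commute c' s' := k c' hc' s' hs'.2
  have : ⁅c * s, c' * s'⁆ = ⁅s, s'⁆ := by
    rw [commutatorElement_def, commutatorElement_def]
    calc c * s * (c' * s') * (c * s)⁻¹ * (c' * s')⁻¹
        = c * (s * c') * s' * s⁻¹ * c⁻¹ * s'⁻¹ * c'⁻¹ := by group
      _ = c * (c' * s) * s' * s⁻¹ * c⁻¹ * s'⁻¹ * c'⁻¹ := by rw [← e3.eq]
      _ = c * c' * (s * s' * s⁻¹) * c⁻¹ * s'⁻¹ * c'⁻¹ := by group
      _ = (c * c') * (s * s' * s⁻¹ * s'⁻¹) * (c⁻¹ * c'⁻¹) := by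
          rw [show c * c' * (s * s' * s⁻¹) * c⁻¹ * s'⁻¹ * c'⁻¹ =
            c * c' * (s * s' * s⁻¹) * (c⁻¹ * s'⁻¹) * c'⁻¹ by group, (e2.inv_inv).eq]
          group
      _ = (s * s' * s⁻¹ * s'⁻¹) * ((c * c') * (c⁻¹ * c'⁻¹)) := by
          rw [← mul_assoc _ (c * c') _]
          congr 1
          exact ((((e1.mul_left e3).mul_right (e2.mul_left e5)).mul_right
            (e1.mul_left e3).inv_right).mul_right (e2.mul_left e5).inv_right).eq
      _ = _ := by rw [e4.eq]; group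
  rw [this]
  exact commutator_mem_commutator hs.1 hs'.1

/-- `|M_σ : D₁|` is a power `p ^ t` with `t ≥ 1`. -/
theorem exists_index : ∃ t : ℕ, 1 ≤ t ∧ (sigmaCore M ⊓ N).relIndex (sigmaCore M) = p ^ t := by
  have hp := h.nbr.bad.prime
  haveI : Fact p.Prime := ⟨hp⟩
  set C := sigmaCore M ⊓ centralizer (sigmaCore M : Set G)
  have hCD : C ≤ sigmaCore M ⊓ N := le_inf inf_le_left fun c hc => h.nbr.centralizer_le
    (mem_centralizer_singleton_iff.2 (mem_centralizer_iff.1 (mem_inf.1 hc).2 x h.nbr.bad.mem).symm)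
  set I := (sigmaCore M ⊓ N).relIndex (sigmaCore M)
  have hd : ∀ q : ℕ, q.Prime → q ∣ I → q = p := by
    intro q hq hqd
    by_contra hqp
    haveI : Fact q.Prime := ⟨hq⟩
    obtain ⟨P⟩ := (inferInstance : Nonempty (Sylow q (sigmaCore M)))
    refine P.not_dvd_index (hqd.trans (index_dvd_of_le fun v hv => ?_))
    obtain ⟨i, hi⟩ := P.2 ⟨v, hv⟩
    exact hCD (h.mem_center hG v.2 hq hqp
      ⟨i, congrArg (fun z : (P : Subgroup (sigmaCore M)) => ((z : sigmaCore M) : G)) hi⟩)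
  have hI : I = p ^ I.primeFactorsList.length :=
    Nat.eq_prime_pow_of_unique_prime_dvd index_ne_zero_of_finite fun {q} hq hqd => hd q hq hqd
  refine ⟨_, Nat.pos_of_ne_zero fun e0 => ?_, hI⟩
  rw [e0, pow_zero] at hI
  have hle : sigmaCore M ≤ sigmaCore M ⊓ N := relIndex_eq_one.1 hI
  obtain ⟨S, hSσ, -, -⟩ := h.exists_sylow hG
  exact h.nonab hG S ⟨⟨fun a b => Subtype.ext
    (h.nbr.commute_fixed hG h.nil (hle (hSσ a.2)) (hle (hSσ b.2))).eq⟩⟩

theorem index_mul : Nat.card (sigmaCore M ⊓ N : Subgroup G) *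
    (sigmaCore M ⊓ N).relIndex (sigmaCore M) = Nat.card (sigmaCore M) :=
  CfsgLib.Coprime.card_mul_relIndex inf_le_left

/-- `N` normalizes `⟨x⟩`. -/
theorem normalizes_line : M ⊓ N ≤ normalizer (zpowers x : Set G) := by
  haveI : Fact p.Prime := ⟨h.nbr.bad.prime⟩
  obtain ⟨-, ⟨hc, -⟩, hline⟩ := Cfsg.Agent.S1419.result hG N h.nbr.coatom (M ⊓ N) h.nbr.compl p h.nbr.tau
    (h.nonab hG) A ⟨h.torus.le, h.torus.elem, h.torus.card⟩
  have heq : zpowers x = A ⊓ centralizer (sigmaCore N : Set G) := by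
    by_contra hne
    have h1 := (hline (zpowers x) (zpowers_le.2 h.nbr.mem_D)
      (by rw [Nat.card_zpowers, h.nbr.bad.ord]) hne).1
    rw [centralizer_zpowers] at h1
    exact h.data.fixed (h1.le.trans bot_le)
  intro m hm
  rw [heq]
  refine mem_normalizer_iff.2 fun z => ?_
  have k1 := mem_normalizer_iff.1 (h.torus.normal hm) z
  have k2 := mem_normalizer_iff.1 (CfsgLib.Coprime.normalizer_le_normalizer_centralizer _
    (TauTwo.sigmaCore_normal hG N (mem_inf.1 hm).2)) z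
  simp only [mem_inf]
  exact and_congr k1 k2

/-- `e' = e` forces `e ∣ p - 1`. -/
theorem dvd_pred_of_index (hidx : (zeroN M N).index = eIndex M) : eIndex M ∣ p - 1 := by
  have hp := h.nbr.bad.prime
  haveI : Fact p.Prime := ⟨hp⟩
  have hM := h.nbr.bad.coatom
  have hσ : ∀ t : ℕ, t.Prime → t ∣ eIndex M → t ∉ Cfsg.sigma M := fun t ht htd hts =>
    (sigmaCore_hall hG hM).1.2.2 t ht hts htd
  have hD : Nat.card (M ⊓ N : Subgroup G) = eIndex M * Nat.card (sigmaCore M ⊓ N : Subgroup G) := by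
    rw [← hidx, index_zeroN hG h.data, index_kerN hG h.data]
  obtain ⟨H, hH, -⟩ := CfsgLib.Coprime.IsHallIn.exists_ge (π := (Cfsg.sigma M)ᶜ)
    (CfsgLib.Coprime.isSolvable_of_le (inf_le_left : M ⊓ N ≤ M) (ms_solvable hG hM.1)) bot_le
    (fun t ht htd => by rw [card_bot, Nat.dvd_one] at htd; exact absurd htd ht.ne_one)
  obtain ⟨hHD, hHπ, hHi⟩ := hH
  have hHM : H ≤ M := hHD.trans inf_le_left
  obtain ⟨E, hE, hHE⟩ := exists_complement hG hM hHM fun t ht htd => hHπ t ht htd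
  have hcard : eIndex M ≤ Nat.card H := by
    have h1 := CfsgLib.Coprime.card_mul_relIndex hHD
    rw [hD] at h1
    refine Nat.le_of_dvd Nat.card_pos ?_
    have hcop : (eIndex M).Coprime (H.relIndex (M ⊓ N)) := Nat.coprime_of_dvd fun t ht h2 h3 =>
      hHi t ht h3 (hσ t ht h2)
    exact hcop.dvd_of_dvd_mul_right (h1 ▸ dvd_mul_right _ _)
  have hHeq : H = E := eq_of_le_of_card_ge hHE (eIndex_eq_card hG hE ▸ hcard)
  subst hHeq
  have hHK : Nat.card H = Nat.card K := by rw [← eIndex_eq_card hG hE, h.e_eq hG]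
  have hhall : Cfsg.IsPiHallOf (Cfsg.kappa M) H M := by
    refine ⟨hHM, fun t ht htd => h.decomp.hall.2.1 t ht (hHK ▸ htd), fun t ht hκ htd => ?_⟩
    have h1 := CfsgLib.Coprime.card_mul_relIndex hHM
    rw [Kappa.card_of_compl hE] at h1
    rw [Nat.eq_of_mul_eq_mul_left Nat.card_pos h1] at htd
    exact hκ.2.2.1 ((sigmaCore_hall hG hM).1.2.1 t ht htd)
  obtain ⟨U', d'⟩ := Decomp.exists_decomp hG hM hhall
  have hH1 : H ≠ ⊥ := fun e => h.neK (card_eq_one.1 (by rw [← hHK, e, card_bot]))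
  obtain ⟨g, hm⟩ := h.nbr.exists_meet hG h.nil
  obtain ⟨-, -, hprime⟩ :=
    MeetStructure.kappa_facts hG hM hm (h.nbr.pow_prime hG) (h.nonab hG) d' hH1
  haveI := d'.cyclic
  obtain ⟨w, hw⟩ := IsCyclic.exists_generator (α := H)
  rw [h.e_eq hG, ← hHK, ← orderOf_eq_card_of_forall_mem_zpowers hw]
  refine orderOf_dvd_of_pow_eq_one (Subtype.ext ?_)
  rw [SubmonoidClass.coe_pow, OneMemClass.coe_one]
  by_contra hu1
  obtain ⟨S, hSσ, hmem, -⟩ := h.exists_sylow hG
  obtain ⟨g', hm'⟩ := h.nbr.exists_meet hG h.nil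
  have hZc : Nat.card (centerSocle (S : Subgroup G) p) = p :=
    MeetStructure.card_centerSocle hG hM hm' (h.nbr.pow_prime hG) (h.nonab hG) hSσ hmem
  set Z := centerSocle (S : Subgroup G) p with hZdef
  have hwD : (w : G) ∈ M ⊓ N := hHD w.2
  have hwS : (w : G) ∈ normalizer ((S : Subgroup G) : Set G) := by
    obtain ⟨S', hS'σ, -, hS'n, hmem'⟩ := MeetStructure.exists_sylow hG hM hm (h.nbr.pow_prime hG)
    have hSS : (S : Subgroup G) = (S' : Subgroup G) :=
      eq_of_le_of_card_ge (fun v hv => hmem' v (hSσ hv) (by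
        obtain ⟨n, hn⟩ := S.2 ⟨v, hv⟩
        exact ⟨n, congrArg Subtype.val hn⟩))
        (card_sylow_eq S S').ge
    rw [hSS]
    exact hS'n (hHM w.2)
  have hxZ : x ∉ Z := by
    intro hxZ
    refine h.nbr.bad.not_mem_derived hG ?_
    obtain ⟨z, hz, hz1⟩ := centerSocle_ne_bot (q := p) (X := (S : Subgroup G)) S.2
      (commutator_le_self _) (fun y hy => FixLine.normalizer_le_normalizer_derived _ (le_normalizer hy))
      fun e => h.nonab hG S ⟨⟨fun a b => Subtype.ext
        (mem_centralizer_iff.1 ((commutator_eq_bot_iff_le_centralizer.1 e) b.2) a a.2)⟩⟩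
    have : zpowers z = Z := eq_of_le_of_card_ge (zpowers_le.2 (mem_inf.1 hz).2)
      (by rw [Nat.card_zpowers, orderOf_eq_prime (mem_inf.1 hz).2.2.1 hz1, hZc])
    rw [← this] at hxZ
    exact commutator_mono hSσ hSσ (zpowers_le.2 (mem_inf.1 hz).1 hxZ)
  have hxS : x ∈ (S : Subgroup G) := hmem x h.nbr.bad.mem ⟨1, by rw [pow_one]; exact h.nbr.pow_prime hG⟩
  have hZA : Z ≤ A := by
    refine h.torus.lines Z (le_inf ((centerSocle_le.trans hSσ).trans (map_subtype_le _)) fun z hz => ?_) hZc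
    exact h.nbr.centralizer_le (mem_centralizer_singleton_iff.2 (hz.2.2 x hxS).eq)
  have hXc : Nat.card (zpowers x) = p := by rw [Nat.card_zpowers, h.nbr.bad.ord]
  have hne : Z ≠ zpowers x := fun e => hxZ (e ▸ mem_zpowers x)
  have hu := MeetStructure.pow_pred_mem_centralizer hXc (h.normalizes_line hG hwD)
  have hu' := MeetStructure.pow_pred_mem_centralizer hZc (normalizer_le_normalizer_centerSocle _ _ hwS)
  have hAfix : A ≤ sigmaCore M ⊓ centralizer (H : Set G) := by
    rw [← Kappa.fixed_eq hG hM hhall (pow_mem w.2 _) hu1,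
      ← sup_lines h.torus.card (zpowers_le.2 h.torus.mem) hZA hXc hZc hne]
    refine sup_le (le_inf (zpowers_le.2 h.nbr.bad.mem) ?_) (le_inf (centerSocle_le.trans hSσ) ?_)
    · exact fun z hz => mem_centralizer_singleton_iff.2 (mem_centralizer_iff.1 hu z hz)
    · exact fun z hz => mem_centralizer_singleton_iff.2 (mem_centralizer_iff.1 hu' z hz)
  have h2 := h.torus.card ▸ card_dvd_of_le hAfix
  have := (Nat.prime_dvd_prime_iff_eq hp hprime).1 ((dvd_pow_self p two_ne_zero).trans h2)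
  rw [← this] at h2
  have := Nat.le_of_dvd hp.pos h2
  have := hp.two_le
  nlinarith

/-- `e ∣ p - 1`. -/
theorem dvd_pred : eIndex M ∣ p - 1 := by
  have hp := h.nbr.bad.prime
  haveI : Fact p.Prime := ⟨hp⟩
  obtain ⟨S, hSσ, hmem, hor⟩ := h.exists_sylow hG
  rcases hor with h1 | ⟨hS3, -⟩
  · exact h1
  obtain ⟨F⟩ := h.exists_family hG
  refine h.dvd_pred_of_index hG (index_eq_of_cong hG h.data (h.fpfAb hG) F (h.meetNums hG) (h.cong hG F) ?_)
  obtain ⟨t, ht, hI⟩ := h.exists_index hG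
  have h1 := h.index_mul hG
  rw [hI] at h1
  have h2 : Nat.card (sigmaDer M) * kZero M = Nat.card (sigmaCore M) :=
    CfsgLib.Coprime.card_mul_relIndex (commutator_le_self _)
  have h3 : Nat.card (sigmaDer M) ≤ p := by
    refine le_trans (Nat.le_of_dvd Nat.card_pos (card_dvd_of_le (h.sigmaDer_le hG hmem))) ?_
    have hle := CfsgLib.PGroup.two_le_index_commutator S.2 hS3 (by norm_num)
    have h4 : Nat.card (commutator ↥(S : Subgroup G)) * (commutator ↥(S : Subgroup G)).index = p ^ 3 := by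
      rw [card_mul_index, hS3]
    have h5 : Nat.card ↥(⁅(S : Subgroup G), (S : Subgroup G)⁆) = Nat.card (commutator ↥(S : Subgroup G)) := by
      rw [← map_subtype_commutator, card_map_of_injective (S : Subgroup G).subtype_injective]
    rw [h5]
    refine Nat.le_of_mul_le_mul_right ((Nat.mul_le_mul_left _ hle).trans ?_) (pow_pos hp.pos 2)
    rw [h4]
    exact le_of_eq (by ring)
  have hpt : p ≤ p ^ t := Nat.le_self_pow (by omega) p
  refine Nat.le_of_mul_le_mul_right (le_trans ?_ (Nat.mul_le_mul_left (kZero M) h3)) hp.pos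
  calc Nat.card (sigmaCore M ⊓ N : Subgroup G) * p ≤ _ := Nat.mul_le_mul_left _ hpt
    _ = Nat.card (sigmaDer M) * kZero M := h1.trans h2.symm
    _ = _ := Nat.mul_comm _ _

/-- The fixed group of `K` has order `p`. -/
theorem card_fixed : Nat.card ↥(sigmaCore M ⊓ centralizer (K : Set G)) = p := by
  have hp := h.nbr.bad.prime
  haveI : Fact p.Prime := ⟨hp⟩
  obtain ⟨g, hm⟩ := h.nbr.exists_meet hG h.nil
  obtain ⟨S, hSσ, hmem, -⟩ := h.exists_sylow hG
  obtain ⟨-, -, hprime⟩ :=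
    MeetStructure.kappa_facts hG h.nbr.bad.coatom hm (h.nbr.pow_prime hG) (h.nonab hG) h.decomp h.neK
  have hle : sigmaCore M ⊓ centralizer (K : Set G) ≤ (S : Subgroup G) :=
    (fixed_le_derived hG h.nbr.bad.coatom (h.compl hG)).trans
      ((h.sigmaDer_le hG hmem).trans (commutator_le_self _))
  obtain ⟨i, hi⟩ := IsPGroup.iff_card.1 S.2
  exact (Nat.prime_dvd_prime_iff_eq hprime hp).1 (hprime.dvd_of_dvd_pow (hi ▸ card_dvd_of_le hle))

theorem typePLike : TypePLike (sigmaIn M) (K.subgroupOf M)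
    ((sigmaCore M ⊓ centralizer (K : Set G)).subgroupOf M) := by
  have hk : Rect.Kappa M K U (sigmaCore M ⊓ centralizer (K : Set G)) :=
    ⟨hG, h.nbr.bad.coatom, h.decomp, h.neK, rfl⟩
  have h1 := hk.typePLike
  rwa [show (⁅M, M⁆ : Subgroup G) = sigmaCore M by
    rw [KappaDerived.derived_eq hG h.nbr.bad.coatom h.decomp h.neK, h.U_bot hG, bot_sup_eq]] at h1

theorem irregular_le : (irregular M ⊥).ncard ≤ p - 1 := by
  have h1 := irregular_ncard_le (L := ⊥) (h.typePLike hG)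
  rwa [Nat.card_congr (subgroupOfEquivOfLe
      ((inf_le_left.trans (map_subtype_le _)) : sigmaCore M ⊓ centralizer (K : Set G) ≤ M)).toEquiv,
    h.card_fixed hG] at h1

/-- The centre as a subgroup of `G`. -/
theorem levelData : ∃ (C : Subgroup G) (s : ℕ), LevelData M ⊥ C p s ∧
    p * p ^ s ≤ Nat.card (sigmaCore M) := by
  have hp := h.nbr.bad.prime
  haveI : Fact p.Prime := ⟨hp⟩
  set C := sigmaCore M ⊓ centralizer (sigmaCore M : Set G) with hC
  obtain ⟨s, hs⟩ := h.nbr.center_index hG h.nil (h.nonab hG)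
  have hmap : (center (sigmaIn M)).map (M.subtype.comp (sigmaIn M).subtype) = C := by
    ext z
    constructor
    · rintro ⟨c, hc, rfl⟩
      refine mem_inf.2 ⟨c.2, mem_centralizer_iff.2 fun w hw => ?_⟩
      exact congrArg (fun t : sigmaIn M => ((t : M) : G))
        (mem_center_iff.1 hc ⟨⟨w, map_subtype_le _ hw⟩, hw⟩)
    · intro hz
      obtain ⟨hz1, hz2⟩ := mem_inf.1 hz
      refine ⟨⟨⟨z, map_subtype_le _ hz1⟩, hz1⟩, mem_center_iff.2 fun w => ?_, rfl⟩
      exact Subtype.ext (Subtype.ext (mem_centralizer_iff.1 hz2 _ w.2))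
  have hrange : (⊤ : Subgroup (sigmaIn M)).map (M.subtype.comp (sigmaIn M).subtype) = sigmaCore M := by
    rw [← MonoidHom.range_eq_map]
    exact sigmaIn_range
  have hidx : C.relIndex (sigmaCore M) = p ^ s := by
    rw [← hmap, ← hrange, relIndex_map_map_of_injective _ _
      (show Function.Injective (M.subtype.comp (sigmaIn M).subtype) from
        fun a b e => Subtype.ext (Subtype.ext e)), relIndex_top_right, hs]
  have hnM : M ≤ normalizer (C : Set G) := fun m hm => by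
    refine mem_normalizer_iff.2 fun z => ?_
    have k1 := mem_normalizer_iff.1 (TauTwo.sigmaCore_normal hG M hm) z
    have k2 := mem_normalizer_iff.1 (CfsgLib.Coprime.normalizer_le_normalizer_centralizer _
      (TauTwo.sigmaCore_normal hG M hm)) z
    simp only [hC, mem_inf]
    exact and_congr k1 k2
  obtain ⟨S, hSσ, hmem, -⟩ := h.exists_sylow hG
  obtain ⟨g, hm⟩ := h.nbr.exists_meet hG h.nil
  have hZc := MeetStructure.card_centerSocle hG h.nbr.bad.coatom hm (h.nbr.pow_prime hG) (h.nonab hG)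
    hSσ hmem
  have hZC : centerSocle (S : Subgroup G) p ≤ C := fun z hz => by
    refine mem_inf.2 ⟨hSσ hz.1, le_centralizer_iff.1 ?_ (mem_zpowers z)⟩
    refine CfsgLib.Fusion.le_of_forall_prime_pow fun q hq v hv hn => ?_
    rw [centralizer_zpowers]
    refine mem_centralizer_singleton_iff.2 ?_
    rcases eq_or_ne q p with rfl | hqp
    · exact (hz.2.2 v (hmem v hv hn)).eq.symm
    · exact (mem_centralizer_iff.1 (mem_inf.1 (h.mem_center hG hv hq hqp hn)).2 z (hSσ hz.1)).symm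
  have he : 2 * eIndex M ≤ p - 1 := by
    obtain ⟨c, hc⟩ := h.dvd_pred hG
    obtain ⟨t, ht⟩ := eIndex_odd hG (M := M)
    have hp5 := (h.meetNums hG).five_le
    have hpo := hp.eq_two_or_odd
    have hc2 : 2 ≤ c := by
      rcases c with _ | _ | c
      · rw [Nat.mul_zero] at hc; omega
      · rw [Nat.zero_add, Nat.mul_one] at hc; omega
      · omega
    have := Nat.mul_le_mul_left (eIndex M) hc2
    omega
  refine ⟨C, s, ⟨hp, bot_le, by rw [normalizer_eq_top]; exact le_top, hnM, bot_le, inf_le_left,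
    fun z hz w hw => ?_, hidx, he, h.nbr.sq_le_kZero hG h.torus⟩, ?_⟩
  · rw [mem_bot, ← (mem_centralizer_iff.1 (mem_inf.1 hz).2 w hw), mul_inv_cancel_right, mul_inv_cancel]
  · rw [← CfsgLib.Coprime.card_mul_relIndex (inf_le_left : C ≤ sigmaCore M), hidx]
    exact Nat.mul_le_mul_right _ (hZc ▸ Nat.le_of_dvd Nat.card_pos (card_dvd_of_le hZC))

/-- An invariant character has degree at most `|M_σ : D₁|`. -/
theorem degree_le (θ : IrrCharacter (sigmaIn M)) :
    charDegree (θ : sigmaIn M → ℂ) ≤ (sigmaCore M ⊓ N).relIndex (sigmaCore M) := by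
  haveI := sigmaIn_normal hG (M := M)
  have h1 := Levels.degree_le_index_mod (⊥ : Subgroup (sigmaIn M))
    (((sigmaCore M ⊓ N).subgroupOf M).subgroupOf (sigmaIn M)) bot_le (fun a ha b hb => ?_) θ
    fun a ha => by rw [mem_bot.1 ha]
  · rwa [← relIndex_sigmaIn (inf_le_left : sigmaCore M ⊓ N ≤ sigmaCore M)]
  · rw [mem_bot]
    refine Subtype.ext (Subtype.ext ?_)
    show ((a : M) : G) * (b : M) * ((a : M) : G)⁻¹ * ((b : M) : G)⁻¹ = 1
    have hc : ((a : M) : G) * (b : M) = (b : M) * ((a : M) : G) :=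
      (h.nbr.commute_fixed hG h.nil (mem_subgroupOf.1 (mem_subgroupOf.1 ha))
        (mem_subgroupOf.1 (mem_subgroupOf.1 hb))).eq
    rw [hc, mul_inv_cancel_right, mul_inv_cancel]

/-- A fixed non-linear character of degree `p`: the leaf. -/
theorem false_of_fixed (hk : Nat.card (sigmaCore M) = p ^ 3)
    (hD1 : Nat.card (sigmaCore M ⊓ N : Subgroup G) = p ^ 2) {θ : sigmaIn M → ℂ}
    (hθ : θ ∈ irregular M ⊥) : False := by
  classical
  have hp := h.nbr.bad.prime
  haveI : Fact p.Prime := ⟨hp⟩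
  haveI := Fintype.ofFinite M
  haveI := Fintype.ofFinite (sigmaIn M)
  have hT := h.typePLike hG
  haveI := sigmaIn_normal hG (M := M)
  obtain ⟨hirr, hne1, -, g, hg, hfix⟩ := hθ
  have hfix' := (fixed_iff_conjFun θ g).1 hfix
  have hall : ∀ z : M, conjFun (sigmaIn M) θ z = θ := by
    obtain ⟨k, hk', c, hc, e⟩ := hT.exists_factor g
    have hkθ : conjFun (sigmaIn M) θ k = θ := le_inertia _ (isClassFunction_irr ⟨θ, hirr⟩) hk'
    rw [e, conjFun_mul, hkθ] at hfix'
    have hc1 : (⟨c, hc⟩ : K.subgroupOf M) ≠ 1 := fun h0 => hg (by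
      rw [e, show c = 1 from congrArg Subtype.val h0, mul_one]; exact hk')
    have hW := (hT.fixed_iff ⟨θ, hirr⟩ ⟨c, hc⟩ hc1).1 hfix'
    intro z
    obtain ⟨k', hk'', c', hc', rfl⟩ := hT.exists_factor z
    rw [← mem_inertia]
    exact mul_mem (le_inertia (sigmaIn M) (isClassFunction_irr ⟨θ, hirr⟩) hk'') (hW c' hc')
  have hidx : (sigmaCore M ⊓ N).relIndex (sigmaCore M) = p := by
    have h1 := h.index_mul hG
    rw [hk, hD1, pow_succ] at h1
    exact Nat.eq_of_mul_eq_mul_left (pow_pos hp.pos 2) h1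
  have hdeg : θ 1 = (p : ℂ) := by
    obtain ⟨d, hd⟩ := h.nbr.degDiv hG h.nil (h.nonab hG) ⟨θ, hirr⟩ hne1
    have h1 := h.degree_le hG ⟨θ, hirr⟩
    have h2 : θ 1 = (charDegree θ : ℂ) := PPrimeSquares.deg_spec ⟨θ, hirr⟩
    have h3 := PPrimeSquares.deg_ne_zero (⟨θ, hirr⟩ : IrrCharacter (sigmaIn M))
    change θ 1 = _ at hd
    rw [h2] at hd
    have h4 : charDegree θ = p * d := by exact_mod_cast hd
    rw [hidx] at h1
    change charDegree θ ≤ p at h1
    change charDegree θ ≠ 0 at h3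
    rw [h2, Nat.cast_inj]
    rcases d with _ | _ | d
    · rw [h4, Nat.mul_zero] at h3; exact absurd rfl h3
    · rw [h4, Nat.zero_add, Nat.mul_one]
    · rw [h4] at h1
      have := Nat.mul_le_mul_left p (show 2 ≤ d + 1 + 1 by omega)
      have := hp.pos
      omega
  have hkz : kZero M = p ^ 2 := by
    obtain ⟨S, hSσ, -, -⟩ := h.exists_sylow hG
    have h1 := (h.meetNums hG).k_le
    have h2 : Nat.card (sigmaDer M) * kZero M = p ^ 3 :=
      (CfsgLib.Coprime.card_mul_relIndex (commutator_le_self _)).trans hk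
    have hder : sigmaDer M ≠ ⊥ := fun e => h.nonab hG S ⟨⟨fun a b => Subtype.ext (by
      have := e.le (commutator_mem_commutator (hSσ a.2) (hSσ b.2))
      rw [mem_bot, commutatorElement_eq_one_iff_mul_comm] at this
      exact this)⟩⟩
    obtain ⟨i, hi, hic⟩ := (Nat.dvd_prime_pow hp).1 (Dvd.intro_left _ h2)
    have hi2 : i ≠ 3 := fun e => hder (card_eq_one.1 (by
      rw [hic, e] at h2
      exact Nat.eq_of_mul_eq_mul_right (pow_pos hp.pos 3) (h2.trans (one_mul _).symm)))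
    rw [hic] at h1 ⊢
    have := (Nat.pow_le_pow_iff_right hp.one_lt).1 h1
    rw [show i = 2 by omega]
  obtain ⟨F⟩ := h.exists_family hG
  have hn : 2 * p ≤ Nat.card (Member M) := by
    have h1 := member_card hG (h.fpfAb hG)
    rw [hkz] at h1
    obtain ⟨c, hc⟩ := h.dvd_pred hG
    have hp5 := (h.meetNums hG).five_le
    obtain ⟨t, ht⟩ := eIndex_odd hG (M := M)
    have hpo := hp.eq_two_or_odd
    have hc2 : 2 ≤ c := by
      rcases c with _ | _ | c
      · rw [Nat.mul_zero] at hc; omega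
      · rw [Nat.zero_add, Nat.mul_one] at hc; omega
      · omega
    have h5 : eIndex M * Nat.card (Member M) = eIndex M * (c * (p + 1)) := by
      have : p ^ 2 = (p - 1) * (p + 1) + 1 := by
        obtain ⟨m, rfl⟩ : ∃ m, p = m + 1 := ⟨p - 1, by omega⟩
        rw [Nat.add_sub_cancel]; ring
      rw [← mul_assoc, ← hc]
      rw [mul_comm] at h1
      omega
    rw [Nat.eq_of_mul_eq_mul_left eIndex_pos h5]
    calc 2 * p ≤ c * p := Nat.mul_le_mul_right _ hc2
      _ ≤ _ := Nat.mul_le_mul_left _ (by omega)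
  have hχ := isCharacter_indFun (sigmaIn M) (isCharacter_of_isIrr hirr)
  refine false_of_invariant hG h.data (h.fpfAb hG) F (h.meetNums hG) (h.cong hG F) hkz hD1.le hn
    (φ := indFun (sigmaIn M) θ) (isGeneralizedCharacter_of_isCharacter hχ)
    (isClassFunction_indFun _ _) ?_ ?_ ?_ ?_
  · rw [indFun_one, hdeg, mul_comm]
    rfl
  · intro z hz
    exact indFun_normal_not_mem _ _ fun hz' => hz (mem_subgroupOf.1 hz')
  · rw [classInner_indFun _ _ _ (isClassFunction_indFun _ _), ← classInner_conj,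
      classInner_restrict_indFun _ hirr hirr,
      Nat.card_congr (Equiv.subtypeUnivEquiv hall), map_mul, map_inv₀, map_natCast, map_natCast,
      ← card_mul_index (sigmaIn M), Nat.cast_mul,
      inv_mul_cancel_left₀ (Nat.cast_ne_zero.2 Nat.card_pos.ne')]
    rfl
  · intro i
    obtain ⟨lam, -, hlam⟩ := i.2
    rw [hlam, indSigma_eq, classInner_indFun _ _ _ (isClassFunction_indFun _ _), ← classInner_conj,
      classInner_restrict_indFun _ (isIrrCharacter_lin lam) hirr]
    have : IsEmpty {z : M // conjFun (sigmaIn M) (fun v => (lam v : ℂ)) z = θ} := ⟨fun z => hne1 (by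
      have h1 := congrFun z.2 1
      rw [← h1]
      show (lam _ : ℂ) = 1
      rw [show (⟨_, _⟩ : sigmaIn M) = 1 from Subtype.ext (by simp), map_one, Units.val_one])⟩
    rw [@Nat.card_of_isEmpty _ this, Nat.cast_zero, mul_zero, map_zero]

/-- Case B2 does not occur. -/
protected theorem false : False := by
  classical
  have hp := h.nbr.bad.prime
  haveI : Fact p.Prime := ⟨hp⟩
  haveI := Fintype.ofFinite M
  have hM := h.fpfAb hG
  have hnum := h.meetNums hG
  obtain ⟨F⟩ := h.exists_family hG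
  obtain ⟨C, s, d, hps⟩ := h.levelData hG
  obtain ⟨X, D, hirr, -, -, hrank, hsum⟩ := exists_levels hG hM d (h.irregular_le hG)
  rw [relIndex_bot_left] at hsum
  obtain ⟨δ, ν, hinj, hν⟩ := Family.exists_greedy hG hM F X D D hirr hrank
  have hweight : 3 * Nat.card (sigmaCore M ⊓ N : Subgroup G) ≤
      eIndex M * (Nat.card (Member M) + ∑ χ ∈ X, D χ ^ 2) + 1 → False := fun h3 => by
    refine false_of_weight hG h.data hM F hnum (h.cong hG F) X D δ ν hinj hν
      (weight_of_three hG h.data hM F hnum (three_le_eIndex hG h.nbr.bad.coatom) ?_)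
    exact_mod_cast h3
  obtain ⟨t, ht, hI⟩ := h.exists_index hG
  have hk := h.index_mul hG
  rw [hI] at hk
  set d1 := Nat.card (sigmaCore M ⊓ N : Subgroup G)
  set tot := ∑ᶠ θ ∈ irregular M ⊥, charDegree θ ^ 2
  set W := eIndex M * (Nat.card (Member M) + ∑ χ ∈ X, D χ ^ 2) + 1
  have hp5 := hnum.five_le
  obtain ⟨c, hc⟩ : p ^ 2 ∣ d1 :=
    h.torus.card ▸ card_dvd_of_le (le_inf h.torus.le_sigma (h.torus.le.trans inf_le_right))
  rcases eq_or_ne t 1 with rfl | ht1
  · have htot : tot ≤ (p - 1) * p ^ 2 := by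
      refine le_trans ?_ (Nat.mul_le_mul_right _ (h.irregular_le hG))
      have hfin : (irregular M ⊥).Finite := irregular_finite
      simp only [tot]
      rw [finsum_mem_eq_finite_toFinset_sum _ hfin, Set.ncard_eq_toFinset_card _ hfin, ← smul_eq_mul]
      refine Finset.sum_le_card_nsmul _ _ _ fun θ hθ => Nat.pow_le_pow_left ?_ 2
      rw [Set.Finite.mem_toFinset] at hθ
      have := h.degree_le hG ⟨θ, hθ.1⟩
      rwa [hI, pow_one] at this
    rw [pow_one] at hk
    have hcodd : Odd c :=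
      (Nat.odd_mul.1 (hc ▸ hG.1.of_dvd_nat (card_subgroup_dvd_card _) : Odd (p ^ 2 * c))).2
    obtain ⟨b, hb⟩ := hcodd
    rcases Nat.eq_zero_or_pos b with hb0 | hb0
    · have hd1 : d1 = p ^ 2 := by rw [hc, hb, hb0]; ring
      by_cases hempty : irregular M ⊥ = ∅
      · refine hweight ?_
        have : tot = 0 := by simp only [tot, hempty, finsum_mem_empty]
        have h7 : 3 * d1 ≤ d1 * p := by rw [mul_comm]; exact Nat.mul_le_mul_left _ (by omega)
        omega
      · obtain ⟨θ, hθ⟩ := Set.nonempty_iff_ne_empty.2 hempty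
        exact h.false_of_fixed hG (by rw [← hk, hd1]; ring) hd1 hθ
    · refine hweight ?_
      have h6 : p ^ 2 * 3 ≤ d1 := hc ▸ Nat.mul_le_mul_left _ (by omega)
      obtain ⟨m, hm⟩ : ∃ m, p = m + 3 := ⟨p - 3, by omega⟩
      have h7 : (p - 1) * p ^ 2 ≤ m * d1 := by
        calc (p - 1) * p ^ 2 ≤ (m * 3) * p ^ 2 := Nat.mul_le_mul_right _ (by omega)
          _ = m * (p ^ 2 * 3) := by ring
          _ ≤ _ := Nat.mul_le_mul_left _ h6
      have h8 : d1 * p = m * d1 + 3 * d1 := by rw [hm]; ring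
      omega
  · refine hweight ?_
    have htot : tot ≤ (p - 1) * p ^ s :=
      (finsum_irregular_le hG d).trans (Nat.mul_le_mul_right _ (h.irregular_le hG))
    have h6 : p ^ 2 * d1 ≤ Nat.card (sigmaCore M) := by
      rw [← hk, mul_comm]; exact Nat.mul_le_mul_left _ (Nat.pow_le_pow_right hp.pos (by omega))
    obtain ⟨m, hm⟩ : ∃ m, p = m + 1 := ⟨p - 1, by omega⟩
    have h7 : p * tot ≤ m * Nat.card (sigmaCore M) := by
      calc p * tot ≤ p * ((p - 1) * p ^ s) := Nat.mul_le_mul_left _ htot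
        _ = m * (p * p ^ s) := by rw [show p - 1 = m by omega]; ring
        _ ≤ _ := Nat.mul_le_mul_left _ hps
    have h8 : p * (p * d1) ≤ p * W := by
      have : p * W + p * tot = m * Nat.card (sigmaCore M) + Nat.card (sigmaCore M) := by
        rw [← Nat.mul_add, hsum, hm]; ring
      have : p * (p * d1) = p ^ 2 * d1 := by ring
      omega
    have := Nat.le_of_mul_le_mul_left h8 hp.pos
    have := Nat.mul_le_mul_right d1 (show 3 ≤ p by omega)
    omega

end BTwoHyp

end CfsgLib.FT
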