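import Cfsg.Agent.Lib.FT.MeetCong
import Cfsg.Agent.Lib.FT.FamilyAvg
import Cfsg.Agent.Lib.FT.FamilyParity
import Cfsg.Agent.Lib.FT.GreedyExtra

/-!
# The value `a = (ψ, τθ_N)` of a bad pair and its consequences (`docs/FT.md`, §1)

`MeetNums` collects the numerical hypotheses. `core` gives `θ` and `a` with `a ≡ εe (mod p)` and the
Bessel bound; `index_eq_of_cong` shows `e' = e`; `false_of_weight` is the ending with larger members.
-/

set_option autoImplicit false
set_option linter.unusedSectionVars false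
set_option linter.style.haveILetI false

open Subgroup

namespace CfsgLib.FT

open CfsgLib.CFun CfsgLib.CFun.TauTwo Cfsg CfsgLib.Char

universe u

variable {G : Type u} [Group G]

/-- The numerical facts about a bad pair. -/
structure MeetNums (M : Subgroup G) (p : ℕ) : Prop where
  five_le : 5 ≤ p
  e_le : 2 * eIndex M ≤ p + 1
  k_le : p ^ 2 ≤ kZero M

variable [Fintype G] (hG : IsMinSimpleOddOrder G)
include hG

/-- A family of `M` gives the input of §1. -/
noncomputable def famIn {M : Subgroup G} (hM : FpfAb M) (F : Family M) : FamIn M where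
  ι := Member M
  fin := @Fintype.ofFinite _ (member_finite hG hM)
  base := F.base
  μ := F.μ
  inj := F.inj
  ne_one := F.mu_ne_one hG hM
  bar := fun i => i.conj hG
  μ_bar := F.mu_conj hG hM
  φ := fun i => i.1
  φ_class := member_class hG
  φ_supp := fun i l g hg => sub_eq_zero.1 (diff_supp hG i l g hg)
  ε := F.ε
  sign := F.sign
  image := F.image
  θ := theta M F.base
  θ_class := theta_class hG F.base
  θ_supp := theta_supp hG F.base
  Δ := F.delta
  Δ_gen := F.delta_gen hG hM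
  Δ_real := F.delta_conj hG hM
  Δ_one := F.delta_one hG hM
  tht := F.tht_eq

variable {M N : Subgroup G} {x : G} {p : ℕ} (h : BadData M N x p) (hM : FpfAb M) (F : Family M)
  (hnum : MeetNums M p)
include h hM F hnum

omit F in
theorem two_index_lt : 2 * (zeroN M N).index < Nat.card (Member M) := by
  have h1 : (zeroN M N).index ≤ eIndex M := Nat.le_of_dvd eIndex_pos (index_zeroN_dvd hG h)
  have h2 := member_card hG hM
  have h3 : 2 * eIndex M * eIndex M + 1 < kZero M := by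
    have := hnum.k_le
    have := hnum.e_le
    have := hnum.five_le
    nlinarith
  by_contra hle
  have : Nat.card (Member M) * eIndex M ≤ 2 * eIndex M * eIndex M :=
    Nat.mul_le_mul_right _ (by omega)
  omega

theorem c_eq_zero' : F.c = 0 := by
  refine F.c_eq_zero hG hM (lt_of_lt_of_le ?_ hnum.k_le)
  have := hnum.e_le
  have := hnum.five_le
  exact Nat.pow_lt_pow_left (by omega) two_ne_zero

omit hM F hnum in
theorem supportR_x : supportR M x = sigmaCore N ⊓ centralizer ({x} : Set G) := by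
  obtain ⟨L, hL, -, huniq, -, -, -, hR⟩ := Tilde.support_eq hG h.bad.coatom h.bad.mem h.ne_one h.bad.notLe
  rw [hR, huniq N h.coatom h.centralizer_le]

/-- The average of `ψ` on `x R(x)` is `ψ(x)`. -/
theorem avgR_x : avgR M F.psi x = F.psi x := by
  classical
  have hc : ∀ w ∈ sigmaCore N, F.psi (x * w) = F.psi x := fun w hw =>
    mu_const_coset hG h (famIn hG hM F) (two_index_lt hG h hM hnum) F.base hw
  rw [avgR, supportR_x hG h, finsum_mem_eq_toFinset_sum, Finset.sum_congr rfl (g := fun _ => F.psi x)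
      fun w hw => hc w (mem_inf.1 (by simpa using hw : w ∈ sigmaCore N ⊓ centralizer ({x} : Set G))).1,
    Finset.sum_const, nsmul_eq_mul, Set.toFinset_card, ← Nat.card_eq_fintype_card,
    SetLike.coe_sort_coe, inv_mul_cancel_left₀ (by
      exact_mod_cast (Nat.card_pos (α := ↥(sigmaCore N ⊓ centralizer ({x} : Set G)))).ne')]

/-- `ψ(x)` is `εe` modulo `p` when the average on `x R(x)` is known. -/
theorem psi_x_cong
    (hval : avgR M F.psi x = (F.ε : ℂ) * valOn M F.base.1 x + F.c) (hx : x ∈ M) :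
    Cong p (F.psi x) ((F.ε * eIndex M : ℤ) : ℂ) := by
  classical
  have hp := h.bad.prime
  rw [avgR_x hG h hM F hnum, c_eq_zero' hG h hM F hnum, Int.cast_zero, add_zero, valOn_mem _ hx] at hval
  haveI := Fintype.ofFinite M
  have h1 := cong_mul_of_pow_prime hp (member_gen hG F.base) (x := (⟨x, hx⟩ : M)) (y := 1) (k := 1)
    (by rw [pow_one]; exact Subtype.ext (show x ^ p = 1 by rw [← h.bad.ord, pow_orderOf_eq_one]))
    (Commute.one_right _)
  rw [mul_one, member_one F.base] at h1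
  rw [hval, Int.cast_mul, Int.cast_natCast]
  exact h1.mul_left (isIntegral_intCast _)

/-- The character `θ` and the value `a = (ψ, τθ_N)`. -/
theorem core (hcong : Cong p (F.psi x) ((F.ε * eIndex M : ℤ) : ℂ)) :
    ∃ (θ : sigmaIn N →* ℂˣ) (a : ℤ), θ ≠ 1 ∧ (p : ℤ) ∣ a - F.ε * eIndex M ∧
      (∀ i, classInner (F.μ i : G → ℂ) (tau N (thetaN N θ)) = a) ∧
      ∀ [(sigmaIn N).Normal] {d : ℕ}, 0 < d →
        d ≤ (inertia (sigmaIn N) (fun n => (θ n : ℂ))).index →
        ∀ (s : Finset (IrrCharacter G)) (m : IrrCharacter G → ℤ),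
          (∀ χ ∈ s, (χ : G → ℂ) ≠ (fun _ => 1) ∧ χ ∉ Set.range F.μ) →
          (∀ χ ∈ s, classInner (χ : G → ℂ) (tau N (thetaN N θ)) = m χ) →
          (d : ℤ) * (Nat.card (Member M) * a ^ 2 + ∑ χ ∈ s, m χ ^ 2 + 1) ≤
            ((d : ℤ) + 1) * Nat.card (M ⊓ N : Subgroup G) := by
  classical
  obtain ⟨θ, hinv, r, hrx, hr⟩ := exists_theta hG h
  have hθ : θ ≠ 1 := fun e => hr (by rw [e]; rfl)
  haveI hKn : (sigmaIn N).Normal := sigmaIn_normal hG
  haveI := member_finite hG hM
  haveI := Fintype.ofFinite (Member M)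
  obtain ⟨a, ha⟩ := classInner_generalized_int (isGeneralizedCharacter_of_isCharacter (isCharacter_irr (F.μ F.base)))
    (tau_gen hG h.coatom (thetaN_gen hG h θ) (thetaN_supp hG h θ))
  have hai : ∀ i, classInner (F.μ i : G → ℂ) (tau N (thetaN N θ)) = a := fun i =>
    (inner_thetaN_const hG h θ (famIn hG hM F) i F.base).trans ha
  refine ⟨θ, a, hθ, ?_, hai, ?_⟩
  · exact thetaN_dvd hG h θ hinv ⟨r, hrx, hr⟩ (F.μ F.base)
      (fun k hk => mu_const_coset hG h (famIn hG hM F) (two_index_lt hG h hM hnum) F.base hk) ha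
      hcong
  intro _ d hd0 hd s m hs hms
  have hdisj : Disjoint (Finset.univ.image F.μ) s := by
    rw [Finset.disjoint_left]
    intro χ hχ hχs
    obtain ⟨i, -, rfl⟩ := Finset.mem_image.1 hχ
    exact (hs _ hχs).2 ⟨i, rfl⟩
  obtain ⟨m', hm', hle⟩ := bessel_thetaN hG h θ hθ hd0 hd (Finset.univ.image F.μ ∪ s) fun χ hχ => by
    rcases Finset.mem_union.1 hχ with hχ | hχ
    · obtain ⟨i, -, rfl⟩ := Finset.mem_image.1 hχ
      exact F.mu_ne_one hG hM i
    · exact (hs χ hχ).1
  have e1 : ∀ i, m' (F.μ i) = a := fun i => by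
    have := (hm' (F.μ i)).symm.trans (hai i)
    exact_mod_cast this
  have e2 : ∀ χ ∈ s, m' χ = m χ := fun χ hχ => by
    have := (hm' χ).symm.trans (hms χ hχ)
    exact_mod_cast this
  rw [Finset.sum_union hdisj, Finset.sum_image fun a _ b _ e => F.inj e,
    Finset.sum_congr rfl (g := fun _ : Member M => a ^ 2) fun i _ => by rw [e1 i],
    show ∑ χ ∈ s, m' χ ^ 2 = ∑ χ ∈ s, m χ ^ 2 from Finset.sum_congr rfl fun χ hχ => by rw [e2 χ hχ],
    Finset.sum_const, nsmul_eq_mul, Finset.card_univ, ← Nat.card_eq_fintype_card] at hle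
  exact hle

omit hG h hM F in
/-- `a ≡ ±e (mod p)` cannot be small. -/
theorem false_of_small {a ε : ℤ} (hε : ε = 1 ∨ ε = -1) (hdvd : (p : ℤ) ∣ a - ε * eIndex M)
    (ha : 9 * a ^ 2 < 4 * (eIndex M : ℤ) ^ 2) : False := by
  have hp := hnum.five_le
  have he := hnum.e_le
  have h1 : 3 * |a| < 2 * (eIndex M : ℤ) := by
    have : (3 * |a|) ^ 2 < (2 * (eIndex M : ℤ)) ^ 2 := by rw [mul_pow, sq_abs, mul_pow]; linarith
    nlinarith [abs_nonneg a]
  have h2 : a - ε * eIndex M = 0 := by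
    refine Int.eq_zero_of_abs_lt_dvd hdvd ?_
    rw [abs_lt]
    have := abs_le.1 (le_refl |a|)
    rcases hε with rfl | rfl <;> constructor <;> omega
  rw [sub_eq_zero] at h2
  rcases hε with rfl | rfl <;> rw [h2] at ha <;> nlinarith

/-- `e' = e` when `|D₁| ≤ k₀`. -/
theorem index_eq_of_cong (hcong : Cong p (F.psi x) ((F.ε * eIndex M : ℤ) : ℂ))
    (hD1 : Nat.card (sigmaCore M ⊓ N : Subgroup G) ≤ kZero M) :
    (zeroN M N).index = eIndex M := by
  obtain ⟨θ, a, hθ, hdvd, -, hb⟩ := core hG h hM F hnum hcong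
  haveI : (sigmaIn N).Normal := sigmaIn_normal hG
  haveI : (kerN N).Normal := sigmaIn_normal hG
  by_contra hne
  refine false_of_small hnum F.sign hdvd (not_le.1 fun hbig => ?_)
  have hb0 := hb h.bad.prime.pos (le_index_inertia hG h (θ := θ) hθ) ∅ 0 (by simp) (by simp)
  rw [Finset.sum_empty, add_zero, ← index_kerN hG h, ← index_zeroN hG h] at hb0
  obtain ⟨c, hc⟩ := index_zeroN_dvd hG h
  have he' : 0 < (zeroN M N).index := Nat.pos_of_ne_zero index_ne_zero_of_finite
  have h3 : 3 ≤ c := by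
    obtain ⟨r, hr⟩ := hc ▸ eIndex_odd hG (M := M)
    rcases c with _ | _ | _ | c
    · simp at hr
    · exact absurd (by simpa using hc.symm) hne
    · omega
    · omega
  have hn := member_card hG hM
  have hk := hnum.k_le
  have hp := hnum.five_le
  have h3e : 3 * (zeroN M N).index ≤ eIndex M := by
    rw [hc, mul_comm 3]; exact Nat.mul_le_mul_left _ h3
  have hD : (zeroN M N).index * Nat.card (sigmaCore M ⊓ N : Subgroup G) * 3 ≤
      eIndex M * kZero M := by
    calc _ = (3 * (zeroN M N).index) * Nat.card (sigmaCore M ⊓ N : Subgroup G) := by ring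
      _ ≤ _ := Nat.mul_le_mul h3e hD1
  push_cast at hb0
  have hD' : ((zeroN M N).index : ℤ) * Nat.card (sigmaCore M ⊓ N : Subgroup G) * 3 ≤
      (eIndex M : ℤ) * kZero M := by exact_mod_cast hD
  have hn' : (Nat.card (Member M) : ℤ) * eIndex M + 1 = kZero M := by exact_mod_cast hn
  have hk' : (p : ℤ) ^ 2 ≤ kZero M := by exact_mod_cast hk
  have hp' : (5 : ℤ) ≤ p := by exact_mod_cast hp
  have hn0 : (0 : ℤ) ≤ Nat.card (Member M) := Nat.cast_nonneg _
  have he0 : (1 : ℤ) ≤ eIndex M := by exact_mod_cast eIndex_pos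
  -- `(p - 3) n e ≤ 3 (p + 1)`
  have k1 : (p : ℤ) * (4 * (eIndex M : ℤ) ^ 2 * Nat.card (Member M) + 9) ≤
      3 * ((p : ℤ) + 1) * ((eIndex M : ℤ) * kZero M) := by
    have : (Nat.card (Member M) : ℤ) * (4 * (eIndex M : ℤ) ^ 2) ≤
        (Nat.card (Member M) : ℤ) * (9 * a ^ 2) := mul_le_mul_of_nonneg_left hbig hn0
    nlinarith
  rw [← hn'] at k1 hk'
  have k2 : ((p : ℤ) - 3) * ((Nat.card (Member M) : ℤ) * eIndex M) ≤ 3 * ((p : ℤ) + 1) := by
    by_contra hk2
    rw [not_le] at hk2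
    nlinarith [mul_lt_mul_of_pos_left hk2 (by linarith : (0 : ℤ) < eIndex M)]
  nlinarith

omit hG h hM F in
/-- `a ≡ ± e (mod p)` gives `(e - 1)² ≤ a²`. -/
theorem sq_le_of_cong {a ε : ℤ} (hε : ε = 1 ∨ ε = -1) (hdvd : (p : ℤ) ∣ a - ε * eIndex M) :
    ((eIndex M : ℤ) - 1) ^ 2 ≤ a ^ 2 := by
  have he : 2 * (eIndex M : ℤ) ≤ (p : ℤ) + 1 := by exact_mod_cast hnum.e_le
  have he1 : (1 : ℤ) ≤ eIndex M := by exact_mod_cast eIndex_pos
  refine sq_le_sq.2 ?_
  rw [abs_of_nonneg (by linarith)]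
  rcases eq_or_ne (a - ε * eIndex M) 0 with h0 | h0
  · rw [sub_eq_zero] at h0
    rw [h0]
    rcases hε with rfl | rfl <;> simp
  · have h1 := Int.le_of_dvd (abs_pos.2 h0) ((dvd_abs _ _).2 hdvd)
    have h2 := abs_sub a (ε * eIndex M)
    have h3 : |ε * (eIndex M : ℤ)| = eIndex M := by rcases hε with rfl | rfl <;> simp
    linarith

/-- The ending by weight: `X` has the images given by `Family.exists_greedy`. -/
theorem false_of_weight (hcong : Cong p (F.psi x) ((F.ε * eIndex M : ℤ) : ℂ))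
    (X : Finset (M → ℂ)) (D : (M → ℂ) → ℕ) (δ : X → ℤ) (ν : X → IrrCharacter G)
    (hinj : Function.Injective ν) (hν : ∀ χ : X, ExtraImage F (D χ) χ (δ χ) (ν χ))
    (hW : ((p : ℤ) + 1) * eIndex M * Nat.card (sigmaCore M ⊓ N : Subgroup G) <
      (p : ℤ) * (((eIndex M : ℤ) - 1) ^ 2 *
        (Nat.card (Member M) + ∑ χ ∈ X, (D χ : ℤ) ^ 2) + 1)) : False := by
  classical
  obtain ⟨θ, a, hθ, hdvd, hai, hb⟩ := core hG h hM F hnum hcong
  haveI : (sigmaIn N).Normal := sigmaIn_normal hG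
  haveI : (kerN N).Normal := sigmaIn_normal hG
  have hval : ∀ χ : X, classInner (ν χ : G → ℂ) (tau N (thetaN N θ)) =
      ((δ χ * (D χ * F.ε * a) : ℤ) : ℂ) := by
    intro χ
    have h0 : classInner (tau M (χ.1 - (D χ : ℂ) • F.base.1)) (tau N (thetaN N θ)) = 0 :=
      tau_orth hG h.bad.coatom h.coatom h.notConj _ _
    rw [(hν χ).image, classInner_sub_left, classInner_smul_left, classInner_smul_left, Family.psi,
      hai F.base, sub_eq_zero] at h0
    have e : ((δ χ : ℂ)) * (δ χ : ℂ) = 1 := by rcases (hν χ).sign with e | e <;> simp [e]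
    calc classInner (ν χ : G → ℂ) (tau N (thetaN N θ))
        = (δ χ : ℂ) * ((δ χ : ℂ) * classInner (ν χ : G → ℂ) (tau N (thetaN N θ))) := by
          rw [← mul_assoc, e, one_mul]
      _ = _ := by rw [h0]; push_cast; ring
  set m : IrrCharacter G → ℤ := Function.extend ν (fun χ => δ χ * (D χ * F.ε * a)) 0 with hm
  have hb0 := hb h.bad.prime.pos (le_index_inertia hG h (θ := θ) hθ) (Finset.univ.image ν) m
    (fun φ hφ => by
      obtain ⟨χ, -, rfl⟩ := Finset.mem_image.1 hφ
      exact ⟨(hν χ).ne_one, (hν χ).not_mu⟩)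
    (fun φ hφ => by
      obtain ⟨χ, -, rfl⟩ := Finset.mem_image.1 hφ
      rw [hval, hm, hinj.extend_apply])
  rw [Finset.sum_image fun a _ b _ e => hinj e,
    Finset.sum_congr rfl (g := fun χ : X => (D χ : ℤ) ^ 2 * a ^ 2) fun χ _ => by
      rw [hm, hinj.extend_apply]
      rcases (hν χ).sign with e | e <;> rcases F.sign with e' | e' <;> rw [e, e'] <;> ring,
    ← Finset.sum_mul, Finset.univ_eq_attach, Finset.sum_attach X (fun χ => (D χ : ℤ) ^ 2)] at hb0
  have hsq := sq_le_of_cong hnum F.sign hdvd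
  set W : ℤ := Nat.card (Member M) + ∑ χ ∈ X, (D χ : ℤ) ^ 2 with hWdef
  have hW0 : 0 ≤ W := by positivity
  have hD : (Nat.card (M ⊓ N : Subgroup G) : ℤ) ≤
      (eIndex M : ℤ) * Nat.card (sigmaCore M ⊓ N : Subgroup G) := by
    rw [← index_kerN hG h, ← index_zeroN hG h]
    exact_mod_cast Nat.mul_le_mul_right _ (Nat.le_of_dvd eIndex_pos (index_zeroN_dvd hG h))
  have k1 := mul_le_mul_of_nonneg_left (mul_le_mul_of_nonneg_right hsq hW0) (Int.natCast_nonneg p)
  have k2 := mul_le_mul_of_nonneg_left hD (by positivity : (0 : ℤ) ≤ (p : ℤ) + 1)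
  linarith

/-- `3 |D₁| ≤ eW + 1` is enough in `false_of_weight`. -/
theorem weight_of_three (he : 3 ≤ eIndex M) {W : ℤ} {c : ℕ} (h3 : 3 * (c : ℤ) ≤ eIndex M * W + 1) :
    ((p : ℤ) + 1) * eIndex M * c < (p : ℤ) * (((eIndex M : ℤ) - 1) ^ 2 * W + 1) := by
  have hp : (5 : ℤ) ≤ p := by exact_mod_cast hnum.five_le
  have he' : (3 : ℤ) ≤ eIndex M := by exact_mod_cast he
  have hc : (0 : ℤ) ≤ c := Int.natCast_nonneg c
  rcases lt_or_ge W 1 with hW | hW
  · have : c = 0 := by
      by_contra h0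
      have : (1 : ℤ) ≤ c := by exact_mod_cast Nat.pos_of_ne_zero h0
      nlinarith
    subst this
    have : 0 ≤ W := by
      by_contra hneg
      nlinarith
    have : (0 : ℤ) < (p : ℤ) * (((eIndex M : ℤ) - 1) ^ 2 * W + 1) := by positivity
    simpa using this
  · have k1 : 5 * (((p : ℤ) + 1) * eIndex M * c) ≤ 6 * ((p : ℤ) * eIndex M * c) := by
      have : (0 : ℤ) ≤ (eIndex M : ℤ) * c := by positivity
      nlinarith
    have k2 := mul_le_mul_of_nonneg_left h3 (by positivity : (0 : ℤ) ≤ (p : ℤ) * eIndex M)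
    have k3 : 2 * (eIndex M : ℤ) * ((eIndex M : ℤ) * W + 1) <
        5 * (((eIndex M : ℤ) - 1) ^ 2 * W + 1) := by
      nlinarith [mul_nonneg (sub_nonneg.2 he') (sub_nonneg.2 hW), mul_le_mul_of_nonneg_right he' (sub_nonneg.2 hW)]
    have k4 := mul_lt_mul_of_pos_left k3 (by linarith : (0 : ℤ) < (p : ℤ))
    linarith

end CfsgLib.FT
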