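import Cfsg.Agent.Lib.FT.MeetGroup
import Cfsg.Agent.Lib.FT.FamilyBasic
import Cfsg.Agent.Lib.PGroup.MaxClassSeries
import Cfsg.Agent.S1414

/-!
# Numbers and classes of a bad pair (`docs/FT.md`, §1)

`p ^ 2 ≤ k₀`; fixed point free action on `M_σ / M_σ'` from fixed points inside `M_σ'`; the class of an
element whose centralizer in `M_σ` has order at most `k₀`.
-/

set_option autoImplicit false
set_option linter.unusedSectionVars false
set_option linter.style.haveILetI false

open Subgroup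
open scoped commutatorElement

namespace CfsgLib.FT

open CfsgLib.CFun CfsgLib.CFun.TauTwo
open Cfsg (sigmaCore IsMinSimpleOddOrder)

universe u

variable {G : Type u} [Group G] [Finite G] (hG : IsMinSimpleOddOrder G)
include hG

omit hG in
theorem kZero_pos' {M : Subgroup G} : 0 < kZero M :=
  Nat.pos_of_ne_zero index_ne_zero_of_finite

/-- `e ≥ 3`. -/
theorem three_le_eIndex {M : Subgroup G} (hM : IsCoatom M) : 3 ≤ eIndex M := by
  have hne : eIndex M ≠ 1 := by
    intro h1
    have hle : M ≤ ⁅M, M⁆ :=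
      (relIndex_eq_one.1 h1).trans (sigmaCore_le_derived hG hM)
    haveI := ms_solvable hG hM.1
    have hbot : M ≠ ⊥ := fun e => sigmaCore_ne_bot hG hM (le_bot_iff.1 (e ▸ map_subtype_le _))
    haveI := nontrivial_iff_ne_bot M |>.2 hbot
    refine (Group.IsSolvable.commutator_lt_top_of_nontrivial M).ne (eq_top_iff.2 fun c _ => ?_)
    obtain ⟨c', hc', e⟩ := (map_subtype_commutator M).ge (hle c.2)
    rwa [← Subtype.ext (a1 := c') (a2 := c) e]
  have hodd : Odd (eIndex M) := hG.1.of_dvd_nat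
    ((relIndex_dvd_card (sigmaCore M) M).trans (card_subgroup_dvd_card M))
  obtain ⟨t, ht⟩ := hodd
  omega

/-- The complement acts fixed point freely on `M_σ / M_σ'` when its fixed points lie in `M_σ'`. -/
theorem fpfAb_of_fixed {M E : Subgroup G} (hM : IsCoatom M)
    (hE : Cfsg.IsComplIn E (sigmaCore M) M)
    (hfix : ∀ u ∈ E, u ≠ 1 → sigmaCore M ⊓ centralizer ({u} : Set G) ≤ sigmaDer M) : FpfAb M := by
  refine ⟨hM, fun a ha haσ v hv hav => ?_⟩
  obtain ⟨u, hu, k, hk, rfl⟩ := hE.2.2.2 a ha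
  have hu1 : u ≠ 1 := fun e1 => haσ (by rwa [e1, one_mul])
  have hMσ := TauTwo.sigmaCore_normal hG M
  have hMD : M ≤ normalizer (sigmaDer M : Set G) := le_normalizer_commutator hMσ hMσ
  have huM : u ∈ M := hE.1 hu
  have h1 : u * v * u⁻¹ * v⁻¹ ∈ sigmaDer M := by
    have h2 : u * ⁅k, v⁆ * u⁻¹ ∈ sigmaDer M :=
      (mem_normalizer_iff.1 (hMD huM) _).1 (commutator_mem_commutator hk hv)
    have := mul_mem (inv_mem h2) hav
    rwa [show (u * ⁅k, v⁆ * u⁻¹)⁻¹ * ((u * k) * v * (u * k)⁻¹ * v⁻¹) = u * v * u⁻¹ * v⁻¹ by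
      simp only [commutatorElement_def]; group] at this
  have hall : ∀ b ∈ zpowers u, b * v * b⁻¹ * v⁻¹ ∈ sigmaDer M := by
    intro b hb
    obtain ⟨i, rfl⟩ := (isOfFinOrder_of_finite u).mem_powers_iff_mem_zpowers.2 hb
    show u ^ i * v * (u ^ i)⁻¹ * v⁻¹ ∈ sigmaDer M
    induction i with
    | zero => simp
    | succ i ih =>
      have h3 := mul_mem ((mem_normalizer_iff.1 (hMD huM) _).1 (ih (pow_mem (mem_zpowers u) i))) h1
      rwa [show u * (u ^ i * v * (u ^ i)⁻¹ * v⁻¹) * u⁻¹ * (u * v * u⁻¹ * v⁻¹) =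
        u ^ (i + 1) * v * (u ^ (i + 1))⁻¹ * v⁻¹ by rw [pow_succ']; group] at h3
  have hcop : (Nat.card (zpowers u)).Coprime (Nat.card (sigmaDer M)) :=
    ((compl_coprime hG hM hE).coprime_dvd_left (card_dvd_of_le (zpowers_le.2 hu))).coprime_dvd_right
      (card_dvd_of_le (commutator_le_self _))
  obtain ⟨n, hn, hc⟩ := CfsgLib.Coprime.exists_fixed_in_coset (zpowers_le.2 (hMD huM)) hcop
    (Or.inl inferInstance) (hMD (map_subtype_le _ hv)) hall
  have hmem : v * n ∈ sigmaDer M := hfix u hu hu1 (mem_inf.2 ⟨mul_mem hv (commutator_le_self _ hn),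
    mem_centralizer_singleton_iff.2 (mem_centralizer_iff.1 hc u (mem_zpowers u)).symm⟩)
  simpa using mul_mem hmem (inv_mem hn)

omit hG in
/-- An element whose centralizer in `M_σ` has order at most `k₀` is conjugate to all of its coset of
`M_σ'`. -/
theorem class_of_card_le {M : Subgroup G} {x : G} (hx : x ∈ sigmaCore M)
    (hc : Nat.card (sigmaCore M ⊓ centralizer ({x} : Set G) : Subgroup G) ≤ kZero M) {d : G}
    (hd : d ∈ sigmaDer M) : ∃ m ∈ sigmaCore M, m * x * m⁻¹ = x * d := by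
  set S := sigmaCore M
  set C := S ⊓ centralizer ({x} : Set G)
  have hder : ∀ m ∈ S, x⁻¹ * (m * x * m⁻¹) ∈ sigmaDer M := fun m hm => by
    have := commutator_mem_commutator (inv_mem hx) hm
    rwa [commutatorElement_def, inv_inv, show x⁻¹ * m * x * m⁻¹ = x⁻¹ * (m * x * m⁻¹) by group]
      at this
  let f : S ⧸ C.subgroupOf S → sigmaDer M := Quotient.lift
    (fun m : S => (⟨x⁻¹ * (m * x * (m : G)⁻¹), hder m m.2⟩ : sigmaDer M)) fun a b hab => by
      have h : (a : G)⁻¹ * b ∈ C := (QuotientGroup.leftRel_apply (s := C.subgroupOf S)).1 hab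
      have hcomm := mem_centralizer_singleton_iff.1 (mem_inf.1 h).2
      refine Subtype.ext (congrArg (x⁻¹ * ·) ?_)
      show (a : G) * x * (a : G)⁻¹ = (b : G) * x * (b : G)⁻¹
      calc (a : G) * x * (a : G)⁻¹ = (a : G) * (x * ((a : G)⁻¹ * b)) * (b : G)⁻¹ := by group
        _ = (a : G) * (((a : G)⁻¹ * b) * x) * (b : G)⁻¹ := by rw [hcomm]
        _ = _ := by group
  have hinj : Function.Injective f := by
    intro a b
    induction a using QuotientGroup.induction_on
    induction b using QuotientGroup.induction_on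
    rename_i a b
    intro hab
    have h1 : (a : G) * x * (a : G)⁻¹ = (b : G) * x * (b : G)⁻¹ :=
      mul_left_cancel (congrArg Subtype.val hab)
    refine QuotientGroup.eq.2 (mem_inf.2 ⟨mul_mem (inv_mem a.2) b.2,
      mem_centralizer_singleton_iff.2 ?_⟩)
    show (a : G)⁻¹ * b * x = x * ((a : G)⁻¹ * b)
    calc (a : G)⁻¹ * b * x = (a : G)⁻¹ * ((b : G) * x * (b : G)⁻¹) * b := by group
      _ = _ := by rw [← h1]; group
  have hq : Nat.card (sigmaDer M) ≤ Nat.card (S ⧸ C.subgroupOf S) := by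
    have h1 : Nat.card (S ⧸ C.subgroupOf S) * Nat.card C = Nat.card S := by
      rw [← Nat.card_congr (subgroupOfEquivOfLe (inf_le_left : C ≤ S)).toEquiv]
      exact (card_eq_card_quotient_mul_card_subgroup _).symm
    have h2 : Nat.card (sigmaDer M) * kZero M = Nat.card S := by
      have hle : sigmaDer M ≤ S := commutator_le_self _
      rw [kZero, relIndex, ← Nat.card_congr (subgroupOfEquivOfLe hle).toEquiv]
      exact card_mul_index _
    refine Nat.le_of_mul_le_mul_right ?_ (kZero_pos' (G := G) (M := M))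
    calc Nat.card (sigmaDer M) * kZero M = Nat.card (S ⧸ C.subgroupOf S) * Nat.card C := h2.trans h1.symm
      _ ≤ _ := Nat.mul_le_mul_left _ hc
  obtain ⟨q, hq'⟩ := (hinj.bijective_of_nat_card_le hq).2 ⟨d, hd⟩
  induction q using QuotientGroup.induction_on
  rename_i m
  refine ⟨m, m.2, ?_⟩
  have := congrArg Subtype.val hq'
  exact inv_mul_eq_iff_eq_mul.1 this

namespace Nbr

variable {M N A : Subgroup G} {x : G} {p : ℕ} (h : Nbr M N x p) (T : Torus M N x p A)
include h T

/-- `p ^ 2 ≤ k₀`. -/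
theorem sq_le_kZero : p ^ 2 ≤ kZero M := by
  haveI : Fact p.Prime := ⟨h.bad.prime⟩
  obtain ⟨P, R, hRn, hRP⟩ := ((Cfsg.Agent.S1414.result hG M h.bad.coatom).2.2.2.2 p h.bad.prime
    (h.bad.dvd_card hG) (h.not_beta hG)).2.1
  haveI := hRn
  have hQc : Nat.card (sigmaCore M ⧸ R) = Nat.card (P : Subgroup (sigmaCore M)) := by
    rw [← index_eq_card, hRP.symm.index_eq_card]
  have hRp : ¬ p ∣ Nat.card R := by
    rw [← hRP.index_eq_card]
    exact P.not_dvd_index
  obtain ⟨r, hr⟩ := IsPGroup.iff_card.1 P.2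
  have hQp : IsPGroup p (sigmaCore M ⧸ R) := IsPGroup.of_card (hQc.trans hr)
  have hr2 : 2 ≤ r := by
    refine (Nat.pow_dvd_pow_iff_le_right h.bad.prime.one_lt).1 ?_
    have hd : p ^ 2 ∣ Nat.card (sigmaCore M ⧸ R) * Nat.card R := by
      rw [← card_eq_card_quotient_mul_card_subgroup, ← T.card]
      exact card_dvd_of_le T.le_sigma
    rw [← hr, ← hQc]
    exact ((h.bad.prime.coprime_iff_not_dvd.2 hRp).pow_left 2).dvd_of_dvd_mul_right hd
  calc p ^ 2 ≤ (commutator (sigmaCore M ⧸ R)).index :=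
        CfsgLib.PGroup.two_le_index_commutator hQp (hQc.trans hr) hr2
    _ ≤ kZero M := by
      refine Nat.le_of_dvd kZero_pos' ?_
      have h1 : (sigmaDer M).subgroupOf (sigmaCore M) = commutator (sigmaCore M) := by
        rw [Subgroup.subgroupOf, sigmaDer, ← map_subtype_commutator,
          comap_map_eq_self_of_injective (sigmaCore M).subtype_injective]
      rw [kZero, relIndex, h1]
      refine dvd_trans ?_ (index_map_dvd _ (QuotientGroup.mk'_surjective R))
      rw [_root_.commutator_def, _root_.commutator_def, map_commutator,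
        map_top_of_surjective _ (QuotientGroup.mk'_surjective R)]

theorem five_le (he : 2 * eIndex M ≤ p + 1) : 5 ≤ p := by
  have := three_le_eIndex hG h.bad.coatom
  omega

/-- When `|D₁| ≤ k₀` the class of `x` is its coset of `M_σ'`. -/
theorem class_eq (hle : Nat.card (sigmaCore M ⊓ N : Subgroup G) ≤ kZero M) :
    ∀ d ∈ sigmaDer M, ∃ m ∈ M, m * x * m⁻¹ = x * d := fun _ hd => by
  obtain ⟨m, hm, e⟩ := class_of_card_le (M := M) h.bad.mem
    (by rw [h.inf_centralizer hG T]; exact hle) hd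
  exact ⟨m, map_subtype_le _ hm, e⟩

end Nbr

end CfsgLib.FT
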