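import Cfsg.Agent.Lib.FT.MeetSplitQ
import Cfsg.Agent.Lib.FT.MeetGroupNum
import Cfsg.Agent.Lib.FT.SlackShared
import Cfsg.Agent.S1420

/-!
# A bad pair with `M_σ` not nilpotent: the group theory (`docs/FT-meet-weights.md`, case A)

`exists_splitData` moves the pair into the complement `D` of `Q`; the rest are the properties of
`Q`, `D`, `L = [Q, D]`, `C_{M_σ}(x)` and the bounds on `e = |K|`.
-/

set_option autoImplicit false
set_option linter.unusedSectionVars false
set_option linter.style.haveILetI false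

open Subgroup
open scoped commutatorElement

namespace CfsgLib.FT.Meet

open CfsgLib.CFun CfsgLib.CFun.TauTwo CfsgLib.CFun.Lines CfsgLib.CFun.FifteenTwo
open CfsgLib.Coprime (conjBy mem_conjBy conj_mem_conjBy IsHallIn IsSylowIn)
open Cfsg (sigmaCore IsMinSimpleOddOrder)

universe u

variable {G : Type u} [Group G] [Finite G]

/-- The `p`-part `S` and the `p'`-part `C` of a nilpotent group `D`. -/
structure NilParts (D S C : Subgroup G) (p : ℕ) : Prop where
  leS : S ≤ D
  leC : C ≤ D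
  gen : ∀ z ∈ D, ∃ a ∈ S, ∃ b ∈ C, z = a * b
  comm : ∀ a ∈ S, ∀ b ∈ C, a * b = b * a
  pGroup : IsPGroup p S
  cop : ¬ p ∣ Nat.card C
  memS : ∀ z ∈ D, ∀ k : ℕ, z ^ p ^ k = 1 → z ∈ S
  memC : ∀ z ∈ D, ¬ p ∣ orderOf z → z ∈ C

theorem exists_nilParts {D : Subgroup G} (hD : Group.IsNilpotent D) (p : ℕ) [hp : Fact p.Prime] :
    ∃ S C : Subgroup G, NilParts D S C p := by
  haveI := hD
  obtain ⟨P₀⟩ : Nonempty (Sylow p D) := inferInstance
  haveI : (P₀ : Subgroup D).Normal :=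
    P₀.normal_of_normalizerCondition Group.normalizerCondition_of_isNilpotent
  have hcop : (Nat.card (P₀ : Subgroup D)).Coprime (P₀ : Subgroup D).index := P₀.card_coprime_index
  obtain ⟨C₀, hC₀⟩ := Subgroup.exists_right_complement'_of_coprime hcop
  have hC₀c : Nat.card C₀ = (P₀ : Subgroup D).index := hC₀.symm.index_eq_card.symm
  have hndvd : ¬ p ∣ Nat.card C₀ := hC₀c ▸ P₀.not_dvd_index
  have hcomm : ∀ a ∈ (P₀ : Subgroup D), ∀ b ∈ C₀, a * b = b * a := fun a ha b hb =>
    (commute_of_coprime_order (((hC₀c ▸ hcop).coprime_dvd_left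
      (Subgroup.orderOf_dvd_natCard _ ha)).coprime_dvd_right (Subgroup.orderOf_dvd_natCard _ hb))).eq
  have hsplit : ∀ x, ∃ a ∈ (P₀ : Subgroup D), ∃ b ∈ C₀, x = a * b := fun x => by
    obtain ⟨⟨a, b⟩, hab⟩ := hC₀.surjective x
    exact ⟨a, a.2, b, b.2, hab.symm⟩
  refine ⟨(P₀ : Subgroup D).map D.subtype, C₀.map D.subtype,
    ⟨map_subtype_le _, map_subtype_le _, fun z hz => ?_, ?_, P₀.2.map _, ?_, fun z hz k hk => ?_,
      fun z hz hzp => ?_⟩⟩
  · obtain ⟨a, ha, b, hb, e⟩ := hsplit ⟨z, hz⟩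
    exact ⟨a, mem_map_of_mem _ ha, b, mem_map_of_mem _ hb, congrArg Subtype.val e⟩
  · rintro _ ⟨a, ha, rfl⟩ _ ⟨b, hb, rfl⟩
    exact congrArg Subtype.val (hcomm a ha b hb)
  · rwa [card_map_of_injective D.subtype_injective]
  · obtain ⟨a, ha, b, hb, e⟩ := hsplit ⟨z, hz⟩
    have h1 : (a * b) ^ p ^ k = 1 := by rw [← e]; exact Subtype.ext hk
    rw [(show Commute a b from hcomm a ha b hb).mul_pow] at h1
    have hbm : b ^ p ^ k ∈ (P₀ : Subgroup D) ⊓ C₀ := mem_inf.2 ⟨by
      rw [eq_inv_of_mul_eq_one_right h1]; exact inv_mem (pow_mem ha _), pow_mem hb _⟩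
    rw [disjoint_iff.1 hC₀.disjoint, mem_bot] at hbm
    have hb1 : b = 1 := orderOf_eq_one_iff.1 (Nat.eq_one_of_dvd_coprimes
      (((hp.out.coprime_iff_not_dvd.2 hndvd)).pow_left k)
      (orderOf_dvd_of_pow_eq_one hbm) (Subgroup.orderOf_dvd_natCard _ hb))
    exact ⟨a, ha, by rw [hb1, mul_one] at e; exact (congrArg Subtype.val e).symm⟩
  · obtain ⟨a, ha, b, hb, e⟩ := hsplit ⟨z, hz⟩
    have ho : orderOf (a * b) = orderOf a * orderOf b :=
      Commute.orderOf_mul_eq_mul_orderOf_of_coprime (hcomm a ha b hb)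
        (((hC₀c ▸ hcop).coprime_dvd_left (Subgroup.orderOf_dvd_natCard _ ha)).coprime_dvd_right
          (Subgroup.orderOf_dvd_natCard _ hb))
    obtain ⟨j, hj⟩ := (IsPGroup.iff_orderOf.1 P₀.2) ⟨a, ha⟩
    rw [Subgroup.orderOf_mk] at hj
    rcases Nat.eq_zero_or_pos j with rfl | hj0
    · rw [pow_zero, orderOf_eq_one_iff] at hj
      exact ⟨b, hb, by rw [hj, one_mul] at e; exact (congrArg Subtype.val e).symm⟩
    · refine absurd ?_ hzp
      rw [← Subgroup.orderOf_mk z hz, e, ho, hj]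
      exact dvd_mul_of_dvd_left (dvd_pow_self p hj0.ne') _

theorem NilParts.le_normalizer {D S C : Subgroup G} {p : ℕ} [hp : Fact p.Prime] (P : NilParts D S C p) :
    normalizer (D : Set G) ≤ normalizer (S : Set G) ∧ normalizer (D : Set G) ≤ normalizer (C : Set G) := by
  refine ⟨fun g hg => mem_normalizer_fintype fun a ha => ?_, fun g hg => mem_normalizer_fintype fun b hb => ?_⟩
  · obtain ⟨k, hk⟩ := P.pGroup ⟨a, ha⟩
    refine P.memS _ ((mem_normalizer_iff.1 hg a).1 (P.leS ha)) k ?_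
    rw [conj_pow, show a ^ p ^ k = 1 from congrArg Subtype.val hk, mul_one, mul_inv_cancel]
  · refine P.memC _ ((mem_normalizer_iff.1 hg b).1 (P.leC hb)) ?_
    rw [← MulAut.conj_apply, MulEquiv.orderOf_eq]
    exact fun hd => P.cop (hd.trans (Subgroup.orderOf_dvd_natCard _ hb))

theorem NilParts.card_mul {D S C : Subgroup G} {p : ℕ} [hp : Fact p.Prime] (P : NilParts D S C p) :
    Nat.card D = Nat.card S * Nat.card C := by
  refine (CfsgLib.CFun.Kappa.card_of_compl (A := S) (B := C) ⟨P.leS, P.leC, ?_, P.gen⟩).trans rfl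
  obtain ⟨j, hj⟩ := IsPGroup.iff_card.1 P.pGroup
  exact CfsgLib.Coprime.disjoint_of_coprime_card (hj ▸ (hp.out.coprime_iff_not_dvd.2 P.cop).pow_left j)

/-- The data of case A. -/
structure SplitData (M N K Q D A : Subgroup G) (x : G) (p : ℕ) : Prop where
  nbr : Nbr M N x p
  torus : Torus M N x p A
  data : BadData M N x p
  decomp : Cfsg.IsSigmaDecomposition M K ⊥
  neK : K ≠ ⊥
  split : Split M K Q D
  le : A ≤ D

variable (hG : IsMinSimpleOddOrder G)
include hG

theorem split_q_ne {M K Q D : Subgroup G} (hM : IsCoatom M) {U : Subgroup G}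
    (d : Cfsg.IsSigmaDecomposition M K U) (h : Split M K Q D) {N : Subgroup G} {x : G} {p : ℕ}
    (hN : Nbr M N x p) : Nat.card ↥(sigmaCore M ⊓ centralizer (K : Set G)) ≠ p := fun e =>
  hN.not_beta hG (e ▸ Split.mem_beta hG hM d h)

theorem split_hall {M K Q D U : Subgroup G} (hM : IsCoatom M)
    (d : Cfsg.IsSigmaDecomposition M K U) (h : Split M K Q D) :
    IsHallIn ({Nat.card ↥(sigmaCore M ⊓ centralizer (K : Set G))}ᶜ : Set ℕ) D (sigmaCore M) := by
  haveI : Fact (Nat.card ↥(sigmaCore M ⊓ centralizer (K : Set G))).Prime := ⟨h.prime⟩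
  refine ⟨h.compl.2.1, fun r hr hrd e => ?_, fun r hr hrd => ?_⟩
  · rw [Set.mem_singleton_iff] at e
    subst e
    exact h.prime.ne_one (Nat.eq_one_of_dvd_coprimes h.cop hrd (card_dvd_of_le h.fix_le))
  · have hidx : D.relIndex (sigmaCore M) = Nat.card Q := Nat.eq_of_mul_eq_mul_left Nat.card_pos
      ((CfsgLib.Coprime.card_mul_relIndex h.compl.2.1).trans
        ((Kappa.card_of_compl h.compl).trans (mul_comm _ _)))
    obtain ⟨j, hj⟩ := IsPGroup.iff_card.1 h.sylow.isPGroup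
    rw [hidx, hj] at hrd
    simp [(Nat.prime_dvd_prime_iff_eq hr h.prime).1 (hr.dvd_of_dvd_pow hrd)]

/-- A bad pair with `M_σ` not nilpotent gives the data. -/
theorem exists_splitData {M : Subgroup G} {x : G} {p : ℕ} (hb : BadPair M x p)
    (hnil : ¬ Group.IsNilpotent (sigmaCore M)) :
    ∃ (N K Q D A : Subgroup G) (y : G), SplitData M N K Q D A y p := by
  have hM := hb.coatom
  haveI : Fact p.Prime := ⟨hb.prime⟩
  obtain ⟨K, hKM, hK1, hK2⟩ := CfsgLib.Coprime.exists_hallIn (Cfsg.kappa M) (ms_solvable hG hM.1)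
  have hK : Cfsg.IsPiHallOf (Cfsg.kappa M) K M :=
    ⟨hKM, hK1, fun s hs hsκ hd => hK2 s hs hd hsκ⟩
  obtain ⟨U, d⟩ := Decomp.exists_decomp hG hM hK
  have hne : Cfsg.fittingHallOf M ≠ sigmaCore M := fun e =>
    hnil (e ▸ Chain.isNilpotent_fittingHallOf M)
  obtain ⟨hU, hKne⟩ := bot_of_ne hG hM d hne
  subst hU
  obtain ⟨Q, D, sp⟩ := exists_split hG hM d hne
  obtain ⟨hQM, hDM⟩ := Split.le_M hG hM d sp
  set q := Nat.card ↥(sigmaCore M ⊓ centralizer (K : Set G)) with hq
  obtain ⟨N₁, hN₁⟩ := hb.exists_nbr hG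
  have hqp : q ≠ p := split_q_ne hG hM d sp hN₁
  have hHall := split_hall hG hM d sp
  have hsol := sigmaCore_solvable hG hM
  -- move `x` into `D`
  have hxc : CfsgLib.Coprime.IsPiNum ({q}ᶜ : Set ℕ) (Nat.card (zpowers x)) := fun r hr hrd => by
    rw [Nat.card_zpowers, hb.ord, Nat.prime_dvd_prime_iff_eq hr hb.prime] at hrd
    rw [hrd]
    exact fun e => hqp (Set.mem_singleton_iff.1 e).symm
  obtain ⟨u, hu, hle⟩ := hHall.exists_conj_le hsol (zpowers_le.2 hb.mem) hxc
  have huM : u ∈ M := map_subtype_le _ hu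
  set x₁ := u * x * u⁻¹ with hx₁
  have hx₁D : x₁ ∈ D := hle (conj_mem_conjBy (mem_zpowers x))
  have hb₁ : BadPair M x₁ p := by
    refine ⟨hM, hb.prime, mul_mem (mul_mem hu hb.mem) (inv_mem hu), ?_, fun hle' => hb.notLe fun c hc => ?_⟩
    · rw [← hb.ord, hx₁, ← MulAut.conj_apply, MulEquiv.orderOf_eq]
    · have h1 : u * c * u⁻¹ ∈ M := hle' (mem_centralizer_singleton_iff.2 (by
        rw [hx₁]
        calc u * c * u⁻¹ * (u * x * u⁻¹) = u * (c * x) * u⁻¹ := by group
          _ = u * (x * c) * u⁻¹ := by rw [mem_centralizer_singleton_iff.1 hc]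
          _ = _ := by group))
      simpa [mul_assoc] using mul_mem (mul_mem (inv_mem huM) h1) huM
  obtain ⟨N, hN⟩ := hb₁.exists_nbr hG
  obtain ⟨A, T⟩ := hN.exists_torus hG
  -- the torus lies in `D`
  have hline : ∀ z ∈ D, z ^ p = 1 → z * x₁ = x₁ * z → z ∈ A := by
    intro z hz hzp hzx
    by_cases hz1 : z = 1
    · rw [hz1]; exact one_mem A
    · exact T.lines (zpowers z) (zpowers_le.2 (mem_inf.2 ⟨hDM hz,
        hN.centralizer_le (mem_centralizer_singleton_iff.2 hzx)⟩))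
        (by rw [Nat.card_zpowers, orderOf_eq_prime hzp hz1]) (mem_zpowers z)
  have hAD : A ≤ D := by
    obtain ⟨S, C, P⟩ := exists_nilParts (Split.nilpotent_D hG hM d sp) p
    have hxS : x₁ ∈ S := P.memS x₁ hx₁D 1 (by rw [pow_one, ← hb₁.ord, pow_orderOf_eq_one])
    haveI : Nontrivial S := nontrivial_iff_exists_ne_one S |>.2 ⟨x₁, hxS, fun e => hb₁.prime.ne_one (by
      rw [← hb₁.ord, e, orderOf_one])⟩
    haveI := P.pGroup.center_nontrivial
    have hcc : p ∣ Nat.card (center S) := by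
      obtain ⟨j, hj⟩ := IsPGroup.iff_card.1 (P.pGroup.to_subgroup (center S))
      rw [hj]
      refine dvd_pow_self p fun e => ?_
      rw [e, pow_zero] at hj
      exact (Finite.one_lt_card_iff_nontrivial.2 inferInstance).ne' hj
    obtain ⟨z, hz⟩ := exists_prime_orderOf_dvd_card' p hcc
    have hzp : ((z : S) : G) ^ p = 1 := by
      rw [← hz]
      exact congrArg (fun w : center S => ((w : S) : G)) (pow_orderOf_eq_one z)
    have hzx : ((z : S) : G) * x₁ = x₁ * (z : S) :=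
      congrArg Subtype.val (mem_center_iff.1 z.2 ⟨x₁, hxS⟩).symm
    have hzA := hline _ (P.leS (z : S).2) hzp hzx
    have hz1 : ((z : S) : G) ≠ 1 := fun e => by
      have : z = 1 := Subtype.ext (Subtype.ext e)
      rw [this, orderOf_one] at hz
      exact hb.prime.ne_one hz.symm
    by_cases hzx1 : ((z : S) : G) ∈ zpowers x₁
    · -- `x₁` is central in `D`
      have hgen : zpowers ((z : S) : G) = zpowers x₁ := eq_of_le_of_card_ge (zpowers_le.2 hzx1) (by
        rw [Nat.card_zpowers, Nat.card_zpowers, orderOf_eq_prime hzp hz1, hb₁.ord])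
      have hcen : D ≤ centralizer ({x₁} : Set G) := by
        intro w hw
        rw [← centralizer_zpowers, ← hgen, centralizer_zpowers, mem_centralizer_singleton_iff]
        obtain ⟨a, ha, b, hb', rfl⟩ := P.gen w hw
        have e1 : a * (z : S) = (z : S) * a :=
          congrArg Subtype.val (mem_center_iff.1 z.2 ⟨a, ha⟩)
        have e2 : ((z : S) : G) * b = b * (z : S) := P.comm _ (z : S).2 b hb'
        rw [mul_assoc, ← e2, ← mul_assoc, e1, mul_assoc]
      have hDN : D ≤ M ⊓ N := le_inf hDM (hcen.trans hN.centralizer_le)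
      obtain ⟨v, -, hvA⟩ := hHall.exists_conj_le hsol T.le_sigma fun r hr hrd => by
        rw [T.card] at hrd
        rw [(Nat.prime_dvd_prime_iff_eq hr hb.prime).1 (hr.dvd_of_dvd_pow hrd)]
        exact fun e => hqp (Set.mem_singleton_iff.1 e).symm
      have hle' : conjBy v A ≤ A := fun w hw => by
        obtain ⟨a, ha, e⟩ := hw
        rw [← e]
        by_cases ha1 : a = 1
        · rw [ha1, map_one]; exact one_mem A
        · have ho : orderOf ((MulAut.conj v).toMonoidHom a) = p := by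
            rw [MulEquiv.coe_toMonoidHom, MulEquiv.orderOf_eq, orderOf_eq_prime (T.elem.2 a ha) ha1]
          exact T.lines _ (zpowers_le.2 (hDN (hvA ⟨a, ha, rfl⟩))) (by rw [Nat.card_zpowers, ho])
            (mem_zpowers _)
      rw [← eq_of_le_of_card_ge hle' (le_of_eq (CfsgLib.Coprime.card_conjBy _ _).symm)]
      exact hvA
    · -- `A = ⟨x₁, z⟩`
      have hsup : A = zpowers x₁ ⊔ zpowers ((z : S) : G) := by
        refine (eq_of_le_of_card_ge (sup_le (zpowers_le.2 T.mem) (zpowers_le.2 hzA)) ?_).symm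
        have hlt : zpowers x₁ < zpowers x₁ ⊔ zpowers ((z : S) : G) :=
          lt_of_le_of_ne le_sup_left fun e => hzx1 (e.ge (mem_sup_right (mem_zpowers _)))
        obtain ⟨i, -, hi⟩ := (Nat.dvd_prime_pow hb.prime).1 (T.card ▸ card_dvd_of_le
          (sup_le (zpowers_le.2 T.mem) (zpowers_le.2 hzA) : zpowers x₁ ⊔ zpowers ((z : S) : G) ≤ A))
        have : Nat.card (zpowers x₁) < Nat.card ↥(zpowers x₁ ⊔ zpowers ((z : S) : G)) :=
          lt_of_le_of_ne (card_le_of_le hlt.le) fun e => hlt.ne (eq_of_le_of_card_ge hlt.le e.ge)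
        rw [Nat.card_zpowers, hb₁.ord, hi] at this
        rw [T.card, hi]
        exact Nat.pow_le_pow_right hb.prime.pos (by
          by_contra hi2
          interval_cases i <;> simp at this <;> linarith [hb.prime.two_le])
      rw [hsup]
      exact sup_le (zpowers_le.2 hx₁D) (zpowers_le.2 (P.leS (z : S).2))
  obtain ⟨y, hyA, hy, hfix⟩ := hN.exists_fixed hG T
  exact ⟨N, K, Q, D, A, y, hy, T.change hyA, hy.badData hG hfix, d, hKne, sp, hAD⟩

namespace SplitData

variable {M N K Q D A : Subgroup G} {x : G} {p : ℕ} (h : SplitData M N K Q D A x p)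
include h

omit hG in
theorem coatom : IsCoatom M := h.nbr.bad.coatom

omit hG in
theorem mem_D : x ∈ D := h.le h.torus.mem

theorem le_M : Q ≤ M ∧ D ≤ M := Split.le_M hG h.coatom h.decomp h.split

omit hG in
theorem cent_le_N : centralizer ({x} : Set G) ≤ N := h.nbr.centralizer_le

theorem kappaData : Rect.Kappa M K ⊥ (sigmaCore M ⊓ centralizer (K : Set G)) :=
  ⟨hG, h.coatom, h.decomp, h.neK, rfl⟩

theorem fpfAb : letI := Fintype.ofFinite G; FpfAb M :=
  letI := Fintype.ofFinite G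
  fpfAb_of_bot (h.kappaData hG)

theorem eIndex_eq : eIndex M = Nat.card K := by
  letI := Fintype.ofFinite G
  exact eIndex_of_bot (h.kappaData hG) rfl

theorem prime_e : (Nat.card K).Prime := (Split.frobenius hG h.coatom h.decomp h.split).1

/-- A nilpotent subgroup of `M ⊓ N` is abelian. -/
theorem comm_of_le {H : Subgroup G} (hH : H ≤ M ⊓ N) (hnil : Group.IsNilpotent H) {a b : G}
    (ha : a ∈ H) (hb : b ∈ H) : a * b = b * a := by
  haveI := (Cfsg.Agent.S1420.result hG N h.nbr.coatom (M ⊓ N) h.nbr.compl).1 H (hH.trans inf_le_right) hnil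
    fun r hr hrd => by
      haveI : Fact r.Prime := ⟨hr⟩
      exact Compl.compl_not_sigma hG h.nbr.coatom h.nbr.compl (hrd.trans (card_dvd_of_le hH))
  exact congrArg Subtype.val (mul_comm' (⟨a, ha⟩ : H) ⟨b, hb⟩)

theorem comm_cx {a b : G} (ha : a ∈ D ⊓ centralizer ({x} : Set G))
    (hb : b ∈ D ⊓ centralizer ({x} : Set G)) : a * b = b * a :=
  h.comm_of_le hG (le_inf (inf_le_left.trans (h.le_M hG).2) (inf_le_right.trans h.cent_le_N))
    (CfsgLib.Coprime.isNilpotent_of_le inf_le_left (Split.nilpotent_D hG h.coatom h.decomp h.split)) ha hb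

theorem fixed_le : Q ⊓ centralizer (D : Set G) ≤ Q ⊓ centralizer ({x} : Set G) :=
  inf_le_inf_left _ (centralizer_le (Set.singleton_subset_iff.2 h.mem_D))

theorem comm_Q {a b : G} (ha : a ∈ Q) (hb : b ∈ Q) : a * b = b * a := by
  haveI : Fact (Nat.card ↥(sigmaCore M ⊓ centralizer (K : Set G))).Prime := ⟨h.split.prime⟩
  refine split_comm hG h.coatom h.decomp h.split (fun z hz w hw => ?_) ha hb
  exact h.comm_of_le hG (H := Q ⊓ centralizer (D : Set G))
    (le_inf (inf_le_left.trans (h.le_M hG).1) (((h.fixed_le hG).trans inf_le_right).trans h.cent_le_N))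
    (h.split.sylow.isPGroup.to_le inf_le_left).isNilpotent hz hw

/-- The elements of order prime to `p` are central in `D`. -/
theorem central_of_not_dvd {c z : G} (hc : c ∈ D) (hcp : ¬ p ∣ orderOf c) (hz : z ∈ D) :
    c * z = z * c := by
  haveI : Fact p.Prime := ⟨h.nbr.bad.prime⟩
  obtain ⟨S, C, P⟩ := exists_nilParts (Split.nilpotent_D hG h.coatom h.decomp h.split) p
  have hxS : x ∈ S := P.memS x h.mem_D 1 (by rw [pow_one, ← h.nbr.bad.ord, pow_orderOf_eq_one])
  have hC : ∀ {w : G}, w ∈ C → w ∈ D ⊓ centralizer ({x} : Set G) := fun hw =>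
    mem_inf.2 ⟨P.leC hw, mem_centralizer_singleton_iff.2 (P.comm x hxS _ hw).symm⟩
  have hcC := P.memC c hc hcp
  obtain ⟨a, ha, b, hb, rfl⟩ := P.gen z hz
  rw [← mul_assoc, ← P.comm a ha c hcC, mul_assoc, h.comm_cx hG (hC hcC) (hC hb), ← mul_assoc]

theorem not_le_cent : ¬ Q ≤ centralizer ({x} : Set G) := by
  intro hle
  haveI : Fact (Nat.card ↥(sigmaCore M ⊓ centralizer (K : Set G))).Prime := ⟨h.split.prime⟩
  have hM := h.coatom
  have hqσ : Nat.card ↥(sigmaCore M ⊓ centralizer (K : Set G)) ∈ Cfsg.sigma M :=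
    (sigmaCore_hall hG hM).1.2.1 _ h.split.prime (card_dvd_of_le inf_le_left)
  have hu := (Cfsg.Agent.S1423.result hG M hM _ hqσ _ (inf_le_left.trans (map_subtype_le _)) rfl
    h.split.sylow.toSylow (Or.inl (Split.mem_beta hG hM h.decomp h.split))).2.1
  rw [h.split.sylow.map_toSylow] at hu
  obtain ⟨L, -, huniq⟩ := hu
  have e : N = M := (huniq N ⟨h.nbr.coatom, hle.trans h.cent_le_N⟩).trans
    (huniq M ⟨hM, (h.le_M hG).1⟩).symm
  exact h.nbr.notConj 1 (by rw [CfsgLib.Coprime.conjBy_one, e])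

/-- A subgroup between `C_Q(D)` and `Q` normalised by `K` and `D` is one of the two. -/
theorem eq_or_eq {V : Subgroup G} (h1 : Q ⊓ centralizer (D : Set G) ≤ V) (h2 : V ≤ Q)
    (hK : K ≤ normalizer (V : Set G)) (hD : D ≤ normalizer (V : Set G)) :
    V = Q ⊓ centralizer (D : Set G) ∨ V = Q := by
  rcases eq_or_lt_of_le h2 with e | hlt
  · exact Or.inr e
  rcases eq_or_lt_of_le h1 with e | hgt
  · exact Or.inl e.symm
  refine absurd (Split.M_le hG h.coatom h.decomp h.split hK (fun a ha => ?_) hD)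
    (Split.minimal hG h.coatom h.decomp h.split hgt hlt)
  exact mem_normalizer_fintype fun b hb => by
    rw [h.comm_Q hG ha (h2 hb), mul_inv_cancel_right]; exact hb

/-- `C_Q(S) = C_Q(D)`. -/
theorem inf_centralizer_sylow {S C : Subgroup G} [Fact p.Prime] (P : NilParts D S C p) :
    Q ⊓ centralizer (S : Set G) = Q ⊓ centralizer (D : Set G) := by
  obtain ⟨hQM, hDM⟩ := h.le_M hG
  obtain ⟨hnS, -⟩ := P.le_normalizer
  refine (h.eq_or_eq hG (inf_le_inf_left _ (centralizer_le P.leS)) inf_le_left ?_ ?_).resolve_right fun e => ?_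
  · exact CfsgLib.Coprime.inf_le_normalizer (h.decomp.hall.1.trans h.split.normal)
      ((h.split.invariant.trans hnS).trans (CfsgLib.Coprime.normalizer_le_normalizer_centralizer S))
  · exact CfsgLib.Coprime.inf_le_normalizer (hDM.trans h.split.normal)
      ((le_normalizer.trans hnS).trans (CfsgLib.Coprime.normalizer_le_normalizer_centralizer S))
  · refine h.not_le_cent hG (e.ge.trans (inf_le_right.trans (centralizer_le ?_)))
    exact Set.singleton_subset_iff.2 (P.memS x h.mem_D 1 (by rw [pow_one, ← h.nbr.bad.ord, pow_orderOf_eq_one]))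

/-- `[Q, D]` is a normal complement of `C_Q(D)` in `Q` inside `M_σ'`, containing `M_σ ∩ C(K)`. -/
theorem comm_facts :
    ⁅Q, D⁆ ≤ Q ∧ ⁅Q, D⁆ ≤ sigmaDer M ∧ M ≤ normalizer ((⁅Q, D⁆ : Subgroup G) : Set G) ∧
      ⁅Q, D⁆ ⊔ (Q ⊓ centralizer (D : Set G)) = Q ∧ (Q ⊓ centralizer (D : Set G)) ⊓ ⁅Q, D⁆ = ⊥ ∧
      sigmaCore M ⊓ centralizer (K : Set G) ≤ ⁅Q, D⁆ := by
  have hM := h.coatom
  obtain ⟨hQM, hDM⟩ := h.le_M hG
  have hsp := h.split
  haveI : IsMulCommutative Q := ⟨⟨fun a b => Subtype.ext (h.comm_Q hG a.2 b.2)⟩⟩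
  have hDQ : D ≤ normalizer (Q : Set G) := hDM.trans hsp.normal
  have hsup := CfsgLib.Coprime.commutator_sup_centralizer hDQ hsp.cop
    (Or.inl (CfsgLib.Coprime.isSolvable_of_isNilpotent (Split.nilpotent_D hG hM h.decomp hsp)))
  have hle : ⁅Q, D⁆ ≤ Q := le_sup_left.trans hsup.le
  have hinf := CfsgLib.Coprime.centralizer_inf_commutator_eq_bot (A := D) inferInstance hDQ hsp.cop
  have hn : M ≤ normalizer ((⁅Q, D⁆ : Subgroup G) : Set G) :=
    Split.M_le hG hM h.decomp hsp (le_normalizer_commutator (h.decomp.hall.1.trans hsp.normal) hsp.invariant)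
      (normalizer_commutator_ge_left Q D) (commutator_comm Q D ▸ normalizer_commutator_ge_left D Q)
  refine ⟨hle, commutator_mono hsp.compl.1 hsp.compl.2.1, hn, hsup, hinf, fun w hw => ?_⟩
  obtain ⟨l, hl, z, hz, rfl⟩ := CfsgLib.Coprime.mem_sup_exists (N := ⁅Q, D⁆)
    (H := Q ⊓ centralizer (D : Set G)) ((inf_le_left.trans hQM).trans hn) (hsup.ge (hsp.fix_le hw))
  suffices hz1 : z = 1 by rwa [hz1, mul_one]
  have hzK : z ∈ centralizer (K : Set G) := mem_centralizer_iff.2 fun k hk => by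
    have hl' : k * l * k⁻¹ ∈ ⁅Q, D⁆ := (mem_normalizer_iff.1 (hn (h.decomp.hall.1 hk)) l).1 hl
    have hz' : k * z * k⁻¹ ∈ Q ⊓ centralizer (D : Set G) := (mem_normalizer_iff.1
      (Split.normal_fixed hG hM h.decomp hsp (h.decomp.hall.1 hk)) z).1 hz
    have e : k * (l * z) = (l * z) * k := mem_centralizer_iff.1 hw.2 k hk
    have e2 : (k * l * k⁻¹) * (k * z * k⁻¹) = l * z := by
      calc _ = k * (l * z) * k⁻¹ := by group
        _ = _ := by rw [e, mul_inv_cancel_right]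
    have hm : l⁻¹ * (k * l * k⁻¹) ∈ (Q ⊓ centralizer (D : Set G)) ⊓ ⁅Q, D⁆ := by
      refine mem_inf.2 ⟨?_, mul_mem (inv_mem hl) hl'⟩
      rw [show l⁻¹ * (k * l * k⁻¹) = z * (k * z * k⁻¹)⁻¹ by
        rw [eq_mul_inv_iff_mul_eq, mul_assoc, e2, inv_mul_cancel_left]]
      exact mul_mem hz (inv_mem hz')
    rw [hinf, mem_bot] at hm
    rw [← inv_mul_eq_one.1 hm] at e2
    have e3 : k * z * k⁻¹ = z := mul_left_cancel e2
    exact mul_inv_eq_iff_eq_mul.1 e3
  have hzb : z ∈ sigmaCore M ⊓ centralizer (K : Set G) ⊓ (Q ⊓ centralizer (D : Set G)) :=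
    mem_inf.2 ⟨mem_inf.2 ⟨hsp.compl.1 (mem_inf.1 hz).1, hzK⟩, hz⟩
  rwa [Split.fixed_inf hG hM h.decomp hsp, mem_bot] at hzb

/-- `|C_{M_σ}(x)| = |C_Q(x)| |C_D(x)|`. -/
theorem card_D1 : Nat.card ↥(sigmaCore M ⊓ N) =
    Nat.card ↥(Q ⊓ centralizer ({x} : Set G)) * Nat.card ↥(D ⊓ centralizer ({x} : Set G)) := by
  obtain ⟨hQM, hDM⟩ := h.le_M hG
  rw [← h.nbr.inf_centralizer hG h.torus]
  refine Kappa.card_of_compl ⟨inf_le_inf_right _ h.split.compl.1, inf_le_inf_right _ h.split.compl.2.1,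
    le_bot_iff.1 ((inf_le_inf inf_le_left inf_le_left).trans h.split.compl.2.2.1.le), fun m hm => ?_⟩
  obtain ⟨hmσ, hmx⟩ := mem_inf.1 hm
  obtain ⟨a, ha, c, hc, rfl⟩ := h.split.compl.2.2.2 m hmσ
  rw [mem_centralizer_singleton_iff] at hmx
  have hcx : c * x * c⁻¹ * x⁻¹ ∈ Q ⊓ D := by
    refine mem_inf.2 ⟨?_, mul_mem (mul_mem (mul_mem hc h.mem_D) (inv_mem hc)) (inv_mem h.mem_D)⟩
    have e : c * x * c⁻¹ * x⁻¹ = a⁻¹ * (x * a * x⁻¹) := by
      calc c * x * c⁻¹ * x⁻¹ = a⁻¹ * ((a * c) * x) * c⁻¹ * x⁻¹ := by group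
        _ = a⁻¹ * (x * (a * c)) * c⁻¹ * x⁻¹ := by rw [hmx]
        _ = _ := by group
    rw [e]
    exact mul_mem (inv_mem ha) ((mem_normalizer_iff.1 (h.split.normal (hDM h.mem_D)) a).1 ha)
  rw [h.split.compl.2.2.1, mem_bot, mul_inv_eq_one] at hcx
  have hcx' : c * x = x * c := mul_inv_eq_iff_eq_mul.1 hcx
  refine ⟨a, mem_inf.2 ⟨ha, mem_centralizer_singleton_iff.2 ?_⟩, c,
    mem_inf.2 ⟨hc, mem_centralizer_singleton_iff.2 hcx'⟩, rfl⟩
  calc a * x = (a * c) * x * c⁻¹ := by rw [mul_assoc a c x, hcx']; group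
    _ = x * (a * c) * c⁻¹ := by rw [hmx]
    _ = _ := by group

/-- `2 e ≤ p + 1`, and `2 e ≤ p - 1` unless `x` is central in `D`. -/
theorem e_le : 2 * Nat.card K ≤ p + 1 ∧
    (¬ D ≤ centralizer ({x} : Set G) → 2 * Nat.card K ≤ p - 1) := by
  have hM := h.coatom
  obtain ⟨hQM, hDM⟩ := h.le_M hG
  have hp := h.nbr.bad.prime
  haveI : Fact p.Prime := ⟨hp⟩
  have he := h.prime_e hG
  haveI : Fact (Nat.card K).Prime := ⟨he⟩
  -- the central elements of exponent `p`
  let Z : Subgroup G :=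
    { carrier := {z | z ∈ D ∧ z ∈ centralizer (D : Set G) ∧ z ^ p = 1}
      one_mem' := ⟨one_mem _, one_mem _, one_pow _⟩
      mul_mem' := fun {a b} ha hb => ⟨mul_mem ha.1 hb.1, mul_mem ha.2.1 hb.2.1, by
        rw [(show Commute a b from mem_centralizer_iff.1 hb.2.1 a ha.1).mul_pow, ha.2.2, hb.2.2, one_mul]⟩
      inv_mem' := fun {a} ha => ⟨inv_mem ha.1, inv_mem ha.2.1, by rw [inv_pow, ha.2.2, inv_one]⟩ }
  have hZA : Z ≤ A := fun z hz => by
    by_cases hz1 : z = 1
    · rw [hz1]; exact one_mem A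
    · exact h.torus.lines (zpowers z) (zpowers_le.2 (mem_inf.2 ⟨hDM hz.1,
        h.cent_le_N (mem_centralizer_singleton_iff.2 (mem_centralizer_iff.1 hz.2.1 x h.mem_D).symm)⟩))
        (by rw [Nat.card_zpowers, orderOf_eq_prime hz.2.2 hz1]) (mem_zpowers z)
  have hKZ : K ≤ normalizer (Z : Set G) := fun k hk => mem_normalizer_fintype fun z hz => by
    refine ⟨(mem_normalizer_iff.1 (h.split.invariant hk) z).1 hz.1, mem_centralizer_iff.2 fun c hc => ?_,
      by rw [conj_pow, hz.2.2, mul_one, mul_inv_cancel]⟩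
    have h1 : k⁻¹ * c * k ∈ D := by
      simpa using (mem_normalizer_iff.1 (h.split.invariant (inv_mem hk)) c).1 hc
    calc c * (k * z * k⁻¹) = k * ((k⁻¹ * c * k) * z) * k⁻¹ := by group
      _ = k * (z * (k⁻¹ * c * k)) * k⁻¹ := by rw [mem_centralizer_iff.1 hz.2.1 _ h1]
      _ = _ := by group
  have hZ1 : Z ≠ ⊥ := by
    obtain ⟨S, C, P⟩ := exists_nilParts (Split.nilpotent_D hG hM h.decomp h.split) p
    have hxS : x ∈ S := P.memS x h.mem_D 1 (by rw [pow_one, ← h.nbr.bad.ord, pow_orderOf_eq_one])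
    haveI : Nontrivial S := nontrivial_iff_exists_ne_one S |>.2 ⟨x, hxS, h.data.ne_one⟩
    haveI := P.pGroup.center_nontrivial
    have hcc : p ∣ Nat.card (center S) := by
      obtain ⟨j, hj⟩ := IsPGroup.iff_card.1 (P.pGroup.to_subgroup (center S))
      rw [hj]
      refine dvd_pow_self p fun e => ?_
      rw [e, pow_zero] at hj
      exact (Finite.one_lt_card_iff_nontrivial.2 inferInstance).ne' hj
    obtain ⟨z, hz⟩ := exists_prime_orderOf_dvd_card' p hcc
    intro hbot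
    have hzZ : ((z : S) : G) ∈ Z := by
      refine ⟨P.leS (z : S).2, mem_centralizer_iff.2 fun w hw => ?_, by
        rw [← hz]; exact congrArg (fun w : center S => ((w : S) : G)) (pow_orderOf_eq_one z)⟩
      obtain ⟨a, ha, b, hb, rfl⟩ := P.gen w hw
      have e1 : a * (z : S) = (z : S) * a := congrArg Subtype.val (mem_center_iff.1 z.2 ⟨a, ha⟩)
      rw [mul_assoc, ← P.comm _ (z : S).2 b hb, ← mul_assoc, e1, mul_assoc]
    rw [hbot, mem_bot] at hzZ
    rw [show z = 1 from Subtype.ext (Subtype.ext hzZ), orderOf_one] at hz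
    exact hp.ne_one hz.symm
  -- `K` has only the trivial fixed point
  have hmod : Nat.card Z ≡ 1 [MOD Nat.card K] := by
    letI act : MulAction K Z :=
      { smul := fun k z => ⟨(k : G) * z * (k : G)⁻¹, (mem_normalizer_iff.1 (hKZ k.2) _).1 z.2⟩
        one_smul := fun z => Subtype.ext (by show (1 : G) * z * (1 : G)⁻¹ = z; group)
        mul_smul := fun k l z => Subtype.ext (by
          show ((k : G) * l) * z * ((k : G) * l)⁻¹ = k * (l * z * (l : G)⁻¹) * (k : G)⁻¹
          group) }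
    haveI : Subsingleton (MulAction.fixedPoints K Z) := by
      refine ⟨fun a b => Subtype.ext ?_⟩
      have hone : ∀ c : MulAction.fixedPoints K Z, (c : Z) = 1 := fun c => by
        haveI : Nontrivial K := Finite.one_lt_card_iff_nontrivial.1 he.one_lt
        obtain ⟨k, hk⟩ : ∃ k : K, k ≠ 1 := exists_ne (1 : K)
        have hfix : (k : G) * ((c : Z) : G) * (k : G)⁻¹ = (c : Z) := congrArg Subtype.val (c.2 k)
        have hm : ((c : Z) : G) ∈ D ⊓ centralizer ({(k : G)} : Set G) :=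
          mem_inf.2 ⟨(c : Z).2.1, mem_centralizer_singleton_iff.2 (mul_inv_eq_iff_eq_mul.1 hfix).symm⟩
        rw [Split.fpf hG hM h.decomp h.split k.2 fun e => hk (Subtype.ext e), mem_bot] at hm
        exact Subtype.ext hm
      rw [hone a, hone b]
    haveI : Nonempty (MulAction.fixedPoints K Z) :=
      ⟨⟨1, fun k => Subtype.ext (by show (k : G) * 1 * (k : G)⁻¹ = 1; group)⟩⟩
    have hKp : IsPGroup (Nat.card K) K := IsPGroup.of_card (n := 1) (pow_one (Nat.card K)).symm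
    have := hKp.card_modEq_card_fixedPoints Z
    rwa [show Nat.card (MulAction.fixedPoints K Z) = 1 from Nat.card_unique] at this
  obtain ⟨i, hi2, hi⟩ := (Nat.dvd_prime_pow hp).1 (h.torus.card ▸ card_dvd_of_le hZA)
  have hpo : Odd p := hG.1.of_dvd_nat (h.nbr.bad.ord ▸ orderOf_dvd_natCard x)
  have heo : Odd (Nat.card K) := hG.1.of_dvd_nat K.card_subgroup_dvd_card
  have hdvd1 : Nat.card K ∣ p - 1 → 2 * Nat.card K ≤ p - 1 := by
    rintro ⟨c, hc⟩
    obtain ⟨a, ha⟩ := hpo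
    obtain ⟨b, hb⟩ := heo
    rcases c with _ | _ | c
    · have := hp.two_le; omega
    · omega
    · rw [hc, mul_comm 2]; exact Nat.mul_le_mul_left _ (by omega)
  have h1 : Nat.card K ∣ p ^ i - 1 := by
    rw [← hi]
    exact (Nat.modEq_iff_dvd' Nat.card_pos).1 hmod.symm
  interval_cases i
  · exact absurd (card_eq_one.1 (by rw [hi, pow_zero])) hZ1
  · rw [pow_one] at h1
    have := hdvd1 h1
    exact ⟨by omega, fun _ => this⟩
  · have h2 : Nat.card K ∣ (p + 1) * (p - 1) := by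
      rwa [← Nat.sq_sub_sq, one_pow]
    have hle : 2 * Nat.card K ≤ p + 1 := by
      rcases (Nat.Prime.dvd_mul he).1 h2 with ⟨c, hc⟩ | h3
      · obtain ⟨a, ha⟩ := hpo
        obtain ⟨b, hb⟩ := heo
        rcases c with _ | _ | c
        · omega
        · omega
        · rw [hc, mul_comm 2]; exact Nat.mul_le_mul_left _ (by omega)
      · have := hdvd1 h3; omega
    refine ⟨hle, fun hne => absurd (fun c hc => ?_) hne⟩
    have hxZ : x ∈ Z := (eq_of_le_of_card_ge hZA (by rw [hi, h.torus.card])).ge h.torus.mem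
    exact mem_centralizer_singleton_iff.2 (mem_centralizer_iff.1 hxZ.2.1 c hc)

end SplitData

end CfsgLib.FT.Meet
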