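import Cfsg.Agent.Lib.FT.MeetSplitLines
import Cfsg.Agent.Lib.FT.MeetLevels
import Cfsg.Agent.Lib.FT.MeetCore
import Cfsg.Agent.Lib.FT.GreedyExtra
import Cfsg.Agent.Lib.FT.MeetSplitGroup
import Cfsg.Agent.Lib.CFun.OddPrimeActionCore
import Cfsg.Agent.Lib.CFun.OddComplementBase
import Cfsg.Agent.Lib.PGroup.Kulakoff

/-!
# Case A2 of `docs/FT-meet-weights.md`: `C_Q(x)` is not inside `C_Q(D)`

`fixed_eq_bot`: then `C_Q(D) = 1`.  The levels of `D` and the layer `Q / Q₁` above them have total weight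
`e W + 1 = |D| + e (q - 1) |D|`, too much for `|D₁| ≤ q |D|`.
-/

set_option autoImplicit false
set_option linter.unusedSectionVars false
set_option linter.style.haveILetI false

open Subgroup
open scoped commutatorElement

namespace CfsgLib.FT

open CfsgLib.CFun CfsgLib.CFun.TauTwo CfsgLib.CFun.FifteenTwo CfsgLib.Char
open Cfsg (sigmaCore IsMinSimpleOddOrder IrrCharacter charDegree)

universe u

variable {G : Type u} [Group G] [Fintype G] (hG : IsMinSimpleOddOrder G) {M K U Q D : Subgroup G}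
  (hM : IsCoatom M) (d : Cfsg.IsSigmaDecomposition M K U) (hs : Split M K Q D)
  (hQc : IsMulCommutative Q)
include hG hM d hs hQc

/-- A cyclic `C_Q(x)` outside `C_Q(D)` forces `C_Q(D) = 1`. -/
theorem SplitA.fixed_eq_bot {x : G} (hxD : x ∈ D) (hcyc : IsCyclic ↥(Q ⊓ centralizer ({x} : Set G)))
    (hout : ¬ Q ⊓ centralizer ({x} : Set G) ≤ Q ⊓ centralizer (D : Set G)) :
    Q ⊓ centralizer (D : Set G) = ⊥ := by
  set q := Nat.card ↥(sigmaCore M ⊓ centralizer (K : Set G)) with hq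
  haveI : Fact q.Prime := ⟨hs.prime⟩
  set Q₀ := Q ⊓ centralizer (D : Set G) with hQ₀
  set R := ⁅Q, D⁆ with hR
  obtain ⟨hQM, hDM⟩ := Split.le_M hG hM d hs
  have hDQ : D ≤ normalizer (Q : Set G) := hDM.trans hs.normal
  have hQcomm : ∀ a ∈ Q, ∀ b ∈ Q, a * b = b * a := fun a ha b hb =>
    congrArg Subtype.val (hQc.is_comm.comm (⟨a, ha⟩ : Q) ⟨b, hb⟩)
  have hRQ : R ≤ Q := commutator_le.2 fun a ha c hc => by
    rw [commutatorElement_def, mul_assoc a c, mul_assoc a]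
    exact mul_mem ha ((mem_normalizer_iff.1 (hDQ hc) _).1 (inv_mem ha))
  let S : Subgroup G :=
    { carrier := {z | z ∈ Q ∧ z ^ q = 1}
      one_mem' := ⟨one_mem _, one_pow _⟩
      mul_mem' := fun {a b} ha hb => ⟨mul_mem ha.1 hb.1, by
        rw [(show Commute a b from hQcomm a ha.1 b hb.1).mul_pow, ha.2, hb.2, one_mul]⟩
      inv_mem' := fun {a} ha => ⟨inv_mem ha.1, by rw [inv_pow, ha.2, inv_one]⟩ }
  have hRexp : ∀ r ∈ R, r ^ q = 1 := by
    have hle : R ≤ S := commutator_le.2 fun a ha c hc => by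
      refine ⟨hRQ (commutator_mem_commutator ha hc), ?_⟩
      have hb : c * a⁻¹ * c⁻¹ ∈ Q := (mem_normalizer_iff.1 (hDQ hc) _).1 (inv_mem ha)
      have hz := (Split.pow_and_commutator_mem hG hM d hs (inv_mem ha) ha).1
      rw [commutatorElement_def, show a * c * a⁻¹ * c⁻¹ = a * (c * a⁻¹ * c⁻¹) by group,
        (show Commute a (c * a⁻¹ * c⁻¹) from hQcomm a ha _ hb).mul_pow, conj_pow,
        mem_centralizer_iff.1 (mem_inf.1 hz).2 c hc, mul_inv_cancel_right, inv_pow, mul_inv_cancel]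
    exact fun r hr => (hle hr).2
  by_contra hne
  obtain ⟨y, hy, hyout⟩ := SetLike.not_le_iff_exists.1 hout
  obtain ⟨hyQ, hyx⟩ := mem_inf.1 hy
  have hsup : R ⊔ Q₀ = Q := CfsgLib.Coprime.commutator_sup_centralizer hDQ hs.cop
    (Or.inl (CfsgLib.Coprime.isSolvable_of_isNilpotent (Split.nilpotent_D hG hM d hs)))
  obtain ⟨r, hr, z, hz, rfl⟩ := CfsgLib.Coprime.mem_sup_exists (N := R) (H := Q₀)
    (fun a ha => CfsgLib.Coprime.centralizer_le_normalizer_self _ (mem_centralizer_iff.2 fun b hb =>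
      hQcomm b (hRQ hb) a (mem_inf.1 ha).1)) (hsup.ge hyQ)
  have hzx : z ∈ centralizer ({x} : Set G) :=
    mem_centralizer_singleton_iff.2 (mem_centralizer_iff.1 (mem_inf.1 hz).2 x hxD).symm
  have hrx : r ∈ Q ⊓ centralizer ({x} : Set G) :=
    mem_inf.2 ⟨hRQ hr, by simpa using mul_mem hyx (inv_mem hzx)⟩
  -- the only subgroup of order `q` of the cyclic group
  obtain ⟨w, hw⟩ := exists_prime_orderOf_dvd_card' (G := Q₀) q (by
    obtain ⟨n, hn⟩ := IsPGroup.iff_card.1 (hs.sylow.isPGroup.to_le (inf_le_left : Q₀ ≤ Q))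
    rw [hn]
    rcases n with _ | n
    · refine absurd (card_eq_one.1 ?_) hne
      rwa [pow_zero] at hn
    · exact dvd_pow_self q (by omega))
  have hwC : (w : G) ∈ Q ⊓ centralizer ({x} : Set G) := mem_inf.2 ⟨(mem_inf.1 w.2).1,
    mem_centralizer_singleton_iff.2 (mem_centralizer_iff.1 (mem_inf.1 w.2).2 x hxD).symm⟩
  haveI := hcyc
  set C := Q ⊓ centralizer ({x} : Set G) with hC
  have h1 : (⟨r, hrx⟩ : C) ∈ zpowers (⟨w, hwC⟩ : C) := by
    have ho : orderOf (⟨w, hwC⟩ : C) = q := by rw [← orderOf_coe, orderOf_coe w, hw]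
    rcases (Nat.dvd_prime hs.prime).1 (orderOf_dvd_of_pow_eq_one (hRexp r hr)) with h | h
    · rw [orderOf_eq_one_iff] at h
      rw [show (⟨r, hrx⟩ : C) = 1 from Subtype.ext h]
      exact one_mem _
    · have hr' : orderOf (⟨r, hrx⟩ : C) = q := by rw [← orderOf_coe]; exact h
      rw [show zpowers (⟨w, hwC⟩ : C) = zpowers (⟨r, hrx⟩ : C) from
        (CfsgLib.PGroup.Kulakoff.eq_of_card_eq (by rw [Nat.card_zpowers, Nat.card_zpowers, ho, hr']))]
      exact mem_zpowers _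
  obtain ⟨i, hi⟩ := mem_zpowers_iff.1 h1
  have hr0 : r ∈ Q₀ := by
    have : (w : G) ^ i = r := congrArg Subtype.val hi
    exact this ▸ zpow_mem w.2 i
  exact hyout (mul_mem hr0 hz)

variable (hQ0 : Q ⊓ centralizer (D : Set G) = ⊥)
include hQ0

/-- The levels of `D`: weight `|D|`. -/
theorem SplitA.exists_base {p : ℕ} (hp : p.Prime) (hk : p ^ 2 ≤ kZero M)
    (hcentD : ∃ s, (center D).index = p ^ s)
    (hnab : ¬ IsMulCommutative D → 2 * eIndex M ≤ p - 1) :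
    ∃ (X : Finset (M → ℂ)) (Dg : (M → ℂ) → ℕ),
      (∀ χ ∈ X, Cfsg.IsIrrCharacter M χ ∧ χ 1 = (Dg χ : ℂ) * eIndex M ∧ 2 ≤ Dg χ ∧
        ∀ z : M, (z : G) ∉ sigmaCore M → χ z = 0) ∧
      (∀ χ ∈ X, ∀ a : M, (a : G) ∈ Q → χ a = χ 1) ∧
      (∀ χ ∈ X, 2 * Dg χ + 2 ≤
        Nat.card (Member M) + ∑ ξ ∈ X.filter (fun ξ => Dg ξ < Dg χ), Dg ξ ^ 2) ∧
      eIndex M * (Nat.card (Member M) + ∑ χ ∈ X, Dg χ ^ 2) + 1 = Nat.card D := by
  classical
  obtain ⟨hU, hK⟩ := Split.bot hG hM d hs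
  have hF : FpfAb M := fpfAb_kappa hG hM d hK hU
  obtain ⟨hQM, hDM⟩ := Split.le_M hG hM d hs
  have hQder : Q ≤ sigmaDer M := (SplitA.q_facts hG hM d hs hQc hQ0).2.2
  have hidxQ : Q.relIndex (sigmaCore M) = Nat.card D := by
    have h1 := CfsgLib.Coprime.card_mul_relIndex hs.compl.1
    rw [Kappa.card_of_compl hs.compl] at h1
    exact Nat.eq_of_mul_eq_mul_left Nat.card_pos h1
  have hDQ : D ≤ normalizer (Q : Set G) := hDM.trans hs.normal
  have hcalc : ∀ a ∈ Q, ∀ b ∈ Q, ∀ c ∈ D, ∀ w ∈ D, c * w = w * c →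
      a * c * (b * w) * (a * c)⁻¹ * (b * w)⁻¹ ∈ Q := by
    intro a ha b hb c hc w hw hcw
    have e : a * c * (b * w) * (a * c)⁻¹ * (b * w)⁻¹ =
        a * (c * b * c⁻¹) * (w * a⁻¹ * w⁻¹) * b⁻¹ := by
      calc a * c * (b * w) * (a * c)⁻¹ * (b * w)⁻¹
          = a * (c * b * c⁻¹) * ((c * w) * c⁻¹ * a⁻¹ * w⁻¹) * b⁻¹ := by group
        _ = a * (c * b * c⁻¹) * ((w * c) * c⁻¹ * a⁻¹ * w⁻¹) * b⁻¹ := by rw [hcw]
        _ = _ := by group
    rw [e]
    exact mul_mem (mul_mem (mul_mem ha ((mem_normalizer_iff.1 (hDQ hc) b).1 hb))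
      ((mem_normalizer_iff.1 (hDQ hw) _).1 (inv_mem ha))) (inv_mem hb)
  by_cases hab : IsMulCommutative D
  · refine ⟨∅, fun _ => 0, by simp, by simp, by simp, ?_⟩
    have hk' : kZero M = Nat.card D := by
      rw [kZero, le_antisymm (show sigmaDer M ≤ Q from commutator_le.2 fun y hy z hz => ?_) hQder, hidxQ]
      obtain ⟨a, ha, c, hc, rfl⟩ := hs.compl.2.2.2 y hy
      obtain ⟨b, hb, w, hw, rfl⟩ := hs.compl.2.2.2 z hz
      rw [commutatorElement_def]
      exact hcalc a ha b hb c hc w hw (congrArg Subtype.val (hab.is_comm.comm (⟨c, hc⟩ : D) ⟨w, hw⟩))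
    rw [Finset.sum_empty, add_zero, ← hk', mul_comm]
    exact member_card hG hF
  obtain ⟨s, hsD⟩ := hcentD
  set Z := (center D).map D.subtype with hZ
  have hZD : Z ≤ D := map_subtype_le _
  have hZc : ∀ c ∈ Z, ∀ w ∈ D, c * w = w * c := by
    rintro _ ⟨c, hc, rfl⟩ w hw
    exact (congrArg Subtype.val (mem_center_iff.1 hc ⟨w, hw⟩)).symm
  have hZn : Z ≤ normalizer (Q : Set G) := hZD.trans hDQ
  have hnC : M ≤ normalizer ((Q ⊔ Z : Subgroup G) : Set G) := by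
    refine Split.M_le hG hM d hs ?_ ?_ ?_
    · exact CfsgLib.Coprime.sup_le_normalizer (d.hall.1.trans hs.normal)
        (hs.invariant.trans (CfsgLib.PGroup.normalizer_le_normalizer_map_char D (center D)))
    · exact le_sup_left.trans le_normalizer
    · exact CfsgLib.Coprime.sup_le_normalizer hDQ
        (le_normalizer.trans (CfsgLib.PGroup.normalizer_le_normalizer_map_char D (center D)))
  have hcompl : Cfsg.IsComplIn Q Z (Q ⊔ Z) :=
    ⟨le_sup_left, le_sup_right, le_bot_iff.1 ((inf_le_inf_left Q hZD).trans hs.compl.2.2.1.le),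
      fun y hy => by
        obtain ⟨a, ha, c, hc, rfl⟩ := CfsgLib.Coprime.mem_sup_exists hZn hy
        exact ⟨a, ha, c, hc, rfl⟩⟩
  have hlev : LevelData M Q (Q ⊔ Z) p s := by
    refine ⟨hp, hQder, hs.normal, hnC, le_sup_left, sup_le hs.compl.1 (hZD.trans hs.compl.2.1), ?_, ?_,
      hnab hab, hk⟩
    · intro y hy z hz
      obtain ⟨a, ha, c, hc, rfl⟩ := CfsgLib.Coprime.mem_sup_exists hZn hy
      obtain ⟨b, hb, w, hw, rfl⟩ := hs.compl.2.2.2 z hz
      exact hcalc a ha b hb c (hZD hc) w hw (hZc c hc w hw)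
    · have h1 := CfsgLib.Coprime.card_mul_relIndex
        (sup_le hs.compl.1 (hZD.trans hs.compl.2.1) : Q ⊔ Z ≤ sigmaCore M)
      rw [Kappa.card_of_compl hcompl, Kappa.card_of_compl hs.compl, mul_assoc] at h1
      have h2 := Nat.eq_of_mul_eq_mul_left Nat.card_pos h1
      rw [hZ, card_map_of_injective D.subtype_injective, ← card_mul_index (center D)] at h2
      rw [← hsD]
      exact Nat.eq_of_mul_eq_mul_left Nat.card_pos h2
  have hirr : irregular M Q = ∅ := by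
    refine irregular_eq_empty hG hs.normal fun y hy hyσ v hv hyv => ?_
    obtain ⟨u, hu, k, hk', rfl⟩ := (compl_kappa hG hM d hU).2.2.2 y hy
    have hu1 : u ≠ 1 := fun e => hyσ (by rwa [e, one_mul])
    obtain ⟨a, ha, c, hc, rfl⟩ := hs.compl.2.2.2 k hk'
    have huD : ∀ t ∈ D, u⁻¹ * t * u * t⁻¹ ∈ D := fun t ht => by
      refine mul_mem ?_ (inv_mem ht)
      have := (mem_normalizer_iff.1 (hs.invariant (inv_mem hu)) t).1 ht
      rwa [inv_inv] at this
    have hinj : Function.Injective fun t : D => (⟨u⁻¹ * t * u * (t : G)⁻¹, huD t t.2⟩ : D) := by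
      intro t t' e
      have e' : u⁻¹ * (t : G) * u * (t : G)⁻¹ = u⁻¹ * (t' : G) * u * (t' : G)⁻¹ := congrArg Subtype.val e
      have h1 : (t' : G)⁻¹ * t ∈ D ⊓ centralizer ({u} : Set G) := by
        refine mem_inf.2 ⟨mul_mem (inv_mem t'.2) t.2, mem_centralizer_singleton_iff.2 ?_⟩
        calc (t' : G)⁻¹ * t * u = (t' : G)⁻¹ * (u * (u⁻¹ * t * u * (t : G)⁻¹)) * t := by group
          _ = (t' : G)⁻¹ * (u * (u⁻¹ * t' * u * (t' : G)⁻¹)) * t := by rw [e']
          _ = _ := by group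
      rw [Split.fpf hG hM d hs hu hu1, mem_bot, inv_mul_eq_one] at h1
      exact Subtype.ext h1.symm
    obtain ⟨⟨t, ht⟩, htc⟩ := Finite.injective_iff_surjective.1 hinj ⟨c, hc⟩
    have htc' : u⁻¹ * t * u * t⁻¹ = c := congrArg Subtype.val htc
    have htu : t * u * t⁻¹ ∈ normalizer (D : Set G) :=
      mul_mem (mul_mem (le_normalizer ht) (hs.invariant hu)) (inv_mem (le_normalizer ht))
    have huQ : u ∈ normalizer (Q : Set G) := hs.normal (d.hall.1 hu)
    have htuQ : t * u * t⁻¹ ∈ normalizer (Q : Set G) :=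
      mul_mem (mul_mem (hDQ ht) huQ) (inv_mem (hDQ ht))
    obtain ⟨b, hb, w, hw, rfl⟩ := hs.compl.2.2.2 v hv
    set a' := u * a * u⁻¹ with ha'
    have ha'Q : a' ∈ Q := (mem_normalizer_iff.1 huQ a).1 ha
    have e : u * (a * c) * (b * w) * (u * (a * c))⁻¹ * (b * w)⁻¹ =
        a' * (t * u * t⁻¹ * b * (t * u * t⁻¹)⁻¹) *
          ((t * u * t⁻¹) * w * (t * u * t⁻¹)⁻¹ * w⁻¹ * (w * a'⁻¹ * w⁻¹)) * b⁻¹ := by
      rw [← htc', ha']
      group
    rw [e] at hyv
    have h2 : (t * u * t⁻¹) * w * (t * u * t⁻¹)⁻¹ * w⁻¹ ∈ Q ⊓ D := by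
      refine mem_inf.2 ⟨?_, mul_mem ((mem_normalizer_iff.1 htu w).1 hw) (inv_mem hw)⟩
      have h3 := (mul_mem_cancel_right (inv_mem hb)).1 hyv
      have h4 := (mul_mem_cancel_left (mul_mem ha'Q ((mem_normalizer_iff.1 htuQ b).1 hb))).1 h3
      exact (mul_mem_cancel_right ((mem_normalizer_iff.1 (hDQ hw) _).1 (inv_mem ha'Q))).1 h4
    rw [hs.compl.2.2.1, mem_bot] at h2
    have h5 : t⁻¹ * w * t ∈ D ⊓ centralizer ({u} : Set G) := by
      refine mem_inf.2 ⟨mul_mem (mul_mem (inv_mem ht) hw) ht, mem_centralizer_singleton_iff.2 ?_⟩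
      calc t⁻¹ * w * t * u = t⁻¹ * (1 * w) * (t * u) := by group
        _ = t⁻¹ * ((t * u * t⁻¹) * w * (t * u * t⁻¹)⁻¹ * w⁻¹ * w) * (t * u) := by rw [h2]
        _ = _ := by group
    rw [Split.fpf hG hM d hs hu hu1, mem_bot] at h5
    have hw1 : w = 1 := by
      calc w = t * (t⁻¹ * w * t) * t⁻¹ := by group
        _ = 1 := by rw [h5]; group
    rw [hw1, mul_one]
    exact hb
  obtain ⟨X, Dg, h1, -, h3, h4, h5⟩ := exists_levels hG hF hlev (by
    rw [hirr, Set.ncard_empty]; exact Nat.zero_le _)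
  rw [hirr, finsum_mem_empty, add_zero, hidxQ] at h5
  exact ⟨X, Dg, h1, h3, h4, h5⟩

/-- Case A2 does not occur. -/
theorem SplitA.false_of_line {N A : Subgroup G} {x : G} {p : ℕ} (h : BadData M N x p)
    (hn : Nbr M N x p) (T : Torus M N x p A) (hAD : A ≤ D)
    (hcyc : IsCyclic ↥(Q ⊓ centralizer ({x} : Set G)))
    (hne : Q ⊓ centralizer ({x} : Set G) ≠ ⊥)
    (hnum : MeetNums M p) (F : Family M) (hcong : Cong p (F.psi x) ((F.ε * eIndex M : ℤ) : ℂ))
    (hcentD : ∃ s, (center D).index = p ^ s)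
    (hnab : ¬ IsMulCommutative D → 2 * eIndex M ≤ p - 1) : False := by
  classical
  haveI := Fintype.ofFinite M
  have hp := hn.bad.prime
  haveI : Fact p.Prime := ⟨hp⟩
  obtain ⟨hU, hK⟩ := Split.bot hG hM d hs
  have hF : FpfAb M := fpfAb_kappa hG hM d hK hU
  obtain ⟨hQM, hDM⟩ := Split.le_M hG hM d hs
  have hDQ : D ≤ normalizer (Q : Set G) := hDM.trans hs.normal
  have hcx := hn.inf_centralizer hG T
  have hAL : A ≤ centralizer ((Q ⊓ centralizer ({x} : Set G) : Subgroup G) : Set G) := by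
    rw [le_centralizer_iff]
    exact ((inf_le_inf_right _ hs.compl.1).trans hcx.le).trans (hn.le_centralizer_torus hG T)
  obtain ⟨hLc, hpq, Q₁, hQ₁Q, hσn, hidx, hmove, hYab⟩ := SplitA.exists_lines hG hM d hs hQc hQ0 hp
    (hAD T.mem) hn.bad.ord hAD ⟨⟨fun a b => Subtype.ext (congrArg Subtype.val (T.elem.1.is_comm.comm a b))⟩⟩
    hAL hcyc hne
  set q := Nat.card ↥(sigmaCore M ⊓ centralizer (K : Set G)) with hq
  have hQder : Q ≤ sigmaDer M := (SplitA.q_facts hG hM d hs hQc hQ0).2.2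
  obtain ⟨Xl, Dl, hirrl, htriv, hrankl, hsuml⟩ := SplitA.exists_base hG hM d hs hQc hQ0 hp hnum.k_le
    hcentD hnab
  -- the degrees of the layer
  haveI : Fintype (sigmaIn M) := Fintype.ofFinite _
  haveI : (sigmaIn M).Normal := sigmaIn_normal hG
  set A₁ := (Q₁.subgroupOf M).subgroupOf (sigmaIn M) with hA₁
  haveI : A₁.Normal := ⟨fun a ha g => (mem_normalizer_iff.1 (hσn g.2) _).1 ha⟩
  have hQAσ : Q ⊔ A ≤ sigmaCore M := sup_le hs.compl.1 (hAD.trans hs.compl.2.1)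
  set b := (Q ⊔ A).relIndex (sigmaCore M) with hb
  have hbound : ∀ θ : IrrCharacter (sigmaIn M),
      (∀ a : sigmaIn M, ((a : M) : G) ∈ Q₁ → (θ : sigmaIn M → ℂ) a = (θ : sigmaIn M → ℂ) 1) →
      charDegree (θ : sigmaIn M → ℂ) ≤ b := by
    intro θ hθ
    refine (Levels.degree_le_index_mod A₁ (((Q ⊔ A).subgroupOf M).subgroupOf (sigmaIn M)) ?_ ?_ θ
      fun a ha => hθ a ha).trans (le_of_eq (relIndex_sigmaIn hQAσ))
    · exact fun a ha => mem_subgroupOf.2 (le_sup_left (b := A) (hQ₁Q ha))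
    · exact fun a ha c hc => hYab _ ha _ hc
  obtain ⟨Xy, Dy, hirry, hDy, hnty, hsumy⟩ := exists_layer hG hQ₁Q hQder hs.normal hσn
    (hidx ▸ hs.prime) hmove hbound
  have hidxQ : Q.relIndex (sigmaCore M) = Nat.card D := by
    have h1 := CfsgLib.Coprime.card_mul_relIndex hs.compl.1
    rw [Kappa.card_of_compl hs.compl] at h1
    exact Nat.eq_of_mul_eq_mul_left Nat.card_pos h1
  rw [← relIndex_mul_relIndex Q₁ Q _ hQ₁Q hs.compl.1, hidx, hidxQ] at hsumy
  have hb2 : b * p ^ 2 = Nat.card D := by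
    have hcompl : Cfsg.IsComplIn Q A (Q ⊔ A) :=
      ⟨le_sup_left, le_sup_right, le_bot_iff.1 ((inf_le_inf_left Q hAD).trans hs.compl.2.2.1.le),
        fun y hy => by
          obtain ⟨a, ha, c, hc, rfl⟩ := CfsgLib.Coprime.mem_sup_exists (hAD.trans hDQ) hy
          exact ⟨a, ha, c, hc, rfl⟩⟩
    have h1 := CfsgLib.Coprime.card_mul_relIndex hQAσ
    rw [Kappa.card_of_compl hcompl, Kappa.card_of_compl hs.compl, T.card, mul_assoc] at h1
    rw [mul_comm]
    exact Nat.eq_of_mul_eq_mul_left Nat.card_pos h1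
  have hb0 : 0 < b := by
    rcases Nat.eq_zero_or_pos b with h0 | h0
    · rw [h0, zero_mul] at hb2
      exact absurd hb2.symm Nat.card_pos.ne'
    · exact h0
  -- the two sets together
  have hdisj : Disjoint Xl Xy := Finset.disjoint_left.2 fun χ hχ hχ' => by
    obtain ⟨a, ha, hne'⟩ := hnty χ hχ'
    exact hne' (htriv χ hχ a ha)
  set Dg : (M → ℂ) → ℕ := fun χ => if χ ∈ Xy then Dy χ else Dl χ with hDg
  set ℓ : (M → ℂ) → ℕ := fun χ => if χ ∈ Xy then Xl.sup Dl + 1 else Dl χ with hℓ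
  have hl : ∀ χ ∈ Xl, Dg χ = Dl χ ∧ ℓ χ = Dl χ := fun χ hχ =>
    ⟨if_neg (Finset.disjoint_left.1 hdisj hχ), if_neg (Finset.disjoint_left.1 hdisj hχ)⟩
  have hy : ∀ χ ∈ Xy, Dg χ = Dy χ ∧ ℓ χ = Xl.sup Dl + 1 := fun χ hχ => ⟨if_pos hχ, if_pos hχ⟩
  have hirr : ∀ χ ∈ Xl ∪ Xy, Cfsg.IsIrrCharacter M χ ∧ χ 1 = (Dg χ : ℂ) * eIndex M ∧ 2 ≤ Dg χ ∧
      ∀ z : M, (z : G) ∉ sigmaCore M → χ z = 0 := by
    intro χ hχ
    rcases Finset.mem_union.1 hχ with hχ | hχ
    · rw [(hl χ hχ).1]; exact hirrl χ hχ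
    · rw [(hy χ hχ).1]; exact hirry χ hχ
  have hep := hnum.e_le
  have hp5 := hnum.five_le
  have he := eIndex_pos (M := M)
  have hrank : ∀ χ ∈ Xl ∪ Xy, 2 * Dg χ + 2 ≤
      Nat.card (Member M) + ∑ ξ ∈ (Xl ∪ Xy).filter (fun ξ => ℓ ξ < ℓ χ), Dg ξ ^ 2 := by
    intro χ hχ
    rcases Finset.mem_union.1 hχ with hχ | hχ
    · rw [(hl χ hχ).1]
      refine (hrankl χ hχ).trans (Nat.add_le_add_left ?_ _)
      refine (le_of_eq (Finset.sum_congr rfl fun ξ hξ => ?_)).trans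
        (Finset.sum_le_sum_of_subset fun ξ hξ => ?_)
      · rw [(hl ξ (Finset.mem_filter.1 hξ).1).1]
      · obtain ⟨h1, h2⟩ := Finset.mem_filter.1 hξ
        refine Finset.mem_filter.2 ⟨Finset.mem_union_left _ h1, ?_⟩
        rwa [(hl ξ h1).2, (hl χ hχ).2]
    · rw [(hy χ hχ).1]
      have h1 : Nat.card (Member M) + ∑ ξ ∈ Xl, Dl ξ ^ 2 ≤
          Nat.card (Member M) + ∑ ξ ∈ (Xl ∪ Xy).filter (fun ξ => ℓ ξ < ℓ χ), Dg ξ ^ 2 := by
        refine Nat.add_le_add_left ((le_of_eq (Finset.sum_congr rfl fun ξ hξ => ?_)).trans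
          (Finset.sum_le_sum_of_subset fun ξ hξ => ?_)) _
        · rw [(hl ξ hξ).1]
        · refine Finset.mem_filter.2 ⟨Finset.mem_union_left _ hξ, ?_⟩
          rw [(hl ξ hξ).2, (hy χ hχ).2]
          exact Nat.lt_succ_of_le (Finset.le_sup hξ)
      refine le_trans ?_ h1
      refine Nat.le_of_mul_le_mul_left ?_ he
      have h3 : eIndex M * (2 * Dy χ + 2) ≤ (p + 1) * (b + 1) := by
        calc eIndex M * (2 * Dy χ + 2) = 2 * eIndex M * (Dy χ + 1) := by ring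
          _ ≤ _ := Nat.mul_le_mul hep (Nat.add_le_add_right (hDy χ hχ) 1)
      have h4 : (p + 1) * (b + 1) + 1 ≤ b * p ^ 2 := by nlinarith
      omega
  have hcard : Nat.card ↥(sigmaCore M ⊓ N : Subgroup G) ≤ q * Nat.card D := by
    rw [← hcx]
    set C := sigmaCore M ⊓ centralizer ({x} : Set G) with hC
    rw [← CfsgLib.Coprime.card_mul_relIndex (inf_le_right : Q ⊓ C ≤ C)]
    refine Nat.mul_le_mul ?_ ?_
    · rw [← hLc, hC, ← inf_assoc, inf_eq_left.2 hs.compl.1]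
    · rw [inf_relIndex_right, ← hidxQ]
      exact relIndex_le_of_le_right inf_le_left index_ne_zero_of_finite
  obtain ⟨δ, ν, hinj, hν⟩ := Family.exists_greedy hG hF F (Xl ∪ Xy) Dg ℓ hirr hrank
  refine false_of_weight hG h hF F hnum hcong (Xl ∪ Xy) Dg δ ν hinj hν ?_
  have hS : ∑ χ ∈ Xl ∪ Xy, (Dg χ : ℤ) ^ 2 =
      ((∑ χ ∈ Xl, Dl χ ^ 2 + ∑ χ ∈ Xy, Dy χ ^ 2 : ℕ) : ℤ) := by
    rw [Finset.sum_union hdisj]
    push_cast
    exact congrArg₂ _ (Finset.sum_congr rfl fun ξ hξ => by rw [(hl ξ hξ).1])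
      (Finset.sum_congr rfl fun ξ hξ => by rw [(hy ξ hξ).1])
  rw [hS]
  set Sy := ∑ χ ∈ Xy, Dy χ ^ 2
  set Sl := ∑ χ ∈ Xl, Dl χ ^ 2
  set n := Nat.card (Member M)
  set e := eIndex M
  set c := Nat.card ↥(sigmaCore M ⊓ N : Subgroup G)
  set m := Nat.card D
  have hq10 : 10 ≤ q := by
    obtain ⟨t, ht⟩ := hpq
    have hqo : Odd q := hG.1.of_dvd_nat (card_subgroup_dvd_card _)
    obtain ⟨r, hr⟩ := hqo
    have hpo : p ≠ 2 := by omega
    have := hp.eq_two_or_odd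
    have hq2 := hs.prime.two_le
    rcases t with _ | _ | t
    · omega
    · omega
    · have := Nat.mul_le_mul hp5 (show 2 ≤ t + 1 + 1 by omega)
      omega
  have he3 : 3 ≤ e := three_le_eIndex hG hM
  have hsy : Sy + m = q * m := hsumy
  have h27 : 27 * (c : ℤ) ≤ 10 * ((e : ℤ) * (n + Sl + Sy)) := by
    have h1 : 27 * c ≤ 10 * (e * (n + Sl + Sy)) := by
      have h6 : 10 * (e * Sy) ≥ 30 * Sy := by nlinarith
      have h7 : 27 * (q * m) ≤ 30 * Sy := by nlinarith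
      have h8 : 10 * (e * Sy) ≤ 10 * (e * (n + Sl + Sy)) :=
        Nat.mul_le_mul_left _ (Nat.mul_le_mul_left _ (Nat.le_add_left _ _))
      omega
    exact_mod_cast h1
  have hc0 : (0 : ℤ) ≤ c := Int.natCast_nonneg _
  have hp' : (5 : ℤ) ≤ p := by exact_mod_cast hp5
  have he' : (3 : ℤ) ≤ e := by exact_mod_cast he3
  set W : ℤ := (n : ℤ) + Sl + Sy with hW
  have hW0 : 0 ≤ W := by positivity
  have k1 : 5 * (((p : ℤ) + 1) * e * c) ≤ 6 * ((p : ℤ) * e * c) := by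
    have : (0 : ℤ) ≤ (e : ℤ) * c := by positivity
    nlinarith
  have k2 : 4 * (e : ℤ) ^ 2 ≤ 9 * ((e : ℤ) - 1) ^ 2 := by nlinarith
  have k3 := mul_le_mul_of_nonneg_left h27 (by positivity : (0 : ℤ) ≤ (p : ℤ) * e)
  have k4 := mul_le_mul_of_nonneg_left (mul_le_mul_of_nonneg_right k2 hW0) (by positivity : (0 : ℤ) ≤ (p : ℤ))
  push_cast
  nlinarith

namespace Meet.SplitData

omit hG hM d hs hQc hQ0

variable {N A : Subgroup G} {x : G} {p : ℕ}

/-- Case A2: `x` fixes more of `Q` than `D` does. -/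
theorem false_of_moved (hG : IsMinSimpleOddOrder G) (h : SplitData M N K Q D A x p) (hF : FpfAb M)
    (F : Family M) (hnum : MeetNums M p) (hcong : Cong p (F.psi x) ((F.ε * eIndex M : ℤ) : ℂ))
    (hB : ¬ Q ⊓ centralizer ({x} : Set G) ≤ centralizer (D : Set G)) : False := by
  classical
  have hM := h.coatom
  have hp := h.nbr.bad.prime
  haveI : Fact p.Prime := ⟨hp⟩
  set q := Nat.card ↥(sigmaCore M ⊓ centralizer (K : Set G)) with hq
  haveI : Fact q.Prime := ⟨h.split.prime⟩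
  obtain ⟨hQM, hDM⟩ := h.le_M hG
  have hQc : IsMulCommutative Q := ⟨⟨fun a b => Subtype.ext (h.comm_Q hG a.2 b.2)⟩⟩
  set C := Q ⊓ centralizer ({x} : Set G) with hC
  have hne : C ≠ ⊥ := fun e => hB (e.le.trans bot_le)
  have hCpg : IsPGroup q C := h.split.sylow.isPGroup.to_le inf_le_left
  have hCD : C ≤ M ⊓ N := le_inf (inf_le_left.trans hQM) (inf_le_right.trans h.cent_le_N)
  have hqd : q ∣ Nat.card C := by
    obtain ⟨n, hn⟩ := IsPGroup.iff_card.1 hCpg
    rw [hn]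
    rcases n with _ | n
    · refine absurd (card_eq_one.1 ?_) hne
      rwa [pow_zero] at hn
    · exact dvd_pow_self q (by omega)
  have hqN : q ∉ Cfsg.sigma N :=
    Compl.compl_not_sigma hG h.nbr.coatom h.nbr.compl (hqd.trans (card_dvd_of_le hCD))
  -- the `q`-rank of `N` is one
  have hrank : Cfsg.PRankLE q 1 N :=
    (tau_or_rank_one hG h.nbr.coatom h.split.prime hqN).resolve_left fun hτ =>
      Neighbour.not_beta_of_tau2 hG (M := M) h.nbr.coatom hτ (Split.mem_beta hG hM h.decomp h.split)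
  have hcyc : IsCyclic C := by
    have hq2 : q ≠ 2 := fun e => by
      have hodd : Odd q := hG.1.of_dvd_nat (card_subgroup_dvd_card _)
      rw [e] at hodd
      exact absurd hodd (by decide)
    refine Compl.isCyclic_of_rank_one hq2 hCpg fun B hBc hB => ?_
    let f : C →* N := inclusion (hCD.trans inf_le_right)
    rw [← card_map_of_injective (f := f) (inclusion_injective _)]
    haveI := hBc
    exact hrank (B.map f) inferInstance (by rintro _ ⟨b, hb, rfl⟩; rw [← map_pow, hB b hb, map_one])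
  have hQ0 : Q ⊓ centralizer (D : Set G) = ⊥ :=
    SplitA.fixed_eq_bot hG hM h.decomp h.split hQc h.mem_D hcyc fun hle => hB (hle.trans inf_le_right)
  have hcentD : ∃ s, (center D).index = p ^ s := by
    refine ⟨_, Nat.eq_prime_pow_of_unique_prime_dvd index_ne_zero_of_finite fun {r} hr hrd => ?_⟩
    by_contra hrp
    haveI : Fact r.Prime := ⟨hr⟩
    obtain ⟨P⟩ := (inferInstance : Nonempty (Sylow r D))
    refine P.not_dvd_index (hrd.trans (index_dvd_of_le fun t ht => mem_center_iff.2 fun z => ?_))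
    obtain ⟨i, hi⟩ := P.2 ⟨t, ht⟩
    refine Subtype.ext (h.central_of_not_dvd hG t.2 (fun hpd => ?_) z.2).symm
    have h1 : orderOf (t : G) ∣ r ^ i := by
      rw [orderOf_coe]
      exact orderOf_dvd_of_pow_eq_one (congrArg Subtype.val hi)
    exact hrp ((Nat.prime_dvd_prime_iff_eq hp hr).1 (hp.dvd_of_dvd_pow (hpd.trans h1))).symm
  have hnab : ¬ IsMulCommutative D → 2 * eIndex M ≤ p - 1 := fun hab => by
    rw [h.eIndex_eq hG]
    refine (h.e_le hG).2 fun hle => hab ⟨⟨fun a b => Subtype.ext ?_⟩⟩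
    exact h.comm_of_le hG (le_inf hDM (hle.trans h.cent_le_N))
      (Split.nilpotent_D hG hM h.decomp h.split) a.2 b.2
  exact SplitA.false_of_line hG hM h.decomp h.split hQc hQ0 h.data h.nbr h.torus h.le hcyc hne hnum F
    hcong hcentD hnab

end Meet.SplitData

end CfsgLib.FT
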