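import Cfsg.Agent.Lib.FT.MeetSplitAOne
import Cfsg.Agent.Lib.FT.MeetSplitATwo
import Cfsg.Agent.Lib.FT.FamilyImage

/-!
# §1, case A: no bad pair with `M_σ` not nilpotent (`docs/FT-meet-weights.md`)
-/

set_option autoImplicit false
set_option linter.unusedSectionVars false
set_option linter.style.haveILetI false

open Subgroup

namespace CfsgLib.FT

universe u

variable {G : Type u} [Group G] [Fintype G] (hG : Cfsg.IsMinSimpleOddOrder G)
include hG

/-- A bad pair has nilpotent `M_σ`. -/
theorem false_of_bad_split {M : Subgroup G} {x : G} {p : ℕ} (hb : BadPair M x p)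
    (hnil : ¬ Group.IsNilpotent (Cfsg.sigmaCore M)) : False := by
  obtain ⟨N, K, Q, D, A, y, h⟩ := Meet.exists_splitData hG hb hnil
  have hM : FpfAb M := h.fpfAb hG
  obtain ⟨b⟩ := exists_member hG hM
  obtain ⟨F, -⟩ := Family.exists_family hG hM b
  by_cases hB : Q ⊓ centralizer ({y} : Set G) ≤ centralizer (D : Set G)
  · by_cases hD : D ≤ centralizer ({y} : Set G)
    · exact h.false_of_central hG hM F hB hD
    · exact h.false_of_noncentral hG hM F hB hD
  · exact Meet.SplitData.false_of_moved hG h hM F (h.nums hG) (h.cong hG hM F) hB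

/-- The same, from a neighbour. -/
theorem false_of_split {M N : Subgroup G} {x : G} {p : ℕ} (h : Nbr M N x p)
    (hnil : ¬ Group.IsNilpotent (Cfsg.sigmaCore M)) : False :=
  false_of_bad_split hG h.bad hnil

end CfsgLib.FT
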