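import Cfsg.Agent.Lib.FT.MeetNilCases
import Cfsg.Agent.Lib.FT.MeetCaseBTwo
import Cfsg.Agent.Lib.FT.MeetSplit

/-!
# There is no bad pair (`docs/FT.md`, §1)
-/

set_option autoImplicit false
set_option linter.unusedSectionVars false
set_option linter.style.haveILetI false

open Subgroup

namespace CfsgLib.FT

open CfsgLib.CFun CfsgLib.CFun.TauTwo
open Cfsg (sigmaCore IsMinSimpleOddOrder)

universe u

variable {G : Type u} [Group G] [Fintype G] (hG : IsMinSimpleOddOrder G)
include hG

/-- No bad pair with nilpotent `M_σ` at the least bad prime. -/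
theorem false_of_nilpotent {M : Subgroup G} {x : G} {p : ℕ} (hb : BadPair M x p)
    (hmin : MinBad p G) (hnil : Group.IsNilpotent (sigmaCore M)) : False := by
  obtain ⟨N, h₀⟩ := hb.exists_nbr hG
  obtain ⟨A, T₀⟩ := h₀.exists_torus hG
  obtain ⟨y, hyA, h, hfix⟩ := h₀.exists_fixed hG T₀
  by_cases hS : NonabSylow p G
  · obtain ⟨K, U, d⟩ := CfsgLib.CFun.Chain.exists_decomposition hG hb.coatom
    by_cases hK : K = ⊥
    · exact h.false_of_kappa_bot hG hmin (h.badData hG hfix) hnil hS d hK
    · exact BTwoHyp.false hG (M := M) (N := N) (x := y) (p := p) (A := A) (K := K) (U := U)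
        ⟨h, h.badData hG hfix, T₀.change hyA, d, hK, hnil⟩
  · exact h.false_of_comm hG hmin hfix hnil hS

omit [Fintype G] in
/-- §1: a minimal simple group of odd order has no bad pair. -/
theorem noBad [Finite G] : NoBad G := by
  classical
  haveI := Fintype.ofFinite G
  by_contra hno
  simp only [NoBad, not_forall] at hno
  obtain ⟨M, hM, x, hx, hx1, hC⟩ := hno
  have hex : ∃ r : ℕ, ∃ (L : Subgroup G) (y : G), BadPair L y r := by
    obtain ⟨r, hr, hrd⟩ := Nat.exists_prime_and_dvd fun e => hx1 (orderOf_eq_one_iff.1 e)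
    refine ⟨r, M, x ^ (orderOf x / r), hM, hr, pow_mem hx _,
      orderOf_pow_orderOf_div (orderOf_pos x).ne' hrd, fun hle => hC fun c hc => hle ?_⟩
    exact mem_centralizer_singleton_iff.2
      ((show Commute c x from mem_centralizer_singleton_iff.1 hc).pow_right _).eq
  obtain ⟨L, y, hb⟩ := Nat.find_spec hex
  have hmin : MinBad (Nat.find hex) G := fun L' y' r hb' => Nat.find_min' hex ⟨L', y', hb'⟩
  by_cases hnil : Group.IsNilpotent (sigmaCore L)
  · exact false_of_nilpotent hG hb hmin hnil
  · exact false_of_bad_split hG hb hnil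

end CfsgLib.FT
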