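import Cfsg.Agent.Lib.FT.MeetGroupNil
import Cfsg.Agent.Lib.FT.MeetCore
import Cfsg.Agent.Lib.FT.MeetLevels
import Cfsg.Agent.Lib.CFun.OddMeetExponent

/-!
# The cases of §1 with nilpotent `M_σ` (`docs/FT-meet-weights.md`, case B)
-/

set_option autoImplicit false
set_option linter.unusedSectionVars false
set_option linter.style.haveILetI false

open Subgroup

namespace CfsgLib.FT

open CfsgLib.CFun CfsgLib.CFun.TauTwo CfsgLib.CFun.Lines
open CfsgLib.Coprime (conjBy)
open Cfsg (sigmaCore IsMinSimpleOddOrder IrrCharacter)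

universe u

theorem conj_mem_inv {G : Type u} [Group G] {H : Subgroup G} {m b : G} (hn : m ∈ normalizer (H : Set G))
    (hb : b ∈ H) : m⁻¹ * b * m ∈ H := by
  simpa using (mem_normalizer_iff.1 (inv_mem hn) b).1 hb

variable {G : Type u} [Group G] [Fintype G] (hG : IsMinSimpleOddOrder G)
  {M N : Subgroup G} {x : G} {p : ℕ}
include hG

/-- The congruence `ψ(x) ≡ εe (mod p)`. -/
theorem cong_psi (h : BadData M N x p) (hM : FpfAb M) (F : Family M) (hnum : MeetNums M p)
    (hdeg : DegDiv M p) : Cong p (F.psi x) ((F.ε * eIndex M : ℤ) : ℂ) := by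
  have h1 := avgR_cong hG hM F h.bad.prime hdeg h.bad.mem h.bad.ne_one (k := 1)
    (by rw [pow_one, ← h.bad.ord, pow_orderOf_eq_one])
  rwa [avgR_x hG h hM F hnum, c_eq_zero' hG h hM F hnum, add_zero] at h1

/-- `e' = e` puts `M` inside `N`. -/
theorem not_full_index (h : BadData M N x p) (hfull : (zeroN M N).index = eIndex M)
    (hle : sigmaCore M ≤ N) : False := by
  have h1 := index_zeroN hG h
  have h2 : eIndex M * Nat.card (sigmaCore M) = Nat.card M := by
    rw [mul_comm]; exact CfsgLib.Coprime.card_mul_relIndex (map_subtype_le _ : sigmaCore M ≤ M)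
  rw [hfull, index_kerN hG h, inf_eq_left.2 hle, h2] at h1
  have hMN : M ≤ N := inf_eq_left.1 (eq_of_le_of_card_ge inf_le_left h1.le)
  have hNM : N = M := (h.bad.coatom.le_iff.1 hMN).resolve_left h.coatom.1
  exact h.bad.notLe (hNM ▸ h.centralizer_le)

/-- A family of `M`. -/
theorem exists_fam (hM : FpfAb M) : ∃ F : Family M, True := by
  obtain ⟨b⟩ := exists_member hG hM
  obtain ⟨F, -⟩ := Family.exists_family hG hM b
  exact ⟨F, trivial⟩

/-- An element outside `M_σ` has a power `≠ 1` with a conjugate in a complement. -/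
theorem exists_compl_power (hM : IsCoatom M) {E : Subgroup G}
    (hE : Cfsg.IsComplIn E (sigmaCore M) M) {a : G} (ha : a ∈ M) (haσ : a ∉ sigmaCore M) :
    ∃ w ∈ zpowers a, w ≠ 1 ∧ ∃ m ∈ M, m * w * m⁻¹ ∈ E := by
  have hcard : Nat.card M = Nat.card E * Nat.card (sigmaCore M) := Kappa.card_of_compl hE
  have hcop := compl_coprime hG hM hE
  set s := Nat.card (sigmaCore M) with hs
  set w := a ^ s with hw
  have hwM : w ∈ M := pow_mem ha _
  have hwc : orderOf w ∣ Nat.card E := orderOf_dvd_of_pow_eq_one (by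
    rw [hw, ← pow_mul, mul_comm, ← hcard]
    exact congrArg Subtype.val (pow_card_eq_one' (x := (⟨a, ha⟩ : M))))
  have hw1 : w ≠ 1 := by
    intro e
    haveI : (sigmaIn M).Normal := sigmaIn_normal hG
    have h1 : orderOf (QuotientGroup.mk ⟨a, ha⟩ : M ⧸ sigmaIn M) ∣ Nat.gcd (Nat.card E) s := by
      refine Nat.dvd_gcd ?_ (orderOf_dvd_of_pow_eq_one ?_)
      · have h2 : Nat.card (M ⧸ sigmaIn M) = Nat.card E := eIndex_eq_card hG hE
        exact h2 ▸ _root_.orderOf_dvd_natCard _
      · rw [← QuotientGroup.mk_pow, show (⟨a, ha⟩ : M) ^ s = 1 from Subtype.ext e,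
          QuotientGroup.mk_one]
    rw [Nat.coprime_iff_gcd_eq_one.1 hcop, Nat.dvd_one, orderOf_eq_one_iff,
      QuotientGroup.eq_one_iff] at h1
    exact haσ h1
  obtain ⟨m, hm, hmE⟩ := (compl_isHall hG hM hE).exists_conj_le (ms_solvable hG hM.1)
    (zpowers_le.2 hwM) fun r hr hrd hrσ => by
      rw [Nat.card_zpowers] at hrd
      exact Compl.compl_not_sigma hG hM hE (p := r) (hp := ⟨hr⟩) (hrd.trans hwc) hrσ
  exact ⟨w, pow_mem (mem_zpowers a) _, hw1, m, hm,
    hmE (CfsgLib.Coprime.conj_mem_conjBy (mem_zpowers w))⟩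

/-- The centre of `M_σ`, in `G`. -/
def centerSigma (M : Subgroup G) : Subgroup G := sigmaCore M ⊓ centralizer (sigmaCore M : Set G)

omit [Fintype G] hG in
theorem center_relIndex : (centerSigma M).relIndex (sigmaCore M) = (center (sigmaIn M)).index := by
  rw [← relIndex_sigmaIn (show centerSigma M ≤ sigmaCore M from inf_le_left)]
  show ((centerSigma M).subgroupOf M |>.subgroupOf (sigmaIn M)).index = _
  congr 1
  ext a
  rw [mem_subgroupOf, mem_subgroupOf, centerSigma, mem_inf, mem_center_iff]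
  refine ⟨fun h b => Subtype.ext (Subtype.ext (mem_centralizer_iff.1 h.2 _ b.2)),
    fun h => ⟨a.2, mem_centralizer_iff.2 fun b hb => ?_⟩⟩
  exact congrArg (fun z : sigmaIn M => ((z : M) : G))
    (h ⟨⟨b, map_subtype_le _ hb⟩, hb⟩)

theorem normalizer_centerSigma : M ≤ normalizer (centerSigma M : Set G) := fun m hm =>
  mem_normalizer_fintype fun a ha => by
    obtain ⟨ha1, ha2⟩ := mem_inf.1 ha
    have hn := TauTwo.sigmaCore_normal hG M hm
    refine mem_inf.2 ⟨(mem_normalizer_iff.1 hn a).1 ha1, mem_centralizer_iff.2 fun b hb => ?_⟩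
    have h1 := mem_centralizer_iff.1 ha2 _ (conj_mem_inv hn hb)
    calc b * (m * a * m⁻¹) = m * (m⁻¹ * b * m * a) * m⁻¹ := by group
      _ = m * (a * (m⁻¹ * b * m)) * m⁻¹ := by rw [h1]
      _ = _ := by group

namespace Nbr

variable (h : Nbr M N x p) (hmin : MinBad p G)
include h hmin

/-- Abelian Sylow subgroups with `2e ≤ p + 1`. -/
theorem false_of_abelian (hbd : BadData M N x p) (hnil : Group.IsNilpotent (sigmaCore M))
    (hab : ¬ NonabSylow p G) (he : 2 * eIndex M ≤ p + 1) : False := by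
  classical
  haveI : Fact p.Prime := ⟨h.bad.prime⟩
  obtain ⟨g, hm⟩ := h.exists_meet hG hnil
  have hall : ∀ S : Sylow p G, IsMulCommutative (S : Subgroup G) := by
    obtain ⟨S₀, hS₀⟩ : ∃ S : Sylow p G, IsMulCommutative (S : Subgroup G) := by
      by_contra hno
      exact hab fun S hS => hno ⟨S, hS⟩
    intro S
    haveI := hS₀
    exact ⟨⟨fun a b => (Sylow.equiv S S₀).injective (by rw [map_mul, map_mul, mul_comm'])⟩⟩
  obtain ⟨hc, -, -, hK⟩ := MeetStructure.abelian_case hG h.bad.coatom hm (h.pow_prime hG) hall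
  haveI := hc
  obtain ⟨K, U, d⟩ := CfsgLib.CFun.Chain.exists_decomposition hG h.bad.coatom
  have hM := h.fpfAb_of_min hG hmin d (hK K U d)
  have hcomm : ∀ a ∈ sigmaCore M, ∀ b ∈ sigmaCore M, a * b = b * a := fun a ha b hb =>
    congrArg Subtype.val (mul_comm' (⟨a, ha⟩ : sigmaCore M) ⟨b, hb⟩)
  have hσN : sigmaCore M ≤ N := fun v hv =>
    h.centralizer_le (mem_centralizer_singleton_iff.2 (hcomm v hv x h.bad.mem))
  have hk : kZero M = Nat.card (sigmaCore M) := by
    rw [kZero, show sigmaDer M = ⊥ from commutator_eq_bot_iff_le_centralizer.2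
      fun a ha => mem_centralizer_iff.2 fun b hb => hcomm b hb a ha, relIndex_bot_left]
  obtain ⟨A, T⟩ := h.exists_torus hG
  obtain ⟨F, -⟩ := exists_fam hG hM
  have hnum : MeetNums M p := ⟨five_le hG h T he, he, sq_le_kZero hG h T⟩
  refine not_full_index hG hbd (index_eq_of_cong hG hbd hM F hnum
    (cong_psi hG hbd hM F hnum (degDiv_of_comm hG hcomm)) ?_) hσN
  rw [inf_eq_left.2 hσN, hk]

/-- Nothing outside `M_σ` commutes with a non-identity element of `M_σ`. -/
theorem regular_outside {K U : Subgroup G} (d : Cfsg.IsSigmaDecomposition M K U) (hK : K = ⊥)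
    {a : G} (ha : a ∈ M) (haσ : a ∉ sigmaCore M) {v : G} (hv : v ∈ sigmaCore M) (hc : Commute a v) :
    v = 1 := by
  have hM := h.bad.coatom
  obtain ⟨w, hwa, hw1, m, hm, hmU⟩ :=
    exists_compl_power hG hM (UFixed.compl_of_bot hG hM d hK) ha haσ
  obtain ⟨i, rfl⟩ := mem_zpowers_iff.1 hwa
  have hb := h.regular_of_min hG hmin d hK hmU fun e => hw1 (conj_eq_one_iff.1 e)
  have h1 : m * v * m⁻¹ ∈ sigmaCore M ⊓ centralizer ({m * a ^ i * m⁻¹} : Set G) := by
    refine mem_inf.2 ⟨(mem_normalizer_iff.1 (TauTwo.sigmaCore_normal hG M hm) v).1 hv,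
      mem_centralizer_singleton_iff.2 ?_⟩
    rw [show m * v * m⁻¹ * (m * a ^ i * m⁻¹) = m * (v * a ^ i) * m⁻¹ by group,
      (hc.zpow_left i).symm.eq]
    group
  rw [hb, mem_bot] at h1
  exact conj_eq_one_iff.1 h1

omit hmin in
/-- `|M_σ : D₁| ≥ p` for non-abelian Sylow subgroups. -/
theorem card_inter_le (hnil : Group.IsNilpotent (sigmaCore M)) (hS : NonabSylow p G) :
    p * Nat.card (sigmaCore M ⊓ N : Subgroup G) ≤ Nat.card (sigmaCore M) := by
  haveI : Fact p.Prime := ⟨h.bad.prime⟩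
  obtain ⟨g, hm⟩ := h.exists_meet hG hnil
  obtain ⟨S, hSσ, -, -, hmem⟩ := MeetStructure.exists_sylow hG h.bad.coatom hm (h.pow_prime hG)
  obtain ⟨A, T⟩ := h.exists_torus hG
  have hAS : A ≤ (S : Subgroup G) := fun a ha =>
    hmem a (T.le_sigma ha) ⟨1, by rw [pow_one]; exact T.elem.2 a ha⟩
  have hne : ¬ sigmaCore M ≤ N := fun e =>
    (nonab_not_le hG h.coatom h.tau (T.le.trans inf_le_right) T.elem T.card hS S hAS).1 (hSσ.trans e)
  obtain ⟨s, hs⟩ := h.center_index hG hnil hS
  have hC : centerSigma M ≤ sigmaCore M ⊓ N := le_inf inf_le_left fun v hv => h.centralizer_le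
    (mem_centralizer_singleton_iff.2 (mem_centralizer_iff.1 (mem_inf.1 hv).2 x h.bad.mem).symm)
  have h1 := relIndex_mul_relIndex (centerSigma M) (sigmaCore M ⊓ N) (sigmaCore M) hC inf_le_left
  rw [center_relIndex, hs] at h1
  obtain ⟨j, -, hj⟩ := (Nat.dvd_prime_pow h.bad.prime).1 ⟨_, (by rw [mul_comm]; exact h1.symm :
    p ^ s = (sigmaCore M ⊓ N).relIndex (sigmaCore M) * _)⟩
  have h2 := CfsgLib.Coprime.card_mul_relIndex (inf_le_left : sigmaCore M ⊓ N ≤ sigmaCore M)
  rw [← h2, hj, mul_comm]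
  refine Nat.mul_le_mul_left _ ?_
  rcases j with _ | j
  · exact absurd ((relIndex_eq_one.1 (by rw [hj, pow_zero])).trans inf_le_right) hne
  · exact Nat.le_self_pow j.succ_ne_zero p

/-- Non-abelian Sylow subgroups and `K = 1`. -/
theorem false_of_kappa_bot (hbd : BadData M N x p) (hnil : Group.IsNilpotent (sigmaCore M))
    (hS : NonabSylow p G) {K U : Subgroup G} (d : Cfsg.IsSigmaDecomposition M K U) (hK : K = ⊥) :
    False := by
  classical
  haveI : Fact p.Prime := ⟨h.bad.prime⟩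
  have hM := h.fpfAb_of_min hG hmin d hK
  obtain ⟨A, T⟩ := h.exists_torus hG
  obtain ⟨F, -⟩ := exists_fam hG hM
  have hE := UFixed.compl_of_bot hG h.bad.coatom d hK
  have hed := h.eIndex_dvd hG hnil hS hmin d hK
  have hp2 : p ≠ 2 := ms_ne_two hG (h.bad.ord ▸ _root_.orderOf_dvd_natCard x)
  have heo : Odd (eIndex M) := eIndex_eq_card hG hE ▸ hG.1.of_dvd_nat (card_subgroup_dvd_card U)
  have hpe : 2 * eIndex M ≤ p - 1 := by
    obtain ⟨c, hc⟩ := hed
    have hpo := h.bad.prime.odd_of_ne_two hp2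
    have h2 : 1 < p := h.bad.prime.one_lt
    rcases c with _ | _ | c
    · omega
    · rw [zero_add, mul_one] at hc
      obtain ⟨k, hk⟩ := heo
      obtain ⟨l, hl⟩ := hpo
      omega
    · rw [hc]; nlinarith
  have hnum : MeetNums M p := ⟨five_le hG h T (by omega), by omega, sq_le_kZero hG h T⟩
  obtain ⟨s, hs⟩ := h.center_index hG hnil hS
  have hdeg := h.degDiv hG hnil hS
  have hd : LevelData M ⊥ (centerSigma M) p s :=
    ⟨h.bad.prime, bot_le, fun m _ => mem_normalizer_fintype fun a ha => by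
        rw [SetLike.mem_coe, mem_bot] at ha ⊢; rw [ha]; group,
      normalizer_centerSigma hG, bot_le, inf_le_left, fun a ha b hb => by
        rw [mem_bot, mul_inv_eq_one, mul_inv_eq_iff_eq_mul]
        exact (mem_centralizer_iff.1 (mem_inf.1 ha).2 b hb).symm,
      by rw [center_relIndex, hs], hpe, sq_le_kZero hG h T⟩
  have hirr : irregular M (⊥ : Subgroup G) = ∅ := irregular_eq_empty hG hd.normL fun a ha haσ v hv he => by
    rw [mem_bot, mul_inv_eq_one, mul_inv_eq_iff_eq_mul] at he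
    exact mem_bot.2 (h.regular_outside hG hmin d hK ha haσ hv he)
  obtain ⟨X, D, hX, -, -, hrank, hsum⟩ := exists_levels hG hM hd (by rw [hirr]; simp)
  rw [hirr, finsum_mem_empty, add_zero, relIndex_bot_left] at hsum
  obtain ⟨δ, ν, hinj, hν⟩ := Family.exists_greedy hG hM F X D D hX hrank
  refine false_of_weight hG hbd hM F hnum (cong_psi hG hbd hM F hnum hdeg) X D δ ν hinj hν
    (weight_of_three hG hbd hM F hnum (three_le_eIndex hG h.bad.coatom) ?_)
  have hD1 := h.card_inter_le hG hnil hS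
  have h3 : 3 * Nat.card (sigmaCore M ⊓ N : Subgroup G) ≤
      eIndex M * (Nat.card (Member M) + ∑ χ ∈ X, D χ ^ 2) + 1 := by
    rw [hsum]
    exact (Nat.mul_le_mul_right _ (by have := h.bad.prime.two_le; omega)).trans hD1
  exact_mod_cast h3

end Nbr

end CfsgLib.FT
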