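import Cfsg.Agent.Lib.FT.MeetTI
import Cfsg.Agent.Lib.FT.FamilyBasic

/-!
# The linear character `θ` of `N_σ` and the indices of a bad pair (`docs/FT.md`, §1)
-/

set_option autoImplicit false
set_option linter.unusedSectionVars false
set_option linter.style.haveILetI false

open Subgroup

namespace CfsgLib.FT

open CfsgLib.CFun CfsgLib.CFun.TauTwo Cfsg CfsgLib.Char

universe u

variable {G : Type u} [Group G] [Fintype G] (hG : IsMinSimpleOddOrder G) {M N : Subgroup G} {x : G}
  {p : ℕ} (h : BadData M N x p)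
include hG h

/-- `p` does not divide `|N_σ|`. -/
theorem not_dvd_kerN : ¬ p ∣ Nat.card (kerN N) := by
  intro hd
  haveI : Fact p.Prime := ⟨h.bad.prime⟩
  obtain ⟨z, hz⟩ := exists_prime_orderOf_dvd_card' p hd
  refine primes_K hG h (s := ((z : N) : G)) z.2 p h.bad.prime ?_
    (primes_D hG h h.mem_D p h.bad.prime h.bad.ord.symm.dvd)
  rw [orderOf_coe, orderOf_coe, hz]

/-- `x` inside `N` -/
theorem x_mem_N : x ∈ N := (mem_inf.1 h.mem_D).2

/-- A linear character of `N_σ` which is invariant under `x` and not trivial on `C_{N_σ}(x)`. -/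
theorem exists_theta : ∃ θ : kerN N →* ℂˣ,
    (∀ n m : kerN N, ((m : N) : G) = x * ((n : N) : G) * x⁻¹ → θ m = θ n) ∧
      ∃ r : kerN N, Commute ((r : N) : G) x ∧ θ r ≠ 1 := by
  classical
  haveI := kerN_normal hG h
  obtain ⟨r, hr, hrd⟩ := SetLike.not_le_iff_exists.1 h.fixed
  obtain ⟨hrK, hrx⟩ := mem_inf.1 hr
  set rK : kerN N := ⟨⟨r, map_subtype_le _ hrK⟩, hrK⟩
  have hrc : rK ∉ commutator (kerN N) := fun hc => hrd ((mem_commutator_iff rK).1 hc)
  haveI := Fintype.ofFinite (kerN N)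
  obtain ⟨θ₀, -, hθ₀⟩ := exists_linear_ne (commutator (kerN N))
    (fun a b => commutator_mem_commutator (mem_top a) (mem_top b)) hrc
  set xN : N := ⟨x, x_mem_N hG h⟩
  have hxp : xN ^ p = 1 := by
    refine Subtype.ext ?_
    show x ^ p = 1
    rw [← h.bad.ord, pow_orderOf_eq_one]
  let φ : ℕ → (kerN N →* kerN N) := fun i => normalConjHom (kerN N) (xN ^ i)
  refine ⟨∏ i ∈ Finset.range p, θ₀.comp (φ i), ?_, rK, mem_centralizer_singleton_iff.1 hrx, ?_⟩
  · intro n m hm
    have hm' : ∀ i, φ i m = φ (i + 1) n := fun i => Subtype.ext (Subtype.ext (by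
      show (x ^ i : G) * ((m : N) : G) * (x ^ i)⁻¹ = x ^ (i + 1) * ((n : N) : G) * (x ^ (i + 1))⁻¹
      rw [hm, pow_succ]
      group))
    simp only [MonoidHom.finsetProd_apply, MonoidHom.comp_apply, hm']
    have h1 := Finset.prod_range_succ (fun i => θ₀ (φ i n)) p
    rw [Finset.prod_range_succ'] at h1
    have e : φ p n = φ 0 n := by simp only [φ, hxp, pow_zero]
    rw [e] at h1
    exact mul_right_cancel h1
  · have e : ∀ i, φ i rK = rK := fun i => Subtype.ext (Subtype.ext (by
      show (x ^ i : G) * r * (x ^ i)⁻¹ = r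
      rw [((show Commute r x from mem_centralizer_singleton_iff.1 hrx).pow_right i).symm.eq,
        mul_inv_cancel_right]))
    simp only [MonoidHom.finsetProd_apply, MonoidHom.comp_apply, e, Finset.prod_const, Finset.card_range]
    intro hp1
    refine hθ₀ (orderOf_eq_one_iff.1 (Nat.eq_one_of_dvd_coprimes
      ((h.bad.prime.coprime_iff_not_dvd).2 (not_dvd_kerN hG h)) (orderOf_dvd_of_pow_eq_one hp1) ?_))
    exact orderOf_dvd_of_pow_eq_one (by rw [← map_pow, pow_card_eq_one', map_one])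

/-- The torus moves every non-trivial linear character of `N_σ`. -/
theorem le_index_inertia [(kerN N).Normal] {θ : kerN N →* ℂˣ} (hθ : θ ≠ 1) :
    p ≤ (inertia (kerN N) (fun n => (θ n : ℂ))).index := by
  classical
  obtain ⟨A, hA, hAc, hfix⟩ := h.torus
  set I := inertia (kerN N) (fun n => (θ n : ℂ))
  set A' := A.subgroupOf N with hA'
  have hA'c : Nat.card A' = p ^ 2 := by
    rw [hA', Nat.card_congr (subgroupOfEquivOfLe (hA.trans inf_le_right)).toEquiv, hAc]
  by_cases hle : A' ≤ I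
  · exfalso
    refine hθ (MonoidHom.ext fun n => ?_)
    have hinv : ∀ a : A', ∀ y : kerN N, θ (normalConjHom (kerN N) (a : N) y) = θ y := fun a y =>
      Units.ext (congrFun (hle a.2) y)
    let X := {y : kerN N // θ y = θ n}
    letI act : MulAction A' X :=
      { smul := fun a y => ⟨normalConjHom (kerN N) (a : N) y.1, (hinv a y.1).trans y.2⟩
        one_smul := fun y => Subtype.ext (Subtype.ext (by
          show (1 : N) * (y.1 : N) * (1 : N)⁻¹ = y.1
          group))
        mul_smul := fun a b y => Subtype.ext (Subtype.ext (by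
          show ((a * b : A') : N) * (y.1 : N) * ((a * b : A') : N)⁻¹ =
            (a : N) * ((b : N) * (y.1 : N) * (b : N)⁻¹) * (a : N)⁻¹
          simp only [coe_mul]
          group)) }
    haveI : Fact p.Prime := ⟨h.bad.prime⟩
    have hX : ¬ p ∣ Nat.card X := by
      intro hd
      refine not_dvd_kerN hG h (hd.trans ?_)
      rw [show Nat.card X = Nat.card θ.ker from Nat.card_congr ((Equiv.mulLeft n⁻¹).subtypeEquiv fun y => by
        show θ y = θ n ↔ n⁻¹ * y ∈ θ.ker
        rw [MonoidHom.mem_ker, map_mul, map_inv, inv_mul_eq_one, eq_comm])]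
      exact card_subgroup_dvd_card _
    obtain ⟨y, hy⟩ := (IsPGroup.of_card (n := 2) hA'c).nonempty_fixed_point_of_prime_not_dvd_card X hX
    have hy1 : ((y.1 : N) : G) ∈ sigmaCore N ⊓ centralizer (A : Set G) := by
      refine mem_inf.2 ⟨y.1.2, mem_centralizer_iff.2 fun a ha => ?_⟩
      set aA : A' := ⟨⟨a, (mem_inf.1 (hA ha)).2⟩, ha⟩
      have e := congrArg (fun z : X => (((z.1 : kerN N) : N) : G)) (hy aA)
      have e' : a * ((y.1 : N) : G) * a⁻¹ = ((y.1 : N) : G) := e
      exact mul_inv_eq_iff_eq_mul.1 e'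
    rw [hfix, mem_bot] at hy1
    rw [← y.2, show y.1 = 1 from Subtype.ext (Subtype.ext hy1), map_one, MonoidHom.one_apply]
  · have h1 : I.relIndex A' ≠ 1 := fun e => hle (relIndex_eq_one.1 e)
    have h2 : I.relIndex A' ∣ p ^ 2 := hA'c ▸ relIndex_dvd_card I A'
    obtain ⟨i, -, hi⟩ := (Nat.dvd_prime_pow h.bad.prime).1 h2
    have h3 : I.relIndex A' ≤ I.relIndex ⊤ :=
      relIndex_le_of_le_right le_top (by rw [relIndex_top_right]; exact index_ne_zero_of_finite)
    rw [relIndex_top_right, hi] at h3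
    refine le_trans ?_ h3
    exact Nat.le_self_pow (fun e => h1 (by rw [hi, e, pow_zero])) p

/-- `|N : N_σ| = |D|`. -/
theorem index_kerN : (kerN N).index = Nat.card (M ⊓ N : Subgroup G) := by
  haveI := kerN_normal hG h
  have hc : IsComplement' ((M ⊓ N).subgroupOf N) (kerN N) := by
    refine isComplement'_of_disjoint_and_mul_eq_univ ?_ (Set.eq_univ_of_forall fun t => ?_)
    · rw [disjoint_iff, eq_bot_iff]
      intro z hz
      refine mem_bot.2 (Subtype.ext (mem_bot.1 ?_))
      rw [← h.compl.2.2.1]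
      exact mem_inf.2 ⟨(mem_inf.1 hz).1, (mem_inf.1 hz).2⟩
    · obtain ⟨a, ha, b, hb, hab⟩ := h.compl.2.2.2 (t : G) t.2
      exact ⟨⟨a, (mem_inf.1 ha).2⟩, ha, ⟨b, map_subtype_le _ hb⟩, hb, Subtype.ext hab.symm⟩
  rw [hc.index_eq_card, Nat.card_congr (subgroupOfEquivOfLe inf_le_right).toEquiv]

/-- `|N : N₀| |D₁| = |D|`. -/
theorem index_zeroN : (zeroN M N).index * Nat.card (sigmaCore M ⊓ N : Subgroup G) = (kerN N).index := by
  haveI := kerN_normal hG h
  have hle : kerN N ≤ zeroN M N := le_sup_right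
  have h1 := relIndex_mul_index hle
  have hbot : kerN N ⊓ (sigmaCore M ⊓ N).subgroupOf N = ⊥ := eq_bot_iff.2 fun z hz => by
    obtain ⟨hzK, hzD⟩ := mem_inf.1 hz
    refine mem_bot.2 (Subtype.ext ?_)
    by_contra hne
    obtain ⟨q, hq, hqd⟩ := Nat.exists_prime_and_dvd fun e => hne (orderOf_eq_one_iff.1 e)
    exact primes_K hG h hzK q hq hqd (primes_D hG h hzD q hq hqd)
  rw [show (kerN N).relIndex (zeroN M N) = Nat.card (sigmaCore M ⊓ N : Subgroup G) by
    rw [zeroN, relIndex_sup_right, ← inf_relIndex_right, hbot, relIndex_bot_left,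
      Nat.card_congr (subgroupOfEquivOfLe inf_le_right).toEquiv]] at h1
  rw [← h1, mul_comm]

/-- `|D : D₁|` divides `e`. -/
theorem index_zeroN_dvd : (zeroN M N).index ∣ eIndex M := by
  have hσ : sigmaCore M ≤ M := map_subtype_le _
  have h1 : (sigmaCore M ⊓ N).relIndex (M ⊓ N) * Nat.card (sigmaCore M ⊓ N : Subgroup G) =
      Nat.card (M ⊓ N : Subgroup G) := by
    rw [mul_comm, ← relIndex_bot_left (sigmaCore M ⊓ N),
      relIndex_mul_relIndex _ _ _ bot_le (inf_le_inf_right _ hσ), relIndex_bot_left]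
  have h2 : (zeroN M N).index = (sigmaCore M ⊓ N).relIndex (M ⊓ N) := by
    refine Nat.eq_of_mul_eq_mul_right (m := Nat.card (sigmaCore M ⊓ N : Subgroup G)) Nat.card_pos ?_
    rw [h1, index_zeroN hG h, index_kerN hG h]
  rw [h2, show sigmaCore M ⊓ N = sigmaCore M ⊓ (M ⊓ N) by
    rw [← inf_assoc, inf_eq_left.2 hσ], inf_relIndex_right,
    ← relIndex_subgroupOf (inf_le_left : M ⊓ N ≤ M)]
  haveI : ((sigmaCore M).subgroupOf M).Normal :=
    normal_subgroupOf_of_le_normalizer (sigmaCore_normal hG M)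
  exact relIndex_dvd_index_of_normal _ _

end CfsgLib.FT
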