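import Cfsg.Agent.Lib.FT.MeetOrth
import Cfsg.Agent.Lib.FT.MeetTheta
import Cfsg.Agent.Lib.FT.FamilyTau
import Cfsg.Agent.Lib.FT.FamilyTheta

/-!
# The congruence and the norm bound for `(ψ, τθ_N)` (`docs/FT.md`, §1 (ii), (iii))

`thetaN N θ = Ind_{N_σ}(1 - θ)` for a linear character `θ` of `N_σ`.
-/

set_option autoImplicit false
set_option linter.unusedSectionVars false
set_option linter.style.haveILetI false

open Subgroup

namespace CfsgLib.FT

open CfsgLib.CFun CfsgLib.CFun.TauTwo Cfsg CfsgLib.Char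
open scoped ComplexConjugate

universe u

variable {G : Type u} [Group G]

theorem Cong.sum {ι : Type*} {p : ℕ} (s : Finset ι) {f g : ι → ℂ} (hf : ∀ i, IsIntegral ℤ (f i))
    (hg : ∀ i, IsIntegral ℤ (g i)) (hfg : ∀ i ∈ s, Cong p (f i) (g i)) :
    Cong p (∑ i ∈ s, f i) (∑ i ∈ s, g i) := by
  classical
  induction s using Finset.induction_on with
  | empty => simpa using cong_refl p 0
  | insert a s ha ih =>
    rw [Finset.sum_insert ha, Finset.sum_insert ha]
    exact Cong.add (hf a) (hg a) (IsIntegral.sum _ fun i _ => hf i) (IsIntegral.sum _ fun i _ => hg i)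
      (hfg a (Finset.mem_insert_self _ _)) (ih fun i hi => hfg i (Finset.mem_insert_of_mem hi))

theorem isIntegral_conj {a : ℂ} (h : IsIntegral ℤ a) : IsIntegral ℤ (conj a) :=
  h.map (starRingEnd ℂ).toIntAlgHom

theorem Cong.conj' {p : ℕ} {a b : ℂ} (h : Cong p a b) : Cong p (conj a) (conj b) := by
  obtain ⟨n, w, hw, e⟩ := h
  refine ⟨n, conj w, isIntegral_conj hw, ?_⟩
  rw [← map_sub, ← map_pow, e, map_mul, map_natCast]

/-- `Ind_{N_σ}(1 - θ)` -/
noncomputable def thetaN (N : Subgroup G) [Finite G] (θ : sigmaIn N →* ℂˣ) : N → ℂ :=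
  indSigma N fun n => 1 - (θ n : ℂ)

/-- A multiplier prime to `p` can be cancelled. -/
theorem Cong.cancel {p m : ℕ} (hp : p.Prime) (hm : ¬ p ∣ m) {a b : ℂ} (ha : IsIntegral ℤ a)
    (hb : IsIntegral ℤ b) (h : Cong p ((m : ℂ) * a) ((m : ℂ) * b)) : Cong p a b := by
  obtain ⟨u, v, e⟩ := Int.isCoprime_iff_gcd_eq_one.2
    (show Int.gcd (m : ℤ) p = 1 from ((hp.coprime_iff_not_dvd.2 hm).symm))
  have e' : (u : ℂ) * m + v * p = 1 := by exact_mod_cast congrArg (fun z : ℤ => (z : ℂ)) e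
  have hi : ∀ c : ℂ, IsIntegral ℤ c → IsIntegral ℤ ((u : ℂ) * ((m : ℂ) * c)) := fun c hc =>
    (isIntegral_intCast _).mul ((isIntegral_natCast _).mul hc)
  have c1 : Cong p a ((u : ℂ) * ((m : ℂ) * a)) :=
    cong_of_eq ((isIntegral_intCast v).mul ha) (by linear_combination -a * e')
  have c2 : Cong p ((u : ℂ) * ((m : ℂ) * b)) b :=
    (cong_of_eq ((isIntegral_intCast v).mul hb) (by linear_combination -b * e')).symm
  exact c1.trans ha (hi a ha) hb ((h.mul_left (isIntegral_intCast u)).trans (hi a ha) (hi b hb) hb c2)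

variable [Fintype G] (hG : IsMinSimpleOddOrder G) {M N : Subgroup G} {x : G} {p : ℕ}
  (h : BadData M N x p) (θ : sigmaIn N →* ℂˣ)
include hG h

theorem thetaN_eq :
    thetaN N θ = indSigma N (fun n => ((1 : sigmaIn N →* ℂˣ) n : ℂ)) - indSigma N (fun n => (θ n : ℂ)) := by
  haveI := Fintype.ofFinite N
  rw [thetaN, indSigma_eq, indSigma_eq, indSigma_eq, ← indFun_sub]
  congr 1

theorem thetaN_class : IsClassFunction N (thetaN N θ) := indSigma_class hG _

theorem thetaN_gen : IsGeneralizedCharacter N (thetaN N θ) := by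
  refine indSigma_gen hG ?_
  exact isGeneralizedCharacter_sub (isGeneralizedCharacter_of_isCharacter (isCharacter_of_isIrr isIrrCharacter_one))
    (isGeneralizedCharacter_of_isCharacter (isCharacter_of_isIrr (isIrrCharacter_lin θ)))

theorem thetaN_supp : SharpSupp N (thetaN N θ) := fun g hg => by
  by_cases h1 : (g : G) ∈ sigmaCore N
  · haveI := Fintype.ofFinite N
    obtain rfl : g = 1 := Subtype.ext (not_not.1 fun e => hg ⟨h1, e⟩)
    rw [thetaN, indSigma_eq, indFun_one, map_one, Units.val_one, sub_self, mul_zero]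
  · exact indSigma_not_mem hG _ h1

/-- `(τθ_N, 1) = 1` -/
theorem tau_thetaN_one (hθ : θ ≠ 1) : classInner (tau N (thetaN N θ)) (fun _ => 1) = 1 := by
  classical
  haveI := Fintype.ofFinite N
  haveI := Fintype.ofFinite (sigmaIn N)
  rw [tau_inner_one hG h.coatom (thetaN_class hG h θ) (thetaN_supp hG h θ), thetaN,
    inner_indSigma_right hG _ (fun _ _ => rfl),
    show (fun n : sigmaIn N => (1 : ℂ) - (θ n : ℂ)) =
      (fun n => ((1 : sigmaIn N →* ℂˣ) n : ℂ)) - fun n => (θ n : ℂ) from rfl,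
    show (fun _ : sigmaIn N => (1 : ℂ)) = fun n => ((1 : sigmaIn N →* ℂˣ) n : ℂ) from rfl,
    classInner_sub_left, classInner_hom, classInner_hom, if_pos rfl, if_neg hθ, sub_zero]

/-- The norm of `τθ_N`. -/
theorem tau_thetaN_norm [(sigmaIn N).Normal] (hθ : θ ≠ 1) :
    classInner (tau N (thetaN N θ)) (tau N (thetaN N θ)) =
      ((sigmaIn N).index : ℂ) +
        ((sigmaIn N).index : ℂ) / ((inertia (sigmaIn N) (fun n => (θ n : ℂ))).index : ℂ) := by
  classical
  haveI := Fintype.ofFinite N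
  set I := inertia (sigmaIn N) (fun n => (θ n : ℂ))
  rw [tau_inner hG h.coatom (thetaN_class hG h θ) (thetaN_supp hG h θ) (thetaN_class hG h θ),
    thetaN_eq hG h, classInner_sub_left, classInner_sub_right, classInner_sub_right,
    inner_indSigma hG, inner_indSigma hG, inner_indSigma hG, inner_indSigma hG]
  have hne : ∀ t : N, cjHom t θ ≠ 1 := fun t e => hθ (by
    rw [← cjHom_one θ, ← mul_inv_cancel t, ← cjHom_cjHom, e, cjHom_one'])
  have h11 : Nat.card {t : N // cjHom t (1 : sigmaIn N →* ℂˣ) = 1} = Nat.card N :=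
    Nat.card_congr (Equiv.subtypeUnivEquiv fun t => cjHom_one' t)
  have h10 : Nat.card {t : N // cjHom t θ = 1} = 0 :=
    Nat.card_eq_zero.2 (Or.inl ⟨fun t => hne t.1 t.2⟩)
  have h01 : Nat.card {t : N // cjHom t (1 : sigmaIn N →* ℂˣ) = θ} = 0 :=
    Nat.card_eq_zero.2 (Or.inl ⟨fun t => hθ (t.2.symm.trans (cjHom_one' t.1))⟩)
  have h00 : Nat.card {t : N // cjHom t θ = θ} = Nat.card I := by
    refine Nat.card_congr (Equiv.subtypeEquivRight fun t => ?_)
    rw [mem_inertia]
    constructor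
    · intro e
      funext n
      have := congrArg (fun l : sigmaIn N →* ℂˣ => (l n : ℂ)) e
      simp only [cjHom_apply] at this
      exact this
    · intro e
      refine hom_ext_val fun n => ?_
      rw [cjHom_apply]
      exact congrFun e n
  rw [h11, h10, h01, h00, Nat.cast_zero, mul_zero, sub_zero, zero_sub, sub_neg_eq_add,
    ← (sigmaIn N).index_mul_card, Nat.cast_mul]
  have hK : (Nat.card (sigmaIn N) : ℂ) ≠ 0 := by exact_mod_cast Nat.card_pos.ne'
  have hI : (I.index : ℂ) ≠ 0 := by exact_mod_cast index_ne_zero_of_finite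
  have e : (Nat.card I : ℂ) * I.index = ((sigmaIn N).index : ℂ) * Nat.card (sigmaIn N) := by
    exact_mod_cast I.card_mul_index.trans (sigmaIn N).index_mul_card.symm
  field_simp
  linear_combination e

/-- Bessel's inequality for `τθ_N`. -/
theorem bessel_thetaN [(sigmaIn N).Normal] (hθ : θ ≠ 1) {d : ℕ} (hd0 : 0 < d)
    (hd : d ≤ (inertia (sigmaIn N) (fun n => (θ n : ℂ))).index) (s : Finset (IrrCharacter G))
    (hs : ∀ χ ∈ s, (χ : G → ℂ) ≠ fun _ => 1) :
    ∃ m : IrrCharacter G → ℤ, (∀ χ : IrrCharacter G, classInner (χ : G → ℂ) (tau N (thetaN N θ)) = m χ) ∧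
      (d : ℤ) * (∑ χ ∈ s, m χ ^ 2 + 1) ≤ ((d : ℤ) + 1) * Nat.card (M ⊓ N : Subgroup G) := by
  classical
  set one : IrrCharacter G := ⟨fun _ => 1, isIrrCharacter_one⟩ with hone
  have hns : one ∉ s := fun hm => hs _ hm rfl
  obtain ⟨m, hm, hle⟩ := bessel (tau_gen hG h.coatom (thetaN_gen hG h θ) (thetaN_supp hG h θ))
    (insert one s)
  refine ⟨m, fun χ => by rw [← classInner_conj, hm, map_intCast], ?_⟩
  have h1 : m one = 1 := by
    have e := hm one
    rw [show ((one : IrrCharacter G) : G → ℂ) = fun _ => 1 from rfl, tau_thetaN_one hG h θ hθ] at e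
    exact_mod_cast e.symm
  rw [Finset.sum_insert hns, h1, tau_thetaN_norm hG h θ hθ] at hle
  have hre : (((sigmaIn N).index : ℂ) + ((sigmaIn N).index : ℂ) /
      ((inertia (sigmaIn N) (fun n => (θ n : ℂ))).index : ℂ)).re = ((sigmaIn N).index : ℝ) +
      ((sigmaIn N).index : ℝ) / ((inertia (sigmaIn N) (fun n => (θ n : ℂ))).index : ℝ) := by
    rw [Complex.add_re, Complex.natCast_re, Complex.div_natCast_re, Complex.natCast_re]
  have hI : (d : ℝ) ≤ ((inertia (sigmaIn N) (fun n => (θ n : ℂ))).index : ℝ) := by exact_mod_cast hd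
  have hD : (sigmaIn N).index = Nat.card (M ⊓ N : Subgroup G) := index_kerN hG h
  rw [hre, hD] at hle
  have hp : (0 : ℝ) < d := by exact_mod_cast hd0
  have hd : (Nat.card (M ⊓ N : Subgroup G) : ℝ) /
      ((inertia (sigmaIn N) (fun n => (θ n : ℂ))).index : ℝ) ≤
      (Nat.card (M ⊓ N : Subgroup G) : ℝ) / d := by gcongr
  push_cast at hle
  have key : (d : ℝ) * (((∑ χ ∈ s, m χ ^ 2 : ℤ) : ℝ) + 1) ≤
      ((d : ℝ) + 1) * (Nat.card (M ⊓ N : Subgroup G) : ℝ) := by
    have h2 : (d : ℝ) * ((Nat.card (M ⊓ N : Subgroup G) : ℝ) / d) = Nat.card (M ⊓ N : Subgroup G) := by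
      field_simp
    have h3 : ((∑ χ ∈ s, m χ ^ 2 : ℤ) : ℝ) + 1 ≤
        (Nat.card (M ⊓ N : Subgroup G) : ℝ) + (Nat.card (M ⊓ N : Subgroup G) : ℝ) / d := by
      push_cast
      linarith
    have h4 := mul_le_mul_of_nonneg_left h3 hp.le
    linarith
  exact_mod_cast key

/-- The inner product with `τθ_N` is the same for all members of a family of `M`. -/
theorem inner_thetaN_const (Φ : FamIn M) (i l : Φ.ι) :
    classInner (Φ.μ i : G → ℂ) (tau N (thetaN N θ)) =
      classInner (Φ.μ l : G → ℂ) (tau N (thetaN N θ)) := by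
  have h0 : classInner (tau M (Φ.φ i - Φ.φ l)) (tau N (thetaN N θ)) = 0 :=
    tau_orth hG h.bad.coatom h.coatom h.notConj _ _
  rw [show tau M (Φ.φ i - Φ.φ l) = _ from Φ.image i l, classInner_smul_left, classInner_sub_left] at h0
  exact sub_eq_zero.1 ((mul_eq_zero.1 h0).resolve_left (FamIn.sign_ne hG h Φ))

/-- `|N_σ| (ψ, τθ_N) ≡ Σ (1 - θ) ψ̄` over the fixed points of an element of prime order. -/
theorem thetaN_cong {y : G} {p : ℕ} (hp : p.Prime) (hy : y ∈ N) (hyo : orderOf y = p)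
    (hpN : ¬ p ∣ Nat.card (sigmaIn N))
    (hinv : ∀ n m : sigmaIn N, ((m : N) : G) = y * ((n : N) : G) * y⁻¹ → θ m = θ n)
    (hfix : ∃ r : sigmaIn N, r ≠ 1 ∧ Commute ((r : N) : G) y)
    (hcent : ∀ v ∈ sigmaCore N, v ≠ 1 → Commute y v →
      centralizer ({y} : Set G) ⊓ centralizer ({v} : Set G) ≤ N)
    (ψ : IrrCharacter G) {a : ℤ} (ha : classInner (ψ : G → ℂ) (tau N (thetaN N θ)) = a) :
    ∃ R : Finset (sigmaIn N), (∀ n, n ∈ R ↔ Commute y ((n : N) : G)) ∧
      (p : ℤ) ∣ (Nat.card (sigmaIn N) : ℤ) - R.card ∧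
      Cong p ((Nat.card (sigmaIn N) : ℂ) * (a : ℂ))
        (∑ n ∈ R, (1 - (θ n : ℂ)) * conj ((ψ : G → ℂ) ((n : N) : G))) := by
  classical
  haveI := Fintype.ofFinite N
  haveI := Fintype.ofFinite (sigmaIn N)
  haveI hKn : (sigmaIn N).Normal := sigmaIn_normal hG
  have hψi : ∀ g, IsIntegral ℤ ((ψ : G → ℂ) g) := fun g => isCharacter_isIntegral (isCharacter_irr ψ) g
  set yN : N := ⟨y, hy⟩
  -- the averages
  let β : N → ℂ := fun t => if (t : G) ∈ sharp N then avgR N (ψ : G → ℂ) t else 0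
  have hβc : IsClassFunction N β := by
    intro s t
    show (if ((t * s * t⁻¹ : N) : G) ∈ sharp N then avgR N (ψ : G → ℂ) (t * s * t⁻¹ : N) else 0) =
      if (s : G) ∈ sharp N then avgR N (ψ : G → ℂ) s else 0
    have e : ((t * s * t⁻¹ : N) : G) = (t : G) * s * (t : G)⁻¹ := rfl
    rw [e]
    by_cases hs : (s : G) ∈ sharp N
    · rw [if_pos hs, if_pos (sharp_conj hG h.coatom t.2 hs),
        avgR_conj hG h.coatom (isClassFunction_irr ψ) t.2 hs]
    · rw [if_neg hs, if_neg fun h' => hs ?_]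
      have := sharp_conj hG h.coatom (inv_mem t.2) h'
      rwa [show (t : G)⁻¹ * ((t : G) * s * (t : G)⁻¹) * (t : G)⁻¹⁻¹ = s by group] at this
  have hsharp : ∀ n : sigmaIn N, n ≠ 1 → ((n : N) : G) ∈ sharp N := fun n hn =>
    ⟨n.2, fun e => hn (Subtype.ext (Subtype.ext e))⟩
  have hD := tau_hyp hG h.coatom
  -- orders of the supports
  let c : sigmaIn N → ℕ := fun n => if n = 1 then 1 else Nat.card (supportR N ((n : N) : G))
  obtain ⟨r₀, hr₀1, hr₀x⟩ := hfix
  have hcp : ∀ n, ¬ p ∣ c n := by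
    intro n hd
    by_cases hn : n = 1
    · exact hp.not_dvd_one (by simpa [c, hn] using hd)
    · have hxC : y ∈ N ⊓ centralizer ({((r₀ : N) : G)} : Set G) :=
        mem_inf.2 ⟨hy, mem_centralizer_singleton_iff.2 hr₀x.eq.symm⟩
      have hcop := hD.coprime _ (hsharp n hn) _ (hsharp r₀ hr₀1)
      have hd' : p ∣ Nat.card (supportR N ((n : N) : G)) := by simpa [c, hn] using hd
      exact hp.ne_one (Nat.eq_one_of_dvd_coprimes hcop hd'
        (hyo ▸ Subgroup.orderOf_dvd_natCard _ hxC))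
  set m : ℕ := ∏ n, c n with hm
  have hmp : ¬ p ∣ m := fun hd => by
    obtain ⟨n, -, hn⟩ := (Nat.prime_iff.1 hp).exists_mem_finset_dvd hd
    exact hcp n hn
  let mq : sigmaIn N → ℕ := fun n => ∏ k ∈ Finset.univ.erase n, c k
  have hmq : ∀ n, m = c n * mq n := fun n =>
    (Finset.mul_prod_erase _ _ (Finset.mem_univ n)).symm
  have hcint : ∀ n : sigmaIn N, (m : ℂ) * β (n : N) =
      if n = 1 then 0 else (mq n : ℂ) * ∑ᶠ w ∈ (supportR N ((n : N) : G) : Set G),
        (ψ : G → ℂ) (((n : N) : G) * w) := by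
    intro n
    by_cases hn : n = 1
    · rw [if_pos hn, show β (n : N) = 0 from if_neg fun hs => hs.2 (by rw [hn]; rfl), mul_zero]
    · rw [if_neg hn, show β (n : N) = avgR N (ψ : G → ℂ) ((n : N) : G) from if_pos (hsharp n hn),
        avgR, hmq n, show c n = Nat.card (supportR N ((n : N) : G)) from if_neg hn, Nat.cast_mul]
      have : (Nat.card (supportR N ((n : N) : G)) : ℂ) ≠ 0 := by exact_mod_cast Nat.card_pos.ne'
      field_simp
  have hsumint : ∀ n : sigmaIn N, IsIntegral ℤ (∑ᶠ w ∈ (supportR N ((n : N) : G) : Set G),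
      (ψ : G → ℂ) (((n : N) : G) * w)) := fun n => by
    rw [finsum_mem_eq_toFinset_sum]; exact IsIntegral.sum _ fun w _ => hψi _
  have hintβ : ∀ n : sigmaIn N, IsIntegral ℤ ((m : ℂ) * β (n : N)) := fun n => by
    rw [hcint]
    split_ifs
    · exact isIntegral_zero
    · exact (isIntegral_natCast _).mul (hsumint n)
  let g : sigmaIn N → ℂ := fun n => (1 - (θ n : ℂ)) * conj ((m : ℂ) * β (n : N))
  have hξi : ∀ n : sigmaIn N, IsIntegral ℤ (1 - (θ n : ℂ)) := fun n =>
    isIntegral_one.sub (isCharacter_isIntegral (isCharacter_of_isIrr (isIrrCharacter_lin θ)) n)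
  have hgint : ∀ n, IsIntegral ℤ (g n) := fun n => (hξi n).mul (isIntegral_conj (hintβ n))
  -- the action of `y`
  let σ : sigmaIn N → sigmaIn N := fun n => ⟨yN * n * yN⁻¹, hKn.conj_mem n n.2 yN⟩
  have hσi : ∀ i n, ((σ^[i] n : sigmaIn N) : N) = yN ^ i * n * (yN ^ i)⁻¹ := by
    intro i n
    induction i with
    | zero => simp
    | succ i ih =>
      rw [Function.iterate_succ_apply']
      show yN * ((σ^[i] n : sigmaIn N) : N) * yN⁻¹ = _
      rw [ih, pow_succ']
      group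
  have hσp : ∀ n, σ^[p] n = n := fun n => Subtype.ext (by
    rw [hσi, show yN ^ p = 1 from Subtype.ext (show y ^ p = 1 by rw [← hyo, pow_orderOf_eq_one])]
    simp)
  have hginv : ∀ n, g (σ n) = g n := fun n => by
    show (1 - (θ (σ n) : ℂ)) * conj ((m : ℂ) * β (σ n : N)) = _
    rw [hinv n (σ n) rfl, show ((σ n : sigmaIn N) : N) = yN * n * yN⁻¹ from rfl, hβc]
  set R : Finset (sigmaIn N) := Finset.univ.filter fun n => σ n = n with hR
  have hRmem : ∀ n ∈ R, Commute y ((n : N) : G) := fun n hn => by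
    have e := congrArg (fun z : sigmaIn N => ((z : N) : G)) (Finset.mem_filter.1 hn).2
    exact mul_inv_eq_iff_eq_mul.1 e
  obtain ⟨w, hw, hsum⟩ := sum_sub_fixed hp σ hσp g hgint hginv Finset.univ fun _ _ => Finset.mem_univ _
  obtain ⟨w₁, hw₁, hcard⟩ := sum_sub_fixed hp σ hσp (fun _ => (1 : ℂ)) (fun _ => isIntegral_one)
    (fun _ => rfl) Finset.univ fun _ _ => Finset.mem_univ _
  simp only [Finset.sum_const, nsmul_eq_mul, mul_one, Finset.card_univ, ← Nat.card_eq_fintype_card] at hcard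
  -- the sum over all of `N_σ`
  have htot : ∑ n, g n = ((Nat.card (sigmaIn N) * m : ℕ) : ℂ) * (a : ℂ) := by
    have e : classInner (tau N (thetaN N θ)) (ψ : G → ℂ) = (a : ℂ) := by
      rw [← classInner_conj, ha, map_intCast]
    rw [tau_adjoint hG h.coatom (thetaN_class hG h θ) (thetaN_supp hG h θ) (isClassFunction_irr ψ)] at e
    have e' : classInner (thetaN N θ) β = (a : ℂ) := by
      rw [← e]
      simp only [classInner]
      congr 1
      refine Finset.sum_congr rfl fun t _ => ?_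
      by_cases ht : (t : G) ∈ sharp N
      · simp only [β, if_pos ht]
      · rw [thetaN_supp hG h θ t ht]; simp
    rw [thetaN, inner_indSigma_right hG _ hβc] at e'
    simp only [classInner] at e'
    rw [← e', Nat.cast_mul]
    simp only [g, map_mul, map_natCast]
    have : (Nat.card (sigmaIn N) : ℂ) ≠ 0 := by exact_mod_cast Nat.card_pos.ne'
    rw [Finset.sum_congr rfl (g := fun n : sigmaIn N => (m : ℂ) * ((1 - (θ n : ℂ)) * conj (β (n : N))))
      fun n _ => by ring, ← Finset.mul_sum]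
    field_simp
  -- the fixed points
  have hterm : ∀ n ∈ R, Cong p (g n) ((1 - (θ n : ℂ)) * conj ((m : ℂ) * (ψ : G → ℂ) ((n : N) : G))) := by
    intro n hn
    by_cases hn1 : n = 1
    · rw [hn1]
      simp only [g, map_one, Units.val_one, sub_self, zero_mul]
      exact cong_refl p 0
    refine Cong.mul_left (hξi n) ?_
    refine Cong.conj' ?_
    set v : G := ((n : N) : G) with hv
    have hxv : Commute y v := hRmem n hn
    have hxR : ∀ w ∈ supportR N v, y * w * y⁻¹ ∈ supportR N v := fun w hw =>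
      hD.conj_mem_H v (hsharp n hn1) y (mem_centralizer_singleton_iff.2 hxv.eq) w hw
    let W := (supportR N v : Set G).toFinset
    let τ' : G → G := fun w => y * w * y⁻¹
    have hτ'p : ∀ w, τ'^[p] w = w := fun w => by
      have e : ∀ i, τ'^[i] w = y ^ i * w * (y ^ i)⁻¹ := fun i => by
        induction i with
        | zero => simp
        | succ i ih => rw [Function.iterate_succ_apply', ih, pow_succ']; simp only [τ']; group
      rw [e, show y ^ p = 1 by rw [← hyo, pow_orderOf_eq_one]]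
      simp
    have hWτ : ∀ w ∈ W, τ' w ∈ W := fun w hw => by
      simp only [W, Set.mem_toFinset, SetLike.mem_coe] at hw ⊢
      exact hxR w hw
    have hWfix : W.filter (fun w => τ' w = w) = {1} := by
      ext w
      simp only [W, τ', Finset.mem_filter, Set.mem_toFinset, SetLike.mem_coe, Finset.mem_singleton]
      constructor
      · rintro ⟨hw, e⟩
        have hwx : w ∈ centralizer ({y} : Set G) :=
          mem_centralizer_singleton_iff.2 (mul_inv_eq_iff_eq_mul.1 e).symm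
        have h2 : w ∈ supportR N v ⊓ (N ⊓ centralizer ({v} : Set G)) :=
          mem_inf.2 ⟨hw, mem_inf.2 ⟨hcent v n.2 (hsharp n hn1).2 hxv (mem_inf.2 ⟨hwx, hD.le_centralizer v (hsharp n hn1) hw⟩), hD.le_centralizer v (hsharp n hn1) hw⟩⟩
        rwa [hD.inf_eq_bot v (hsharp n hn1), mem_bot] at h2
      · rintro rfl
        exact ⟨one_mem _, by group⟩
    obtain ⟨w₂, hw₂, hS⟩ := sum_sub_fixed hp τ' hτ'p (fun w => (ψ : G → ℂ) (v * w)) (fun w => hψi _)
      (fun w => by
        show (ψ : G → ℂ) (v * (y * w * y⁻¹)) = _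
        rw [← mul_assoc, ← mul_assoc, ← hxv.eq, mul_assoc y v w, isClassFunction_irr ψ (v * w) y]) W hWτ
    obtain ⟨w₃, hw₃, hcW⟩ := sum_sub_fixed hp τ' hτ'p (fun _ => (1 : ℂ)) (fun _ => isIntegral_one)
      (fun _ => rfl) W hWτ
    rw [hWfix, Finset.sum_singleton, Finset.sum_const, nsmul_eq_mul, mul_one] at hcW
    rw [hWfix, Finset.sum_singleton, mul_one] at hS
    rw [hcint, if_neg hn1, ← hv, finsum_mem_eq_toFinset_sum, hS]
    have hmm : (m : ℂ) = (mq n : ℂ) + (p : ℂ) * ((mq n : ℂ) * w₃) := by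
      rw [hmq n, show c n = Nat.card (supportR N v) from if_neg hn1, Nat.cast_mul,
        show (Nat.card (supportR N v) : ℂ) = (W.card : ℂ) by
          simp only [W, Set.toFinset_card, ← Nat.card_eq_fintype_card]; rfl, hcW]
      ring
    have c1 : Cong p ((mq n : ℂ) * ((ψ : G → ℂ) v + (p : ℂ) * w₂)) ((m : ℂ) * (ψ : G → ℂ) v) :=
      cong_of_eq (w := (mq n : ℂ) * w₂ - (mq n : ℂ) * w₃ * (ψ : G → ℂ) v)
        (((isIntegral_natCast _).mul hw₂).sub (((isIntegral_natCast _).mul hw₃).mul (hψi _)))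
        (by rw [hmm]; ring)
    exact c1
  have hcd : (p : ℤ) ∣ (Nat.card (sigmaIn N) : ℤ) - (R.card : ℤ) := by
    refine Cong.dvd hp ?_
    push_cast
    exact cong_of_eq hw₁ hcard
  refine ⟨R, fun n => ⟨hRmem n, fun e => Finset.mem_filter.2 ⟨Finset.mem_univ _, Subtype.ext (Subtype.ext ?_)⟩⟩,
    hcd, ?_⟩
  · show y * ((n : N) : G) * y⁻¹ = _
    rw [e.eq, mul_inv_cancel_right]
  have hψc : ∀ n : sigmaIn N, IsIntegral ℤ (conj ((ψ : G → ℂ) ((n : N) : G))) := fun n => isIntegral_conj (hψi _)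
  refine Cong.cancel hp hmp ((isIntegral_natCast _).mul (isIntegral_intCast _))
    (IsIntegral.sum _ fun n _ => (hξi n).mul (hψc n)) ?_
  have h1 : Cong p (((Nat.card (sigmaIn N) * m : ℕ) : ℂ) * (a : ℂ)) (∑ n ∈ R, g n) :=
    cong_of_eq hw (htot ▸ hsum)
  have h2 := Cong.sum R hgint (fun n => (hξi n).mul (isIntegral_conj ((isIntegral_natCast _).mul (hψi _)))) hterm
  have h3 := h1.trans ((isIntegral_natCast _).mul (isIntegral_intCast _)) (IsIntegral.sum _ fun n _ => hgint n)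
    (IsIntegral.sum _ fun n _ => (hξi n).mul (isIntegral_conj ((isIntegral_natCast _).mul (hψi _)))) h2
  convert h3 using 1
  · push_cast; ring
  · rw [Finset.mul_sum]
    exact Finset.sum_congr rfl fun n _ => by rw [map_mul, map_natCast]; ring

/-- `(ψ, τθ_N) ≡ ψ(x)` modulo `p`. -/
theorem thetaN_dvd (hinv : ∀ n m : sigmaIn N, ((m : N) : G) = x * ((n : N) : G) * x⁻¹ → θ m = θ n)
    (hfix : ∃ r : sigmaIn N, Commute ((r : N) : G) x ∧ θ r ≠ 1)
    (ψ : IrrCharacter G) (hconst : ∀ k ∈ sigmaCore N, (ψ : G → ℂ) (x * k) = (ψ : G → ℂ) x)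
    {a b : ℤ} (ha : classInner (ψ : G → ℂ) (tau N (thetaN N θ)) = a)
    (hb : Cong p ((ψ : G → ℂ) x) b) : (p : ℤ) ∣ a - b := by
  classical
  have hp := h.bad.prime
  obtain ⟨r₀, hr₀x, hr₀⟩ := hfix
  obtain ⟨R, hR, hcd, hc⟩ := thetaN_cong hG h θ hp (x_mem_N hG h) h.bad.ord (not_dvd_kerN hG h) hinv
    ⟨r₀, fun e => hr₀ (by rw [e, map_one]), hr₀x⟩ (fun _ _ _ _ => inf_le_left.trans h.centralizer_le) ψ ha
  have hψi : ∀ g, IsIntegral ℤ ((ψ : G → ℂ) g) := fun g => isCharacter_isIntegral (isCharacter_irr ψ) g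
  have hξi : ∀ n : sigmaIn N, IsIntegral ℤ (1 - (θ n : ℂ)) := fun n =>
    isIntegral_one.sub (isCharacter_isIntegral (isCharacter_of_isIrr (isIrrCharacter_lin θ)) n)
  have hterm : ∀ n ∈ R, Cong p ((1 - (θ n : ℂ)) * conj ((ψ : G → ℂ) ((n : N) : G)))
      ((1 - (θ n : ℂ)) * (b : ℂ)) := by
    intro n hn
    refine Cong.mul_left (hξi n) ?_
    rw [show (b : ℂ) = conj (b : ℂ) by rw [map_intCast]]
    refine Cong.conj' ?_
    have h3 := (cong_mul_of_pow_prime hp (isGeneralizedCharacter_of_isCharacter (isCharacter_irr ψ))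
      (k := 1) (x := x) (y := ((n : N) : G)) (by rw [pow_one, ← h.bad.ord, pow_orderOf_eq_one])
      ((hR n).1 hn)).symm
    rw [show x * ((n : N) : G) = x * ((n : N) : G) from rfl, hconst ((n : N) : G) n.2] at h3
    exact h3.trans (hψi _) (hψi _) (isIntegral_intCast _) hb
  have hθsum : ∑ n ∈ R, (θ n : ℂ) = 0 := by
    have e : ∑ n ∈ R, (θ n : ℂ) = (θ r₀ : ℂ) * ∑ n ∈ R, (θ n : ℂ) := by
      rw [Finset.mul_sum]
      refine Finset.sum_nbij' (fun n => r₀⁻¹ * n) (fun n => r₀ * n) ?_ ?_ ?_ ?_ ?_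
      · exact fun n hn => (hR _).2 (by push_cast; exact hr₀x.symm.inv_right.mul_right ((hR n).1 hn))
      · exact fun n hn => (hR _).2 (by push_cast; exact hr₀x.symm.mul_right ((hR n).1 hn))
      · exact fun n _ => mul_inv_cancel_left r₀ n
      · exact fun n _ => inv_mul_cancel_left r₀ n
      · intro n _
        rw [map_mul, map_inv, Units.val_mul, ← mul_assoc, Units.mul_inv, one_mul]
    have : ((θ r₀ : ℂ) - 1) * ∑ n ∈ R, (θ n : ℂ) = 0 := by linear_combination -e
    exact (mul_eq_zero.1 this).resolve_left fun e' => hr₀ (Units.ext (sub_eq_zero.1 e'))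
  have h1 := hc.trans ((isIntegral_natCast _).mul (isIntegral_intCast _))
    (IsIntegral.sum _ fun n _ => (hξi n).mul (isIntegral_conj (hψi _)))
    (IsIntegral.sum _ fun n _ => (hξi n).mul (isIntegral_intCast _))
    (Cong.sum R (fun n => (hξi n).mul (isIntegral_conj (hψi _)))
      (fun n => (hξi n).mul (isIntegral_intCast _)) hterm)
  rw [← Finset.sum_mul, Finset.sum_sub_distrib, hθsum, sub_zero, Finset.sum_const, nsmul_eq_mul,
    mul_one] at h1
  have hdvd : (p : ℤ) ∣ (Nat.card (sigmaIn N) : ℤ) * a - (R.card : ℤ) * b :=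
    Cong.dvd hp (by push_cast; exact h1)
  refine ((Nat.prime_iff_prime_int.1 hp).dvd_or_dvd (a := (Nat.card (sigmaIn N) : ℤ)) (b := a - b) ?_).resolve_left ?_
  · rw [show (Nat.card (sigmaIn N) : ℤ) * (a - b) = ((Nat.card (sigmaIn N) : ℤ) * a - (R.card : ℤ) * b) -
      ((Nat.card (sigmaIn N) : ℤ) - R.card) * b by ring]
    exact dvd_sub hdvd (hcd.mul_right _)
  · exact fun hd => not_dvd_kerN hG h (Int.natCast_dvd_natCast.1 hd)

end CfsgLib.FT
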