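import Cfsg.Agent.Lib.FT.Setup

/-!
# The data of a bad pair used by the character theory of `docs/FT.md`, §1

`x` has prime order `p` in `M_σ`, `N` is the maximal subgroup over `C(x)`; `D = M ⊓ N` is a complement
of `N_σ` in `N`; `x` is central in `D₁ = M_σ ⊓ N` and outside `D₁'`.
-/

set_option autoImplicit false

open Subgroup

namespace CfsgLib.FT

universe u

variable {G : Type u} [Group G]

/-- What the character theory needs of a bad pair. -/
structure BadData (M N : Subgroup G) (x : G) (p : ℕ) : Prop where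
  bad : BadPair M x p
  coatom : IsCoatom N
  centralizer_le : centralizer ({x} : Set G) ≤ N
  notConj : CfsgLib.CFun.TauTwo.NotConj M N
  compl : Cfsg.IsComplIn (M ⊓ N) (Cfsg.sigmaCore N) N
  /-- `x` is central in `D₁`. -/
  cent : Cfsg.sigmaCore M ⊓ N ≤ centralizer ({x} : Set G)
  /-- A linear character of `D₁` is non-trivial at `x`. -/
  notDer : x ∉ ⁅Cfsg.sigmaCore M ⊓ N, Cfsg.sigmaCore M ⊓ N⁆
  /-- An element of `D₁` with a fixed point on `N_σ` has `N` as the only maximal subgroup over its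
  centralizer. -/
  uniq : ∀ d ∈ Cfsg.sigmaCore M ⊓ N, d ≠ 1 →
    Cfsg.sigmaCore N ⊓ centralizer ({d} : Set G) ≠ ⊥ →
    centralizer ({d} : Set G) ≤ N ∧
      ∀ L : Subgroup G, IsCoatom L → centralizer ({d} : Set G) ≤ L → L = N
  /-- `x` has a fixed point on `N_σ / N_σ'`. -/
  fixed : ¬ Cfsg.sigmaCore N ⊓ centralizer ({x} : Set G) ≤ ⁅Cfsg.sigmaCore N, Cfsg.sigmaCore N⁆
  /-- `D₁` contains a subgroup of order `p ^ 2` without fixed points on `N_σ`. -/
  torus : ∃ A : Subgroup G, A ≤ Cfsg.sigmaCore M ⊓ N ∧ Nat.card A = p ^ 2 ∧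
    Cfsg.sigmaCore N ⊓ centralizer (A : Set G) = ⊥

namespace BadData

variable {M N : Subgroup G} {x : G} {p : ℕ} (h : BadData M N x p)
include h

theorem ne_one : x ≠ 1 := fun e => h.bad.prime.ne_one (by rw [← h.bad.ord, e, orderOf_one])

theorem mem_D : x ∈ Cfsg.sigmaCore M ⊓ N :=
  mem_inf.2 ⟨h.bad.mem, h.centralizer_le (mem_centralizer_singleton_iff.2 rfl)⟩

theorem le_cent : Cfsg.sigmaCore M ⊓ N ≤ centralizer ({x} : Set G) := h.cent

end BadData

end CfsgLib.FT
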