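import Cfsg.Agent.Lib.FT.MeetData
import Cfsg.Agent.Lib.CFun.OddSigmaNeighbour
import Cfsg.Agent.S1418
import Cfsg.Agent.S1423
import Cfsg.Agent.S1430
import Cfsg.Agent.S1432

/-!
# The neighbour of a bad pair (`docs/FT.md`, §1)

`Nbr M N x p` is the neighbour of a bad pair, `Torus M N x p A` the group `A` of order `p ^ 2` around
`x`; `exists_badData` replaces `x` by an element of `A` and gives the input of the character theory.
-/

set_option autoImplicit false
set_option linter.unusedSectionVars false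
set_option linter.style.haveILetI false

open Subgroup

namespace CfsgLib.FT

open CfsgLib.CFun CfsgLib.CFun.TauTwo CfsgLib.CFun.Lines
open CfsgLib.Coprime (conjBy mem_conjBy conj_mem_conjBy IsHallIn)
open Cfsg (sigmaCore IsMinSimpleOddOrder)

universe u

variable {G : Type u} [Group G]

/-- The neighbour of a bad pair. -/
structure Nbr (M N : Subgroup G) (x : G) (p : ℕ) : Prop where
  bad : BadPair M x p
  coatom : IsCoatom N
  centralizer_le : centralizer ({x} : Set G) ≤ N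
  unique : ∀ L : Subgroup G, IsCoatom L → centralizer ({x} : Set G) ≤ L → L = N
  notConj : TauTwo.NotConj M N
  tau : p ∈ Cfsg.tau2 N
  compl : Cfsg.IsComplIn (M ⊓ N) (sigmaCore N) N
  nil : Group.IsNilpotent (sigmaCore N)

/-- A group of order `p ^ 2` of `D = M ⊓ N` around `x`. -/
structure Torus (M N : Subgroup G) (x : G) (p : ℕ) (A : Subgroup G) : Prop where
  le : A ≤ M ⊓ N
  le_sigma : A ≤ sigmaCore M
  elem : Cfsg.IsElementaryAbelian p A
  card : Nat.card A = p ^ 2
  centralizer_le : centralizer (A : Set G) ≤ N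
  normal : M ⊓ N ≤ normalizer (A : Set G)
  lines : ∀ X : Subgroup G, X ≤ M ⊓ N → Nat.card X = p → X ≤ A
  mem : x ∈ A
  fixed : sigmaCore N ⊓ centralizer (A : Set G) = ⊥

variable [Finite G] (hG : IsMinSimpleOddOrder G)
include hG

namespace BadPair

variable {M : Subgroup G} {x : G} {p : ℕ} (h : BadPair M x p)
include h

omit hG in
theorem ne_one : x ≠ 1 := fun e => h.prime.ne_one (by rw [← h.ord, e, orderOf_one])

omit hG in
theorem mem_M : x ∈ M := map_subtype_le _ h.mem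

theorem mem_sigma : p ∈ Cfsg.sigma M :=
  (sigmaCore_hall hG h.coatom).1.2.1 p h.prime (h.ord ▸ Subgroup.orderOf_dvd_natCard _ h.mem)

theorem dvd_card : p ∣ Nat.card M := h.ord ▸ Subgroup.orderOf_dvd_natCard _ (map_subtype_le _ h.mem)

/-- Bad elements avoid `M_σ'`. -/
theorem not_mem_derived : x ∉ ⁅sigmaCore M, sigmaCore M⁆ := by
  intro hd
  haveI : Fact p.Prime := ⟨h.prime⟩
  obtain ⟨P⟩ := (inferInstance : Nonempty (Sylow p (sigmaCore M)))
  refine h.notLe ?_
  rw [← centralizer_zpowers]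
  exact (Cfsg.Agent.S1423.result hG M h.coatom p (mem_sigma hG h) (zpowers x)
    (zpowers_le.2 (mem_M h)) (by rw [Nat.card_zpowers, h.ord]) P (Or.inr (zpowers_le.2 hd))).1.1

theorem exists_nbr : ∃ N : Subgroup G, Nbr M N x p := by
  obtain ⟨N, hN, hC, huniq, hnc, hτ, hD, hnil⟩ :=
    ElemCent.exists_data hG h.coatom h.mem (ne_one h) h.notLe
  exact ⟨N, h, hN, hC, huniq, hnc, hτ p h.prime (by rw [h.ord]), hD, hnil⟩

end BadPair

namespace Nbr

variable {M N : Subgroup G} {x : G} {p : ℕ} (h : Nbr M N x p)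
include h

omit hG in
theorem mem_D : x ∈ M ⊓ N :=
  mem_inf.2 ⟨h.bad.mem_M, h.centralizer_le (mem_centralizer_singleton_iff.2 rfl)⟩

omit hG in
theorem mem_D1 : x ∈ sigmaCore M ⊓ N := mem_inf.2 ⟨h.bad.mem, (mem_inf.1 h.mem_D).2⟩

theorem not_beta : p ∉ Cfsg.beta M := by
  haveI : Fact p.Prime := ⟨h.bad.prime⟩
  exact Neighbour.not_beta_of_tau2 hG h.coatom h.tau

theorem exists_torus : ∃ A : Subgroup G, Torus M N x p A := by
  haveI : Fact p.Prime := ⟨h.bad.prime⟩
  obtain ⟨A, hA, hAσ, hAe, hA2, hC⟩ := Neighbour.exists_torus_inter hG h.bad.coatom h.coatom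
    (h.bad.mem_sigma hG) h.tau h.compl
  obtain ⟨⟨hn, hl⟩, -, -⟩ := Cfsg.Agent.S1418.result hG N h.coatom (M ⊓ N) h.compl p h.tau A
    ⟨hA, hAe, hA2⟩
  exact ⟨A, hA, hAσ, hAe, hA2, hC, hn, hl,
    hl (zpowers x) (zpowers_le.2 h.mem_D) (by rw [Nat.card_zpowers, h.bad.ord]) (mem_zpowers x),
    tau_fixed_eq_bot hG h.coatom h.tau (hA.trans inf_le_right) hAe hA2⟩

variable {A : Subgroup G} (T : Torus M N x p A)
include T

/-- `D₁` centralizes the torus. -/
theorem le_centralizer_torus : sigmaCore M ⊓ N ≤ centralizer (A : Set G) := by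
  haveI : Fact p.Prime := ⟨h.bad.prime⟩
  intro d hd
  obtain ⟨hdσ, hdN⟩ := mem_inf.1 hd
  have hdA : d ∈ normalizer (A : Set G) := T.normal (mem_inf.2 ⟨map_subtype_le _ hdσ, hdN⟩)
  obtain ⟨k, m, hm, hkm⟩ := Nat.exists_eq_pow_mul_and_not_dvd (orderOf_pos d).ne' p h.bad.prime.ne_one
  have hcop : (m : ℤ).gcd ((p ^ k : ℕ) : ℤ) = 1 := by
    rw [Int.gcd_natCast_natCast]
    exact Nat.Coprime.pow_right k ((h.bad.prime.coprime_iff_not_dvd.2 hm).symm)
  have hm0 : m ≠ 0 := by rintro rfl; exact hm (dvd_zero p)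
  obtain ⟨a, b, hab⟩ := Int.isCoprime_iff_gcd_eq_one.2 hcop
  have h1 : d ^ m ∈ centralizer (A : Set G) := by
    refine tau_le_centralizer hG h.coatom h.tau (T.le.trans inf_le_right) T.elem T.card
      (U := zpowers (d ^ m)) (IsPGroup.of_card (n := k) ?_) (zpowers_le.2 (pow_mem hdN _))
      (zpowers_le.2 (pow_mem hdA _)) (mem_zpowers _)
    rw [Nat.card_zpowers, orderOf_pow' d hm0, hkm,
      Nat.gcd_mul_left_left, Nat.mul_div_cancel _ (Nat.pos_of_ne_zero hm0)]
  have h2 : d ^ p ^ k ∈ centralizer (A : Set G) := by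
    refine derived_centralizes_non_beta hG h.bad.coatom (r := p) (h.not_beta hG) (T.le.trans inf_le_left)
      (isPGroup_of_elementary T.elem) (sigmaCore_le_derived hG h.bad.coatom (pow_mem hdσ _)) ?_
      (pow_mem hdA _)
    rw [orderOf_pow' d (pow_ne_zero _ h.bad.prime.ne_zero), hkm, Nat.gcd_mul_right_left,
      Nat.mul_div_cancel_left _ (pow_pos h.bad.prime.pos k)]
    exact ((h.bad.prime.coprime_iff_not_dvd.2 hm)).symm
  have h3 : d = (d ^ m) ^ a * (d ^ p ^ k) ^ b := by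
    rw [← zpow_natCast d m, ← zpow_natCast d (p ^ k), ← zpow_mul, ← zpow_mul, ← zpow_add,
      mul_comm (m : ℤ), mul_comm ((p ^ k : ℕ) : ℤ), hab, zpow_one]
  rw [h3]
  exact mul_mem (zpow_mem h1 _) (zpow_mem h2 _)

omit hG h in
theorem torus_le_centralizer : A ≤ centralizer ({x} : Set G) := fun a ha =>
  mem_centralizer_singleton_iff.2 (mem_centralizer_iff.1
    (le_centralizer_of_comm T.elem.1 T.mem) a ha)

theorem inf_centralizer_torus : sigmaCore M ⊓ centralizer (A : Set G) = sigmaCore M ⊓ N :=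
  le_antisymm (inf_le_inf_left _ T.centralizer_le) (le_inf inf_le_left (h.le_centralizer_torus hG T))

theorem inf_centralizer : sigmaCore M ⊓ centralizer ({x} : Set G) = sigmaCore M ⊓ N := by
  refine le_antisymm (inf_le_inf_left _ h.centralizer_le) (le_inf inf_le_left ?_)
  refine (h.le_centralizer_torus hG T).trans ?_
  exact Subgroup.centralizer_le fun y hy => by rw [Set.mem_singleton_iff.1 hy]; exact T.mem

/-- No prime of an element of `D₁` lies in `κ(N)`. -/
theorem not_kappa {d : G} (hd : d ∈ sigmaCore M ⊓ N) {r : ℕ} (hr : r.Prime) (hrd : r ∣ orderOf d) :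
    r ∉ Cfsg.kappa N := by
  intro hrκ
  haveI : Fact p.Prime := ⟨h.bad.prime⟩
  haveI : Fact r.Prime := ⟨hr⟩
  set v := d ^ (orderOf d / r) with hv
  have hvo : orderOf v = r := orderOf_pow_orderOf_div (orderOf_pos d).ne' hrd
  have hvD : v ∈ sigmaCore M ⊓ N := pow_mem hd _
  have hsol := ms_solvable hG h.coatom.1
  obtain ⟨K, ⟨hK1', hK2, hK3⟩, hvK⟩ := CfsgLib.Coprime.IsHallIn.exists_ge (π := Cfsg.kappa N) hsol
    (zpowers_le.2 (mem_inf.1 hvD).2) fun s hs hsd => by
      rw [Nat.card_zpowers, hvo] at hsd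
      rwa [(Nat.prime_dvd_prime_iff_eq hs hr).1 hsd]
  have hK : Cfsg.IsPiHallOf (Cfsg.kappa N) K N := ⟨hK1', hK2, fun s hs hsκ hsd => hK3 s hs hsd hsκ⟩
  have hK1 : K ≠ ⊥ := fun e => hr.ne_one (by
    rw [← hvo, orderOf_eq_one_iff]
    exact mem_bot.1 (e.le (hvK (mem_zpowers v))))
  have hAN : A ≤ N ⊓ normalizer (zpowers v : Set G) :=
    le_inf (T.le.trans inf_le_right) (fun a ha => CfsgLib.Coprime.centralizer_le_normalizer_self _ (by
      rw [centralizer_zpowers]
      exact mem_centralizer_singleton_iff.2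
        (mem_centralizer_iff.1 (h.le_centralizer_torus hG T hvD) a ha)))
  rw [((Cfsg.Agent.S1430.result hG N h.coatom K hK hK1).2.2 (zpowers v) hvK
    (by rw [Nat.card_zpowers, hvo]; exact hr)).1] at hAN
  set Ks := sigmaCore N ⊓ centralizer (K : Set G) with hKs
  have hpK : ¬ p ∣ Nat.card K := fun hd' =>
    h.tau.2.2.2 (Kappa.kappa_tau1 hG h.coatom (hK.2.1 p h.bad.prime hd')).2.2.2.2
  have hpKs : ¬ p ∣ Nat.card Ks := fun hd' =>
    h.tau.2.1 ((sigmaCore_hall hG h.coatom).1.2.1 p h.bad.prime (hd'.trans (card_dvd_of_le inf_le_left)))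
  have hp : p ∣ Nat.card K * Nat.card Ks := by
    refine (((dvd_pow_self p two_ne_zero).trans T.card.symm.dvd).trans (card_dvd_of_le hAN)).trans ?_
    rw [sup_comm, mul_comm]
    exact CfsgLib.Coprime.card_sup_dvd_of_le_normalizer
      ((inf_le_right.trans (CfsgLib.Coprime.centralizer_le_normalizer_self _)))
  exact (h.bad.prime.dvd_mul.1 hp).elim hpK hpKs

/-- An element of `D₁` with a fixed point on `N_σ` has `N` as the only maximal subgroup over its
centralizer. -/
theorem unique_of_fixed {d : G} (hd : d ∈ sigmaCore M ⊓ N) (hd1 : d ≠ 1)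
    (hfix : sigmaCore N ⊓ centralizer ({d} : Set G) ≠ ⊥) :
    centralizer ({d} : Set G) ≤ N ∧
      ∀ L : Subgroup G, IsCoatom L → centralizer ({d} : Set G) ≤ L → L = N := by
  obtain ⟨s, hs, hs1⟩ := (bot_or_exists_ne_one _).resolve_left hfix
  obtain ⟨hsN, hsd⟩ := mem_inf.1 hs
  have hdN : d ∈ N := (mem_inf.1 hd).2
  have hdD : d ∈ M ⊓ N := mem_inf.2 ⟨map_subtype_le _ (mem_inf.1 hd).1, hdN⟩
  have hσ : ∀ s : ℕ, s.Prime → s ∣ orderOf d → s ∉ Cfsg.sigma N := fun s hs hsd => by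
    haveI : Fact s.Prime := ⟨hs⟩
    exact Compl.compl_not_sigma hG h.coatom h.compl (hsd.trans (Subgroup.orderOf_dvd_natCard _ hdD))
  obtain ⟨r, hr, hrd⟩ := Nat.exists_prime_and_dvd fun e => hd1 (orderOf_eq_one_iff.1 e)
  rcases Cfsg.Agent.S1432.result hG N h.coatom s hsN hs1 d
    (mem_inf.2 ⟨hdN, mem_centralizer_singleton_iff.2 (mem_centralizer_singleton_iff.1 hsd).symm⟩)
    hd1 hσ with ⟨hκ, -⟩ | ⟨-, -, hu⟩
  · exact absurd (hκ r hr hrd) (h.not_kappa hG T hd hr hrd)
  · exact hu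

theorem sigmaCore_ne_der : ¬ sigmaCore N ≤ ⁅sigmaCore N, sigmaCore N⁆ := by
  intro hle
  haveI := sigmaCore_solvable hG h.coatom
  haveI := nontrivial_iff_ne_bot (sigmaCore N) |>.2 (sigmaCore_ne_bot hG h.coatom)
  refine (Group.IsSolvable.commutator_lt_top_of_nontrivial (sigmaCore N)).ne (eq_top_iff.2 fun c _ => ?_)
  obtain ⟨c', hc', e⟩ := (map_subtype_commutator (sigmaCore N)).ge (hle c.2)
  rwa [← Subtype.ext (a1 := c') (a2 := c) e]

/-- Some element of the torus is bad, with a fixed point on `N_σ / N_σ'`. -/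
theorem exists_fixed : ∃ y ∈ A, Nbr M N y p ∧
    ¬ sigmaCore N ⊓ centralizer ({y} : Set G) ≤ ⁅sigmaCore N, sigmaCore N⁆ := by
  haveI : Fact p.Prime := ⟨h.bad.prime⟩
  have hAN : A ≤ N := T.le.trans inf_le_right
  obtain ⟨B, hBA, hBc, hB⟩ := exists_line_not_le T.elem T.card
    (hAN.trans (sigmaCore_normal hG N))
    (by
      rw [T.card]
      exact (h.bad.prime.coprime_iff_not_dvd.2 fun hd =>
        h.tau.2.1 ((sigmaCore_hall hG h.coatom).1.2.1 p h.bad.prime hd)).pow_left 2)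
    (h.sigmaCore_ne_der hG T)
  obtain ⟨y, hyB, hy1, hyp, hgen⟩ := exists_gen hBc
  rw [← hgen, centralizer_zpowers] at hB
  have hyA : y ∈ A := hBA hyB
  have hyD : y ∈ sigmaCore M ⊓ N := mem_inf.2 ⟨T.le_sigma hyA, hAN hyA⟩
  have hne : sigmaCore N ⊓ centralizer ({y} : Set G) ≠ ⊥ := fun e => hB (e ▸ bot_le)
  obtain ⟨hC, huniq⟩ := h.unique_of_fixed hG T hyD hy1 hne
  refine ⟨y, hyA, ⟨⟨h.bad.coatom, h.bad.prime, T.le_sigma hyA, orderOf_eq_prime hyp hy1, fun hle => hne ?_⟩,
    h.coatom, hC, huniq, h.notConj, h.tau, h.compl, h.nil⟩, hB⟩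
  rw [eq_bot_iff, ← h.compl.2.2.1]
  exact le_inf (le_inf (inf_le_right.trans hle) (inf_le_left.trans (map_subtype_le _))) inf_le_left

end Nbr

omit hG in
/-- The torus of `x` is a torus of any bad element in it. -/
theorem Torus.change {M N A : Subgroup G} {x y : G} {p : ℕ} (T : Torus M N x p A) (hy : y ∈ A) :
    Torus M N y p A :=
  ⟨T.le, T.le_sigma, T.elem, T.card, T.centralizer_le, T.normal, T.lines, hy, T.fixed⟩

variable {M N : Subgroup G} {x : G} {p : ℕ}

/-- A neighbour gives the data of the character theory. -/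
theorem Nbr.badData (h : Nbr M N x p)
    (hfix : ¬ sigmaCore N ⊓ centralizer ({x} : Set G) ≤ ⁅sigmaCore N, sigmaCore N⁆) :
    BadData M N x p := by
  obtain ⟨A, T⟩ := h.exists_torus hG
  exact
    { bad := h.bad
      coatom := h.coatom
      centralizer_le := h.centralizer_le
      notConj := h.notConj
      compl := h.compl
      cent := (h.inf_centralizer hG T).ge.trans inf_le_right
      notDer := fun hd => h.bad.not_mem_derived hG (commutator_mono inf_le_left inf_le_left hd)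
      uniq := fun d hd hd1 => h.unique_of_fixed hG T hd hd1
      fixed := hfix
      torus := ⟨A, le_inf T.le_sigma (T.le.trans inf_le_right), T.card, T.fixed⟩ }

/-- Every bad pair yields data. -/
theorem exists_badData (hb : BadPair M x p) : ∃ (y : G) (N : Subgroup G),
    Nbr M N y p ∧ BadData M N y p := by
  obtain ⟨N, h⟩ := hb.exists_nbr hG
  obtain ⟨A, T⟩ := h.exists_torus hG
  obtain ⟨y, -, hy, hfix⟩ := h.exists_fixed hG T
  exact ⟨y, N, hy, hy.badData hG hfix⟩

end CfsgLib.FT
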