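import Cfsg.Agent.Lib.Char.CoprimeCyclicAction
import Cfsg.Agent.Lib.Char.AbelianTIBound
import Cfsg.Agent.Lib.Char.Clifford
import Cfsg.Agent.Lib.FT.Basic
import Cfsg.Agent.S1496

/-!
# General tools for `docs/FT.md`, §1

Sums of a class function over a coset of a normal subgroup and over the fixed points in it, norms of
twisted and induced functions, constancy on cosets, and orbits of prime length modulo `p`.
-/

set_option autoImplicit false
set_option linter.unusedSectionVars false

namespace CfsgLib.FT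

open scoped ComplexConjugate
open Cfsg CfsgLib.Char

universe u

variable {Γ : Type u} [Group Γ] [Fintype Γ]

/-- An irreducible character which is not trivial on a normal subgroup sums to zero on its cosets. -/
theorem sum_irr_coset (K : Subgroup Γ) [K.Normal] [Fintype K] (χ : IrrCharacter Γ)
    (hχ : ∃ k ∈ K, (χ : Γ → ℂ) k ≠ (χ : Γ → ℂ) 1) (g : Γ) :
    ∑ k : K, (χ : Γ → ℂ) (g * k) = 0 :=
  AbelianTIBound.sum_coset_eq_zero K χ hχ g

/-- An irreducible character which is trivial on a normal subgroup is constant on its cosets. -/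
theorem irr_const_of_trivial (K : Subgroup Γ) (χ : IrrCharacter Γ)
    (hχ : ∀ k ∈ K, (χ : Γ → ℂ) k = (χ : Γ → ℂ) 1) {k : Γ} (hk : k ∈ K) (g : Γ) :
    (χ : Γ → ℂ) (k * g) = (χ : Γ → ℂ) g := by
  obtain ⟨χ, n, ρ, hρ, rfl⟩ := χ
  have h := hχ k hk
  change ρ.character k = ρ.character 1 at h
  rw [Representation.char_one] at h
  show LinearMap.trace ℂ _ (ρ (k * g)) = LinearMap.trace ℂ _ (ρ g)
  rw [map_mul, (char_eq_degree_iff ρ k).1 h]
  rfl

/-- Coset sums of an induced function. -/
theorem indFun_coset_zero (H K : Subgroup Γ) [K.Normal] [Fintype K] (hKH : K ≤ H) (ξ : H → ℂ)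
    (hξ : ∀ a : H, ∑ k : K, ξ (a * ⟨k, hKH k.2⟩) = 0) (g : Γ) :
    ∑ k : K, indFun H ξ (g * k) = 0 := by
  simp only [indFun, ← Finset.mul_sum]
  rw [Finset.sum_comm, Finset.sum_eq_zero, mul_zero]
  intro t _
  let e : K → K := fun k => ⟨t⁻¹ * k * t, by
    simpa using (inferInstance : K.Normal).conj_mem k k.2 t⁻¹⟩
  have he : Function.Bijective e := Finite.injective_iff_bijective.1 fun a b h => Subtype.ext
    (mul_left_cancel (mul_right_cancel (congrArg Subtype.val h)))
  rw [Fintype.sum_bijective e he _ (fun k : K => extendByZero H ξ (t⁻¹ * g * t * k)) fun k => by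
    show extendByZero H ξ (t⁻¹ * (g * k) * t) = extendByZero H ξ (t⁻¹ * g * t * (t⁻¹ * k * t))
    congr 1
    group]
  by_cases ha : t⁻¹ * g * t ∈ H
  · rw [← hξ ⟨_, ha⟩]
    exact Finset.sum_congr rfl fun k _ => extendByZero_mem H ξ (H.mul_mem ha (hKH k.2))
  · exact Finset.sum_eq_zero fun k _ => extendByZero_not_mem H ξ fun h =>
      ha ((H.mul_mem_cancel_right (hKH k.2)).1 h)

/-- Coprime cosets: a class function whose sum over `dK` vanishes sums to zero over `d C_K(d)`. -/
theorem sum_fixed_coset (K : Subgroup Γ) [K.Normal] [Fintype K] {d : Γ}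
    (hcop : (Nat.card K).Coprime (orderOf d)) {f : Γ → ℂ} (hf : IsClassFunction Γ f)
    (h0 : ∑ k : K, f (d * k) = 0) :
    ∑ᶠ s ∈ ((K ⊓ Subgroup.centralizer ({d} : Set Γ) : Subgroup Γ) : Set Γ), f (d * s) = 0 := by
  classical
  set C := K ⊓ Subgroup.centralizer ({d} : Set Γ) with hC
  haveI := Fintype.ofFinite C
  have h1 := CoprimeCyclic.sum_coset (C := C) hcop (by rw [hC, Subgroup.zpowers_eq_closure, Subgroup.centralizer_closure]) f hf
  rw [Finset.sum_congr rfl (g := fun k : K => f (d * k)) fun k _ => classFun_mul_comm hf _ _, h0,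
    mul_zero] at h1
  rcases mul_eq_zero.1 h1.symm with h | h
  · exact absurd h (by exact_mod_cast Nat.card_pos.ne')
  · rw [← h, finsum_mem_eq_toFinset_sum, Finset.sum_subtype (p := fun s => s ∈ C) _ fun s => by simp]
    exact Finset.sum_congr rfl fun s _ => classFun_mul_comm hf _ _

/-- A coprime coset consists of conjugates of `d C_K(d)`. -/
theorem exists_conj_fixed (K : Subgroup Γ) [hK : K.Normal] {d : Γ}
    (hcop : (Nat.card K).Coprime (orderOf d)) {k : Γ} (hk : k ∈ K) :
    ∃ t ∈ K, ∃ s ∈ K ⊓ Subgroup.centralizer ({d} : Set Γ), t * (d * k) * t⁻¹ = d * s := by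
  have hn : d ∈ Subgroup.normalizer (K : Set Γ) := Subgroup.normalizer_eq_top (H := K) ▸ Subgroup.mem_top d
  obtain ⟨t, ht, c, hc, hcd, h⟩ := Cfsg.Agent.S1496.result K d hn hcop.symm (d * k * d⁻¹)
    (hK.conj_mem k hk d)
  rw [inv_mul_cancel_right] at h
  exact ⟨t, ht, c, Subgroup.mem_inf.2 ⟨hc, Subgroup.mem_centralizer_singleton_iff.2 hcd⟩,
    h.trans hcd⟩

/-- Linear characters separate the cosets in an abelian quotient. -/
theorem exists_linear_ne (K : Subgroup Γ) [K.Normal] (hab : ∀ a b : Γ, a * b * a⁻¹ * b⁻¹ ∈ K)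
    {x : Γ} (hx : x ∉ K) : ∃ lam : Γ →* ℂˣ, (∀ k ∈ K, lam k = 1) ∧ lam x ≠ 1 := by
  letI : CommGroup (Γ ⧸ K) :=
    { (inferInstance : Group (Γ ⧸ K)) with
      mul_comm := by
        rintro ⟨a⟩ ⟨b⟩
        refine QuotientGroup.eq.2 ?_
        have := hab b⁻¹ a⁻¹
        simpa [mul_assoc] using this }
  have hne : (x : Γ ⧸ K) ≠ 1 := fun e => hx ((QuotientGroup.eq_one_iff x).1 e)
  obtain ⟨φ, hφ⟩ := CommGroup.exists_apply_ne_one_of_hasEnoughRootsOfUnity (Γ ⧸ K) ℂ hne
  exact ⟨φ.comp (QuotientGroup.mk' K), fun k hk => by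
    rw [MonoidHom.comp_apply, QuotientGroup.mk'_apply, (QuotientGroup.eq_one_iff k).2 hk, map_one],
    hφ⟩

theorem classInner_self_re_nonneg (f : Γ → ℂ) : 0 ≤ (classInner f f).re := by
  rw [classInner_self, Complex.ofReal_re]
  positivity

theorem classInner_re_symm (f h : Γ → ℂ) : (classInner h f).re = (classInner f h).re := by
  rw [← classInner_conj, Complex.conj_re]

/-- `2 Re (f, h) ≤ (f, f) + (h, h)`. -/
theorem two_re_le (f h : Γ → ℂ) :
    2 * (classInner f h).re ≤ (classInner f f).re + (classInner h h).re := by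
  have := classInner_self_re_nonneg (f - h)
  simp only [classInner_sub_left, classInner_sub_right, Complex.sub_re, classInner_re_symm f h] at this
  linarith

/-- `(f + h, f + h) ≤ 2 (f, f) + 2 (h, h)`. -/
theorem norm_add_le_two (f h : Γ → ℂ) :
    (classInner (f + h) (f + h)).re ≤ 2 * (classInner f f).re + 2 * (classInner h h).re := by
  have := two_re_le f h
  simp only [classInner_add_left, classInner_add_right, Complex.add_re, classInner_re_symm f h]
  linarith

theorem norm_conjFun (f : Γ → ℂ) :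
    classInner (Cfsg.conjFun f) (Cfsg.conjFun f) = classInner f f := by
  rw [classInner_self, classInner_self]
  simp [Cfsg.conjFun]

/-- A character minus its twist by a linear character has norm at most two. -/
theorem norm_sub_twist_le (χ : IrrCharacter Γ) (lam : Γ →* ℂˣ) :
    (classInner (fun g => (χ : Γ → ℂ) g * (1 - (lam g : ℂ)))
      (fun g => (χ : Γ → ℂ) g * (1 - (lam g : ℂ)))).re ≤ 2 := by
  set χ' : Γ → ℂ := fun g => (χ : Γ → ℂ) g * (lam g : ℂ) with hχ'
  have e : (fun g => (χ : Γ → ℂ) g * (1 - (lam g : ℂ))) = (χ : Γ → ℂ) - χ' := by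
    funext g; simp [hχ', mul_sub]
  have hc : IsCharacter Γ χ' :=
    isCharacter_mul (isCharacter_irr χ) (isCharacter_of_isIrr (isIrrCharacter_lin lam))
  obtain ⟨n, hn⟩ := classInner_char_irr_nat hc χ
  have hn' : classInner χ' χ' = 1 := by
    rw [← classInner_irr_self χ, classInner_self, classInner_self, hχ']
    congr 2
    refine Finset.sum_congr rfl fun g _ => ?_
    rw [norm_mul, norm_eq_one_of_pow_eq_one' (μ := (lam g : ℂ)) (orderOf_pos g).ne'
      (by rw [← Units.val_pow_eq_pow_val, ← map_pow, pow_orderOf_eq_one, map_one, Units.val_one]),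
      mul_one]
  rw [e, classInner_sub_left, classInner_sub_right, classInner_sub_right, classInner_irr_self, hn',
    hn, ← classInner_conj χ' (χ : Γ → ℂ), hn]
  simp
  have : (0 : ℝ) ≤ n := n.cast_nonneg
  linarith

/-- The norm of a function induced from a normal subgroup. -/
theorem norm_indFun_le (H : Subgroup Γ) [H.Normal] [Fintype H] (ξ : H → ℂ) :
    (classInner (indFun H ξ) (indFun H ξ)).re ≤ H.index * (classInner ξ ξ).re := by
  rw [classInner_indFun _ _ _ (isClassFunction_indFun _ _), restrict_indFun, classInner_smul_right,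
    classInner_sum_right, map_inv₀, Complex.conj_natCast, ← Complex.ofReal_natCast,
    ← Complex.ofReal_inv, Complex.re_ofReal_mul, Complex.re_sum]
  have h1 : ∀ t : Γ, (classInner ξ (conjFun H ξ t)).re ≤ (classInner ξ ξ).re := by
    intro t
    have h := two_re_le ξ (conjFun H ξ t)
    rw [classInner_conjFun] at h
    linarith
  refine (mul_le_mul_of_nonneg_left (Finset.sum_le_sum fun t _ => h1 t) (by positivity)).trans_eq ?_
  rw [Finset.sum_const, Finset.card_univ, nsmul_eq_mul, ← Nat.card_eq_fintype_card,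
    ← H.index_mul_card, Nat.cast_mul]
  field_simp

/-- Bessel's inequality for a generalized character and distinct irreducible characters. -/
theorem bessel {F : Γ → ℂ} (hF : IsGeneralizedCharacter Γ F) (s : Finset (IrrCharacter Γ)) :
    ∃ m : IrrCharacter Γ → ℤ, (∀ χ : IrrCharacter Γ, classInner F χ = m χ) ∧
      ((∑ χ ∈ s, m χ ^ 2 : ℤ) : ℝ) ≤ (classInner F F).re := by
  haveI := Fintype.ofFinite (IrrCharacter Γ)
  obtain ⟨m, hm, -, hn⟩ := generalized_expand hF
  refine ⟨m, hm, ?_⟩
  rw [hn]
  have : ∑ χ ∈ s, m χ ^ 2 ≤ ∑ χ, m χ ^ 2 :=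
    Finset.sum_le_univ_sum_of_nonneg fun χ => sq_nonneg _
  rw [Complex.intCast_re]
  exact_mod_cast this

/-- A character orthogonal to all `χ - λχ` with `χ` not trivial on `K` is constant on the cosets of `K`
on which `λ` is not one. -/
theorem const_on_coset (K : Subgroup Γ) [K.Normal] {ψ : Γ → ℂ} (hψ : IsCharacter Γ ψ) (lam : Γ →* ℂˣ)
    (hlam : ∀ k ∈ K, lam k = 1)
    (horth : ∀ χ : IrrCharacter Γ, (∃ k ∈ K, (χ : Γ → ℂ) k ≠ (χ : Γ → ℂ) 1) →
      classInner (fun g => (χ : Γ → ℂ) g * (1 - (lam g : ℂ))) ψ = 0)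
    {x : Γ} (hx : lam x ≠ 1) {k : Γ} (hk : k ∈ K) : ψ (x * k) = ψ x := by
  classical
  haveI := Fintype.ofFinite K
  set η := ψ - cosetAvg K ψ with hη
  have hηc : IsClassFunction Γ η := fun g t => by
    rw [hη, Pi.sub_apply, Pi.sub_apply, isClassFunction_of_isCharacter hψ g t,
      isClassFunction_of_isCharacter (isCharacter_cosetAvg K hψ) g t]
  set θ : Γ → ℂ := fun g => η g * (1 - conj (lam g : ℂ)) with hθ
  have hθc : IsClassFunction Γ θ := fun g t => by
    simp only [hθ, hηc g t, map_mul, map_inv, mul_right_comm _ (lam g), mul_inv_cancel, one_mul]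
  have key : ∀ χ : IrrCharacter Γ, classInner (fun g => (χ : Γ → ℂ) g * (1 - (lam g : ℂ))) η = 0 := by
    intro χ
    set α : Γ → ℂ := fun g => (χ : Γ → ℂ) g * (1 - (lam g : ℂ)) with hα
    by_cases htriv : ∀ k ∈ K, (χ : Γ → ℂ) k = (χ : Γ → ℂ) 1
    · rw [hη, classInner_sub_right, ← classInner_cosetAvg, cosetAvg_of_const K ?_, sub_self]
      intro n g
      simp only [hα, irr_const_of_trivial K χ htriv n.2, map_mul, hlam _ n.2, one_mul]
    · push Not at htriv
      have h0 : cosetAvg K α = 0 := by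
        funext g
        simp only [cosetAvg, hα, map_mul, hlam _ (Subtype.property _), one_mul, ← Finset.sum_mul]
        rw [Finset.sum_congr rfl (g := fun n : K => (χ : Γ → ℂ) (g * n)) fun n _ =>
          classFun_mul_comm (isClassFunction_irr χ) _ _, sum_irr_coset K χ htriv g]
        simp
      rw [hη, classInner_sub_right, ← classInner_cosetAvg, h0, classInner_zero_left, horth χ htriv,
        sub_zero]
  have hθ0 : θ = 0 := classFun_eq_zero_of_perp hθc fun χ => by
    rw [← classInner_conj]
    refine (map_eq_zero _).2 ?_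
    rw [← key χ]
    simp only [classInner, hθ, map_mul, map_sub, map_one, Complex.conj_conj]
    congr 1
    exact Finset.sum_congr rfl fun g _ => by ring
  have hav : ∀ j ∈ K, ψ (x * j) = cosetAvg K ψ x := by
    intro j hj
    have h1 := congrFun hθ0 (x * j)
    simp only [hθ, map_mul, hlam j hj, mul_one, Pi.zero_apply, mul_eq_zero] at h1
    have h2 := h1.resolve_right fun e => hx (Units.ext (by
      have := congrArg conj (sub_eq_zero.1 e)
      simpa using this.symm))
    rw [hη, Pi.sub_apply, sub_eq_zero] at h2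
    rw [h2, show x * j = x * j * x⁻¹ * x by group]
    exact cosetAvg_mul_left K ψ ⟨_, (inferInstance : K.Normal).conj_mem j hj x⟩ x
  rw [hav k hk, ← hav 1 K.one_mem, mul_one]

/-- Orbits of prime length do not count modulo `p`. -/
theorem sum_sub_fixed {α : Type u} [DecidableEq α] {p : ℕ} (hp : p.Prime) (σ : α → α)
    (hσ : ∀ a, σ^[p] a = a) (g : α → ℂ) (hg : ∀ a, IsIntegral ℤ (g a)) (hinv : ∀ a, g (σ a) = g a)
    (X : Finset α) (hX : ∀ a ∈ X, σ a ∈ X) :
    ∃ w : ℂ, IsIntegral ℤ w ∧ ∑ a ∈ X, g a = ∑ a ∈ X.filter (fun a => σ a = a), g a + (p : ℂ) * w := by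
  induction X using Finset.strongInduction with
  | H X ih =>
    by_cases hall : ∀ a ∈ X, σ a = a
    · exact ⟨0, isIntegral_zero, by rw [Finset.filter_true_of_mem hall]; simp⟩
    push Not at hall
    obtain ⟨a, ha, hmove⟩ := hall
    have hper : ∀ i, i < p → i ≠ 0 → σ^[i] a ≠ a := by
      intro i hi hi0 e
      refine hmove ?_
      have h1 := Function.IsPeriodicPt.gcd (f := σ) (x := a) e (hσ a)
      rwa [Nat.Coprime.gcd_eq_one ((hp.coprime_iff_not_dvd.2 fun h =>
        hi.not_ge (Nat.le_of_dvd (Nat.pos_of_ne_zero hi0) h)).symm)] at h1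
    set O := (Finset.range p).image fun i => σ^[i] a with hO
    have hlt : ∀ i j, i < j → j < p → σ^[i] a ≠ σ^[j] a := by
      intro i j hij hj e
      refine hper (p - j + i) (by omega) (by omega) ?_
      have e' := congrArg (σ^[p - j]) e
      rw [← Function.iterate_add_apply, ← Function.iterate_add_apply, Nat.sub_add_cancel hj.le, hσ] at e'
      exact e'
    have hinjO : Set.InjOn (fun i => σ^[i] a) (Finset.range p) := by
      intro i hi j hj e
      simp only [Finset.coe_range, Set.mem_Iio] at hi hj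
      rcases lt_trichotomy i j with h | h | h
      · exact absurd e (hlt i j h hj)
      · exact h
      · exact absurd e.symm (hlt j i h hi)
    have hOX : O ⊆ X := by
      intro b hb
      obtain ⟨i, -, rfl⟩ := Finset.mem_image.1 hb
      clear hb
      induction i with
      | zero => exact ha
      | succ i h => rw [Function.iterate_succ_apply']; exact hX _ h
    have hclosed : ∀ b ∈ X \ O, σ b ∈ X \ O := by
      intro b hb
      obtain ⟨hbX, hbO⟩ := Finset.mem_sdiff.1 hb
      refine Finset.mem_sdiff.2 ⟨hX b hbX, fun h => hbO ?_⟩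
      obtain ⟨i, -, hi⟩ := Finset.mem_image.1 h
      have hb' : b = σ^[i + (p - 1)] a := by
        rw [add_comm, Function.iterate_add_apply, hi, ← Function.iterate_succ_apply,
          show (p - 1).succ = p by have := hp.pos; omega, hσ]
      have hmod : ∀ m, σ^[m] a = σ^[m % p] a := fun m => by
        conv_lhs => rw [← Nat.mod_add_div m p]
        rw [Function.iterate_add_apply]
        congr 1
        rw [Function.iterate_mul]
        exact Function.iterate_fixed (hσ a) _
      exact Finset.mem_image.2 ⟨(i + (p - 1)) % p, Finset.mem_range.2 (Nat.mod_lt _ hp.pos),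
        (hmod _).symm.trans hb'.symm⟩
    have haO : a ∈ O := Finset.mem_image.2 ⟨0, Finset.mem_range.2 hp.pos, rfl⟩
    obtain ⟨w, hw, he⟩ := ih (X \ O) (Finset.sdiff_ssubset hOX ⟨a, haO⟩) hclosed
    have hval : ∀ b ∈ O, g b = g a ∧ σ b ≠ b := by
      intro b hb
      obtain ⟨i, -, rfl⟩ := Finset.mem_image.1 hb
      refine ⟨?_, fun e => hmove ?_⟩
      · clear hb
        induction i with
        | zero => rfl
        | succ i h => rw [Function.iterate_succ_apply', hinv, h]
      · have h2 : σ^[p * i - i] (σ^[i] (σ a)) = σ^[p * i - i] (σ^[i] a) := by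
          congr 1
          rw [← Function.iterate_succ_apply, Function.iterate_succ_apply']
          exact e
        have hfix : ∀ c, σ^[p * i] c = c := fun c => by
          rw [Function.iterate_mul]; exact Function.iterate_fixed (hσ c) _
        rwa [← Function.iterate_add_apply, ← Function.iterate_add_apply,
          Nat.sub_add_cancel (Nat.le_mul_of_pos_left i hp.pos), hfix, hfix] at h2
    refine ⟨w + g a, hw.add (hg a), ?_⟩
    have hf : (X \ O).filter (fun b => σ b = b) = X.filter (fun b => σ b = b) := by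
      ext b
      simp only [Finset.mem_filter, Finset.mem_sdiff]
      exact ⟨fun h => ⟨h.1.1, h.2⟩, fun h => ⟨⟨h.1, fun hb => (hval b hb).2 h.2⟩, h.2⟩⟩
    rw [← Finset.sum_sdiff hOX, he, hf, Finset.sum_congr rfl fun b hb => (hval b hb).1,
      Finset.sum_const, Finset.card_image_of_injOn hinjO, Finset.card_range, nsmul_eq_mul]
    ring

/-- Equal up to an integral multiple of `p` means congruent. -/
theorem cong_of_eq {p : ℕ} {a b w : ℂ} (hw : IsIntegral ℤ w) (h : a = b + (p : ℂ) * w) : Cong p a b :=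
  ⟨0, w, hw, by rw [h]; ring⟩

end CfsgLib.FT
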