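import Cfsg.Agent.Lib.FT.MeetGroupNum
import Cfsg.Agent.Lib.FT.MeetTools
import Cfsg.Agent.Lib.Char.FrobeniusFormula
import Cfsg.Agent.Lib.Coprime.FpfAction

/-!
# Fixed points of `A ⋊ ⟨w⟩` on `N_σ` and invariant linear characters of `N_σ`

`card_eq_fixed_pow`: the fixed point formula of a Frobenius group with a complement of prime order.
`exists_invariant_hom`: a linear character of prime order of `N_σ` invariant under a coprime `W`;
`exists_fixed_ne`: such a character is non-trivial on the fixed points of each element of `W`.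
-/

set_option autoImplicit false
set_option linter.unusedSectionVars false
set_option linter.style.haveILetI false

open Subgroup

namespace CfsgLib.FT

open CfsgLib.CFun CfsgLib.CFun.TauTwo
open Cfsg (sigmaCore)

universe u

variable {G : Type u} [Group G] [Finite G]

/-- `|H| = |C_H(w)| ^ r` for a Frobenius group `U ⋊ ⟨w⟩`, `r` prime, with `C_H(U) = 1`. -/
theorem card_eq_fixed_pow {U H : Subgroup G} {w : G} {r : ℕ} (hr : r.Prime) (hwr : orderOf w = r)
    (hwU : w ∈ normalizer (U : Set G)) (hrU : ¬ r ∣ Nat.card U)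
    (hfpf : U ⊓ centralizer ({w} : Set G) = ⊥) (hUH : U ≤ normalizer (H : Set G))
    (hwH : w ∈ normalizer (H : Set G)) (hsol : Group.IsSolvable H)
    (hUc : (Nat.card U).Coprime (Nat.card H)) (hrc : r.Coprime (Nat.card H))
    (hCU : H ⊓ centralizer (U : Set G) = ⊥) :
    Nat.card H = Nat.card ↥(H ⊓ centralizer ({w} : Set G)) ^ r := by
  haveI : Fact r.Prime := ⟨hr⟩
  set E := zpowers w with hE
  have hEc : Nat.card E = r := by rw [hE, Nat.card_zpowers, hwr]
  have hUE : U ⊓ E = ⊥ := by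
    refine card_eq_one.1 (Nat.eq_one_of_dvd_coprimes (hr.coprime_iff_not_dvd.2 hrU)
      (hEc ▸ card_dvd_of_le inf_le_right) (card_dvd_of_le inf_le_left))
  have hgen : ∀ e ∈ E, e ≠ 1 → w ∈ zpowers e := fun e he he1 => by
    have : zpowers e = E := eq_of_le_of_card_ge (zpowers_le.2 he) (by
      rw [hEc, Nat.card_zpowers]
      exact (((Nat.dvd_prime hr).1 (hEc ▸ Subgroup.orderOf_dvd_natCard _ he)).resolve_left
        fun e1 => he1 (orderOf_eq_one_iff.1 e1)).ge)
    rw [this]; exact mem_zpowers w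
  have hEU : E ≤ normalizer (U : Set G) := zpowers_le.2 hwU
  have hEH : E ≤ normalizer (H : Set G) := zpowers_le.2 hwH
  have h := CfsgLib.Char.frobenius_fixed_formula U E H hUE
    (fun e he u hu => (mem_normalizer_iff.1 (hEU he) u).1 hu)
    (fun e he he1 u hu hc => by
      obtain ⟨i, hi⟩ := mem_zpowers_iff.1 (hgen e he he1)
      have : u ∈ U ⊓ centralizer ({w} : Set G) := mem_inf.2 ⟨hu, mem_centralizer_singleton_iff.2
        (by rw [← hi]; exact ((show Commute e u from hc).zpow_left i).symm.eq)⟩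
      rwa [hfpf, mem_bot] at this)
    (fun z hz h hh => (mem_normalizer_iff.1 (sup_le hUH hEH hz) h).1 hh) hsol
    (by
      have h1 : Nat.card ↥(U ⊔ E) ∣ Nat.card U * Nat.card E := by
        rw [sup_comm, mul_comm]; exact CfsgLib.Coprime.card_sup_dvd_of_le_normalizer hEU
      refine ((Nat.Coprime.mul_left hUc ?_).coprime_dvd_left h1).symm
      rwa [hEc])
  rw [hCU, card_bot, mul_one, show H ⊓ centralizer ((U ⊔ E : Subgroup G) : Set G) = ⊥ from
    le_bot_iff.1 ((inf_le_inf_left _ (Subgroup.centralizer_le (le_sup_left (b := E)))).trans hCU.le),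
    card_bot, one_pow, one_mul, hEc, hE, centralizer_zpowers] at h
  exact h

variable {N : Subgroup G}

/-- A non-trivial invariant character moves with the fixed points of each coprime element. -/
theorem exists_fixed_ne (θ : (sigmaCore N).subgroupOf N →* ℂˣ) (hθ : θ ≠ 1) {x : G} (hxN : x ∈ N)
    (hnorm : N ≤ normalizer (sigmaCore N : Set G))
    (hcop : (orderOf x).Coprime (Nat.card (sigmaCore N)))
    (hinv : ∀ n m : (sigmaCore N).subgroupOf N, ((m : N) : G) = x * ((n : N) : G) * x⁻¹ → θ m = θ n) :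
    ∃ n : (sigmaCore N).subgroupOf N, Commute ((n : N) : G) x ∧ θ n ≠ 1 := by
  obtain ⟨n, hn⟩ : ∃ n, θ n ≠ 1 := by
    by_contra hall
    push Not at hall
    exact hθ (MonoidHom.ext hall)
  set X : Subgroup G := θ.ker.map (N.subtype.comp ((sigmaCore N).subgroupOf N).subtype) with hX
  have hXσ : X ≤ sigmaCore N := by
    rintro _ ⟨m, -, rfl⟩
    exact m.2
  have hmemX : ∀ m : (sigmaCore N).subgroupOf N, θ m = 1 → ((m : N) : G) ∈ X := fun m hm =>
    ⟨m, hm, rfl⟩
  have hconj : ∀ z ∈ N, (∀ a b : (sigmaCore N).subgroupOf N,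
      ((b : N) : G) = z * ((a : N) : G) * z⁻¹ → θ b = θ a) → z ∈ normalizer (X : Set G) := by
    intro z hz hzi
    refine mem_normalizer_fintype fun t ht => ?_
    obtain ⟨a, ha, rfl⟩ := ht
    have hm : z * ((a : N) : G) * z⁻¹ ∈ sigmaCore N :=
      (mem_normalizer_iff.1 (hnorm hz) _).1 a.2
    refine hmemX ⟨⟨_, map_subtype_le _ hm⟩, hm⟩ ?_
    rw [hzi a _ rfl]
    exact ha
  have hxX : x ∈ normalizer (X : Set G) := hconj x hxN hinv
  have hnX : ((n : N) : G) ∈ normalizer (X : Set G) := hconj _ (n : N).2 fun a b hb => by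
    have : b = n * a * n⁻¹ := Subtype.ext (Subtype.ext (by push_cast; exact hb))
    rw [this, map_mul, map_mul, map_inv, mul_comm (θ n), mul_inv_cancel_right]
  have hcomm : ∀ z ∈ zpowers x, z * ((n : N) : G) * z⁻¹ * ((n : N) : G)⁻¹ ∈ X := by
    intro z hz
    obtain ⟨i, rfl⟩ := (isOfFinOrder_of_finite x).mem_powers_iff_mem_zpowers.2 hz
    show x ^ i * ((n : N) : G) * (x ^ i)⁻¹ * ((n : N) : G)⁻¹ ∈ X
    induction i with
    | zero => simp
    | succ i ih =>
      have h1 : x * ((n : N) : G) * x⁻¹ * ((n : N) : G)⁻¹ ∈ X := by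
        have hm : x * ((n : N) : G) * x⁻¹ ∈ sigmaCore N := (mem_normalizer_iff.1 (hnorm hxN) _).1 n.2
        have := hmemX (⟨⟨_, map_subtype_le _ hm⟩, hm⟩ * n⁻¹) (by
          rw [map_mul, map_inv, hinv n _ rfl, mul_inv_cancel])
        exact this
      have h2 := mul_mem ((mem_normalizer_iff.1 hxX _).1 (ih (pow_mem (mem_zpowers x) i))) h1
      rwa [show x * (x ^ i * ((n : N) : G) * (x ^ i)⁻¹ * ((n : N) : G)⁻¹) * x⁻¹ *
          (x * ((n : N) : G) * x⁻¹ * ((n : N) : G)⁻¹) =
        x ^ (i + 1) * ((n : N) : G) * (x ^ (i + 1))⁻¹ * ((n : N) : G)⁻¹ by rw [pow_succ']; group] at h2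
  obtain ⟨m, hm, hc⟩ := CfsgLib.Coprime.exists_fixed_in_coset (zpowers_le.2 hxX)
    (by rw [Nat.card_zpowers]; exact hcop.coprime_dvd_right (card_dvd_of_le hXσ))
    (Or.inl inferInstance) hnX hcomm
  obtain ⟨a, ha, rfl⟩ := hm
  refine ⟨n * a, (mem_centralizer_iff.1 hc x (mem_zpowers x)).symm, ?_⟩
  rwa [map_mul, show θ a = 1 from ha, mul_one]

/-- An invariant linear character of prime order. -/
theorem exists_invariant_hom {W : Subgroup G} (hWN : W ≤ N)
    (hnorm : N ≤ normalizer (sigmaCore N : Set G))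
    (hcop : (Nat.card W).Coprime (Nat.card (sigmaCore N))) {n₀ : G} (hn : n₀ ∈ sigmaCore N)
    (hd : n₀ ∉ ⁅sigmaCore N, sigmaCore N⁆) (hc : n₀ ∈ centralizer (W : Set G)) :
    ∃ θ : (sigmaCore N).subgroupOf N →* ℂˣ, (orderOf θ).Prime ∧
      ∀ w ∈ W, ∀ a b : (sigmaCore N).subgroupOf N,
        ((b : N) : G) = w * ((a : N) : G) * w⁻¹ → θ b = θ a := by
  classical
  haveI := Fintype.ofFinite W
  set Kn := (sigmaCore N).subgroupOf N with hKn
  haveI : Kn.Normal := normal_subgroupOf_of_le_normalizer hnorm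
  set nK : Kn := ⟨⟨n₀, map_subtype_le _ hn⟩, hn⟩ with hnK
  have hnd : nK ∉ commutator Kn := by
    intro hc'
    refine hd ?_
    have h1 : (commutator Kn).map (N.subtype.comp Kn.subtype) ≤ ⁅sigmaCore N, sigmaCore N⁆ := by
      rw [_root_.commutator_def, map_commutator]
      exact commutator_mono (by rintro _ ⟨a, -, rfl⟩; exact a.2) (by rintro _ ⟨a, -, rfl⟩; exact a.2)
    exact h1 ⟨nK, hc', rfl⟩
  haveI := Fintype.ofFinite Kn
  obtain ⟨θ₀, -, hθ₀⟩ := exists_linear_ne (commutator Kn)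
    (fun a b => commutator_mem_commutator (mem_top a) (mem_top b)) hnd
  let c : W → (Kn →* Kn) := fun w => (MulAut.conjNormal (⟨w, hWN w.2⟩ : N)).toMonoidHom
  have hcv : ∀ (w : W) (a : Kn), (((c w a : Kn) : N) : G) = w * ((a : N) : G) * (w : G)⁻¹ := fun w a => by
    show (((MulAut.conjNormal (⟨w, hWN w.2⟩ : N) a : Kn) : N) : G) = _
    rw [MulAut.conjNormal_apply]
    rfl
  set θ₁ : Kn →* ℂˣ := ∏ w : W, θ₀.comp (c w) with hθ₁
  have hinv : ∀ v ∈ W, ∀ a b : Kn, ((b : N) : G) = v * ((a : N) : G) * v⁻¹ → θ₁ b = θ₁ a := by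
    intro v hv a b hb
    simp only [hθ₁, MonoidHom.finsetProd_apply, MonoidHom.comp_apply]
    refine Fintype.prod_equiv (Equiv.mulRight (⟨v, hv⟩ : W)) _ _ fun w => congrArg θ₀ ?_
    refine Subtype.ext (Subtype.ext ?_)
    rw [Equiv.coe_mulRight, hcv, hcv, hb]
    push_cast
    group
  have hne : θ₁ ≠ 1 := by
    intro e
    have e1 : θ₁ nK = 1 := by rw [e]; rfl
    have hfix : ∀ w : W, c w nK = nK := fun w => Subtype.ext (Subtype.ext (by
      rw [hcv, mem_centralizer_iff.1 hc w w.2, mul_inv_cancel_right]))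
    simp only [hθ₁, MonoidHom.finsetProd_apply, MonoidHom.comp_apply, hfix, Finset.prod_const,
      Finset.card_univ, ← Nat.card_eq_fintype_card] at e1
    refine hθ₀ (orderOf_eq_one_iff.1 (Nat.eq_one_of_dvd_coprimes hcop (orderOf_dvd_of_pow_eq_one e1)
      ((orderOf_map_dvd θ₀ nK).trans ?_)))
    exact (orderOf_dvd_natCard nK).trans
      (dvd_of_eq (Nat.card_congr (subgroupOfEquivOfLe (map_subtype_le _ : sigmaCore N ≤ N)).toEquiv))
  have hfin : IsOfFinOrder θ₁ := isOfFinOrder_iff_pow_eq_one.2 ⟨Nat.card Kn, Nat.card_pos, MonoidHom.ext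
    fun a => by rw [MonoidHom.pow_apply, MonoidHom.one_apply, ← map_pow, pow_card_eq_one', map_one]⟩
  have ho : orderOf θ₁ ≠ 1 := fun e => hne (orderOf_eq_one_iff.1 e)
  obtain ⟨q, hq, hqd⟩ := Nat.exists_prime_and_dvd ho
  refine ⟨θ₁ ^ (orderOf θ₁ / q), ?_, fun w hw a b hb => ?_⟩
  · rw [orderOf_pow_orderOf_div hfin.orderOf_pos.ne' hqd]
    exact hq
  · rw [MonoidHom.pow_apply, MonoidHom.pow_apply, hinv w hw a b hb]

end CfsgLib.FT
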