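import Cfsg.Agent.Lib.FT.MeetCong
import Cfsg.Agent.Lib.FT.FamilyAvg
import Cfsg.Agent.Lib.Char.ExtendChar

/-!
# The value of `ψ̂` modulo `p` (`docs/FT-meet-weights.md`, (V))

Normalized at `1`, the average of `ψ` over the supports restricts to a generalized character of `M_σ`
with the coefficients of `ε φ₀ + c` at the linear characters.  If the other irreducible degrees are
divisible by `p` its value at a `p`-element is `ε φ₀ + c` modulo `p`.
-/

set_option autoImplicit false
set_option linter.unusedSectionVars false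
set_option linter.style.haveILetI false

open Subgroup

namespace CfsgLib.FT

open CfsgLib.Char CfsgLib.CFun
open Cfsg (IsClassFunction IsGeneralizedCharacter IrrCharacter classInner indFun sigmaCore
  IsMinSimpleOddOrder)
open scoped ComplexConjugate

universe u

variable {G : Type u} [Group G]

/-- Every irreducible character of `M_σ` of degree prime to `p` is linear. -/
def DegDiv (M : Subgroup G) (p : ℕ) : Prop :=
  ∀ θ : IrrCharacter (sigmaIn M), (θ : sigmaIn M → ℂ) 1 ≠ 1 →
    ∃ d : ℕ, (θ : sigmaIn M → ℂ) 1 = ((p * d : ℕ) : ℂ)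

variable [Fintype G] (hG : IsMinSimpleOddOrder G)
include hG

variable {M : Subgroup G} (hM : FpfAb M) (F : Family M) {p : ℕ}
include hM

/-- The average of `ψ` at a `p`-element of `M_σ`. -/
theorem avgR_cong (hp : p.Prime) (hdeg : DegDiv M p) {x : G} (hxσ : x ∈ sigmaCore M) (hx1 : x ≠ 1)
    {k : ℕ} (hxk : x ^ p ^ k = 1) :
    Cong p (avgR M F.psi x) (((F.ε * eIndex M + F.c : ℤ) : ℂ)) := by
  classical
  haveI := Fintype.ofFinite M
  haveI := Fintype.ofFinite (sigmaIn M)
  haveI := Fintype.ofFinite (IrrCharacter (sigmaIn M))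
  have hc := hM.coatom
  set d1 : M → ℂ := fun g => if g = 1 then 1 else 0 with hd1
  set A := avgS M F.psi with hA
  set u : ℂ := ((F.ε : ℂ) - classInner F.base.1 A) * (Nat.card M : ℂ) / eIndex M with hu
  set H : M → ℂ := A + conj u • d1 with hH
  have hAc : IsClassFunction M A := avgS_class hG hc F.psi_class
  have hdc : IsClassFunction M d1 := fun g y => by
    simp only [d1]
    by_cases hg : g = 1
    · rw [if_pos hg, if_pos (by rw [hg, mul_one, mul_inv_cancel])]
    · rw [if_neg hg, if_neg fun e => hg (conj_eq_one_iff.1 e)]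
  have hHc : IsClassFunction M H := fun g y => by
    simp only [H, Pi.add_apply, Pi.smul_apply, hAc g y, hdc g y]
  have hd1i : ∀ α : M → ℂ, classInner α d1 = (Nat.card M : ℂ)⁻¹ * α 1 := by
    intro α
    rw [Cfsg.classInner]
    congr 1
    rw [Finset.sum_eq_single 1 (fun g _ hg => by simp [d1, hg]) fun h => absurd (Finset.mem_univ _) h]
    simp [d1]
  have hHi : ∀ α : M → ℂ, classInner α H = classInner α A + u * ((Nat.card M : ℂ)⁻¹ * α 1) := by
    intro α
    rw [hH, classInner_add_right, classInner_smul_right, hd1i, Complex.conj_conj]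
  have hbase : classInner F.base.1 H = (F.ε : ℂ) := by
    rw [hHi, member_one, hu]
    have h1 : (Nat.card M : ℂ) ≠ 0 := by exact_mod_cast Nat.card_pos.ne'
    have h2 : (eIndex M : ℂ) ≠ 0 := by exact_mod_cast eIndex_pos.ne'
    field_simp
    ring
  have hint : ∀ α : M → ℂ, IsClassFunction M α → IsGeneralizedCharacter M α → SharpSupp M α →
      classInner α H = classInner (tau M α) F.psi := fun α hα _ hs => by
    rw [hHi, hs 1 (fun e => e.2 rfl), mul_zero, mul_zero, add_zero, hA,
      tau_avgS hG hc hα hs F.psi_class]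
  -- the restriction
  set g : sigmaIn M → ℂ := fun n => H n - (F.ε : ℂ) * F.base.1 n - (F.c : ℂ) with hg
  have hgc : IsClassFunction (sigmaIn M) g := fun a b => by
    simp only [g]
    push_cast
    rw [hHc (a : M) (b : M), member_class hG F.base (a : M) (b : M)]
  have hval : ∀ θ : IrrCharacter (sigmaIn M), ∃ z : ℤ, classInner g (θ : sigmaIn M → ℂ) = z ∧
      ((θ : sigmaIn M → ℂ) 1 = 1 → z = 0) := by
    intro θ
    have hcl : IsClassFunction M (indSigma M (θ : sigmaIn M → ℂ)) := indSigma_class hG _
    have hgen : IsGeneralizedCharacter M (indSigma M (θ : sigmaIn M → ℂ)) :=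
      indSigma_gen hG (isGeneralizedCharacter_of_isCharacter (isCharacter_irr θ))
    obtain ⟨n, hn⟩ : ∃ n : ℕ, (θ : sigmaIn M → ℂ) 1 = n := by
      obtain ⟨m, ρ, -, hρ⟩ := θ.2
      exact ⟨_, by rw [← hρ]; exact Representation.char_one ρ⟩
    have h1 : indSigma M (θ : sigmaIn M → ℂ) 1 = (n : ℂ) * eIndex M := by
      rw [indSigma_eq, indFun_one, hn, eIndex_eq, mul_comm]
    set α := indSigma M (θ : sigmaIn M → ℂ) - (n : ℂ) • F.base.1 with hα
    have hαc : IsClassFunction M α := fun a b => by
      simp only [α, Pi.sub_apply, Pi.smul_apply, hcl a b, member_class hG F.base a b]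
    have hαg : IsGeneralizedCharacter M α := by
      refine isGeneralizedCharacter_sub hgen ?_
      have := isGeneralizedCharacter_zsmul (member_gen hG F.base) (n : ℤ)
      rwa [Int.cast_natCast] at this
    have hαs : SharpSupp M α := by
      intro y hy
      by_cases hys : (y : G) ∈ sigmaCore M
      · have hy1 : y = 1 := Subtype.ext (by_contra fun e => hy ⟨hys, e⟩)
        simp [α, hy1, h1, member_one]
      · simp [α, indSigma_not_mem hG _ hys, member_vanish hG F.base hys]
    obtain ⟨t, ht⟩ := classInner_generalized_int (tau_gen hG hc hαg hαs) F.psi_gen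
    obtain ⟨r, hr⟩ := classInner_generalized_int hgen (member_gen hG F.base)
    obtain ⟨r₀, hr₀⟩ : ∃ r₀ : ℤ, classInner (θ : sigmaIn M → ℂ) (fun _ => 1) = r₀ :=
      classInner_generalized_int (isGeneralizedCharacter_of_isCharacter (isCharacter_irr θ))
        (isGeneralizedCharacter_of_isCharacter (isCharacter_of_isIrr isIrrCharacter_one))
    have h2 : classInner (indSigma M (θ : sigmaIn M → ℂ)) H = (n : ℂ) * F.ε + t := by
      rw [show indSigma M (θ : sigmaIn M → ℂ) = α + (n : ℂ) • F.base.1 by rw [hα, sub_add_cancel],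
        classInner_add_left, classInner_smul_left, hbase, hint α hαc hαg hαs, ht]
      ring
    have h3 : classInner (θ : sigmaIn M → ℂ) g = ((n * F.ε + t - F.ε * r - F.c * r₀ : ℤ) : ℂ) := by
      have e1 : classInner (θ : sigmaIn M → ℂ) (fun m : sigmaIn M => H m) = (n : ℂ) * F.ε + t := by
        rw [← inner_indSigma_right hG _ hHc, h2]
      have e2 : classInner (θ : sigmaIn M → ℂ) (fun m : sigmaIn M => F.base.1 m) = r := by
        rw [← inner_indSigma_right hG _ (member_class hG F.base), hr]
      rw [show g = (fun m : sigmaIn M => H m) - (F.ε : ℂ) • (fun m : sigmaIn M => F.base.1 m) -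
          (F.c : ℂ) • (fun _ => 1) by funext m; simp [g],
        classInner_sub_right, classInner_sub_right, classInner_smul_right, classInner_smul_right, e1, e2, hr₀,
        map_intCast, map_intCast]
      push_cast
      ring
    refine ⟨n * F.ε + t - F.ε * r - F.c * r₀, by rw [← classInner_conj, h3, map_intCast], fun hlin => ?_⟩
    obtain rfl : n = 1 := by rw [hn] at hlin; exact_mod_cast hlin
    obtain ⟨lam, hlam⟩ := exists_hom_of_linear (isCharacter_irr θ) hlin
    have hθ : (θ : sigmaIn M → ℂ) = fun m => (lam m : ℂ) := hlam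
    by_cases hl : lam = 1
    · have hθ1 : (θ : sigmaIn M → ℂ) = fun _ => 1 := by rw [hθ, hl]; rfl
      have hα' : α = theta M F.base := by rw [hα, hθ1, Nat.cast_one, one_smul]; rfl
      rw [hα'] at ht
      have ht' : (t : ℂ) = (F.c : ℂ) - F.ε := by
        rw [← F.psi_tht hG hM, ← classInner_conj, Family.tht, ht, map_intCast]
      have hr' : (r : ℂ) = 0 := by
        rw [← hr, hθ1]
        exact indOne_inner_member hG F.base
      have hr₀' : (r₀ : ℂ) = 1 := by rw [← hr₀, hθ1]; exact classInner_irr_self ⟨_, isIrrCharacter_one⟩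
      apply Int.cast_injective (α := ℂ)
      push_cast
      rw [ht', hr', hr₀']
      ring
    · let i : Member M := ⟨indSigma M (θ : sigmaIn M → ℂ), lam, hl, by rw [hθ]⟩
      have hr₀' : (r₀ : ℂ) = 0 := by
        rw [← hr₀]
        refine classInner_irr_ne (χ := θ) (ψ := ⟨_, isIrrCharacter_one⟩) fun e => hl ?_
        refine hom_ext_val fun m => ?_
        have := congrFun (congrArg Subtype.val e) m
        rw [hθ] at this
        simpa using this
      have hα' : α = i.1 - F.base.1 := by rw [hα, Nat.cast_one, one_smul]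
      rw [hα', F.image, classInner_smul_left, classInner_sub_left, Family.psi, classInner_irr_self] at ht
      apply Int.cast_injective (α := ℂ)
      push_cast
      rw [hr₀', ← ht, ← hr]
      by_cases hi : i = F.base
      · rw [show indSigma M (θ : sigmaIn M → ℂ) = F.base.1 from congrArg Subtype.val hi, hi,
          classInner_irr_self, member_self hG hM]
        ring
      · rw [show classInner (indSigma M (θ : sigmaIn M → ℂ)) F.base.1 = 0 from member_orth hG hM hi,
          classInner_irr_ne fun e => hi (F.inj e)]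
        ring
  choose z hz hz0 using hval
  -- the value at `x`
  have hxM : x ∈ M := map_subtype_le _ hxσ
  set xs : sigmaIn M := ⟨⟨x, hxM⟩, hxσ⟩ with hxs
  obtain ⟨hgi, hzero⟩ : IsIntegral ℤ (g xs) ∧ Cong p (g xs) 0 := by
    have hex := congrFun (classFun_expand hgc) xs
    rw [Finset.sum_apply] at hex
    have hint1 : ∀ θ : IrrCharacter (sigmaIn M), IsIntegral ℤ ((θ : sigmaIn M → ℂ) xs) := fun θ =>
      generalized_isIntegral (isGeneralizedCharacter_of_isCharacter (isCharacter_irr θ)) _
    have hs : Cong p (∑ θ : IrrCharacter (sigmaIn M), (z θ : ℂ) * (θ : sigmaIn M → ℂ) xs)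
        (∑ _θ : IrrCharacter (sigmaIn M), (0 : ℂ)) := by
      refine Cong.sum _ (fun θ => (isIntegral_intCast _).mul (hint1 θ)) (fun _ => isIntegral_zero) fun θ _ => ?_
      by_cases hlin : (θ : sigmaIn M → ℂ) 1 = 1
      · rw [hz0 θ hlin, Int.cast_zero, zero_mul]
        exact cong_refl p 0
      · obtain ⟨d, hd⟩ := hdeg θ hlin
        have h1 := cong_mul_of_pow_prime hp (isGeneralizedCharacter_of_isCharacter (isCharacter_irr θ))
          (x := xs) (y := 1) (k := k) (Subtype.ext (Subtype.ext (by simpa [xs] using hxk)))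
          (Commute.one_right _)
        rw [mul_one, hd] at h1
        have h2 : Cong p ((p * d : ℕ) : ℂ) 0 :=
          cong_of_eq (isIntegral_natCast d) (by push_cast; ring)
        have h3 := (Cong.trans (hint1 θ) (isIntegral_natCast _) isIntegral_zero h1 h2).mul_left (isIntegral_intCast (z θ))
        rwa [mul_zero] at h3
    rw [Finset.sum_const_zero] at hs
    rw [hex, Finset.sum_congr rfl (g := fun θ : IrrCharacter (sigmaIn M) => (z θ : ℂ) * (θ : sigmaIn M → ℂ) xs)
      fun θ _ => by rw [Pi.smul_apply, smul_eq_mul, hz θ]]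
    exact ⟨IsIntegral.sum _ fun θ _ => (isIntegral_intCast _).mul (hint1 θ), hs⟩
  have hxs1 : ((xs : M) : G) ∈ sharp M := ⟨hxσ, hx1⟩
  have hHx : H (xs : M) = avgR M F.psi x := by
    simp only [H, Pi.add_apply, Pi.smul_apply, hA, avgS_mem F.psi hxs1]
    rw [show d1 (xs : M) = 0 from if_neg fun e => hx1 (congrArg Subtype.val e), smul_zero, add_zero]
  simp only [g, hHx] at hzero hgi
  have hmem := cong_mul_of_pow_prime hp (member_gen hG F.base) (x := (⟨x, hxM⟩ : M)) (y := 1) (k := k)
    (Subtype.ext (by simpa using hxk)) (Commute.one_right _)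
  rw [mul_one, member_one] at hmem
  have hI2 : IsIntegral ℤ (F.base.1 (xs : M)) := generalized_isIntegral (member_gen hG F.base) _
  have h4 : Cong p (avgR M F.psi x) ((F.ε : ℂ) * F.base.1 (xs : M) + F.c) := by
    have := Cong.add hgi
      isIntegral_zero (((isIntegral_intCast F.ε).mul hI2).add (isIntegral_intCast F.c))
      (((isIntegral_intCast F.ε).mul hI2).add (isIntegral_intCast F.c)) hzero (cong_refl p _)
    rwa [zero_add, sub_sub, sub_add_cancel] at this
  have h5 : Cong p ((F.ε : ℂ) * F.base.1 (xs : M) + F.c) (((F.ε * eIndex M + F.c : ℤ) : ℂ)) := by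
    push_cast
    exact Cong.add ((isIntegral_intCast _).mul hI2) ((isIntegral_intCast _).mul (isIntegral_natCast _))
      (isIntegral_intCast _) (isIntegral_intCast _) (hmem.mul_left (isIntegral_intCast _)) (cong_refl p _)
  have hI1 : IsIntegral ℤ (avgR M F.psi x) := by
    have := hgi.add (((isIntegral_intCast F.ε).mul hI2).add (isIntegral_intCast F.c))
    rwa [sub_sub, sub_add_cancel] at this
  exact Cong.trans hI1 (((isIntegral_intCast _).mul hI2).add (isIntegral_intCast _))
    (isIntegral_intCast _) h4 h5

end CfsgLib.FT
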