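import Cfsg.Agent.Lib.FT.MeetGroupNum
import Cfsg.Agent.Lib.FT.MeetVal
import Cfsg.Agent.Lib.CFun.OddMeetExponent
import Cfsg.Agent.Lib.Char.PPrimeDegreeSquares

/-!
# Bad pairs with nilpotent `M_σ`, and fixed point freeness (`docs/FT-meet-weights.md`)
-/

set_option autoImplicit false
set_option linter.unusedSectionVars false
set_option linter.style.haveILetI false

open Subgroup

namespace CfsgLib.FT

open CfsgLib.CFun CfsgLib.CFun.TauTwo CfsgLib.CFun.Lines
open Cfsg (sigmaCore IsMinSimpleOddOrder IrrCharacter)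

universe u

variable {G : Type u} [Group G] [Finite G]

/-- The Sylow `p`-subgroups of `G` are non-abelian. -/
def NonabSylow (p : ℕ) (G : Type u) [Group G] : Prop :=
  ∀ S : Sylow p G, ¬ IsMulCommutative (S : Subgroup G)

/-- `p` is the least prime of a bad pair. -/
def MinBad (p : ℕ) (G : Type u) [Group G] : Prop :=
  ∀ (L : Subgroup G) (y : G) (r : ℕ), BadPair L y r → p ≤ r

variable (hG : IsMinSimpleOddOrder G)
include hG

/-- `e` is the order of a complement. -/
theorem eIndex_eq_card {M E : Subgroup G} (hE : Cfsg.IsComplIn E (sigmaCore M) M) :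
    eIndex M = Nat.card E := by
  have h1 := CfsgLib.Coprime.card_mul_relIndex (map_subtype_le _ : sigmaCore M ≤ M)
  rw [Kappa.card_of_compl hE, mul_comm (Nat.card E)] at h1
  exact Nat.eq_of_mul_eq_mul_left Nat.card_pos h1

/-- An abelian `M_σ` has only linear characters. -/
theorem degDiv_of_comm {M : Subgroup G} {p : ℕ}
    (hc : ∀ a ∈ sigmaCore M, ∀ b ∈ sigmaCore M, a * b = b * a) : DegDiv M p := fun θ hθ =>
  absurd (CfsgLib.Char.degree_one_of_comm
    (fun a b => Subtype.ext (Subtype.ext (hc _ a.2 _ b.2))) θ) hθ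

/-- Central index a power of `p`. -/
theorem degDiv_of_center {M : Subgroup G} {p : ℕ} (hp : p.Prime) {s : ℕ}
    (hs : (center (sigmaIn M)).index = p ^ s) : DegDiv M p := by
  intro θ hθ
  have hd := CfsgLib.Char.PPrimeSquares.deg_dvd_index (center (sigmaIn M)) ⊥ θ
    (fun a ha b _ => by
      rw [mem_bot, mul_inv_eq_one, mul_inv_eq_iff_eq_mul]
      exact (mem_center_iff.1 ha b).symm)
    fun d hd => by rw [mem_bot.1 hd]
  rw [CfsgLib.Char.PPrimeSquares.deg_spec θ] at hθ ⊢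
  rw [hs] at hd
  obtain ⟨j, -, hj⟩ := (Nat.dvd_prime_pow hp).1 hd
  rw [hj] at hθ ⊢
  rcases j with _ | j
  · exact absurd (by rw [pow_zero, Nat.cast_one]) hθ
  · exact ⟨p ^ j, by rw [pow_succ']⟩

section Kappa

variable {M K U : Subgroup G} (hM : IsCoatom M) (d : Cfsg.IsSigmaDecomposition M K U)
include hM d

theorem compl_kappa (hU : U = ⊥) : Cfsg.IsComplIn K (sigmaCore M) M := by
  have h := Decomp.compl hG hM d
  rwa [hU, sup_bot_eq] at h

/-- `M_σ ∩ C(K) ≤ M_σ'` for `U = 1`. -/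
theorem fixed_kappa_le_der (hK : K ≠ ⊥) (hU : U = ⊥) {u : G} (hu : u ∈ K) (hu1 : u ≠ 1) :
    sigmaCore M ⊓ centralizer ({u} : Set G) ≤ sigmaDer M := by
  rw [Kappa.fixed_eq hG hM d.hall hu hu1]
  exact fixed_le_derived hG hM (compl_kappa hG hM d hU)

theorem fpfAb_kappa (hK : K ≠ ⊥) (hU : U = ⊥) : FpfAb M :=
  fpfAb_of_fixed hG hM (compl_kappa hG hM d hU) fun _ hu hu1 =>
    fixed_kappa_le_der hG hM d hK hU hu hu1

end Kappa

namespace Nbr

variable {M N : Subgroup G} {x : G} {p : ℕ} (h : Nbr M N x p)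
include h

/-- `U` is regular when `K = 1` and `p` is the least bad prime. -/
theorem regular_of_min (hmin : MinBad p G) {K U : Subgroup G} (d : Cfsg.IsSigmaDecomposition M K U)
    (hK : K = ⊥) {u : G} (hu : u ∈ U) (hu1 : u ≠ 1) :
    sigmaCore M ⊓ centralizer ({u} : Set G) = ⊥ := by
  by_contra hne
  have hM := h.bad.coatom
  haveI : Fact p.Prime := ⟨h.bad.prime⟩
  obtain ⟨s, hs, hs1⟩ := (bot_or_exists_ne_one _).resolve_left hne
  obtain ⟨hsσ, hsu⟩ := mem_inf.1 hs
  obtain ⟨r, hr, hrd⟩ := Nat.exists_prime_and_dvd fun e => hu1 (orderOf_eq_one_iff.1 e)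
  haveI : Fact r.Prime := ⟨hr⟩
  have hτ : r ∈ Cfsg.tau2 M := UFixed.tau2_of_fixed hG hM d hu hsσ hs1
    (show Commute s u from mem_centralizer_singleton_iff.1 hsu) r hr hrd
  set v := u ^ (orderOf u / r) with hv
  have hvo : orderOf v = r := orderOf_pow_orderOf_div (orderOf_pos u).ne' hrd
  have hv1 : v ≠ 1 := fun e => hr.ne_one (by rw [← hvo, e, orderOf_one])
  have hvU : v ∈ U := pow_mem hu _
  have hfix : sigmaCore M ⊓ centralizer ((zpowers v : Subgroup G) : Set G) ≠ ⊥ := by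
    intro e
    refine hs1 (mem_bot.1 ?_)
    rw [← e, centralizer_zpowers]
    exact mem_inf.2 ⟨hsσ, mem_centralizer_singleton_iff.2
      ((show Commute s u from mem_centralizer_singleton_iff.1 hsu).pow_right _).eq⟩
  obtain ⟨hC, huniq⟩ := UFixed.centralizer_unique hG hM d (zpowers_le.2 hvU)
    (fun e => hv1 (zpowers_eq_bot.1 e)) hfix
  rw [centralizer_zpowers] at hC huniq
  obtain ⟨L, hL, hrL⟩ := Cover.exists_sigma hG (t := r) (hvo ▸ orderOf_dvd_natCard v)
  obtain ⟨g, hg⟩ := sigma_conj_into hG hL (Y := zpowers v) (fun e => hv1 (zpowers_eq_bot.1 e))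
    fun q hq hqd => by
      rw [Nat.card_zpowers, hvo] at hqd
      rwa [(Nat.prime_dvd_prime_iff_eq hq hr).1 hqd]
  have hvL : v ∈ sigmaCore (CfsgLib.Coprime.conjBy g⁻¹ L) := by
    have h1 := Tilde.conj_mem_sigmaCore hG hL g⁻¹ (hg (CfsgLib.Coprime.conj_mem_conjBy (mem_zpowers v)))
    rwa [show g⁻¹ * (g * v * g⁻¹) * g⁻¹⁻¹ = v by group] at h1
  have hL' := isCoatom_conjBy g⁻¹ hL
  have hbad : BadPair (CfsgLib.Coprime.conjBy g⁻¹ L) v r :=
    ⟨hL', hr, hvL, hvo, fun hle => hτ.2.1 ((sigmaCore_hall hG hM).1.2.1 r hr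
      (hvo ▸ Subgroup.orderOf_dvd_natCard _ (huniq _ hL' hle ▸ hvL)))⟩
  exact absurd (hmin _ _ _ hbad)
    (not_le.2 (Neighbour.lt hG hM h.coatom (h.bad.mem_sigma hG) h.tau hτ))

theorem fpfAb_of_min (hmin : MinBad p G) {K U : Subgroup G} (d : Cfsg.IsSigmaDecomposition M K U)
    (hK : K = ⊥) : FpfAb M :=
  fpfAb_of_fixed hG h.bad.coatom (UFixed.compl_of_bot hG h.bad.coatom d hK) fun u hu hu1 =>
    (h.regular_of_min hG hmin d hK hu hu1).le.trans bot_le

variable (hnil : Group.IsNilpotent (sigmaCore M))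
include hnil

/-- `x` lies in `F(M)` and in a conjugate of it. -/
theorem exists_meet : ∃ g : G, FitTI.Meet M g x := by
  obtain ⟨c, hc, hcM⟩ := SetLike.not_le_iff_exists.1 h.bad.notLe
  have hx : x ∈ Cfsg.fittingOf M :=
    Chain.le_fittingOf (map_subtype_le _) (sigmaCore_normal hG M) hnil h.bad.mem
  refine ⟨c, hcM, h.bad.ne_one, hx, ?_⟩
  rwa [mem_centralizer_singleton_iff.1 hc, mul_inv_cancel_right]

omit hnil in
theorem pow_prime : x ^ p = 1 := by rw [← h.bad.ord, pow_orderOf_eq_one]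

variable (hS : NonabSylow p G)
include hS

/-- The elements of order prime to `p` of `M_σ` are central. -/
theorem central_of_ne {q : ℕ} (hq : q.Prime) (hqp : q ≠ p) {v : G} (hv : v ∈ sigmaCore M)
    (hvq : ∃ n : ℕ, v ^ q ^ n = 1) : sigmaCore M ≤ centralizer ({v} : Set G) := by
  haveI : Fact p.Prime := ⟨h.bad.prime⟩
  haveI : Fact q.Prime := ⟨hq⟩
  obtain ⟨g, hm⟩ := h.exists_meet hG hnil
  obtain ⟨n, hn⟩ := hvq
  haveI := hnil
  refine CfsgLib.Fusion.le_of_forall_prime_pow fun r hr w hw ⟨i, hi⟩ => ?_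
  haveI : Fact r.Prime := ⟨hr⟩
  refine mem_centralizer_singleton_iff.2 ?_
  rcases eq_or_ne r q with rfl | hrq
  · obtain ⟨P⟩ := (inferInstance : Nonempty (Sylow r (sigmaCore M)))
    haveI : (P : Subgroup (sigmaCore M)).Normal :=
      Sylow.normal_of_normalizerCondition Group.normalizerCondition_of_isNilpotent P
    have hP := CfsgLib.Coprime.isSylowIn_map P
    haveI := MeetStructure.cyclic_of_ne hG h.bad.coatom hm (h.pow_prime hG) hS hqp hP.1 hP.isPGroup
    have hmem : ∀ t ∈ sigmaCore M, (∃ j : ℕ, t ^ r ^ j = 1) →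
        t ∈ (P : Subgroup (sigmaCore M)).map (sigmaCore M).subtype := fun t ht ⟨j, hj⟩ =>
      ⟨⟨t, ht⟩, RankTwoTower.mem_sylow_of_normal P ⟨j, Subtype.ext hj⟩, rfl⟩
    exact congrArg Subtype.val (IsCyclic.commGroup.mul_comm
      (⟨w, hmem w hw ⟨i, hi⟩⟩ : (P : Subgroup (sigmaCore M)).map (sigmaCore M).subtype)
      ⟨v, hmem v hv ⟨n, hn⟩⟩)
  · exact congrArg Subtype.val (commute_of_coprime_order
      (x := (⟨w, hw⟩ : sigmaCore M)) (y := ⟨v, hv⟩) (Nat.Coprime.of_dvd
        (orderOf_dvd_of_pow_eq_one (n := r ^ i) (Subtype.ext hi))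
        (orderOf_dvd_of_pow_eq_one (n := q ^ n) (Subtype.ext hn))
        (Nat.Coprime.pow i n ((Nat.coprime_primes hr hq).2 hrq)))).eq

/-- The centre of `M_σ` has index a power of `p`. -/
theorem center_index : ∃ s : ℕ, (center (sigmaIn M)).index = p ^ s := by
  refine ⟨_, Nat.eq_prime_pow_of_unique_prime_dvd index_ne_zero_of_finite (p := p) fun {q} hq hqd => ?_⟩
  by_contra hqp
  haveI : Fact q.Prime := ⟨hq⟩
  obtain ⟨P⟩ := (inferInstance : Nonempty (Sylow q (sigmaIn M)))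
  refine P.not_dvd_index (hqd.trans (index_dvd_of_le fun t ht => ?_))
  obtain ⟨i, hi⟩ := P.2 ⟨t, ht⟩
  refine mem_center_iff.2 fun w => Subtype.ext (Subtype.ext ?_)
  exact mem_centralizer_singleton_iff.1 (h.central_of_ne hG hnil hS hq hqp t.2
    ⟨i, congrArg (fun z : (P : Subgroup (sigmaIn M)) => (((z : sigmaIn M) : M) : G)) hi⟩ w.2)

theorem degDiv : DegDiv M p := by
  obtain ⟨s, hs⟩ := h.center_index hG hnil hS
  exact degDiv_of_center hG h.bad.prime hs

/-- For a Frobenius `M` the index divides `p - 1`. -/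
theorem eIndex_dvd (hmin : MinBad p G) {K U : Subgroup G} (d : Cfsg.IsSigmaDecomposition M K U)
    (hK : K = ⊥) : eIndex M ∣ p - 1 := by
  haveI : Fact p.Prime := ⟨h.bad.prime⟩
  obtain ⟨g, hm⟩ := h.exists_meet hG hnil
  obtain ⟨S, hSσ, -, hSn, hmem⟩ := MeetStructure.exists_sylow hG h.bad.coatom hm (h.pow_prime hG)
  have hc := MeetStructure.card_centerSocle hG h.bad.coatom hm (h.pow_prime hG) hS hSσ hmem
  have hE := UFixed.compl_of_bot hG h.bad.coatom d hK
  have hfpf : CfsgLib.Coprime.IsFpfOn U (centerSocle (S : Subgroup G) p) := fun u hu hu1 =>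
    le_bot_iff.1 ((inf_le_inf_right _ (centerSocle_le.trans hSσ)).trans
      (h.regular_of_min hG hmin d hK hu hu1).le)
  have hmod := hfpf.card_mod ((hE.1.trans hSn).trans (normalizer_le_normalizer_centerSocle _ _))
  rw [hc] at hmod
  rw [eIndex_eq_card hG hE]
  exact (Nat.modEq_iff_dvd' h.bad.prime.one_le).1 (Eq.symm hmod)

end Nbr

end CfsgLib.FT
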