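import Mathlib.Algebra.Order.Ring.Abs
import Mathlib.Algebra.Order.Ring.Int
import Mathlib.Algebra.Ring.Divisibility.Basic
import Mathlib.Algebra.Ring.Int.Parity
import Mathlib.Tactic.Linarith
import Mathlib.Tactic.LinearCombination
import Mathlib.Tactic.Ring

/-!
# The arithmetic of the mixed bad pair (`docs/FT-meet-gap2.md`, steps 2 and 3)

`C = εc`, `b = εa/r`, `d = εD/r`, `p = 2 j r + 1`, `e = r s`.
-/

set_option autoImplicit false

namespace CfsgLib.FT.MixedArith

/-- `(b - d)² < 2 s` from the joint Bessel bound. -/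
theorem sq_lt {p s b d : ℤ} (hp : 3 ≤ p) (hs : 0 < s)
    (hB : (p - 1) * b ^ 2 + 2 * (p + 1) * d ^ 2 ≤ p * s) : (b - d) ^ 2 < 2 * s := by
  have h1 : 2 * (p ^ 2 - 1) * (b - d) ^ 2 ≤
      (3 * p + 1) * ((p - 1) * b ^ 2 + 2 * (p + 1) * d ^ 2) := by
    linarith [sq_nonneg ((p - 1) * b + 2 * (p + 1) * d)]
  have h2 : (3 * p + 1) * ((p - 1) * b ^ 2 + 2 * (p + 1) * d ^ 2) ≤ (3 * p + 1) * (p * s) :=
    mul_le_mul_of_nonneg_left hB (by linarith)
  have h3 : (3 * p + 1) * p < 2 * (p ^ 2 - 1) * 2 := by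
    linarith [mul_le_mul_of_nonneg_right hp (by linarith : (0 : ℤ) ≤ p)]
  have h4 := mul_lt_mul_of_pos_right h3 hs
  by_contra hc
  rw [not_lt] at hc
  have h5 := mul_le_mul_of_nonneg_left hc (by linarith [mul_le_mul hp hp (by norm_num) (by linarith)] :
    (0 : ℤ) ≤ 2 * (p ^ 2 - 1))
  linarith

/-- `(p - 1) |C| ≤ e`. -/
theorem le_of_norm {p e C : ℤ} (he : 0 ≤ e)
    (h : (p ^ 2 - 1) * C ^ 2 ≤ e ^ 2 + 2 * |C| * e) : (p - 1) * |C| ≤ e := by
  by_contra hc
  rw [not_le] at hc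
  have hC : 0 ≤ |C| := abs_nonneg C
  rw [← sq_abs C] at h
  have h1 : e + 1 ≤ (p - 1) * |C| := hc
  have h2 : e + 1 + 2 * |C| ≤ (p + 1) * |C| := by linarith
  have h3 := mul_le_mul h1 h2 (by linarith) (by linarith)
  linarith

/-- `s = u + 2 j C`, except for one configuration with `C < 0`. -/
theorem eq_or_of_dvd {p s j C u : ℤ} (hp : 7 ≤ p) (hs : 3 ≤ s) (hsp : 2 * s ≤ p + 1)
    (hj : 2 * j * |C| ≤ s) (hu : u ^ 2 < 2 * s) (hj1 : 1 ≤ j) (hdvd : p ∣ s - u - 2 * j * C) :
    s - u - 2 * j * C = 0 ∨ (C < 0 ∧ s - u - 2 * j * C = p) := by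
  have hpp : 7 * p ≤ p * p := mul_le_mul_of_nonneg_right hp (by linarith)
  have hu1 : 2 * u < p - 1 := by
    by_contra hc
    rw [not_lt] at hc
    have := mul_le_mul hc hc (by linarith) (by linarith)
    linarith
  have hu2 : 1 - p < 2 * u := by
    by_contra hc
    rw [not_lt] at hc
    have h1 : p - 1 ≤ -(2 * u) := by linarith
    have := mul_le_mul h1 h1 (by linarith) (by linarith)
    linarith
  obtain ⟨k, hk⟩ := hdvd
  have hk0 : -1 < k := by
    by_contra hc
    have h1 := mul_le_mul_of_nonneg_left (show k ≤ -1 by omega) (by linarith : (0 : ℤ) ≤ p)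
    rcases le_or_gt 0 C with hC | hC
    · rw [abs_of_nonneg hC] at hj
      linarith
    · have := mul_pos (by linarith : (0 : ℤ) < 2 * j) (neg_pos.2 hC)
      linarith
  rcases le_or_gt 0 C with hC | hC
  · rw [abs_of_nonneg hC] at hj
    have h0 : 0 ≤ 2 * j * C := mul_nonneg (by linarith) hC
    have h1 : k < 1 := by
      by_contra hc
      have h1 := mul_le_mul_of_nonneg_left (show 1 ≤ k by omega) (by linarith : (0 : ℤ) ≤ p)
      linarith
    left
    rw [hk, show k = 0 by omega, mul_zero]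
  · rw [abs_of_neg hC] at hj
    have h1 : k < 2 := by
      by_contra hc
      have h1 := mul_le_mul_of_nonneg_left (show 2 ≤ k by omega) (by linarith : (0 : ℤ) ≤ p)
      linarith
    obtain rfl | rfl : k = 0 ∨ k = 1 := by omega
    · left; rw [hk, mul_zero]
    · right; exact ⟨hC, by rw [hk, mul_one]⟩

/-- The positive case: the defect is too small. -/
theorem false_pos {r s j C u d : ℤ} (hr : 3 ≤ r) (hs : 3 ≤ s) (hj : 1 ≤ j) (hC : 1 ≤ C)
    (he : s = u + 2 * j * C) (hu : u ^ 2 < 2 * s)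
    (h : 6 * r ^ 2 * s * d ^ 2 + 2 * s * ((r * (u + d)) ^ 2 + r * (u + d)) ≤
      3 * ((r * s + C) ^ 2 + (r * s + C) - (C ^ 2 + C) * (2 * j * r + 1) ^ 2)) : False := by
  set b := u + d with hb
  set p := 2 * j * r + 1 with hp
  have hL : (r * s + C) ^ 2 + (r * s + C) - (C ^ 2 + C) * p ^ 2 =
      r ^ 2 * u ^ 2 + r * u + 2 * r * C * p * (u - j) := by
    rw [hp, he]; ring
  rw [hL] at h
  have hab : 0 ≤ (r * b) ^ 2 + r * b := by
    rcases le_or_gt 0 (r * b) with q | q
    · linarith [sq_nonneg (r * b)]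
    · linarith [mul_nonneg_of_nonpos_of_nonpos q.le (show r * b + 1 ≤ 0 by omega)]
  have hsab := mul_nonneg (by linarith : (0 : ℤ) ≤ 2 * s) hab
  have hp6 : 2 * r + 1 ≤ p := by rw [hp]; linarith [mul_le_mul_of_nonneg_right hj (by linarith : (0 : ℤ) ≤ r)]
  have hrC : 0 < 2 * r * C := mul_pos (by linarith) (by linarith)
  have hrCp : 0 ≤ 2 * r * C * p := mul_nonneg hrC.le (by linarith)
  rcases le_or_gt u 0 with hu0 | hu0
  · -- the left side is negative
    have hR : 0 ≤ 6 * r ^ 2 * s * d ^ 2 := by positivity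
    have h1 : r ^ 2 * u ^ 2 + r * u ≤ r ^ 2 * (2 * s) := by
      linarith [mul_le_mul_of_nonneg_left hu.le (sq_nonneg r),
        mul_nonpos_of_nonneg_of_nonpos (by linarith : (0 : ℤ) ≤ r) hu0]
    have h2 : 2 * r * C * p * (u - j) ≤ 2 * r * C * p * (-j) :=
      mul_le_mul_of_nonneg_left (by linarith) hrCp
    have h3 : r * p * s ≤ 2 * r * C * p * j := by
      have : r * p * (s - u) = 2 * r * C * p * j := by rw [he]; ring
      linarith [mul_nonneg (mul_nonneg (by linarith) (by linarith) : (0 : ℤ) ≤ r * p) (by linarith : (0 : ℤ) ≤ -u)]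
    linarith [mul_pos (by linarith : (0 : ℤ) < r) (by linarith : (0 : ℤ) < s),
      mul_le_mul_of_nonneg_left hp6 (mul_nonneg (by linarith) (by linarith) : (0 : ℤ) ≤ r * s)]
  rcases le_or_gt u j with huj | huj
  · have h2 : 2 * r * C * p * (u - j) ≤ 0 :=
      mul_nonpos_of_nonneg_of_nonpos hrCp (by linarith)
    have h1 : 3 * (r * u) ≤ r ^ 2 * u ^ 2 := by 
      have h0 := mul_le_mul hr hu0 (by norm_num) (by linarith)
      have := mul_le_mul_of_nonneg_right h0 (mul_nonneg (by linarith : (0 : ℤ) ≤ r) hu0.le)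
      linarith
    have hru : 0 < r ^ 2 * u ^ 2 := by positivity
    rcases le_or_gt 0 b with hb0 | hb0
    · have h4 : 3 * u ^ 2 ≤ 4 * (b ^ 2 + 3 * d ^ 2) := by 
        rw [hb]; linarith [sq_nonneg (u + 4 * d)]
      have h5 : r ^ 2 * s * (3 * u ^ 2) ≤ r ^ 2 * s * (4 * (b ^ 2 + 3 * d ^ 2)) :=
        mul_le_mul_of_nonneg_left h4 (by positivity)
      have h6 : 0 ≤ s * (r * b) := by positivity
      have h7 : 3 * (3 * (r ^ 2 * u ^ 2)) ≤ s * (3 * (r ^ 2 * u ^ 2)) :=
        mul_le_mul_of_nonneg_right hs (by linarith)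
      linarith
    · have h4 : u ^ 2 ≤ d ^ 2 := by
        have hbd : u ≤ -d := by linarith
        linarith [mul_le_mul hbd hbd hu0.le (by linarith)]
      have h5 : 3 * (r ^ 2 * u ^ 2) ≤ s * (r ^ 2 * d ^ 2) :=
        mul_le_mul hs (mul_le_mul_of_nonneg_left h4 (sq_nonneg r)) hru.le (by linarith)
      linarith
  · have hu2 : 2 ≤ u := by linarith
    have hsu : 0 ≤ s - u := by linarith [mul_pos (by linarith : (0 : ℤ) < 2 * j) (by linarith : (0 : ℤ) < C)]
    have h3 : 3 * (2 * r * C * p) ≤ 7 * r ^ 2 * (s - u) := by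
      have h7 : 3 * p ≤ 7 * (j * r) := by rw [hp]; linarith [mul_le_mul hj hr (by norm_num) (by linarith)]
      have := mul_le_mul_of_nonneg_left h7 hrC.le
      have e : 2 * r * C * (7 * (j * r)) = 7 * r ^ 2 * (s - u) := by rw [he]; ring
      linarith
    have h8 : 3 * (2 * r * C * p * (u - j)) ≤ 7 * r ^ 2 * (s - u) * (u - 1) := by
      have := mul_le_mul h3 (by linarith : u - j ≤ u - 1) (by linarith)
        (mul_nonneg (by positivity) hsu)
      linarith
    have h9 : 3 * (r * u) ≤ r ^ 2 * u := by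
      have := mul_le_mul_of_nonneg_right hr (mul_nonneg (by linarith : (0 : ℤ) ≤ r) hu0.le)
      linarith
    have h10 : 3 * (r ^ 2 * u ^ 2 + r * u + 2 * r * C * p * (u - j)) ≤
        r ^ 2 * (7 * s * (u - 1) - 4 * (u * (u - 2))) := by linarith
    rcases le_or_gt 0 b with hb0 | hb0
    · have h6 : 0 ≤ s * (r * b) := by positivity
      rcases lt_or_ge u 4 with hu4 | hu4
      · obtain rfl | rfl : u = 2 ∨ u = 3 := by omega
        · have hdd : 0 ≤ d ^ 2 + d := by
            rcases le_or_gt 0 d with q | q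
            · linarith [sq_nonneg d]
            · linarith [mul_nonneg_of_nonpos_of_nonpos q.le (show d + 1 ≤ 0 by omega)]
          have := mul_nonneg (by positivity : (0 : ℤ) ≤ 8 * (r ^ 2 * s)) hdd
          rw [hb] at h h6
          linarith [mul_pos (pow_pos (by linarith : (0 : ℤ) < r) 2) (by linarith : (0 : ℤ) < s)]
        · have hdd : 0 ≤ (d + 1) * (2 * d + 1) := by
            rcases le_or_gt 0 d with q | q
            · exact mul_nonneg (by linarith) (by linarith)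
            · exact mul_nonneg_of_nonpos_of_nonpos (by omega) (by omega)
          have := mul_nonneg (by positivity : (0 : ℤ) ≤ 4 * (r ^ 2 * s)) hdd
          rw [hb] at h h6
          linarith [mul_pos (pow_pos (by linarith : (0 : ℤ) < r) 2) (by linarith : (0 : ℤ) < s), pow_pos (by linarith : (0 : ℤ) < r) 2]
      · have h11 : 7 * (u - 1) ≤ 6 * d ^ 2 + 2 * b ^ 2 := by 
          rw [hb]
          linarith [sq_nonneg (4 * d + u), sq_nonneg (u - 4),
            mul_nonneg (by linarith : (0 : ℤ) ≤ u - 4) (by linarith : (0 : ℤ) ≤ u)]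
        have h12 := mul_le_mul_of_nonneg_left h11 (by positivity : (0 : ℤ) ≤ r ^ 2 * s)
        have h13 : 0 < r ^ 2 * (u * (u - 2)) := mul_pos (by positivity) (mul_pos (by linarith) (by linarith))
        linarith
    · have h11 : 7 * (u - 1) + 1 ≤ 6 * d ^ 2 := by
        have hbd : u + 1 ≤ -d := by omega
        linarith [mul_le_mul hbd hbd (by linarith) (by linarith), mul_self_nonneg u]
      have h12 := mul_le_mul_of_nonneg_left h11 (by positivity : (0 : ℤ) ≤ r ^ 2 * s)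
      have h13 : 0 ≤ r ^ 2 * (u * (u - 2)) := mul_nonneg (sq_nonneg r) (mul_nonneg (by linarith) (by linarith))
      linarith [mul_pos (pow_pos (by linarith : (0 : ℤ) < r) 2) (by linarith : (0 : ℤ) < s)]

/-- The negative case. -/
theorem false_neg {r s j D m d : ℤ} (hr : 3 ≤ r) (hj : 2 ≤ j) (hm : 1 ≤ m) (hD : 1 ≤ D)
    (hrm : r = 2 * D + m) (hs : s = j * r + 1)
    (h : 6 * r ^ 2 * s * d ^ 2 + 2 * s * ((r * (d - j * m)) ^ 2 - r * (d - j * m)) ≤
      3 * ((r * s - D) ^ 2 - (r * s - D) - (D ^ 2 + D) * (2 * j * r + 1) ^ 2)) : False := by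
  set b := d - j * m with hb
  set P := 2 * j * r + 1 with hP
  have hs0 : 0 < s := by linarith [mul_nonneg (by linarith : (0 : ℤ) ≤ j) (by linarith : (0 : ℤ) ≤ r)]
  have hL : 4 * ((r * s - D) ^ 2 - (r * s - D) - (D ^ 2 + D) * P ^ 2) =
      P ^ 2 * (2 * r * (m - 1) - m ^ 2 + 2 * m) + 2 * r * P * (m - 1) + m ^ 2 - 2 * m := by
    rw [hP, hs, hrm]; ring
  have hb2 : 2 * (r ^ 2 * b ^ 2) ≤ 3 * ((r * b) ^ 2 - r * b) := by
    rcases le_or_gt b 0 with q | q
    · linarith [sq_nonneg (r * b), mul_nonpos_of_nonneg_of_nonpos (by linarith : (0 : ℤ) ≤ r) q]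
    · have h3 : 3 * 1 ≤ r * b := mul_le_mul hr q (by norm_num) (by linarith)
      have := mul_le_mul_of_nonneg_right h3 (by linarith : (0 : ℤ) ≤ r * b)
      linarith
  have hb2' := mul_le_mul_of_nonneg_left hb2 (by linarith : (0 : ℤ) ≤ 2 * s)
  have hlow : 18 * r ^ 2 * s * d ^ 2 + 4 * r ^ 2 * s * b ^ 2 ≤
      9 * ((r * s - D) ^ 2 - (r * s - D) - (D ^ 2 + D) * P ^ 2) := by
    linarith
  have hcomb : 36 * (j * m) ^ 2 ≤ 11 * (18 * d ^ 2 + 4 * b ^ 2) := by
    rw [show j * m = d - b by rw [hb]; ring]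
    linarith [sq_nonneg (9 * d + 2 * b)]
  have hcomb' := mul_le_mul_of_nonneg_left hcomb (by positivity : (0 : ℤ) ≤ r ^ 2 * s)
  have hlow2 : 36 * (r ^ 2 * s * (j * m) ^ 2) ≤
      99 * ((r * s - D) ^ 2 - (r * s - D) - (D ^ 2 + D) * P ^ 2) := by
    linarith
  have h2s : r ^ 2 * s * (j * m) ^ 2 * 2 = r ^ 2 * j ^ 2 * m ^ 2 * (P + 1) := by
    rw [hP, hs]; ring
  have hjr : 6 ≤ j * r := by
    have := mul_le_mul hj hr (by norm_num) (by linarith)
    linarith
  have hPpos : 13 ≤ P := by linarith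
  rcases eq_or_lt_of_le hm with rfl | hm2
  · have h1 : 8 * (r ^ 2 * j ^ 2) * (P + 1) ≤ 11 * (P - 1) * (P + 1) := by linarith
    have h2 : 8 * (r ^ 2 * j ^ 2) ≤ 11 * (P - 1) := le_of_mul_le_mul_right h1 (by linarith)
    have h3 := mul_le_mul_of_nonneg_left hjr (by linarith : (0 : ℤ) ≤ j * r)
    linarith
  · have hneg : P ^ 2 * (-m ^ 2 + 2 * m) + m ^ 2 - 2 * m ≤ 0 := by
      have : 0 ≤ (P ^ 2 - 1) * (m * (m - 2)) := mul_nonneg 
        (by linarith [mul_le_mul hPpos hPpos (by norm_num) (by linarith)])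
        (mul_nonneg (by linarith) (by omega))
      linarith
    have h1 : 8 * (r ^ 2 * j ^ 2 * m ^ 2) * (P + 1) ≤
        22 * (r * (m - 1) * P) * (P + 1) := by linarith
    have h2 : 8 * (r ^ 2 * j ^ 2 * m ^ 2) ≤ 22 * (r * (m - 1) * P) :=
      le_of_mul_le_mul_right h1 (by linarith)
    have h3 : 6 * P ≤ 13 * (j * r) := by rw [hP]; linarith
    have h4 : 22 * (r * (m - 1)) * (6 * P) ≤ 22 * (r * (m - 1)) * (13 * (j * r)) :=
      mul_le_mul_of_nonneg_left h3 (mul_nonneg (by norm_num) (mul_nonneg (by linarith) (by linarith)))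
    have h5 : (2 * (r ^ 2 * j)) * (24 * (j * m ^ 2)) ≤ (2 * (r ^ 2 * j)) * (143 * (m - 1)) := by
      linarith
    have h6 : 24 * (j * m ^ 2) ≤ 143 * (m - 1) := le_of_mul_le_mul_left h5 (by positivity)
    have h7 := mul_le_mul_of_nonneg_right hj (sq_nonneg m)
    linarith [sq_nonneg (96 * m - 143)]

/-- The mixed case is impossible. -/
theorem false_of_mixed {p r s j C b d : ℤ} (hj : 1 ≤ j) (hp : p = 2 * j * r + 1) (hr : 3 ≤ r)
    (hro : Odd r) (hs : 3 ≤ s) (hso : Odd s) (hsp : s ∣ p + 1)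
    (hC : (p ^ 2 - 1) * C ^ 2 ≤ (r * s) ^ 2 + 2 * |C| * (r * s))
    (hcong : p ∣ r * b - r * s - C - r * d)
    (hB : (p - 1) * b ^ 2 + 2 * (p + 1) * d ^ 2 ≤ p * s)
    (hineq : C ≠ 0 → 6 * r ^ 2 * s * d ^ 2 + 2 * s * ((r * b) ^ 2 + C.sign * (r * b)) ≤
      3 * ((r * s + C) ^ 2 + C.sign * (r * s + C) - (C ^ 2 + |C|) * p ^ 2)) : False := by
  have hp7 : 7 ≤ p := by rw [hp]; linarith [mul_le_mul hj hr (by norm_num) (by linarith)]
  have hjr : 0 < r := by linarith
  have hjC : 2 * j * |C| ≤ s := by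
    have h1 := le_of_norm (by positivity : 0 ≤ r * s) hC
    have h2 : r * (2 * j * |C|) ≤ r * s := by
      rw [hp] at h1; linarith
    exact le_of_mul_le_mul_left h2 hjr
  have hu : (b - d) ^ 2 < 2 * s := sq_lt (by linarith) (by linarith) hB
  -- `2 s ∣ p + 1`
  obtain ⟨k, hk⟩ := hsp
  obtain ⟨k', hk'⟩ : Even k := by
    have h1 : Even (s * k) := by rw [← hk, hp]; exact ⟨j * r + 1, by ring⟩
    exact (Int.even_mul.1 h1).resolve_left (Int.not_even_iff_odd.2 hso)
  have hk1 : 1 ≤ k' := by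
    by_contra hc
    have := mul_nonpos_of_nonneg_of_nonpos (by linarith : (0 : ℤ) ≤ 2 * s) (show k' ≤ 0 by omega)
    rw [hk'] at hk; linarith
  have hsp2 : 2 * s ≤ p + 1 := by rw [hk, hk']; linarith [mul_le_mul_of_nonneg_left hk1 (by linarith : (0 : ℤ) ≤ 2 * s)]
  have hdvd : p ∣ s - (b - d) - 2 * j * C := by
    have h := dvd_add (hcong.mul_left (2 * j)) (dvd_mul_left p (-((b - d) - s)))
    rw [show s - (b - d) - 2 * j * C =
      2 * j * (r * b - r * s - C - r * d) + -((b - d) - s) * p by rw [hp]; ring]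
    exact h
  obtain ⟨u, hu'⟩ : ∃ u, b = u + d := ⟨b - d, by ring⟩
  subst hu'
  rw [show u + d - d = u by ring] at hu hdvd
  rcases eq_or_of_dvd hp7 hs hsp2 hjC hu hj hdvd with h0 | ⟨hneg, h0⟩
  · rcases lt_trichotomy C 0 with hC0 | hC0 | hC0
    · have : s ≤ u := by linarith [mul_nonpos_of_nonneg_of_nonpos (by linarith : (0 : ℤ) ≤ 2 * j) hC0.le]
      linarith [mul_le_mul_of_nonneg_right hs (by linarith : (0 : ℤ) ≤ s), mul_le_mul this this (by linarith) (by linarith)]
    · subst hC0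
      have : u = s := by linarith
      subst this
      linarith [mul_le_mul_of_nonneg_right hs (by linarith : (0 : ℤ) ≤ u)]
    · have h := hineq hC0.ne'
      rw [Int.sign_eq_one_of_pos hC0, abs_of_pos hC0, one_mul, one_mul, hp] at h
      exact false_pos hr hs hj hC0 (by linarith) hu h
  · -- `p = 2 s - 1`
    have hC1 : -C ≥ 1 := by linarith
    rw [abs_of_neg hneg] at hjC
    have hk'1 : k' = 1 := by
      by_contra hne
      have h2k : 2 ≤ k' := by omega
      have h4 : 4 * s ≤ p + 1 := by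
        have := mul_le_mul_of_nonneg_left h2k (by linarith : (0 : ℤ) ≤ 2 * s)
        rw [hk, hk']; linarith
      have h5 : p - 1 ≤ -(2 * u) := by linarith
      have := mul_le_mul h5 h5 (by linarith) (by linarith)
      have := mul_le_mul_of_nonneg_right hp7 (by linarith : (0 : ℤ) ≤ p)
      linarith
    have hps : p + 1 = 2 * s := by rw [hk, hk', hk'1]; ring
    have hsj : s = j * r + 1 := by linarith
    obtain ⟨j', hj'⟩ : Even j := by
      have h1 : Even (j * r) := by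
        obtain ⟨i, hi⟩ := hso
        exact ⟨i, by linarith⟩
      exact (Int.even_mul.1 h1).resolve_right (Int.not_even_iff_odd.2 hro)
    set m := r + 2 * C with hm
    have hum : u = -(j * m) := by rw [hm]; linear_combination -h0 + hsj - hp
    have hj2 : 2 ≤ j := by omega
    have hm1 : 1 ≤ m := by
      obtain ⟨i, hi⟩ := hro
      by_contra hc
      have h1 := mul_le_mul_of_nonneg_left (show r + 1 ≤ -(2 * C) by omega)
        (by linarith : (0 : ℤ) ≤ j)
      linarith
    have h := hineq hneg.ne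
    rw [Int.sign_eq_neg_one_of_neg hneg, abs_of_neg hneg, hp, hum] at h
    refine false_neg (D := -C) (d := d) hr hj2 hm1 hC1 (by linarith) hsj ?_
    rw [show d - j * m = -(j * m) + d by ring]
    linarith

end CfsgLib.FT.MixedArith
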