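import Cfsg.Agent.Lib.FT.MeetMixedInt

/-!
# The mixed case of §1 with `|M_σ| ≥ p²(2e+1)` (`docs/FT-meet-gap2.md`, step 2)
-/

set_option autoImplicit false
set_option linter.unusedSectionVars false
set_option linter.style.haveILetI false

open Subgroup

namespace CfsgLib.FT

open CfsgLib.CFun CfsgLib.CFun.TauTwo Cfsg CfsgLib.Char

universe u

theorem mixed_big_arith {p r s n k : ℕ} {b ε : ℤ} (hp5 : 5 ≤ p) (hr : 0 < r) (hs : 3 ≤ s)
    (h2s : 2 * s ≤ p + 1) (hk : p ^ 2 ≤ k) (hn : n * (r * s) + 1 = k)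
    (hε : ε = 1 ∨ ε = -1) (hb : (p : ℤ) ∣ b - ε * s)
    (hle : (p : ℤ) * ((n : ℤ) * ((r : ℤ) * b) ^ 2 + 1) ≤ ((p : ℤ) + 1) * (r * k)) : False := by
  have hp' : (5 : ℤ) ≤ p := by exact_mod_cast hp5
  have hk' : (25 : ℤ) ≤ k := by
    have : 25 ≤ k := le_trans (by nlinarith) hk
    exact_mod_cast this
  have hs' : (3 : ℤ) ≤ s := by exact_mod_cast hs
  have hr' : (0 : ℤ) < r := by exact_mod_cast hr
  have hn' : (n : ℤ) * (r * s) + 1 = k := by exact_mod_cast hn
  have k1 : (p : ℤ) * ((k : ℤ) - 1) * b ^ 2 * r ≤ ((p : ℤ) + 1) * k * s * r := by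
    have := mul_le_mul_of_nonneg_left hle (by linarith : (0 : ℤ) ≤ s)
    have e : (n : ℤ) * (r * s) = (k : ℤ) - 1 := by linarith
    have e2 : (s : ℤ) * ((p : ℤ) * ((n : ℤ) * ((r : ℤ) * b) ^ 2 + 1)) =
        (p : ℤ) * ((k : ℤ) - 1) * b ^ 2 * r + (s : ℤ) * p := by
      linear_combination ((p : ℤ) * r * b ^ 2) * e
    have : (0 : ℤ) ≤ (s : ℤ) * p := by positivity
    linarith
  have k2 := le_of_mul_le_mul_right k1 hr'
  have k3 : 4 * b ^ 2 ≤ 5 * (s : ℤ) := by
    have a1 : ((p : ℤ) + 1) * k * 5 * 4 ≤ (p : ℤ) * ((k : ℤ) - 1) * 25 := by nlinarith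
    by_contra hc
    rw [not_le] at hc
    have a2 : (0 : ℤ) < (p : ℤ) * ((k : ℤ) - 1) := mul_pos (by linarith) (by linarith)
    nlinarith [mul_le_mul_of_nonneg_right a1 (by linarith : (0 : ℤ) ≤ s)]
  have k4 : |b| + 2 ≤ s := by
    by_contra hc
    rw [not_le] at hc
    nlinarith [sq_abs b, abs_nonneg b]
  have k5 : b - ε * s = 0 := by
    refine Int.eq_zero_of_abs_lt_dvd hb ?_
    have h2s' : 2 * (s : ℤ) ≤ p + 1 := by exact_mod_cast h2s
    have := abs_le.1 (le_refl |b|)
    rw [abs_lt]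
    rcases hε with rfl | rfl <;> constructor <;> linarith
  rw [sub_eq_zero] at k5
  rcases hε with rfl | rfl <;> subst k5 <;> nlinarith

variable {G : Type u} [Group G] [Fintype G] (hG : IsMinSimpleOddOrder G) {M N : Subgroup G} {x y : G}
  {p r s : ℕ} {θ : sigmaIn N →* ℂˣ} (h : BadData M N x p) (hX : MixedData M N x y p r s θ)
  (hM : FpfAb M) (F : Family M) (hZ : ∀ v ∈ sigmaCore N, v ≠ 1 → Commute y v → F.psi (y * v) = 0)
include hG h hX hM hZ

/-- There is no mixed bad pair with a large `M_σ`. -/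
theorem MixedData.false_of_big (hbig : p ^ 2 * (2 * eIndex M + 1) ≤ kZero M) : False := by
  classical
  have hp := h.bad.prime
  haveI : (sigmaIn N).Normal := sigmaIn_normal hG
  haveI : (kerN N).Normal := sigmaIn_normal hG
  haveI := member_finite hG hM
  haveI := Fintype.ofFinite (Member M)
  have hn := member_card hG hM
  have h2r := hX.two_r_lt hG h
  have h2s := hX.two_s_le hG h
  have h4e : 4 * eIndex M < p * (p + 1) := by
    rw [hX.e_eq]
    have := hX.three_le_r
    have : 2 * r * (2 * s) < p * (p + 1) := Nat.mul_lt_mul_of_lt_of_le h2r h2s (by omega)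
    linarith
  have hc : F.c = 0 := by
    refine F.c_eq_zero hG hM (lt_of_lt_of_le ?_ hbig)
    have := hX.five_le
    have h1 : eIndex M < 2 * p ^ 2 := by nlinarith
    have h2 := Nat.mul_lt_mul_of_pos_right h1 (eIndex_pos (M := M))
    nlinarith
  have htwo : 2 * (zeroN M N).index < Nat.card (Member M) := by
    rw [hX.index_eq]
    by_contra hle
    have h1 : Nat.card (Member M) * eIndex M ≤ 2 * r * eIndex M := Nat.mul_le_mul_right _ (by omega)
    have h2 : 2 * r * eIndex M < p * eIndex M := Nat.mul_lt_mul_of_pos_right h2r eIndex_pos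
    have h3 : p * eIndex M ≤ p ^ 2 * eIndex M := Nat.mul_le_mul_right _ (Nat.le_self_pow two_ne_zero p)
    have := hX.five_le
    nlinarith
  have hconst : ∀ w ∈ sigmaCore N, F.psi (x * w) = F.psi x := fun w hw =>
    mu_const_coset hG h (famIn hG hM F) htwo F.base hw
  have hxM : x ∈ M := map_subtype_le _ h.bad.mem
  have hval := hX.avg_psi hG h hM F h.bad.mem h.ne_one
  rw [hc, Int.cast_zero, add_zero, valOn_mem _ hxM, avgR, supportR_x hG h,
    finsum_mem_eq_toFinset_sum, Finset.sum_congr rfl (g := fun _ => F.psi x) fun w hw =>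
      hconst w (mem_inf.1 (by simpa using hw : w ∈ sigmaCore N ⊓ centralizer ({x} : Set G))).1,
    Finset.sum_const, nsmul_eq_mul, Set.toFinset_card, ← Nat.card_eq_fintype_card,
    SetLike.coe_sort_coe, inv_mul_cancel_left₀ (by
      exact_mod_cast (Nat.card_pos (α := ↥(sigmaCore N ⊓ centralizer ({x} : Set G)))).ne')] at hval
  have hb : Cong p (F.psi x) ((F.ε * eIndex M : ℤ) : ℂ) := by
    have h1 := cong_mul_of_pow_prime hp (member_gen hG F.base) (x := (⟨x, hxM⟩ : M)) (y := 1) (k := 1)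
      (by rw [pow_one]; exact Subtype.ext (show x ^ p = 1 by rw [← h.bad.ord, pow_orderOf_eq_one]))
      (Commute.one_right _)
    rw [mul_one, member_one F.base] at h1
    rw [hval, Int.cast_mul, Int.cast_natCast]
    exact h1.mul_left (isIntegral_intCast _)
  obtain ⟨a, ha⟩ := classInner_generalized_int F.psi_gen
    (tau_gen hG h.coatom (thetaN_gen hG h θ) (thetaN_supp hG h θ))
  have hdvd := thetaN_dvd hG h θ hX.inv_x hX.theta_fix (F.μ F.base) hconst ha hb
  obtain ⟨b, rfl⟩ := hX.r_dvd_a hG h hM F hZ ha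
  obtain ⟨m, hm, hle⟩ := bessel_thetaN hG h θ (hX.theta_ne hG h) hp.pos
    (le_index_inertia hG h (θ := θ) (hX.theta_ne hG h)) (Finset.univ.image F.μ) fun χ hχ => by
      obtain ⟨i, -, rfl⟩ := Finset.mem_image.1 hχ
      exact F.mu_ne_one hG hM i
  have hmi : ∀ i, m (F.μ i) = (r : ℤ) * b := fun i => by
    have e := (hm (F.μ i)).symm.trans
      ((inner_thetaN_const hG h θ (famIn hG hM F) i F.base).trans ha)
    exact_mod_cast e
  rw [Finset.sum_image fun a _ b _ e => F.inj e,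
    Finset.sum_congr rfl (g := fun _ : Member M => ((r : ℤ) * b) ^ 2) fun i _ => by rw [hmi i],
    Finset.sum_const, nsmul_eq_mul, Finset.card_univ, ← Nat.card_eq_fintype_card, hX.card_D hG h,
    Nat.cast_mul] at hle
  refine mixed_big_arith hX.five_le hX.r_prime.pos hX.three_le_s h2s
    (le_trans (Nat.le_mul_of_pos_right _ (by omega)) hbig) (by rw [← hX.e_eq]; exact hn) F.sign ?_ hle
  rw [hX.e_eq, show (r : ℤ) * b - F.ε * ((r * s : ℕ) : ℤ) = (r : ℤ) * (b - F.ε * s) by push_cast; ring]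
    at hdvd
  refine ((Nat.prime_iff_prime_int.1 hp).dvd_or_dvd hdvd).resolve_left fun hd => ?_
  have := Nat.le_of_dvd hX.r_prime.pos (Int.natCast_dvd_natCast.1 hd)
  omega

end CfsgLib.FT
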