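import Cfsg.Agent.Lib.CFun.OddTauTwoLines
import Cfsg.Agent.Lib.CFun.OddMeetExponent
import Mathlib.FieldTheory.Finite.Basic
import Mathlib.GroupTheory.GroupAction.Quotient

/-!
# Operators on an elementary group of order `p ^ 2` (`docs/FT-meet-gap2.md`)

An operator `v` with `v ^ (p - 1) = 1` has an eigenvector; inside an abelian group of odd order that
normalizes no line, an operator normalizing one line normalizes all of them; a group with regular
action has order dividing the number of non-trivial elements.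
-/

set_option autoImplicit false
set_option linter.unusedSectionVars false
set_option linter.style.haveILetI false

open Subgroup Polynomial

namespace CfsgLib.FT

open CfsgLib.CFun CfsgLib.CFun.TauTwo
open CfsgLib.Coprime (conjBy conjBy_conjBy conjBy_one)

universe u

variable {G : Type u} [Group G]

/-- An endomorphism `T` with `T ^ p = T` of a nonzero vector space over `ZMod p` has an eigenvector. -/
theorem exists_eigen_of_pow_card {p : ℕ} [hp : Fact p.Prime] {V : Type*} [AddCommGroup V]
    [Module (ZMod p) V] [Nontrivial V] (T : Module.End (ZMod p) V) (hT' : ∀ v, T^[p] v = T v) :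
    ∃ (c : ZMod p) (v : V), v ≠ 0 ∧ T v = c • v := by
  have hT : T ^ p = T := LinearMap.ext fun v => by rw [Module.End.pow_apply, hT' v]
  by_contra hno
  push Not at hno
  have hinj : ∀ c : ZMod p, Function.Injective (T - algebraMap (ZMod p) (Module.End (ZMod p) V) c) :=
    fun c => by
      rw [injective_iff_map_eq_zero]
      intro v hv
      by_contra hv0
      exact hno c v hv0 (sub_eq_zero.1 hv)
  have hpoly : (X ^ p - X : (ZMod p)[X]) = ((X ^ p - X : (ZMod p)[X]).roots.map (X - C ·)).prod := by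
    refine (prod_multiset_X_sub_C_of_monic_of_roots_card_eq ?_ ?_).symm
    · exact monic_X_pow_sub (degree_X_le.trans_lt (by exact_mod_cast hp.out.one_lt))
    · have h := FiniteField.roots_X_pow_card_sub_X (ZMod p)
      rw [ZMod.card] at h
      rw [h, FiniteField.X_pow_card_sub_X_natDegree_eq (ZMod p) hp.out.one_lt]
      simp
  have h0 : aeval T (X ^ p - X : (ZMod p)[X]) = 0 := by simp [hT]
  rw [hpoly] at h0
  have hall : ∀ s : Multiset (ZMod p), Function.Injective (aeval T (s.map (X - C ·)).prod) := by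
    intro s
    induction s using Multiset.induction with
    | empty => exact fun a b h => by simpa using h
    | cons c s ih =>
      rw [Multiset.map_cons, Multiset.prod_cons, map_mul, map_sub, aeval_X, aeval_C]
      exact (hinj c).comp ih
  obtain ⟨v, hv⟩ := exists_ne (0 : V)
  exact hv (hall _ (by rw [h0]; rfl : _ = aeval T _ 0))

/-- An endomorphism `f` of an abelian group of exponent `p` with `f^[p] = f` has an eigenvector. -/
theorem exists_nsmul_of_iterate_eq {p : ℕ} [Fact p.Prime] {V : Type*} [AddCommGroup V] [Nontrivial V]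
    (hexp : ∀ a : V, p • a = 0) (f : V →+ V) (hf : ∀ a, f^[p] a = f a) :
    ∃ (j : ℕ) (a : V), a ≠ 0 ∧ f a = j • a := by
  haveI : Module (ZMod p) V := AddCommGroup.zmodModule hexp
  obtain ⟨c, w, hw, hcw⟩ := exists_eigen_of_pow_card (f.toZModLinearMap p) hf
  refine ⟨c.val, w, hw, hcw.trans ?_⟩
  rw [← Nat.cast_smul_eq_nsmul (ZMod p), ZMod.natCast_zmod_val]

/-- The multiplicative form of `exists_nsmul_of_iterate_eq`. -/
theorem exists_pow_of_iterate_eq {p : ℕ} [Fact p.Prime] {V : Type*} [CommGroup V] [Nontrivial V]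
    (hexp : ∀ a : V, a ^ p = 1) (f : V →* V) (hf : ∀ a, f^[p] a = f a) :
    ∃ (j : ℕ) (a : V), a ≠ 1 ∧ f a = a ^ j := by
  obtain ⟨j, w, hw, hcw⟩ := exists_nsmul_of_iterate_eq (V := Additive V) (p := p)
    (fun a => Additive.toMul.injective (hexp a.toMul)) (MonoidHom.toAdditive f) hf
  exact ⟨j, w.toMul, fun e => hw (Additive.toMul.injective e), congrArg Additive.toMul hcw⟩

variable [Finite G] {p : ℕ} [hp : Fact p.Prime] {A : Subgroup G}

/-- An operator `v` with `v ^ (p - 1) = 1` normalizes some line of `A`. -/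
theorem exists_line_of_pow_pred (hA : Cfsg.IsElementaryAbelian p A) (hne : A ≠ ⊥) {v : G}
    (hvA : v ∈ normalizer (A : Set G)) (hv : v ^ (p - 1) = 1) :
    ∃ a ∈ A, a ≠ 1 ∧ v ∈ normalizer (zpowers a : Set G) := by
  haveI := hA.1
  haveI : Nontrivial A := nontrivial_iff_ne_bot A |>.2 hne
  letI : CommGroup A := { (inferInstance : Group A) with mul_comm := hA.1.is_comm.comm }
  let f : A →* A :=
    { toFun := fun a => ⟨v * a * v⁻¹, (mem_normalizer_iff.1 hvA a).1 a.2⟩
      map_one' := Subtype.ext (by simp)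
      map_mul' := fun a b => Subtype.ext (by push_cast; group) }
  have hiter : ∀ (k : ℕ) (a : A), ((f^[k] a : A) : G) = v ^ k * a * (v ^ k)⁻¹ := by
    intro k
    induction k with
    | zero => intro a; simp
    | succ k ih =>
      intro a
      rw [Function.iterate_succ_apply']
      show v * ((f^[k] a : A) : G) * v⁻¹ = _
      rw [ih, pow_succ']
      group
  obtain ⟨k, hk⟩ : ∃ k, p = k + 1 := ⟨p - 1, by have := hp.out.one_lt; omega⟩
  obtain ⟨c, w, hw, hcw⟩ := exists_pow_of_iterate_eq (p := p) (V := A)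
    (fun a => Subtype.ext (by push_cast; exact hA.2 a a.2)) f fun a => Subtype.ext (by
      rw [hiter p a, hk, pow_succ', show v ^ k = 1 by rwa [hk, Nat.add_sub_cancel] at hv, mul_one]
      rfl)
  set a : G := (w : G) with ha
  have ha1 : a ≠ 1 := fun e => hw (Subtype.ext e)
  have hac : v * a * v⁻¹ ∈ zpowers a := ⟨(c : ℤ), by
    have h1 := congrArg Subtype.val hcw
    simpa [f] using h1.symm⟩
  refine ⟨a, w.2, ha1, CfsgLib.Coprime.conjBy_eq_self_iff.1
    (eq_of_le_of_card_ge ?_ (CfsgLib.Coprime.card_conjBy v _).ge)⟩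
  rintro _ ⟨b, ⟨i, rfl⟩, rfl⟩
  show v * a ^ i * v⁻¹ ∈ zpowers a
  rw [← conj_zpow]
  exact zpow_mem hac i

/-- In an abelian group of odd order an operator normalizing one line of `A` normalizes all of them,
unless the group normalizes that line. -/
theorem normalizes_all_or (hA : Cfsg.IsElementaryAbelian p A) (hA2 : Nat.card A = p ^ 2)
    {E : Subgroup G} (hodd : Odd (Nat.card E)) (hEA : E ≤ normalizer (A : Set G))
    (hcomm : ∀ a ∈ E, ∀ b ∈ E, a * b = b * a) {v : G} (hv : v ∈ E) {L : Subgroup G} (hL : L ≤ A)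
    (hLc : Nat.card L = p) (hvL : v ∈ normalizer (L : Set G)) :
    E ≤ normalizer (L : Set G) ∨ ∀ W : Subgroup G, W ≤ A → v ∈ normalizer (W : Set G) := by
  by_cases hEL : E ≤ normalizer (L : Set G)
  · exact Or.inl hEL
  obtain ⟨e, he, heL⟩ := SetLike.not_le_iff_exists.1 hEL
  have hmove : ∀ g ∈ E, conjBy g L ≤ A ∧ v ∈ normalizer (conjBy g L : Set G) := by
    intro g hg
    refine ⟨(map_mono hL).trans (CfsgLib.Coprime.conjBy_eq_self_iff.2 (hEA hg)).le,
      CfsgLib.Coprime.conjBy_eq_self_iff.1 ?_⟩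
    rw [conjBy_conjBy, hcomm v hv g hg, ← conjBy_conjBy,
      CfsgLib.Coprime.conjBy_eq_self_iff.2 hvL]
  refine Or.inr fun W hW => normalizes_all_of_three hA hL hLc (hmove e he).1
    (by rw [CfsgLib.Coprime.card_conjBy, hLc]) (hmove _ (pow_mem he 2)).1
    (by rw [CfsgLib.Coprime.card_conjBy, hLc]) ?_ ?_ ?_ hA2 hvL (hmove e he).2
    (hmove _ (pow_mem he 2)).2 hW
  · exact fun e1 => heL (CfsgLib.Coprime.conjBy_eq_self_iff.1 e1)
  · intro e1
    refine heL ?_
    have h3 := CfsgLib.Coprime.conjBy_eq_self_iff.1 e1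
    obtain ⟨m, hm⟩ := hodd.of_dvd_nat (Subgroup.orderOf_dvd_natCard E he)
    have h4 : (e ^ 2) ^ (m + 1) = e := by
      rw [← pow_mul, show 2 * (m + 1) = orderOf e + 1 by omega, pow_succ, pow_orderOf_eq_one, one_mul]
    exact h4 ▸ pow_mem h3 _
  · intro e1
    refine heL (CfsgLib.Coprime.conjBy_eq_self_iff.1 ?_)
    have h3 := congrArg (conjBy e⁻¹) e1
    rwa [conjBy_conjBy, conjBy_conjBy, inv_mul_cancel, conjBy_one, sq, ← mul_assoc, inv_mul_cancel,
      one_mul] at h3

omit hp in
/-- A group acting regularly on `V` has order dividing `|V| - 1`. -/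
theorem card_dvd_pred_of_regular {E V : Subgroup G} (hEV : E ≤ normalizer (V : Set G))
    (hreg : ∀ g ∈ E, g ≠ 1 → V ⊓ centralizer ({g} : Set G) = ⊥) :
    Nat.card E ∣ Nat.card V - 1 := by
  classical
  haveI := Fintype.ofFinite G
  let X := {a : G // a ∈ V ∧ a ≠ 1}
  letI : MulAction E X :=
    { smul := fun g a => ⟨g * a.1 * (g : G)⁻¹, (mem_normalizer_iff.1 (hEV g.2) a.1).1 a.2.1,
        fun e => a.2.2 (conj_eq_one_iff.1 e)⟩
      one_smul := fun a => Subtype.ext (by simp [HSMul.hSMul, SMul.smul])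
      mul_smul := fun g h a => Subtype.ext (by simp [HSMul.hSMul, SMul.smul, mul_assoc]) }
  have hfree : ∀ a : X, MulAction.stabilizer E a = ⊥ := by
    intro a
    refine (Subgroup.eq_bot_iff_forall _).2 fun g hg => ?_
    by_contra hg1
    have h1 : (g : G) * a.1 * (g : G)⁻¹ = a.1 := congrArg Subtype.val hg
    have h2 : a.1 ∈ V ⊓ centralizer ({(g : G)} : Set G) :=
      mem_inf.2 ⟨a.2.1, mem_centralizer_singleton_iff.2 (mul_inv_eq_iff_eq_mul.1 h1).symm⟩
    rw [hreg g g.2 fun e => hg1 (Subtype.ext e), mem_bot] at h2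
    exact a.2.2 h2
  have hc : Nat.card X = Nat.card V - 1 := by
    show Nat.card ↥((V : Set G) \ {1}) = _
    rw [Nat.card_coe_set_eq, Set.ncard_sdiff (by simp), Set.ncard_singleton]
    exact congrArg (· - 1) (Nat.card_coe_set_eq _).symm
  rw [← hc, Nat.card_congr (MulAction.selfEquivOrbitsQuotientProd hfree), Nat.card_prod]
  exact dvd_mul_left _ _

end CfsgLib.FT
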