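import Cfsg.Agent.Lib.FT.MeetTheta
import Cfsg.Agent.Lib.Char.FrobeniusFormula

/-!
# The linear character of `N_σ` in the mixed case of §1 (`docs/FT-meet-gap2.md`)

A regular operator `y` on `A` has on `C_{N_σ}(x)` fixed points outside `N_σ'`; so some linear
character of prime order is invariant under `x` and `y`, and an `x`-invariant one is not trivial on
`C_{N_σ}(x)`.
-/

set_option autoImplicit false
set_option linter.unusedSectionVars false
set_option linter.style.haveILetI false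

open Subgroup

namespace CfsgLib.FT

open CfsgLib.CFun CfsgLib.CFun.TauTwo Cfsg CfsgLib.Char
open CfsgLib.Coprime (conj_mem_of_le_normalizer)

universe u

variable {G : Type u} [Group G]

/-- `|H| = |C_H(y)| ^ |⟨y⟩|` when `A⟨y⟩` is a Frobenius group without common fixed point of `A` on `H`. -/
theorem card_eq_fixed_of_frob [Finite G] {A H : Subgroup G} {y : G}
    (hyA : y ∈ normalizer (A : Set G))
    (hfpf : ∀ i : ℕ, y ^ i ≠ 1 → A ⊓ centralizer ({y ^ i} : Set G) = ⊥)
    (hdisj : A ⊓ zpowers y = ⊥) (hAH : A ≤ normalizer (H : Set G)) (hyH : y ∈ normalizer (H : Set G))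
    (hsolv : Group.IsSolvable H) (hcop : (Nat.card H).Coprime (Nat.card ↥(A ⊔ zpowers y)))
    (hfix : H ⊓ centralizer (A : Set G) = ⊥) :
    Nat.card H = Nat.card ↥(H ⊓ centralizer ({y} : Set G)) ^ orderOf y := by
  have h := frobenius_fixed_formula A (zpowers y) H hdisj
    (fun e he u hu => conj_mem_of_le_normalizer (zpowers_le.2 hyA) he hu)
    (fun e he he1 u hu hc => by
      obtain ⟨i, rfl⟩ := (isOfFinOrder_of_finite y).mem_powers_iff_mem_zpowers.2 he
      have : u ∈ A ⊓ centralizer ({y ^ i} : Set G) :=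
        mem_inf.2 ⟨hu, mem_centralizer_singleton_iff.2 hc.symm⟩
      rwa [hfpf i he1, mem_bot] at this)
    (fun g hg u hu => conj_mem_of_le_normalizer (sup_le hAH (zpowers_le.2 hyH)) hg hu)
    hsolv hcop
  rw [show H ⊓ centralizer ((A ⊔ zpowers y : Subgroup G) : Set G) = ⊥ from le_bot_iff.1
      ((inf_le_inf_left _ (centralizer_le (le_sup_left (b := zpowers y)))).trans hfix.le),
    hfix, card_bot, one_pow, one_mul, mul_one, centralizer_zpowers, Nat.card_zpowers] at h
  exact h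

theorem mem_normalizer_inf_of_mem {A B : Subgroup G} {g : G} (hA : g ∈ normalizer (A : Set G))
    (hB : g ∈ normalizer (B : Set G)) : g ∈ normalizer ((A ⊓ B : Subgroup G) : Set G) :=
  mem_normalizer_iff.2 fun z => by
    simp only [mem_inf]
    exact and_congr (mem_normalizer_iff.1 hA z) (mem_normalizer_iff.1 hB z)

variable [Fintype G] (hG : IsMinSimpleOddOrder G) {M N : Subgroup G} {x : G} {p : ℕ}
  (h : BadData M N x p)
include hG h

/-- `C_{N_σ}(x)` has a fixed point of `y` outside `N_σ'`. -/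
theorem exists_fixed_not_der {A : Subgroup G} (hA : A ≤ sigmaCore M ⊓ N) (hcomm : ∀ a ∈ A, Commute a x)
    (hfix : sigmaCore N ⊓ centralizer (A : Set G) = ⊥) {y : G} (hy : y ∈ M ⊓ N)
    (hyA : y ∈ normalizer (A : Set G)) (hyx : y ∈ normalizer (zpowers x : Set G))
    (hfpf : ∀ i : ℕ, y ^ i ≠ 1 → A ⊓ centralizer ({y ^ i} : Set G) = ⊥)
    (hdisj : A ⊓ zpowers y = ⊥) :
    ∃ w ∈ sigmaCore N, Commute w x ∧ Commute w y ∧ w ∉ ⁅sigmaCore N, sigmaCore N⁆ := by
  set Q := sigmaCore N
  have hQN : N ≤ normalizer (Q : Set G) := TauTwo.sigmaCore_normal hG N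
  have hAD : A ≤ M ⊓ N := hA.trans (inf_le_inf_right _ (map_subtype_le _))
  set H := Q ⊓ centralizer ({x} : Set G) with hH
  have hHn : ∀ g, g ∈ normalizer (Q : Set G) → g ∈ normalizer (zpowers x : Set G) →
      g ∈ normalizer (H : Set G) := fun g h1 h2 => by
    rw [hH, ← centralizer_zpowers]
    exact mem_normalizer_inf_of_mem h1 (CfsgLib.Coprime.normalizer_le_normalizer_centralizer _ h2)
  set L := H ⊓ ⁅Q, Q⁆ with hL
  have hLn : ∀ g ∈ N, g ∈ normalizer (H : Set G) → g ∈ normalizer (L : Set G) := fun g h1 h2 =>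
    mem_normalizer_inf_of_mem h2 (le_normalizer_commutator hQN hQN h1)
  have hAx : ∀ a ∈ A, a ∈ normalizer (zpowers x : Set G) := fun a ha =>
    CfsgLib.Coprime.centralizer_le_normalizer_self _ (by
      rw [centralizer_zpowers]; exact mem_centralizer_singleton_iff.2 (hcomm a ha).eq)
  have hAH : A ≤ normalizer (H : Set G) := fun a ha => hHn a (hQN (hAD ha).2) (hAx a ha)
  have hyH : y ∈ normalizer (H : Set G) := hHn y (hQN hy.2) hyx
  have hcopQ : (Nat.card ↥(M ⊓ N)).Coprime (Nat.card Q) := compl_coprime hG h.coatom h.compl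
  have hsolvQ : Group.IsSolvable Q := sigmaCore_solvable hG h.coatom
  have key : ∀ X : Subgroup G, X ≤ H → A ≤ normalizer (X : Set G) → y ∈ normalizer (X : Set G) →
      Nat.card X = Nat.card ↥(X ⊓ centralizer ({y} : Set G)) ^ orderOf y := fun X hX h1 h2 => by
    have hXQ : X ≤ Q := hX.trans inf_le_left
    refine card_eq_fixed_of_frob hyA hfpf hdisj h1 h2 ?_
      ((hcopQ.coprime_dvd_left (card_dvd_of_le (sup_le hAD (zpowers_le.2 hy)))).coprime_dvd_right
        (card_dvd_of_le hXQ)).symm (le_bot_iff.1 ((inf_le_inf_right _ hXQ).trans hfix.le))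
    haveI := hsolvQ
    exact Group.isSolvable_of_isSolvable_injective (inclusion_injective hXQ)
  by_contra hno
  push Not at hno
  have h1 : H ⊓ centralizer ({y} : Set G) = L ⊓ centralizer ({y} : Set G) := by
    refine le_antisymm (fun w hw => ?_) (inf_le_inf_right _ inf_le_left)
    obtain ⟨hwH, hwy⟩ := mem_inf.1 hw
    obtain ⟨hwQ, hwx⟩ := mem_inf.1 hwH
    exact mem_inf.2 ⟨mem_inf.2 ⟨hwH, hno w hwQ (mem_centralizer_singleton_iff.1 hwx)
      (mem_centralizer_singleton_iff.1 hwy)⟩, hwy⟩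
  have h2 : Nat.card H ≤ Nat.card L := by
    rw [key H le_rfl hAH hyH,
      key L inf_le_left (fun a ha => hLn a (hAD ha).2 (hAH ha)) (hLn y hy.2 hyH), h1]
  exact h.fixed ((eq_of_le_of_card_ge (inf_le_left : L ≤ H) h2).ge.trans inf_le_right)

/-- An `x`-invariant non-trivial linear character of `N_σ` is not trivial on `C_{N_σ}(x)`. -/
theorem exists_fix_ne {θ : kerN N →* ℂˣ} (hθ : θ ≠ 1)
    (hinv : ∀ n m : kerN N, ((m : N) : G) = x * ((n : N) : G) * x⁻¹ → θ m = θ n) :
    ∃ n : kerN N, Commute ((n : N) : G) x ∧ θ n ≠ 1 := by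
  haveI := kerN_normal hG h
  obtain ⟨n, hn⟩ : ∃ n, θ n ≠ 1 := by
    by_contra hno
    push Not at hno
    exact hθ (MonoidHom.ext hno)
  set xN : N := ⟨x, x_mem_N hG h⟩
  set L : Subgroup G := (θ.ker.map (kerN N).subtype).map N.subtype with hL
  have hmem : ∀ m : kerN N, ((m : N) : G) ∈ L ↔ θ m = 1 := by
    intro m
    refine ⟨?_, fun hm => ⟨(m : N), ⟨m, hm, rfl⟩, rfl⟩⟩
    rintro ⟨_, ⟨m', hm', rfl⟩, e⟩
    rw [← Subtype.ext (a1 := m') (a2 := m) (Subtype.ext e)]
    exact hm'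
  have hxL : x ∈ normalizer (L : Set G) := by
    refine CfsgLib.Coprime.conjBy_eq_self_iff.1 (eq_of_le_of_card_ge ?_
      (CfsgLib.Coprime.card_conjBy x L).ge)
    rintro _ ⟨_, ⟨_, ⟨m, hm, rfl⟩, rfl⟩, rfl⟩
    show ((normalConjHom (kerN N) xN m : N) : G) ∈ L
    rw [hmem, hinv m (normalConjHom (kerN N) xN m) rfl]
    exact hm
  have hnL : ((n : N) : G) ∈ normalizer (L : Set G) := by
    refine CfsgLib.Coprime.conjBy_eq_self_iff.1 (eq_of_le_of_card_ge ?_
      (CfsgLib.Coprime.card_conjBy _ L).ge)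
    rintro _ ⟨_, ⟨_, ⟨m, hm, rfl⟩, rfl⟩, rfl⟩
    show ((n * m * n⁻¹ : kerN N) : N).1 ∈ L
    rw [hmem, map_mul, map_mul, show θ m = 1 from hm, mul_one, map_inv, mul_inv_cancel]
  have hcomm : ∀ g ∈ zpowers x, g * ((n : N) : G) * g⁻¹ * ((n : N) : G)⁻¹ ∈ L := by
    intro g hg
    obtain ⟨i, rfl⟩ := (isOfFinOrder_of_finite x).mem_powers_iff_mem_zpowers.2 hg
    have hi : ∀ j : ℕ, θ (normalConjHom (kerN N) (xN ^ j) n) = θ n := by
      intro j
      induction j with
      | zero =>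
        refine congrArg θ (Subtype.ext (Subtype.ext ?_))
        show (x ^ 0 : G) * n * (x ^ 0)⁻¹ = n
        simp
      | succ j ih =>
        rw [← ih]
        refine hinv _ _ ?_
        show (x ^ (j + 1) : G) * n * (x ^ (j + 1))⁻¹ = x * ((x ^ j : G) * n * (x ^ j)⁻¹) * x⁻¹
        rw [pow_succ']
        group
    show (((normalConjHom (kerN N) (xN ^ i) n * n⁻¹ : kerN N) : N) : G) ∈ L
    rw [hmem, map_mul, map_inv, hi, mul_inv_cancel]
  have hL2 : Nat.card L ∣ Nat.card (kerN N) := by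
    rw [hL, card_map_of_injective N.subtype_injective,
      card_map_of_injective (kerN N).subtype_injective]
    exact card_subgroup_dvd_card _
  obtain ⟨l, hl, hc⟩ := CfsgLib.Coprime.exists_fixed_in_coset (A := zpowers x) (N := L)
    (zpowers_le.2 hxL)
    (by rw [Nat.card_zpowers, h.bad.ord]
        exact ((h.bad.prime.coprime_iff_not_dvd.2 (not_dvd_kerN hG h))).coprime_dvd_right hL2)
    (Or.inl inferInstance) hnL hcomm
  obtain ⟨_, ⟨m, hm, rfl⟩, rfl⟩ := hl
  refine ⟨n * m, mem_centralizer_singleton_iff.1 ?_, ?_⟩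
  · rw [← centralizer_zpowers]
    exact hc
  · rw [map_mul, show θ m = 1 from hm, mul_one]
    exact hn

/-- A linear character of prime order invariant under `x` and `y`. -/
theorem exists_theta_inv {y : G} (hyN : y ∈ N) (hyo : (orderOf y).Coprime (Nat.card (kerN N)))
    (hyx : y ∈ normalizer (zpowers x : Set G)) {w : G} (hw : w ∈ sigmaCore N) (hwx : Commute w x)
    (hwy : Commute w y) (hwd : w ∉ ⁅sigmaCore N, sigmaCore N⁆) :
    ∃ θ : kerN N →* ℂˣ, (orderOf θ).Prime ∧
      (∀ n m : kerN N, ((m : N) : G) = x * ((n : N) : G) * x⁻¹ → θ m = θ n) ∧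
      (∀ n m : kerN N, ((m : N) : G) = y * ((n : N) : G) * y⁻¹ → θ m = θ n) := by
  classical
  haveI := kerN_normal hG h
  haveI := Fintype.ofFinite (kerN N)
  set wK : kerN N := ⟨⟨w, map_subtype_le _ hw⟩, hw⟩
  have hwc : wK ∉ commutator (kerN N) := fun hc => hwd ((mem_commutator_iff wK).1 hc)
  obtain ⟨θ₀, -, hθ₀⟩ := exists_linear_ne (commutator (kerN N))
    (fun a b => commutator_mem_commutator (mem_top a) (mem_top b)) hwc
  let φ : N → (kerN N →* kerN N) := fun g => normalConjHom (kerN N) g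
  have hφ : ∀ a b n, φ a (φ b n) = φ (a * b) n := fun a b n => Subtype.ext (by
    show a * (b * (n : N) * b⁻¹) * a⁻¹ = a * b * (n : N) * (a * b)⁻¹
    group)
  let avg : N → (kerN N →* ℂˣ) → (kerN N →* ℂˣ) := fun g θ =>
    ∏ i ∈ Finset.range (orderOf g), θ.comp (φ (g ^ i))
  have havg : ∀ g θ n, avg g θ (φ g n) = avg g θ n := fun g θ n => by
    simp only [avg, MonoidHom.finsetProd_apply, MonoidHom.comp_apply, hφ, ← pow_succ]
    have h1 := Finset.prod_range_succ (fun i => θ (φ (g ^ i) n)) (orderOf g)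
    rw [Finset.prod_range_succ', pow_orderOf_eq_one, pow_zero] at h1
    exact mul_right_cancel h1
  have havgw : ∀ g θ, φ g wK = wK → avg g θ wK = θ wK ^ orderOf g := fun g θ hg => by
    have : ∀ i, φ (g ^ i) wK = wK := by
      intro i
      induction i with
      | zero => exact Subtype.ext (show (g ^ 0) * (wK : N) * (g ^ 0)⁻¹ = wK by simp)
      | succ i ih => rw [pow_succ, ← hφ, hg, ih]
    simp only [avg, MonoidHom.finsetProd_apply, MonoidHom.comp_apply, this, Finset.prod_const,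
      Finset.card_range]
  have hfixw : ∀ (g : G) (hg : g ∈ N), Commute w g → φ ⟨g, hg⟩ wK = wK := fun g hg hc =>
    Subtype.ext (Subtype.ext (show g * w * g⁻¹ = w by rw [← hc.eq, mul_inv_cancel_right]))
  set xN : N := ⟨x, x_mem_N hG h⟩
  set yN : N := ⟨y, hyN⟩
  set θa := avg xN θ₀
  set θ := avg yN θa
  have hax : ∀ g ∈ zpowers xN, ∀ n, θa (φ g n) = θa n := by
    intro g hg
    obtain ⟨i, rfl⟩ := (isOfFinOrder_of_finite xN).mem_powers_iff_mem_zpowers.2 hg
    induction i with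
    | zero => intro n; exact congrArg θa (Subtype.ext (show (xN ^ 0) * (n : N) * (xN ^ 0)⁻¹ = n by simp))
    | succ i ih =>
      intro n
      show θa (φ (xN ^ (i + 1)) n) = θa n
      rw [pow_succ, ← hφ]
      exact (ih (pow_mem (mem_zpowers _) i) (φ xN n)).trans (havg xN θ₀ n)
  have hθx : ∀ n, θ (φ xN n) = θ n := fun n => by
    simp only [θ, avg, MonoidHom.finsetProd_apply, MonoidHom.comp_apply]
    refine Finset.prod_congr rfl fun i _ => ?_
    rw [hφ, show yN ^ i * xN = (yN ^ i * xN * (yN ^ i)⁻¹) * yN ^ i by group, ← hφ]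
    refine hax _ ?_ _
    obtain ⟨k, hk⟩ := mem_zpowers_iff.1
      ((mem_normalizer_iff.1 (pow_mem hyx i) x).1 (mem_zpowers x))
    exact mem_zpowers_iff.2 ⟨k, Subtype.ext (by simpa [xN, yN] using hk)⟩
  have hθ1 : θ wK ≠ 1 := by
    rw [show θ = avg yN θa from rfl, havgw yN θa (hfixw y hyN hwy),
      show θa = avg xN θ₀ from rfl, havgw xN θ₀ (hfixw x (x_mem_N hG h) hwx), ← pow_mul]
    intro e
    have hd : orderOf (θ₀ wK) ∣ Nat.card (kerN N) :=
      orderOf_dvd_of_pow_eq_one (by rw [← map_pow, pow_card_eq_one', map_one])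
    have hc : (orderOf xN * orderOf yN).Coprime (Nat.card (kerN N)) :=
      Nat.Coprime.mul_left (by
        rw [← orderOf_coe, show ((xN : N) : G) = x from rfl, h.bad.ord]
        exact h.bad.prime.coprime_iff_not_dvd.2 (not_dvd_kerN hG h))
        (by rw [← orderOf_coe]; exact hyo)
    exact hθ₀ (orderOf_eq_one_iff.1 (Nat.eq_one_of_dvd_coprimes hc (orderOf_dvd_of_pow_eq_one e) hd))
  have hθne : θ ≠ 1 := fun e => hθ1 (by rw [e]; rfl)
  have hfin : orderOf θ ≠ 0 := by
    refine (IsOfFinOrder.orderOf_pos (isOfFinOrder_iff_pow_eq_one.2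
      ⟨Nat.card (kerN N), Nat.card_pos, MonoidHom.ext fun n => ?_⟩)).ne'
    show θ n ^ Nat.card (kerN N) = 1
    rw [← map_pow, pow_card_eq_one', map_one]
  obtain ⟨l, hl, hld⟩ := Nat.exists_prime_and_dvd fun e => hθne ((orderOf_eq_one_iff (x := θ)).1 e)
  refine ⟨θ ^ (orderOf θ / l), ?_, fun n m hm => ?_, fun n m hm => ?_⟩
  · rw [orderOf_pow_orderOf_div hfin hld]
    exact hl
  · rw [show m = φ xN n from Subtype.ext (Subtype.ext hm)]
    exact congrArg (· ^ (orderOf θ / l)) (hθx n)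
  · rw [show m = φ yN n from Subtype.ext (Subtype.ext hm)]
    exact congrArg (· ^ (orderOf θ / l)) (havg yN θa n)

end CfsgLib.FT
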