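import Cfsg.Agent.Lib.FT.MeetMixedSmall
import Cfsg.Agent.Lib.FT.MeetMixedLines
import Cfsg.Agent.Lib.FT.MeetMixedTheta
import Cfsg.Agent.Lib.FT.MeetGroupNum
import Cfsg.Agent.Lib.FT.MeetZhat

/-!
# There is no mixed bad pair (`docs/FT-meet-gap2.md`, group facts)

`M` is a Frobenius group with abelian kernel `M_σ` and cyclic complement `E` of order `e`, and
`p + 1 < 2 e`.  Then `K = E ⊓ N` is a Hall `κ(N)`-subgroup of prime order `r`, the scalars of `E` on
`A`, and `e = r s` with `r ∣ p - 1`, `s ∣ p + 1`.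
-/

set_option autoImplicit false
set_option linter.unusedSectionVars false
set_option linter.style.haveILetI false

open Subgroup
open scoped commutatorElement

namespace CfsgLib.FT

open CfsgLib.CFun CfsgLib.CFun.TauTwo CfsgLib.CFun.Lines Cfsg CfsgLib.Char
open CfsgLib.Coprime (conjBy)

universe u

variable {G : Type u} [Group G] [Fintype G]

/-- Hypotheses of the mixed case. -/
structure MixedHyp (M N : Subgroup G) (x : G) (p : ℕ) (A E : Subgroup G) : Prop where
  nbr : Nbr M N x p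
  torus : Torus M N x p A
  der : sigmaDer M = ⊥
  compl : Cfsg.IsComplIn E (sigmaCore M) M
  cyclic : IsCyclic E
  regular : ∀ u ∈ E, u ≠ 1 → sigmaCore M ⊓ centralizer ({u} : Set G) = ⊥
  mixed : p + 1 < 2 * eIndex M

variable (hG : IsMinSimpleOddOrder G)
include hG

namespace MixedHyp

variable {M N A E : Subgroup G} {x : G} {p : ℕ} (h : MixedHyp M N x p A E)
include h

omit hG in
theorem commute_sigma {a b : G} (ha : a ∈ sigmaCore M) (hb : b ∈ sigmaCore M) : Commute a b := by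
  have h1 : ⁅a, b⁆ ∈ sigmaDer M := commutator_mem_commutator ha hb
  rw [h.der, mem_bot, commutatorElement_eq_one_iff_commute] at h1
  exact h1

omit hG in
theorem sigma_le_N : sigmaCore M ≤ N := fun a ha => h.nbr.centralizer_le
  (mem_centralizer_singleton_iff.2 (h.commute_sigma ha h.nbr.bad.mem).eq)

omit hG in
theorem inf_sigma : sigmaCore M ⊓ N = sigmaCore M := inf_eq_left.2 h.sigma_le_N

theorem normalizes_torus : M ≤ normalizer (A : Set G) := by
  haveI : Fact p.Prime := ⟨h.nbr.bad.prime⟩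
  intro m hm
  refine CfsgLib.Coprime.conjBy_eq_self_iff.1 (eq_of_le_of_card_ge ?_
    (CfsgLib.Coprime.card_conjBy m A).ge)
  rintro _ ⟨a, ha, rfl⟩
  show m * a * m⁻¹ ∈ A
  have hmem : m * a * m⁻¹ ∈ sigmaCore M :=
    (mem_normalizer_iff.1 (TauTwo.sigmaCore_normal hG M hm) a).1 (h.torus.le_sigma ha)
  by_cases ha1 : a = 1
  · rw [ha1]
    simp
  refine h.torus.lines (zpowers (m * a * m⁻¹))
    (zpowers_le.2 (mem_inf.2 ⟨map_subtype_le _ hmem, h.sigma_le_N hmem⟩)) ?_ (mem_zpowers _)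
  rw [Nat.card_zpowers, ← MulAut.conj_apply, MulEquiv.orderOf_eq]
  exact orderOf_eq_prime (h.torus.elem.2 a ha) ha1

theorem card_compl : Nat.card E = eIndex M := by
  have h1 := Kappa.card_of_compl h.compl
  rw [← CfsgLib.Coprime.card_mul_relIndex (map_subtype_le _ : sigmaCore M ≤ M), mul_comm] at h1
  exact (Nat.eq_of_mul_eq_mul_right Nat.card_pos h1).symm

theorem compl_le_normalizer : E ≤ normalizer (A : Set G) :=
  h.compl.1.trans (h.normalizes_torus hG)

theorem torus_regular {u : G} (hu : u ∈ E) (hu1 : u ≠ 1) : A ⊓ centralizer ({u} : Set G) = ⊥ :=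
  le_bot_iff.1 ((inf_le_inf_right _ h.torus.le_sigma).trans (h.regular u hu hu1).le)

theorem dvd_sq_pred : eIndex M ∣ p ^ 2 - 1 := by
  have := card_dvd_pred_of_regular (h.compl_le_normalizer hG) fun g hg hg1 => h.torus_regular hG hg hg1
  rwa [h.torus.card, h.card_compl hG] at this

theorem commute_compl {a b : G} (ha : a ∈ E) (hb : b ∈ E) : a * b = b * a := by
  haveI := h.cyclic
  exact (congrArg Subtype.val (mul_comm' (⟨a, ha⟩ : E) ⟨b, hb⟩) :)

theorem compl_odd : Odd (Nat.card E) := hG.1.of_dvd_nat (card_subgroup_dvd_card E)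

/-- `E` normalizes no line of `A`. -/
theorem no_line {L : Subgroup G} (hL : L ≤ A) (hLc : Nat.card L = p) :
    ¬ E ≤ normalizer (L : Set G) := by
  haveI : Fact p.Prime := ⟨h.nbr.bad.prime⟩
  intro hEL
  haveI := h.cyclic
  obtain ⟨g, hg⟩ := IsCyclic.exists_generator (α := E)
  have h1 : (g : G) ^ (p - 1) = 1 := by
    by_contra hne
    refine line_ne_bot hLc (le_bot_iff.1 ?_)
    rw [← h.regular _ (pow_mem g.2 _) hne]
    exact le_inf (hL.trans h.torus.le_sigma) fun w hw => mem_centralizer_singleton_iff.2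
      (mem_centralizer_iff.1 (MeetStructure.pow_pred_mem_centralizer hLc (hEL g.2)) w hw)
  have h2 : Nat.card E ∣ p - 1 := by
    rw [← orderOf_eq_card_of_forall_mem_zpowers hg]
    exact orderOf_dvd_of_pow_eq_one (Subtype.ext (by simpa using h1))
  have h3 := Nat.le_of_dvd (by have := h.nbr.bad.prime.two_le; omega) h2
  rw [h.card_compl hG] at h3
  obtain ⟨c, hc⟩ := h2
  have hpo : p % 2 = 1 ∨ p = 2 := (h.nbr.bad.prime.eq_two_or_odd).symm
  have hodd := h.compl_odd hG
  rw [h.card_compl hG] at hc hodd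
  have hc1 : 2 ≤ c := by
    rcases c with _ | _ | c
    · have := h.nbr.bad.prime.two_le
      rw [Nat.mul_zero] at hc
      omega
    · obtain ⟨t, ht⟩ := hodd
      rw [Nat.zero_add, Nat.mul_one] at hc
      have := h.mixed
      rcases hpo with h4 | h4 <;> omega
    · omega
  have := Nat.mul_le_mul_left (eIndex M) hc1
  have := h.mixed
  omega

/-- An element of `E` of order dividing `p - 1` acts as a scalar. -/
theorem normalizes_lines {v : G} (hv : v ∈ E) (hvp : v ^ (p - 1) = 1) {W : Subgroup G} (hW : W ≤ A) :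
    v ∈ normalizer (W : Set G) := by
  haveI : Fact p.Prime := ⟨h.nbr.bad.prime⟩
  have hne : A ≠ ⊥ := fun e => h.torus.mem |> fun hx => h.nbr.bad.ne_one (mem_bot.1 (e ▸ hx))
  obtain ⟨a, ha, ha1, hva⟩ := exists_line_of_pow_pred h.torus.elem hne
    (h.compl_le_normalizer hG hv) hvp
  have hac : Nat.card (zpowers a) = p := zpowers_card h.torus.elem ha ha1
  exact ((normalizes_all_or h.torus.elem h.torus.card (h.compl_odd hG) (h.compl_le_normalizer hG)
    (fun a ha b hb => h.commute_compl hG ha hb) hv (zpowers_le.2 ha) hac hva).resolve_left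
      (h.no_line hG (zpowers_le.2 ha) hac)) W hW

/-- An element of `M` normalizing `⟨x⟩` lies in `N`. -/
theorem mem_of_normalize {v : G} (hv : v ∈ normalizer (zpowers x : Set G)) : v ∈ N := by
  rw [← ms_normalizer_self hG h.nbr.coatom]
  refine CfsgLib.Coprime.conjBy_eq_self_iff.1 (h.nbr.unique _ (isCoatom_conjBy v h.nbr.coatom) ?_)
  refine le_trans (le_of_eq ?_) (map_mono h.nbr.centralizer_le)
  rw [← centralizer_zpowers]
  exact (CfsgLib.Coprime.conjBy_eq_self_iff.2
    (CfsgLib.Coprime.normalizer_le_normalizer_centralizer _ hv)).symm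

theorem scalar_mem {v : G} (hv : v ∈ E) (hvp : v ^ (p - 1) = 1) : v ∈ E ⊓ N :=
  mem_inf.2 ⟨hv, h.mem_of_normalize hG (h.normalizes_lines hG hv hvp (zpowers_le.2 h.torus.mem))⟩

/-- `D = M_σ K`. -/
theorem exists_split {m : G} (hm : m ∈ M ⊓ N) :
    ∃ u ∈ E ⊓ N, ∃ k ∈ sigmaCore M, m = u * k := by
  obtain ⟨u, hu, k, hk, rfl⟩ := h.compl.2.2.2 m (mem_inf.1 hm).1
  refine ⟨u, mem_inf.2 ⟨hu, ?_⟩, k, hk, rfl⟩
  simpa using mul_mem (mem_inf.1 hm).2 (inv_mem (h.sigma_le_N hk))

theorem card_D : Nat.card (M ⊓ N : Subgroup G) =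
    Nat.card (E ⊓ N : Subgroup G) * Nat.card (sigmaCore M) :=
  Kappa.card_of_compl ⟨inf_le_inf_right _ h.compl.1,
    le_inf (map_subtype_le _) h.sigma_le_N,
    le_bot_iff.1 ((inf_le_inf_right _ inf_le_left).trans h.compl.2.2.1.le),
    fun _ hm => h.exists_split hG hm⟩

theorem coprime_compl : (Nat.card E).Coprime (Nat.card (sigmaCore M)) :=
  compl_coprime hG h.nbr.bad.coatom h.compl

/-- Every prime of `K` lies in `κ(N)`. -/
theorem prime_mem_kappa {t : ℕ} (ht : t.Prime) (htd : t ∣ Nat.card (E ⊓ N : Subgroup G)) :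
    t ∈ Cfsg.kappa N := by
  haveI : Fact t.Prime := ⟨ht⟩
  haveI : Fact p.Prime := ⟨h.nbr.bad.prime⟩
  have hN := h.nbr.coatom
  obtain ⟨⟨v, hvK⟩, hvo⟩ := exists_prime_orderOf_dvd_card' t htd
  rw [Subgroup.orderOf_mk] at hvo
  obtain ⟨hvE, hvN⟩ := mem_inf.1 hvK
  have hv1 : v ≠ 1 := fun e => ht.ne_one (by rw [← hvo, e, orderOf_one])
  have hvD : v ∈ M ⊓ N := mem_inf.2 ⟨h.compl.1 hvE, hvN⟩
  have hVc : Nat.card (zpowers v) = t := by rw [Nat.card_zpowers, hvo]
  have hVD : zpowers v ≤ M ⊓ N := zpowers_le.2 hvD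
  have htσ : t ∉ Cfsg.sigma N :=
    Compl.compl_not_sigma hG hN h.nbr.compl (hVc ▸ card_dvd_of_le hVD)
  have hr1 : Cfsg.PRankLE t 1 N := by
    refine (tau_or_rank_one hG hN ht htσ).resolve_left fun htt => ?_
    obtain ⟨B, hBD, hBe, hB2⟩ := Compl.exists_elementary_compl hG hN h.nbr.compl htt
    have hBM : B ≤ M := hBD.trans inf_le_left
    haveI hn : ((sigmaCore M).subgroupOf M).Normal :=
      normal_subgroupOf_of_le_normalizer (TauTwo.sigmaCore_normal hG M)
    let q := QuotientGroup.mk' ((sigmaCore M).subgroupOf M)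
    haveI := h.cyclic
    haveI : IsCyclic (M ⧸ (sigmaCore M).subgroupOf M) := by
      refine isCyclic_of_surjective (q.comp (inclusion h.compl.1)) fun z => ?_
      obtain ⟨⟨m, hm⟩, rfl⟩ := QuotientGroup.mk'_surjective _ z
      obtain ⟨u, hu, k, hk, e⟩ := h.compl.2.2.2 m hm
      refine ⟨⟨u, hu⟩, (QuotientGroup.eq (s := (sigmaCore M).subgroupOf M)).2 ?_⟩
      show u⁻¹ * m ∈ sigmaCore M
      rwa [e, inv_mul_cancel_left]
    refine not_isCyclic_of_elementary hBe hB2.ge
      (isCyclic_of_injective (q.comp (inclusion hBM)) ?_)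
    rw [injective_iff_map_eq_one]
    intro b hb
    have hbσ : (b : G) ∈ B ⊓ sigmaCore M :=
      mem_inf.2 ⟨b.2, (QuotientGroup.eq_one_iff (inclusion hBM b)).1 hb⟩
    rw [inf_eq_bot_of_coprime (Nat.Coprime.coprime_dvd_right dvd_rfl (hB2 ▸
      (((h.coprime_compl hG).coprime_dvd_left (hvo ▸ Subgroup.orderOf_dvd_natCard E hvE)).pow_left 2))),
      mem_bot] at hbσ
    exact Subtype.ext hbσ
  by_contra hκ
  have hfix := Partner.line_regular hG hN (hVD.trans inf_le_right) hVc htσ hκ hr1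
  rw [centralizer_zpowers] at hfix
  have hAD : A ≤ M ⊓ N := h.torus.le
  have hQ := TauTwo.sigmaCore_normal hG N
  have hc := card_eq_fixed_of_frob (A := A) (H := sigmaCore N) (y := v)
    (h.compl_le_normalizer hG hvE) (fun i hi => h.torus_regular hG (pow_mem hvE i) hi)
    (le_bot_iff.1 ((inf_le_inf h.torus.le_sigma (zpowers_le.2 hvE)).trans
      (inf_comm (sigmaCore M) E ▸ h.compl.2.2.1).le))
    ((hAD.trans inf_le_right).trans hQ) (hQ hvN) (sigmaCore_solvable hG hN)
    (((compl_coprime hG hN h.nbr.compl).coprime_dvd_left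
      (card_dvd_of_le (sup_le hAD hVD))).symm) h.torus.fixed
  rw [hfix, card_bot, one_pow] at hc
  exact sigmaCore_ne_bot hG hN (card_eq_one.1 hc)

/-- `K` is a Hall `κ(N)`-subgroup. -/
theorem hall : Cfsg.IsPiHallOf (Cfsg.kappa N) (E ⊓ N) N := by
  refine ⟨inf_le_right, fun t ht htd => h.prime_mem_kappa hG ht htd, fun t ht hκ htd => ?_⟩
  haveI : Fact t.Prime := ⟨ht⟩
  have hN := h.nbr.coatom
  have h1 := Kappa.card_of_compl h.nbr.compl
  rw [← CfsgLib.Coprime.card_mul_relIndex (inf_le_right : E ⊓ N ≤ N), h.card_D hG, mul_assoc] at h1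
  rw [Nat.eq_of_mul_eq_mul_left Nat.card_pos h1] at htd
  rcases ht.dvd_mul.1 htd with hd | hd
  · obtain ⟨⟨d, hd'⟩, hdo⟩ := exists_prime_orderOf_dvd_card' t hd
    rw [Subgroup.orderOf_mk] at hdo
    exact h.nbr.not_kappa hG h.torus (mem_inf.2 ⟨hd', h.sigma_le_N hd'⟩) ht (dvd_of_eq hdo.symm) hκ
  · exact hκ.2.2.1 ((sigmaCore_hall hG hN).1.2.1 t ht hd)

/-- A prime `q` of both `e` and `p - 1` gives an element of order `q` in `K`. -/
theorem dvd_card_K {q : ℕ} (hq : q ∣ eIndex M) (hqp : q ∣ p - 1) :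
    q ∣ Nat.card (E ⊓ N : Subgroup G) := by
  haveI := h.cyclic
  obtain ⟨g, hg⟩ := IsCyclic.exists_generator (α := E)
  have hgo : orderOf (g : G) = eIndex M := by
    rw [Subgroup.orderOf_coe, orderOf_eq_card_of_forall_mem_zpowers hg, h.card_compl hG]
  have he : eIndex M ≠ 0 := by rw [← h.card_compl hG]; exact Nat.card_pos.ne'
  have hvo : orderOf ((g : G) ^ (eIndex M / q)) = q := by
    rw [← hgo]
    exact orderOf_pow_orderOf_div (hgo ▸ he) (hgo ▸ hq)
  rw [← hvo]
  refine Subgroup.orderOf_dvd_natCard _ (h.scalar_mem hG (pow_mem g.2 _) ?_)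
  exact orderOf_dvd_iff_pow_eq_one.1 (by rw [hvo]; exact hqp)

/-- `|K|` is prime. -/
theorem card_K_prime : (Nat.card (E ⊓ N : Subgroup G)).Prime := by
  haveI : Fact p.Prime := ⟨h.nbr.bad.prime⟩
  have hN := h.nbr.coatom
  have hK1 : E ⊓ N ≠ ⊥ := by
    intro e
    have hcop : (eIndex M).Coprime (p - 1) := Nat.coprime_of_dvd fun q hq h1 h2 => hq.not_dvd_one (by
      have := h.dvd_card_K hG h1 h2
      rwa [e, card_bot] at this)
    have h2 : eIndex M ∣ p + 1 := by
      refine hcop.dvd_of_dvd_mul_left ?_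
      have := h.dvd_sq_pred hG
      rwa [show p ^ 2 - 1 = (p - 1) * (p + 1) by rw [mul_comm]; exact Nat.sq_sub_sq p 1] at this
    obtain ⟨c, hc⟩ := h2
    have hodd := eIndex_odd hG (M := M)
    have hc2 : 2 ≤ c := by
      rcases c with _ | _ | c
      · omega
      · have hp2 : p ≠ 2 := ms_ne_two hG ((dvd_of_eq h.nbr.bad.ord.symm).trans (orderOf_dvd_natCard x))
        have := h.nbr.bad.prime.eq_two_or_odd
        obtain ⟨t, ht⟩ := hodd
        omega
      · omega
    have := Nat.mul_le_mul_left (eIndex M) hc2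
    have := h.mixed
    omega
  obtain ⟨U, d⟩ := Decomp.exists_decomp hG hN (h.hall hG)
  have hpN : p ∣ Nat.card N := h.nbr.bad.ord ▸
    Subgroup.orderOf_dvd_natCard _ (mem_inf.1 h.nbr.mem_D).2
  rw [Decomp.card_eq hG hN d] at hpN
  have hU : U ≠ ⊥ := by
    rintro rfl
    rw [card_bot, one_mul] at hpN
    rcases h.nbr.bad.prime.dvd_mul.1 hpN with hd | hd
    · exact h.nbr.not_kappa hG h.torus h.nbr.mem_D1 h.nbr.bad.prime (dvd_of_eq h.nbr.bad.ord.symm)
        ((h.hall hG).2.1 p h.nbr.bad.prime hd)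
    · exact h.nbr.tau.2.1 ((sigmaCore_hall hG hN).1.2.1 p h.nbr.bad.prime hd)
  exact (Partner.prime_of_U_ne_bot hG hN d hK1 hU).1

/-- The numerical facts. -/
theorem nums : ∃ s : ℕ, 3 ≤ Nat.card (E ⊓ N : Subgroup G) ∧
    Nat.card (E ⊓ N : Subgroup G) ∣ p - 1 ∧ 3 ≤ s ∧ s ∣ p + 1 ∧
    eIndex M = Nat.card (E ⊓ N : Subgroup G) * s := by
  haveI : Fact p.Prime := ⟨h.nbr.bad.prime⟩
  have hr := h.card_K_prime hG
  set r := Nat.card (E ⊓ N : Subgroup G) with hr_def
  haveI : Fact r.Prime := ⟨hr⟩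
  have hp := h.nbr.bad.prime
  have hre : r ∣ eIndex M := h.card_compl hG ▸ card_dvd_of_le inf_le_left
  have hp2 : p ≠ 2 := ms_ne_two hG ((dvd_of_eq h.nbr.bad.ord.symm).trans (orderOf_dvd_natCard x))
  have hr2 : r ≠ 2 := ms_ne_two hG (card_subgroup_dvd_card _)
  have hpo := hp.eq_two_or_odd
  have hrp : r ∣ p - 1 := by
    by_contra hnd
    have hcop : (eIndex M).Coprime (p - 1) := Nat.coprime_of_dvd fun q hq h1 h2 => by
      rw [(Nat.prime_dvd_prime_iff_eq hq hr).1 (h.dvd_card_K hG h1 h2)] at h2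
      exact hnd h2
    have h2 : eIndex M ∣ p + 1 := hcop.dvd_of_dvd_mul_left (by
      have := h.dvd_sq_pred hG
      rwa [show p ^ 2 - 1 = (p - 1) * (p + 1) by rw [mul_comm]; exact Nat.sq_sub_sq p 1] at this)
    obtain ⟨c, hc⟩ := h2
    obtain ⟨t, ht⟩ := eIndex_odd hG (M := M)
    have := h.mixed
    have hc2 : 2 ≤ c := by
      rcases c with _ | _ | c <;> omega
    have := Nat.mul_le_mul_left (eIndex M) hc2
    omega
  obtain ⟨s, hs⟩ := hre
  have h4 : ¬ r ∣ p + 1 := fun hd => by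
    have h5 := Nat.dvd_sub hd hrp
    rw [show p + 1 - (p - 1) = 2 by have := hp.two_le; omega] at h5
    exact hr2 ((Nat.prime_dvd_prime_iff_eq hr Nat.prime_two).1 h5)
  have hsp : s.Coprime (p - 1) := Nat.coprime_of_dvd fun q hq h1 h2 => by
    have hqr : q = r := (Nat.prime_dvd_prime_iff_eq hq hr).1
      (h.dvd_card_K hG (hs ▸ h1.mul_left r) h2)
    subst hqr
    have h3 : r * r ∣ p - 1 := by
      refine (Nat.Coprime.mul_left (hr.coprime_iff_not_dvd.2 h4) (hr.coprime_iff_not_dvd.2 h4))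
        |>.dvd_of_dvd_mul_right ?_
      have := h.dvd_sq_pred hG
      rw [show p ^ 2 - 1 = (p - 1) * (p + 1) by rw [mul_comm]; exact Nat.sq_sub_sq p 1, hs] at this
      exact (mul_dvd_mul_left r h1).trans this
    have h5 := h.dvd_card_K hG (hs ▸ mul_dvd_mul_left r h1) h3
    rw [← hr_def] at h5
    have := Nat.le_of_dvd hr.pos h5
    have := hr.two_le
    nlinarith
  have hsd : s ∣ p + 1 := hsp.dvd_of_dvd_mul_left (by
    have := h.dvd_sq_pred hG
    rw [show p ^ 2 - 1 = (p - 1) * (p + 1) by rw [mul_comm]; exact Nat.sq_sub_sq p 1, hs] at this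
    exact (dvd_mul_left s r).trans this)
  refine ⟨s, ?_, hrp, ?_, hsd, hs⟩
  · have := hr.two_le
    omega
  · have hodd := hs ▸ eIndex_odd hG (M := M)
    obtain ⟨t, ht⟩ := (Nat.odd_mul.1 hodd).2
    rcases t with _ | t
    · exfalso
      have h6 := Nat.le_of_dvd (by have := hp.two_le; omega) hrp
      obtain ⟨c, hc⟩ := hrp
      have hro := (Nat.odd_mul.1 hodd).1
      obtain ⟨w, hw⟩ := hro
      have hc2 : 2 ≤ c := by
        rcases c with _ | _ | c <;> omega
      have := Nat.mul_le_mul_left r hc2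
      have := h.mixed
      rw [hs, ht] at this
      omega
    · omega

/-- `|M_σ| = p ^ 2`, or it is at least `p ^ 2 (2 e + 1)`. -/
theorem size : kZero M = p ^ 2 ∨ p ^ 2 * (2 * eIndex M + 1) ≤ kZero M := by
  have hM := h.nbr.bad.coatom
  have hk : kZero M = Nat.card (sigmaCore M) := by rw [kZero, h.der, relIndex_bot_left]
  have h1 : eIndex M ∣ Nat.card (sigmaCore M) - 1 := h.card_compl hG ▸
    card_dvd_pred_of_regular (h.compl.1.trans (TauTwo.sigmaCore_normal hG M)) h.regular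
  obtain ⟨t, ht⟩ : p ^ 2 ∣ Nat.card (sigmaCore M) := h.torus.card ▸ card_dvd_of_le h.torus.le_sigma
  have hodd : Odd (p ^ 2 * t) := ht ▸ hG.1.of_dvd_nat (card_subgroup_dvd_card _)
  obtain ⟨hodd1, hoddt⟩ := Nat.odd_mul.1 hodd
  have hp2 : 0 < p ^ 2 := pow_pos h.nbr.bad.prime.pos 2
  have ht0 : 0 < t := hoddt.pos
  have he : eIndex M ∣ t - 1 := by
    have h2 : eIndex M ∣ (p ^ 2 - 1) * t := (h.dvd_sq_pred hG).mul_right t
    rw [ht] at h1
    have h3 : p ^ 2 * t - 1 - (p ^ 2 - 1) * t = t - 1 := by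
      rw [Nat.sub_mul, one_mul]
      have : t ≤ p ^ 2 * t := Nat.le_mul_of_pos_left t hp2
      omega
    exact h3 ▸ Nat.dvd_sub h1 h2
  obtain ⟨c, hc⟩ := he
  rw [hk, ht]
  rcases Nat.eq_zero_or_pos c with hc0 | hc0
  · left
    rw [show t = 1 by rw [hc0, mul_zero] at hc; omega, mul_one]
  · right
    refine Nat.mul_le_mul_left _ ?_
    obtain ⟨a, ha⟩ := eIndex_odd hG (M := M)
    obtain ⟨b, hb⟩ := hoddt
    have hc2 : 2 ≤ c := by
      rcases c with _ | _ | c <;> omega
    have := Nat.mul_le_mul_left (eIndex M) hc2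
    omega

/-- There is no mixed bad pair. -/
protected theorem false
    (hfix : ¬ sigmaCore N ⊓ centralizer ({x} : Set G) ≤ ⁅sigmaCore N, sigmaCore N⁆) : False := by
  haveI : Fact p.Prime := ⟨h.nbr.bad.prime⟩
  have hM := h.nbr.bad.coatom
  have hN := h.nbr.coatom
  have hd : BadData M N x p := h.nbr.badData hG hfix
  obtain ⟨s, hr3, hrp, hs3, hsp, hes⟩ := h.nums hG
  set r := Nat.card (E ⊓ N : Subgroup G) with hr_def
  have hr : r.Prime := h.card_K_prime hG
  haveI : Fact r.Prime := ⟨hr⟩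
  have hp5 : 5 ≤ p := by
    have h6 := Nat.le_of_dvd (by have := h.nbr.bad.prime.two_le; omega) hrp
    have := h.nbr.bad.prime.eq_two_or_odd
    rcases eq_or_ne p 4 with rfl | _
    · exact absurd h.nbr.bad.prime (by decide)
    · omega
  obtain ⟨⟨y, hyK⟩, hyo⟩ := exists_prime_orderOf_dvd_card' r (dvd_refl r)
  rw [Subgroup.orderOf_mk] at hyo
  obtain ⟨hyE, hyN⟩ := mem_inf.1 hyK
  have hy1 : y ≠ 1 := fun e => hr.ne_one (by rw [← hyo, e, orderOf_one])
  have hyD : y ∈ M ⊓ N := mem_inf.2 ⟨h.compl.1 hyE, hyN⟩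
  have hyK' : zpowers y = E ⊓ N := eq_of_le_of_card_ge (zpowers_le.2 hyK)
    (by rw [Nat.card_zpowers, hyo])
  have hyp : y ^ (p - 1) = 1 := orderOf_dvd_iff_pow_eq_one.1 (hyo ▸ hrp)
  have hyA := h.compl_le_normalizer hG hyE
  have hyx : y ∈ normalizer (zpowers x : Set G) :=
    h.normalizes_lines hG hyE hyp (zpowers_le.2 h.torus.mem)
  have hfpf : ∀ i : ℕ, y ^ i ≠ 1 → A ⊓ centralizer ({y ^ i} : Set G) = ⊥ :=
    fun i hi => h.torus_regular hG (pow_mem hyE i) hi
  have hdisj : A ⊓ zpowers y = ⊥ := le_bot_iff.1 ((inf_le_inf h.torus.le_sigma (zpowers_le.2 hyE)).trans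
    (inf_comm (sigmaCore M) E ▸ h.compl.2.2.1).le)
  obtain ⟨w, hw, hwx, hwy, hwd⟩ := exists_fixed_not_der hG hd
    (le_inf h.torus.le_sigma (h.torus.le.trans inf_le_right))
    (fun a ha => h.commute_sigma (h.torus.le_sigma ha) h.nbr.bad.mem) h.torus.fixed hyD hyA hyx
    hfpf hdisj
  have hyc : (orderOf y).Coprime (Nat.card (kerN N)) := by
    refine ((compl_coprime hG hN h.nbr.compl).coprime_dvd_left
      (Subgroup.orderOf_dvd_natCard _ hyD)).coprime_dvd_right ?_
    exact dvd_of_eq (Nat.card_congr (subgroupOfEquivOfLe (map_subtype_le _ : sigmaCore N ≤ N)).toEquiv)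
  obtain ⟨θ, hθp, hθx, hθy⟩ := exists_theta_inv hG hd hyN hyc hyx hw hwx hwy hwd
  have hθ1 : θ ≠ 1 := fun e => hθp.ne_one (by rw [e, orderOf_one])
  have hK := h.hall hG
  have hK1 : E ⊓ N ≠ ⊥ := fun e => hr.ne_one (by rw [hr_def, e, card_bot])
  have hcK : ∀ v, Commute y v → v ∈ centralizer ((E ⊓ N : Subgroup G) : Set G) := fun v hv => by
    rw [← hyK', centralizer_zpowers]
    exact mem_centralizer_singleton_iff.2 hv.eq.symm
  obtain ⟨n₀, hn₀, hn₀1⟩ :=
    (bot_or_exists_ne_one _).resolve_left (Kappa.fixed_ne_bot hG hN hK)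
  have hX : MixedData M N x y p r s θ :=
    { le_N := h.sigma_le_N
      der := h.der
      five_le := hp5
      r_prime := hr
      three_le_r := hr3
      r_dvd := hrp
      three_le_s := hs3
      s_dvd := hsp
      e_eq := hes
      index_eq := by
        have h1 := index_zeroN hG hd
        rw [index_kerN hG hd, h.card_D hG, h.inf_sigma] at h1
        exact Nat.eq_of_mul_eq_mul_right Nat.card_pos h1
      y_mem := hyD
      y_ord := hyo
      normalize := fun m hm => by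
        obtain ⟨u, hu, k, hk, rfl⟩ := h.exists_split hG hm
        refine mul_mem ?_ (CfsgLib.Coprime.centralizer_le_normalizer_self _ ?_)
        · rw [← hyK'] at hu
          exact zpowers_le.2 hyx hu
        · rw [centralizer_zpowers]
          exact mem_centralizer_singleton_iff.2 (h.commute_sigma hk h.nbr.bad.mem).eq
      move := fun hc => by
        have h1 : x ∈ A ⊓ centralizer ({y} : Set G) :=
          mem_inf.2 ⟨h.torus.mem, mem_centralizer_singleton_iff.2 hc.eq.symm⟩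
        rw [h.torus_regular hG hyE hy1, mem_bot] at h1
        exact h.nbr.bad.ne_one h1
      inv_x := hθx
      inv_y := hθy
      theta_fix := exists_fix_ne hG hd hθ1 hθx
      theta_prime := hθp
      y_fix := ⟨⟨⟨n₀, map_subtype_le _ (mem_inf.1 hn₀).1⟩, (mem_inf.1 hn₀).1⟩,
        fun e => hn₀1 (congrArg (fun z : sigmaIn N => ((z : N) : G)) e),
        (mem_centralizer_iff.1 (mem_inf.1 hn₀).2 y hyK).symm⟩
      y_cent := fun v hv hv1 hyv c hc => by
        obtain ⟨h1, h2⟩ := mem_inf.1 hc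
        exact centralizer_inf_le hG hN hK hK1 hyK hy1 hv (hcK v hyv) hv1
          (mem_centralizer_singleton_iff.1 h1) (mem_centralizer_singleton_iff.1 h2) }
  have hF : FpfAb M := fpfAb_of_fixed hG hM h.compl fun u hu hu1 => by
    rw [h.regular u hu hu1]
    exact bot_le
  obtain ⟨b⟩ := exists_member hG hF
  obtain ⟨F, -⟩ := Family.exists_family hG hF b
  refine hX.false hG hd hF F (fun v hv hv1 hyv => ?_) (h.size hG)
  exact F.mu_mul_zero hG hF hN hK hK1 F.base hyK hy1 hv (hcK v hyv) hv1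

end MixedHyp

end CfsgLib.FT
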