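import Cfsg.Agent.Lib.FT.MeetTools
import Cfsg.Agent.Lib.FT.FamilyBasic

/-!
# Functions on `⟨x⟩ Q` vanishing on `Q` (`docs/FT-meet-gap2.md`, step 3)

`Q` is normal, `x ∉ Q` has prime order `p`, `H = ⟨x⟩ Q`.  For a linear character `f` of `H` the function
`offFun Q f` is `p f` off `Q` and `0` on `Q`.
-/

set_option autoImplicit false
set_option linter.unusedSectionVars false
set_option linter.style.haveILetI false

open Subgroup

namespace CfsgLib.FT

open Cfsg CfsgLib.Char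
open scoped ComplexConjugate

universe u

variable {Γ : Type u} [Group Γ]

/-- `⟨x⟩ Q` -/
abbrev hatGroup (Q : Subgroup Γ) (x : Γ) : Subgroup Γ := zpowers x ⊔ Q

theorem mem_hatGroup_self (Q : Subgroup Γ) (x : Γ) : x ∈ hatGroup Q x := mem_sup_left (mem_zpowers x)

theorem le_hatGroup (Q : Subgroup Γ) (x : Γ) : Q ≤ hatGroup Q x := le_sup_right

open Classical in
/-- `p f` off `Q`, zero on `Q`. -/
noncomputable def offFun (Q : Subgroup Γ) {x : Γ} (p : ℕ) (f : hatGroup Q x →* ℂˣ) :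
    hatGroup Q x → ℂ :=
  fun a => if (a : Γ) ∈ Q then 0 else (p : ℂ) * (f a : ℂ)

variable [Fintype Γ] {Q : Subgroup Γ} [Q.Normal] {x : Γ} {p : ℕ}
  (hp : p.Prime) (hxo : orderOf x = p) (hxQ : x ∉ Q)
include hp hxo hxQ

theorem eq_zero_of_pow_mem {i : ℕ} (hi : i < p) (h : x ^ i ∈ Q) : i = 0 := by
  by_contra h0
  refine hxQ ?_
  have hc : i.Coprime p := ((hp.coprime_iff_not_dvd).2 fun hd =>
    hi.not_ge (Nat.le_of_dvd (Nat.pos_of_ne_zero h0) hd)).symm
  have h2 : x ∈ zpowers (x ^ i) := mem_zpowers_pow_iff.2 (hxo ▸ hc)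
  exact zpowers_le.2 h h2

theorem exists_decomp {a : Γ} (ha : a ∈ hatGroup Q x) : ∃ i < p, ∃ q ∈ Q, a = x ^ i * q := by
  classical
  obtain ⟨b, hb, q, hq, rfl⟩ := mem_sup_of_normal_right.1 ha
  rw [mem_zpowers_iff_mem_range_orderOf, Finset.mem_image] at hb
  obtain ⟨i, hi, rfl⟩ := hb
  exact ⟨i, hxo ▸ Finset.mem_range.1 hi, q, hq, rfl⟩

theorem decomp_unique {i i' : ℕ} (hi : i < p) (hi' : i' < p) {q q' : Γ} (hq : q ∈ Q) (hq' : q' ∈ Q)
    (e : x ^ i * q = x ^ i' * q') : i = i' ∧ q = q' := by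
  have key : i = i' := by
    rcases le_total i i' with hle | hle
    · have h1 : x ^ (i' - i) ∈ Q := by
        have : x ^ (i' - i) = q * q'⁻¹ := by
          rw [eq_mul_inv_iff_mul_eq]
          apply mul_left_cancel (a := x ^ i)
          rw [← mul_assoc, ← pow_add, Nat.add_sub_cancel' hle, e]
        rw [this]
        exact mul_mem hq (inv_mem hq')
      have := eq_zero_of_pow_mem hp hxo hxQ (by omega) h1
      omega
    · have h1 : x ^ (i - i') ∈ Q := by
        have : x ^ (i - i') = q' * q⁻¹ := by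
          rw [eq_mul_inv_iff_mul_eq]
          apply mul_left_cancel (a := x ^ i')
          rw [← mul_assoc, ← pow_add, Nat.add_sub_cancel' hle, ← e]
        rw [this]
        exact mul_mem hq' (inv_mem hq)
      have := eq_zero_of_pow_mem hp hxo hxQ (by omega) h1
      omega
  subst key
  exact ⟨rfl, mul_left_cancel e⟩

/-- A linear character of `Q` fixed by `x` extends with value `1` at `x`. -/
theorem exists_hat (θ : Q →* ℂˣ) (hinv : ∀ n m : Q, (m : Γ) = x * n * x⁻¹ → θ m = θ n) :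
    ∃ f : hatGroup Q x →* ℂˣ, f ⟨x, mem_hatGroup_self Q x⟩ = 1 ∧
      ∀ n : Q, f ⟨n, le_hatGroup Q x n.2⟩ = θ n := by
  classical
  have hinvpow : ∀ (i : ℕ) (n m : Q), (m : Γ) = x ^ i * n * (x ^ i)⁻¹ → θ m = θ n := by
    intro i
    induction i with
    | zero => intro n m e; rw [show m = n from Subtype.ext (by simpa using e)]
    | succ i ih =>
      intro n m e
      let k : Q := ⟨x ^ i * n * (x ^ i)⁻¹, (inferInstance : Q.Normal).conj_mem n n.2 _⟩
      rw [hinv k m (by rw [e, pow_succ']; show _ = x * (x ^ i * n * (x ^ i)⁻¹) * x⁻¹; group), ih n k rfl]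
  choose I hI q hq e using fun a : hatGroup Q x => exists_decomp hp hxo hxQ a.2
  let f : hatGroup Q x → ℂˣ := fun a => θ ⟨q a, hq a⟩
  have hval : ∀ (a : hatGroup Q x) (i : ℕ) (n : Q), (a : Γ) = x ^ i * n → f a = θ n := by
    intro a i n ha
    have h' : x ^ (i % p) * (n : Γ) = x ^ I a * q a := by
      rw [← e a, ha, ← hxo, pow_mod_orderOf]
    obtain ⟨-, hqn⟩ := decomp_unique hp hxo hxQ (Nat.mod_lt _ hp.pos) (hI a) n.2 (hq a) h'
    exact congrArg θ (Subtype.ext hqn.symm)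
  have hmul : ∀ a b, f (a * b) = f a * f b := by
    intro a b
    let n : Q := ⟨q a, hq a⟩
    let k : Q := ⟨(x ^ I b)⁻¹ * q a * x ^ I b, by
      simpa using (inferInstance : Q.Normal).conj_mem (q a) (hq a) (x ^ I b)⁻¹⟩
    rw [hval (a * b) (I a + I b) (k * ⟨q b, hq b⟩) (by
      rw [coe_mul, e a, e b, coe_mul, pow_add]
      show _ = x ^ I a * x ^ I b * (((x ^ I b)⁻¹ * q a * x ^ I b) * q b)
      group), map_mul]
    exact congrArg₂ (· * ·) (hinvpow (I b) k n (by
      show q a = x ^ I b * ((x ^ I b)⁻¹ * q a * x ^ I b) * (x ^ I b)⁻¹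
      group)).symm rfl
  have h1 : f 1 = 1 := by rw [hval 1 0 1 (by simp), map_one]
  refine ⟨⟨⟨f, h1⟩, hmul⟩, ?_, fun n => hval _ 0 n (by simp)⟩
  show f _ = 1
  rw [hval _ 1 1 (by simp), map_one]

/-- Linear characters of `⟨x⟩ Q` agreeing at `x` and on `Q` are equal. -/
theorem hat_ext {f g : hatGroup Q x →* ℂˣ}
    (hx : f ⟨x, mem_hatGroup_self Q x⟩ = g ⟨x, mem_hatGroup_self Q x⟩)
    (hQ : ∀ n : Q, f ⟨n, le_hatGroup Q x n.2⟩ = g ⟨n, le_hatGroup Q x n.2⟩) : f = g := by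
  refine MonoidHom.ext fun a => ?_
  obtain ⟨i, -, q, hq, e⟩ := exists_decomp hp hxo hxQ a.2
  rw [show a = ⟨x, mem_hatGroup_self Q x⟩ ^ i * ⟨q, le_hatGroup Q x hq⟩ from Subtype.ext e, map_mul,
    map_mul, map_pow, map_pow, hx, hQ ⟨q, hq⟩]

theorem relIndex_hat : Q.relIndex (hatGroup Q x) = p := by
  rw [relIndex_sup_right, ← inf_relIndex_right,
    show Q ⊓ zpowers x = ⊥ from eq_bot_iff.2 fun a ha => by
      classical
      obtain ⟨haQ, hax⟩ := mem_inf.1 ha
      rw [mem_zpowers_iff_mem_range_orderOf, Finset.mem_image] at hax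
      obtain ⟨i, hi, rfl⟩ := hax
      rw [eq_zero_of_pow_mem hp hxo hxQ (hxo ▸ Finset.mem_range.1 hi) haQ, pow_zero]
      exact one_mem _,
    relIndex_bot_left, Nat.card_zpowers, hxo]

/-- `offFun` is a generalized character. -/
theorem offFun_gen (f : hatGroup Q x →* ℂˣ) :
    IsGeneralizedCharacter (hatGroup Q x) (offFun Q p f) := by
  classical
  haveI := Fintype.ofFinite (hatGroup Q x)
  set Q' := Q.subgroupOf (hatGroup Q x) with hQ'
  haveI : Q'.Normal := (inferInstance : Q.Normal).subgroupOf _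
  haveI := Fintype.ofFinite Q'
  have hlin := isGeneralizedCharacter_of_isCharacter (isCharacter_of_isIrr (isIrrCharacter_lin f))
  have hpi : IsGeneralizedCharacter (hatGroup Q x) (indFun Q' fun n => ((1 : Q' →* ℂˣ) n : ℂ)) :=
    isGeneralizedCharacter_indFun _
      (isGeneralizedCharacter_of_isCharacter (isCharacter_of_isIrr (isIrrCharacter_lin 1)))
  have e : offFun Q p f = ((p : ℤ) : ℂ) • (fun a => (f a : ℂ)) -
      (fun a => (f a : ℂ)) * indFun Q' (fun n => ((1 : Q' →* ℂˣ) n : ℂ)) := by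
    funext a
    simp only [Pi.sub_apply, Pi.smul_apply, Pi.mul_apply, smul_eq_mul, Int.cast_natCast, offFun]
    by_cases ha : (a : Γ) ∈ Q
    · rw [if_pos ha, show a = ((⟨a, ha⟩ : Q') : hatGroup Q x) from rfl, indFun_normal_mem]
      simp only [MonoidHom.one_apply, Units.val_one, Finset.sum_const, nsmul_eq_mul, mul_one,
        Finset.card_univ, ← Nat.card_eq_fintype_card]
      rw [← Q'.card_mul_index, show Q'.index = p from relIndex_hat hp hxo hxQ, Nat.cast_mul,
        inv_mul_cancel_left₀ (by exact_mod_cast Nat.card_pos.ne')]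
      ring
    · rw [if_neg ha, indFun_normal_not_mem Q' _ (fun h => ha h), mul_zero, sub_zero]
  rw [e]
  exact isGeneralizedCharacter_sub (isGeneralizedCharacter_zsmul hlin _)
    (isGeneralizedCharacter_mul hlin hpi)

/-- The inner product of `offFun f` with a function. -/
theorem classInner_offFun [Fintype (hatGroup Q x)] [DecidablePred (· ∈ Q)] (f : hatGroup Q x →* ℂˣ)
    (F : hatGroup Q x → ℂ) :
    (Nat.card Q : ℂ) * classInner (offFun Q p f) F =
      ∑ a ∈ Finset.univ.filter (fun a : hatGroup Q x => (a : Γ) ∉ Q), (f a : ℂ) * conj (F a) := by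
  have hcard : Nat.card (hatGroup Q x) = Nat.card Q * p := by
    rw [← (Q.subgroupOf (hatGroup Q x)).card_mul_index,
      Nat.card_congr (subgroupOfEquivOfLe (le_hatGroup Q x)).toEquiv,
      show (Q.subgroupOf (hatGroup Q x)).index = p from relIndex_hat hp hxo hxQ]
  have hQ : (Nat.card Q : ℂ) ≠ 0 := by exact_mod_cast Nat.card_pos.ne'
  have hp0 : (p : ℂ) ≠ 0 := by exact_mod_cast hp.ne_zero
  rw [classInner, hcard, Nat.cast_mul, Finset.sum_filter,
    Finset.sum_congr rfl (g := fun a : hatGroup Q x =>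
      (p : ℂ) * if (a : Γ) ∉ Q then (f a : ℂ) * conj (F a) else 0) fun a _ => by
      unfold offFun
      by_cases ha : (a : Γ) ∈ Q
      · rw [if_pos ha, if_neg (not_not.2 ha)]; ring
      · rw [if_neg ha, if_pos ha]; ring,
    ← Finset.mul_sum]
  field_simp

/-- The inner products of the `offFun`s. -/
theorem inner_offFun [Fintype (hatGroup Q x)] (f g : hatGroup Q x →* ℂˣ)
    (hfx : f ⟨x, mem_hatGroup_self Q x⟩ = 1) (hgx : g ⟨x, mem_hatGroup_self Q x⟩ = 1)
    [Decidable (∀ n : Q, f ⟨n, le_hatGroup Q x n.2⟩ = g ⟨n, le_hatGroup Q x n.2⟩)] :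
    classInner (offFun Q p f) (offFun Q p g) =
      if (∀ n : Q, f ⟨n, le_hatGroup Q x n.2⟩ = g ⟨n, le_hatGroup Q x n.2⟩)
      then (p : ℂ) * ((p : ℂ) - 1) else 0 := by
  classical
  haveI := Fintype.ofFinite Q
  have hQ : (Nat.card Q : ℂ) ≠ 0 := by exact_mod_cast Nat.card_pos.ne'
  have hcard : Nat.card (hatGroup Q x) = Nat.card Q * p := by
    rw [← (Q.subgroupOf (hatGroup Q x)).card_mul_index,
      Nat.card_congr (subgroupOfEquivOfLe (le_hatGroup Q x)).toEquiv,
      show (Q.subgroupOf (hatGroup Q x)).index = p from relIndex_hat hp hxo hxQ]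
  let fQ : Q →* ℂˣ := f.comp (Subgroup.inclusion (le_hatGroup Q x))
  let gQ : Q →* ℂˣ := g.comp (Subgroup.inclusion (le_hatGroup Q x))
  have hiff : (f = g) ↔ ∀ n : Q, f ⟨n, le_hatGroup Q x n.2⟩ = g ⟨n, le_hatGroup Q x n.2⟩ :=
    ⟨fun e n => by rw [e], fun e => hat_ext hp hxo hxQ (hfx.trans hgx.symm) e⟩
  have hiff' : (fQ = gQ) ↔ ∀ n : Q, f ⟨n, le_hatGroup Q x n.2⟩ = g ⟨n, le_hatGroup Q x n.2⟩ :=
    ⟨fun e n => DFunLike.congr_fun e n, fun e => MonoidHom.ext e⟩
  refine mul_left_cancel₀ hQ ?_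
  rw [classInner_offFun hp hxo hxQ f,
    Finset.sum_congr rfl (g := fun a : hatGroup Q x => (p : ℂ) * ((f a : ℂ) * conj (g a : ℂ))) fun a ha => by
      rw [offFun, if_neg (Finset.mem_filter.1 ha).2, map_mul, map_natCast]; ring,
    ← Finset.mul_sum]
  have hall : ∑ a : hatGroup Q x, (f a : ℂ) * conj (g a : ℂ) =
      ((Nat.card Q * p : ℕ) : ℂ) * if f = g then 1 else 0 := by
    rw [← classInner_hom f g, classInner, hcard, ← mul_assoc, mul_inv_cancel₀ (by
      exact_mod_cast Nat.mul_ne_zero Nat.card_pos.ne' hp.ne_zero), one_mul]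
  have hin : ∑ a ∈ Finset.univ.filter (fun a : hatGroup Q x => (a : Γ) ∈ Q), (f a : ℂ) * conj (g a : ℂ) =
      (Nat.card Q : ℂ) * if fQ = gQ then 1 else 0 := by
    rw [← classInner_hom fQ gQ, classInner, ← mul_assoc, mul_inv_cancel₀ hQ, one_mul]
    refine Finset.sum_bij (fun a ha => (⟨a, (Finset.mem_filter.1 ha).2⟩ : Q))
      (fun a _ => Finset.mem_univ _) (fun a _ b _ e => Subtype.ext (congrArg Subtype.val e :))
      (fun b _ => ⟨⟨b, le_hatGroup Q x b.2⟩, Finset.mem_filter.2 ⟨Finset.mem_univ _, b.2⟩, rfl⟩)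
      fun a ha => ?_
    rfl
  rw [← Finset.sum_filter_add_sum_filter_not Finset.univ (fun a : hatGroup Q x => (a : Γ) ∈ Q), hin]
    at hall
  rw [eq_sub_of_add_eq' hall]
  by_cases hfg : ∀ n : Q, f ⟨n, le_hatGroup Q x n.2⟩ = g ⟨n, le_hatGroup Q x n.2⟩
  · rw [if_pos hfg, if_pos (hiff.2 hfg), if_pos (hiff'.2 hfg)]
    push_cast
    ring
  · rw [if_neg hfg, if_neg fun e => hfg (hiff.1 e), if_neg fun e => hfg (hiff'.1 e)]
    ring

/-- The inner products of the induced `offFun`s. -/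
theorem inner_ind_offFun [(hatGroup Q x).Normal] [Fintype (hatGroup Q x)]
    (f g : hatGroup Q x →* ℂˣ) (hfx : f ⟨x, mem_hatGroup_self Q x⟩ = 1)
    (hgx : ∀ (t : Γ) (a : hatGroup Q x), (a : Γ) = t * x * t⁻¹ → g a = 1) :
    classInner (indFun (hatGroup Q x) (offFun Q p f)) (indFun (hatGroup Q x) (offFun Q p g)) =
      (Nat.card (hatGroup Q x) : ℂ)⁻¹ * (Nat.card {t : Γ // ∀ n : Q,
        f ⟨n, le_hatGroup Q x n.2⟩ = g ⟨t * n * t⁻¹,
          le_hatGroup Q x ((inferInstance : Q.Normal).conj_mem n n.2 t)⟩} : ℂ) *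
        ((p : ℂ) * ((p : ℂ) - 1)) := by
  classical
  rw [classInner_indFun _ _ _ (isClassFunction_indFun _ _), restrict_indFun, classInner_smul_right,
    classInner_sum_right, map_inv₀, map_natCast]
  have hterm : ∀ t : Γ, classInner (offFun Q p f) (CfsgLib.Char.conjFun (hatGroup Q x) (offFun Q p g) t) =
      if (∀ n : Q, f ⟨n, le_hatGroup Q x n.2⟩ = g ⟨t * n * t⁻¹,
          le_hatGroup Q x ((inferInstance : Q.Normal).conj_mem n n.2 t)⟩)
      then (p : ℂ) * ((p : ℂ) - 1) else 0 := by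
    intro t
    let gt : hatGroup Q x →* ℂˣ := g.comp (normalConjHom (hatGroup Q x) t)
    have e : CfsgLib.Char.conjFun (hatGroup Q x) (offFun Q p g) t = offFun Q p gt := by
      funext a
      have hiff : t * (a : Γ) * t⁻¹ ∈ Q ↔ (a : Γ) ∈ Q :=
        ⟨fun h => by
          have := (inferInstance : Q.Normal).conj_mem _ h t⁻¹
          rwa [show t⁻¹ * (t * (a : Γ) * t⁻¹) * t⁻¹⁻¹ = (a : Γ) by group] at this,
        fun h => (inferInstance : Q.Normal).conj_mem _ h t⟩
      simp only [CfsgLib.Char.conjFun, offFun]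
      exact if_congr hiff rfl rfl
    rw [e, inner_offFun hp hxo hxQ f gt hfx (hgx t _ rfl)]
    exact if_congr Iff.rfl rfl rfl
  rw [Finset.sum_congr rfl fun t _ => hterm t, ← Finset.sum_filter, Finset.sum_const, nsmul_eq_mul,
    ← Fintype.card_subtype, ← Nat.card_eq_fintype_card, ← mul_assoc]

end CfsgLib.FT
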