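import Cfsg.Agent.Lib.FT.MeetCore

/-!
# The mixed case of §1: `ψ` off `tilde M`, and `r ∣ (ψ, τθ_N)` (`docs/FT-meet-gap2.md`, steps 0, 1)

`MixedData` collects the group facts of the mixed case `e = r s`: `y` has prime order `r` in `M ⊓ N`,
moves `⟨x⟩` and fixes `θ`.
-/

set_option autoImplicit false
set_option linter.unusedSectionVars false
set_option linter.style.haveILetI false

open Subgroup

namespace CfsgLib.FT

open CfsgLib.CFun CfsgLib.CFun.TauTwo Cfsg CfsgLib.Char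
open scoped ComplexConjugate

universe u

variable {G : Type u} [Group G]

/-- The group facts of the mixed case. -/
structure MixedData (M N : Subgroup G) (x y : G) (p r s : ℕ) (θ : sigmaIn N →* ℂˣ) : Prop where
  le_N : sigmaCore M ≤ N
  der : sigmaDer M = ⊥
  five_le : 5 ≤ p
  r_prime : r.Prime
  three_le_r : 3 ≤ r
  r_dvd : r ∣ p - 1
  three_le_s : 3 ≤ s
  s_dvd : s ∣ p + 1
  e_eq : eIndex M = r * s
  index_eq : (zeroN M N).index = r
  y_mem : y ∈ M ⊓ N
  y_ord : orderOf y = r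
  normalize : M ⊓ N ≤ normalizer (zpowers x : Set G)
  move : ¬ Commute y x
  inv_x : ∀ n m : sigmaIn N, ((m : N) : G) = x * ((n : N) : G) * x⁻¹ → θ m = θ n
  inv_y : ∀ n m : sigmaIn N, ((m : N) : G) = y * ((n : N) : G) * y⁻¹ → θ m = θ n
  theta_fix : ∃ n : sigmaIn N, Commute ((n : N) : G) x ∧ θ n ≠ 1
  theta_prime : (orderOf θ).Prime
  y_fix : ∃ n : sigmaIn N, n ≠ 1 ∧ Commute ((n : N) : G) y
  y_cent : ∀ v ∈ sigmaCore N, v ≠ 1 → Commute y v →
    centralizer ({y} : Set G) ⊓ centralizer ({v} : Set G) ≤ N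

variable [Fintype G] (hG : IsMinSimpleOddOrder G)
include hG

/-- The members agree off `tilde M`. -/
theorem mu_eq_off_tilde {M : Subgroup G} (F : Family M) {g : G} (hg : g ∉ tildeOf M (sharp M))
    (i l : Member M) : (F.μ i : G → ℂ) g = (F.μ l : G → ℂ) g := by
  have h := tau_eq_zero' (α := i.1 - l.1) hg
  rw [F.image] at h
  simp only [Pi.smul_apply, Pi.sub_apply, smul_eq_mul, mul_eq_zero, sub_eq_zero] at h
  exact h.resolve_left (left_ne_zero_of_mul_eq_one F.eps_sq)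

/-- `ψ` takes integer values off `tilde M`. -/
theorem psi_int_off_tilde {M : Subgroup G} (hM : FpfAb M) (F : Family M) {g : G}
    (hg : g ∉ tildeOf M (sharp M)) : ∃ z : ℤ, F.psi g = z := by
  refine exists_int_of_fixed (generalized_isIntegral F.psi_gen g) fun φ => ?_
  obtain ⟨m, hm, htw⟩ := generalized_twist (G := G) φ
  rw [htw _ F.psi_gen g _ rfl]
  have e := congrFun (F.mu_pow hG hM hm F.base) g
  rw [Family.psi, ← e]
  exact mu_eq_off_tilde hG F hg _ _

variable {M N : Subgroup G} {x y : G} {p r s : ℕ} {θ : sigmaIn N →* ℂˣ} (h : BadData M N x p)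
  (hX : MixedData M N x y p r s θ)
include h hX

theorem MixedData.theta_ne : θ ≠ 1 := fun e => hX.theta_prime.ne_one (by rw [e, orderOf_one])

theorem MixedData.y_mem_N : y ∈ N := (mem_inf.1 hX.y_mem).2

theorem MixedData.y_ne : y ≠ 1 := fun e => hX.r_prime.ne_one (by rw [← hX.y_ord, e, orderOf_one])

/-- `r` does not divide `|N_σ|`. -/
theorem MixedData.not_dvd : ¬ r ∣ Nat.card (sigmaIn N) := by
  intro hd
  have hσ : r ∈ sigma N := ((sigmaCore_hall hG h.coatom).1.2.1) r hX.r_prime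
    (hd.trans (dvd_of_eq (Nat.card_congr
      (subgroupOfEquivOfLe (map_subtype_le _ : sigmaCore N ≤ N)).toEquiv)))
  refine (sigmaCore_hall hG h.coatom).1.2.2 r hX.r_prime hσ ?_
  rw [show (sigmaCore N).relIndex N = (kerN N).index from rfl, index_kerN hG h, ← hX.y_ord]
  exact Subgroup.orderOf_dvd_natCard _ hX.y_mem

variable (hM : FpfAb M) (F : Family M)
  (hZ : ∀ v ∈ sigmaCore N, v ≠ 1 → Commute y v → F.psi (y * v) = 0)
include hM hZ

/-- `r ∣ (ψ, τθ_N)`. -/
theorem MixedData.r_dvd_a {a : ℤ} (ha : classInner F.psi (tau N (thetaN N θ)) = a) : (r : ℤ) ∣ a := by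
  classical
  obtain ⟨n₀, hn₀, hn₀y⟩ := hX.y_fix
  obtain ⟨R, hR, -, hc⟩ := thetaN_cong hG h θ hX.r_prime (hX.y_mem_N hG h) hX.y_ord (hX.not_dvd hG h)
    hX.inv_y ⟨n₀, hn₀, hn₀y⟩ hX.y_cent (F.μ F.base) ha
  have hψi : ∀ g, IsIntegral ℤ (F.psi g) := fun g =>
    isCharacter_isIntegral (isCharacter_irr (F.μ F.base)) g
  have hξi : ∀ n : sigmaIn N, IsIntegral ℤ (1 - (θ n : ℂ)) := fun n =>
    isIntegral_one.sub (isCharacter_isIntegral (isCharacter_of_isIrr (isIrrCharacter_lin θ)) n)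
  have hterm : ∀ n ∈ R, Cong r ((1 - (θ n : ℂ)) * conj (F.psi ((n : N) : G))) ((0 : ℤ) : ℂ) := by
    intro n hn
    by_cases hn1 : n = 1
    · rw [hn1, map_one, Units.val_one, sub_self, zero_mul, Int.cast_zero]
      exact cong_refl r 0
    rw [Int.cast_zero, ← mul_zero (1 - (θ n : ℂ)), ← map_zero (starRingEnd ℂ)]
    refine Cong.mul_left (hξi n) (Cong.conj' ?_)
    have hv1 : ((n : N) : G) ≠ 1 := fun e => hn1 (Subtype.ext (Subtype.ext e))
    have h3 := (cong_mul_of_pow_prime hX.r_prime F.psi_gen (k := 1) (x := y) (y := ((n : N) : G))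
      (by rw [pow_one, ← hX.y_ord, pow_orderOf_eq_one]) ((hR n).1 hn)).symm
    rwa [hZ ((n : N) : G) n.2 hv1 ((hR n).1 hn)] at h3
  have h1 := hc.trans ((isIntegral_natCast _).mul (isIntegral_intCast _))
    (IsIntegral.sum _ fun n _ => (hξi n).mul (isIntegral_conj (hψi _)))
    (IsIntegral.sum _ fun _ _ => isIntegral_intCast _)
    (Cong.sum R (fun n => (hξi n).mul (isIntegral_conj (hψi _))) (fun _ => isIntegral_intCast _) hterm)
  rw [Int.cast_zero, Finset.sum_const_zero] at h1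
  have h2 : (r : ℤ) ∣ (Nat.card (sigmaIn N) : ℤ) * a - 0 :=
    Cong.dvd hX.r_prime (by push_cast; exact h1)
  rw [sub_zero] at h2
  exact ((Nat.prime_iff_prime_int.1 hX.r_prime).dvd_or_dvd h2).resolve_left fun hd =>
    hX.not_dvd hG h (Int.natCast_dvd_natCast.1 hd)

omit hM hZ in
/-- `p = 2 j r + 1`, in particular `2 r < p`. -/
theorem MixedData.two_r_lt : 2 * r < p := by
  obtain ⟨c, hc⟩ := hX.r_dvd
  have hp := hX.five_le
  have hpo : p % 2 = 1 := (h.bad.prime.eq_two_or_odd).resolve_left (by omega)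
  have hro : r % 2 = 1 := (hX.r_prime.eq_two_or_odd).resolve_left (by have := hX.three_le_r; omega)
  rcases c with _ | _ | c
  · omega
  · omega
  · have : r * 2 ≤ r * (c + 1 + 1) := Nat.mul_le_mul_left r (by omega)
    omega

omit hM hZ in
theorem MixedData.two_s_le : 2 * s ≤ p + 1 := by
  obtain ⟨c, hc⟩ := hX.s_dvd
  have hs : s % 2 = 1 := by
    have h1 : Odd (r * s) := hX.e_eq ▸ eIndex_odd hG
    exact Nat.odd_iff.1 (Nat.odd_mul.1 h1).2
  have hpo : p % 2 = 1 := (h.bad.prime.eq_two_or_odd).resolve_left (by have := hX.five_le; omega)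
  rcases c with _ | _ | c
  · omega
  · omega
  · have : s * 2 ≤ s * (c + 1 + 1) := Nat.mul_le_mul_left s (by omega)
    omega

omit hM hZ in
/-- `k₀ = |M_σ| = |D₁|`. -/
theorem MixedData.card_D1 : Nat.card (sigmaCore M ⊓ N : Subgroup G) = kZero M := by
  rw [inf_eq_left.2 hX.le_N, kZero, hX.der, relIndex_bot_left]

omit hM hZ in
/-- `|M ⊓ N| = r k₀`. -/
theorem MixedData.card_D : Nat.card (M ⊓ N : Subgroup G) = r * kZero M := by
  rw [← index_kerN hG h, ← index_zeroN hG h, hX.index_eq, hX.card_D1 hG h]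

omit hZ in
/-- The averages of `ψ` on `M_σ#` are exact. -/
theorem MixedData.avg_psi {v : G} (hv : v ∈ sigmaCore M) (hv1 : v ≠ 1) :
    avgR M F.psi v = (F.ε : ℂ) * valOn M F.base.1 v + F.c := by
  refine F.psi_avg_class hG hM hv (fun e => hv1 ?_) fun d hd => ⟨1, one_mem _, ?_⟩
  · rwa [hX.der, mem_bot] at e
  · rw [hX.der, mem_bot] at hd
    rw [hd]
    group

end CfsgLib.FT
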