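import Cfsg.Agent.Lib.FT.MeetMixedPhi
import Cfsg.Agent.Lib.Char.CyclicTIConseq

/-!
# Test functions on the tilde sets of `M` and `N` (`docs/FT-meet-gap2.md`, step 3)

`1_{tilde M}`, the averaged indicator of `N_σ ∖ ker θ`, and `(ψ, τθ_N)` for the powers of `θ`.
-/

set_option autoImplicit false
set_option linter.unusedSectionVars false
set_option linter.style.haveILetI false

open Subgroup

namespace CfsgLib.FT

open CfsgLib.CFun CfsgLib.CFun.TauTwo Cfsg CfsgLib.Char
open scoped ComplexConjugate

universe u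

variable {G : Type u} [Group G]

open Classical in
/-- The indicator of `M_σ#`. -/
noncomputable def sharpInd (M : Subgroup G) : M → ℂ := fun m => if (m : G) ∈ sharp M then 1 else 0

open Classical in
/-- The indicator of `N_σ ∖ ker θ`. -/
noncomputable def offKer {N : Subgroup G} (θ : sigmaIn N →* ℂˣ) : sigmaIn N → ℂ :=
  fun n => if θ n = 1 then 0 else 1

theorem re_classInner [Fintype G] (f g : G → ℂ) :
    (classInner f g).re = (Nat.card G : ℝ)⁻¹ * ∑ z : G, (f z * conj (g z)).re := by
  simp only [classInner]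
  rw [show (Nat.card G : ℂ)⁻¹ = (((Nat.card G : ℝ)⁻¹ : ℝ) : ℂ) by push_cast; rfl,
    Complex.re_ofReal_mul, Complex.re_sum]

theorem meetMap_add {M N : Subgroup G} (f f' : N → ℂ) :
    meetMap M N (f + f') = meetMap M N f + meetMap M N f' := by
  funext g
  simp only [meetMap, dadeIsometry, Pi.add_apply]
  split_ifs <;> simp

theorem meetMap_sub {M N : Subgroup G} (f f' : N → ℂ) :
    meetMap M N (f - f') = meetMap M N f - meetMap M N f' := by
  funext g
  simp only [meetMap, dadeIsometry, Pi.sub_apply]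
  split_ifs <;> simp

theorem IsTest.conjFun [Finite G] {M N : Subgroup G} {f : N → ℂ} (hf : IsTest M N f) :
    IsTest M N (Cfsg.conjFun f) where
  cls := fun a b => by simp only [Cfsg.conjFun, hf.cls a b]
  off := fun g hg => by simp [Cfsg.conjFun, hf.off g hg]
  ker := fun g hg => by simp [Cfsg.conjFun, hf.ker g hg]
  coset := fun g => by
    classical
    haveI := Fintype.ofFinite N
    have h0 := hf.coset g
    rw [finsum_mem_eq_toFinset_sum] at h0 ⊢
    simp only [Cfsg.conjFun, ← map_sum, h0, map_zero]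

theorem IsTest.sub' [Finite G] {M N : Subgroup G} {f f' : N → ℂ} (hf : IsTest M N f) (hf' : IsTest M N f') :
    IsTest M N (f - f') where
  cls := fun a b => by simp only [Pi.sub_apply, hf.cls a b, hf'.cls a b]
  off := fun g hg => by simp [hf.off g hg, hf'.off g hg]
  ker := fun g hg => by simp [hf.ker g hg, hf'.ker g hg]
  coset := fun g => by
    classical
    haveI := Fintype.ofFinite N
    have h0 := hf.coset g
    have h1 := hf'.coset g
    rw [finsum_mem_eq_toFinset_sum] at h0 h1 ⊢
    simp only [Pi.sub_apply, Finset.sum_sub_distrib, h0, h1, sub_self]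

variable [Fintype G] (hG : IsMinSimpleOddOrder G)
include hG

theorem sharpInd_class {M : Subgroup G} (hM : IsCoatom M) : IsClassFunction M (sharpInd M) := by
  classical
  intro a b
  unfold sharpInd
  refine if_congr ⟨fun h => ?_, fun h => ?_⟩ rfl rfl
  · have := sharp_conj hG hM (inv_mem b.2) h
    rwa [show (b : G)⁻¹ * ((b * a * b⁻¹ : M) : G) * (b : G)⁻¹⁻¹ = (a : G) by
      push_cast; group] at this
  · exact sharp_conj hG hM b.2 h

theorem sharpInd_supp {M : Subgroup G} : SharpSupp M (sharpInd M) := fun _ hx => by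
  unfold sharpInd
  exact if_neg hx

/-- `τ 1_{M_σ#}` is one on `tilde M`. -/
theorem tau_sharpInd {M : Subgroup G} (hM : IsCoatom M) {g : G} (hg : g ∈ tildeOf M (sharp M)) :
    tau M (sharpInd M) g = 1 := by
  obtain ⟨a, ha, r, hr, y, e⟩ := hg
  rw [tau, dadeIsometry_eq (tau_hyp hG hM) (sharpInd_class hG hM) (x := y⁻¹) ha hr (by rw [e]; group),
    valOn_mem _ (map_subtype_le _ ha.1)]
  unfold sharpInd
  exact if_pos ha

variable {M N : Subgroup G} {x : G} {p : ℕ} (h : BadData M N x p)
include h

/-- `X_N` lies in `tilde M`. -/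
theorem meetSet_subset_tilde {a : G} (ha : a ∈ meetSet M N) : a ∈ tildeOf M (sharp M) := by
  obtain ⟨d, hd, hd1, hC, t, -, s, hs, rfl⟩ := ha
  refine ⟨d, ⟨(mem_inf.1 hd).1, hd1⟩, s, ?_, t, rfl⟩
  by_cases hle : centralizer ({d} : Set G) ≤ M
  · have h0 : s ∈ (M ⊓ N) ⊓ sigmaCore N := mem_inf.2
      ⟨mem_inf.2 ⟨hle (mem_inf.1 hs).2, map_subtype_le _ (mem_inf.1 hs).1⟩, (mem_inf.1 hs).1⟩
    rw [h.compl.2.2.1, mem_bot] at h0
    rw [h0]
    exact one_mem _
  · obtain ⟨L, hL, hdL, -, -, -, -, hR⟩ :=
      Tilde.support_eq hG h.bad.coatom (mem_inf.1 hd).1 hd1 hle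
    rw [hR, (h.uniq d hd hd1 hC).2 L hL hdL]
    exact hs

/-- `Ind f` vanishes off `tilde M`. -/
theorem meetMap_off {f : N → ℂ} {g : G} (hg : g ∉ tildeOf M (sharp M)) : meetMap M N f g = 0 := by
  refine dadeIsometry_eq_zero fun a ha _ y u hu e => hg ?_
  rw [mem_bot] at hu
  rw [hu, mul_one] at e
  obtain ⟨b, hb, r, hr, z, e'⟩ := meetSet_subset_tilde hG h ha
  exact ⟨b, hb, r, hr, y⁻¹ * z, by
    calc g = y⁻¹ * (y * g * y⁻¹) * y := by group
      _ = _ := by rw [e, e']; group⟩

/-- `Ind f` is orthogonal to the Dade image of `N_σ#`. -/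
theorem meetMap_orth_tauN (f : N → ℂ) (α : N → ℂ) : classInner (meetMap M N f) (tau N α) = 0 := by
  simp only [classInner]
  rw [Finset.sum_eq_zero, mul_zero]
  intro g _
  by_cases hg : g ∈ tildeOf M (sharp M)
  · have hgN : g ∉ tildeOf N (sharp N) := fun h' =>
      (Set.eq_empty_iff_forall_notMem.1 (Tilde.tilde_disjoint hG h.bad.coatom h.coatom h.notConj)) g ⟨hg, h'⟩
    rw [tau_eq_zero' hgN, map_zero, mul_zero]
  · rw [meetMap_off hG h hg, zero_mul]

variable (θ : sigmaIn N →* ℂˣ)

/-- The averaged indicator is real with values in `[0, 1]`. -/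
theorem indSigma_offKer (n : N) : ∃ z : ℝ, 0 ≤ z ∧ z ≤ 1 ∧
    indSigma N (offKer θ) n = ((sigmaIn N).index : ℂ) * z := by
  classical
  haveI := Fintype.ofFinite N
  haveI := sigmaIn_normal hG (M := N)
  by_cases hn : (n : G) ∈ sigmaCore N
  · rw [show n = ((⟨n, hn⟩ : sigmaIn N) : N) from rfl, indSigma_eq, indFun_normal_mem]
    set c : ℕ := (Finset.univ.filter fun t : N => θ ⟨t * n * t⁻¹,
      (inferInstance : (sigmaIn N).Normal).conj_mem n hn t⟩ ≠ 1).card with hc
    refine ⟨(c : ℝ) / (Nat.card N : ℝ), by positivity, ?_, ?_⟩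
    · rw [div_le_one (by exact_mod_cast Nat.card_pos), Nat.card_eq_fintype_card]
      exact_mod_cast Finset.card_le_univ _
    · rw [Finset.sum_congr rfl (g := fun t : N => if θ ⟨t * n * t⁻¹,
          (inferInstance : (sigmaIn N).Normal).conj_mem n hn t⟩ ≠ 1 then (1 : ℂ) else 0) fun t _ => by
          unfold offKer
          split_ifs <;> first | rfl | contradiction,
        ← Finset.sum_filter, Finset.sum_const, nsmul_eq_mul, mul_one, ← hc]
      have hK : (Nat.card (sigmaIn N) : ℂ) ≠ 0 := by exact_mod_cast Nat.card_pos.ne'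
      have hI : ((sigmaIn N).index : ℂ) ≠ 0 := by exact_mod_cast index_ne_zero_of_finite
      rw [← (sigmaIn N).card_mul_index]
      push_cast
      field_simp
  · exact ⟨0, le_rfl, zero_le_one, by rw [indSigma_not_mem hG _ hn, Complex.ofReal_zero, mul_zero]⟩

theorem indSigma_offKer_supp : SharpSupp N (indSigma N (offKer θ)) := by
  classical
  intro g hg
  by_cases h1 : (g : G) ∈ sigmaCore N
  · haveI := Fintype.ofFinite N
    obtain rfl : g = 1 := Subtype.ext (not_not.1 fun e => hg ⟨h1, e⟩)
    rw [indSigma_eq, indFun_one]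
    unfold offKer
    rw [if_pos (map_one θ), mul_zero]
  · exact indSigma_not_mem hG _ h1

omit h in
/-- `o · 1_{N_σ ∖ ker θ} = Σ_{i < o} (1 - θ^i)`. -/
theorem offKer_sum :
    (orderOf θ : ℂ) • offKer θ =
      ∑ i ∈ Finset.range (orderOf θ), fun n => 1 - ((θ ^ i) n : ℂ) := by
  classical
  funext n
  rw [Pi.smul_apply, smul_eq_mul, Finset.sum_apply, Finset.sum_sub_distrib, Finset.sum_const,
    Finset.card_range, nsmul_eq_mul, mul_one]
  simp only [MonoidHom.pow_apply, Units.val_pow_eq_pow_val]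
  unfold offKer
  split_ifs with hn
  · simp [hn]
  · rw [geom_sum_eq (fun e => hn (Units.ext e)), ← Units.val_pow_eq_pow_val, ← MonoidHom.pow_apply,
      pow_orderOf_eq_one, MonoidHom.one_apply, Units.val_one, sub_self, zero_div, sub_zero, mul_one]

/-- `thetaN θ` at powers. -/
theorem thetaN_pow {m : ℕ} (hm : m.Coprime (Nat.card G)) :
    (fun n : N => thetaN N θ (n ^ m)) = thetaN N (θ ^ m) := by
  haveI := Fintype.ofFinite N
  funext n
  rw [thetaN, thetaN, indSigma_eq, indSigma_eq,
    indFun_powMap ((hm.coprime_dvd_right (card_subgroup_dvd_card N)).symm)]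
  exact congrFun (congrArg _ (funext fun k => by rw [map_pow, MonoidHom.pow_apply])) n

/-- `(ψ, τθ_N)` is the same for the powers of `θ`. -/
theorem inner_thetaN_pow (hM : FpfAb M) (F : Family M) {m : ℕ} (hm : m.Coprime (Nat.card G)) :
    classInner F.psi (tau N (thetaN N (θ ^ m))) = classInner F.psi (tau N (thetaN N θ)) := by
  calc classInner F.psi (tau N (thetaN N (θ ^ m)))
      = classInner (F.μ (F.base.pow hG hm) : G → ℂ) (tau N (thetaN N (θ ^ m))) :=
        inner_thetaN_const hG h (θ ^ m) (famIn hG hM F) F.base (F.base.pow hG hm)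
    _ = classInner (fun g => F.psi (g ^ m)) (fun g => tau N (thetaN N θ) (g ^ m)) := by
        rw [F.mu_pow hG hM hm]
        congr 1
        funext g
        rw [tau_pow hG h.coatom (thetaN_class hG h θ) hm, thetaN_pow hG h θ hm]
    _ = _ := by
        simp only [classInner]
        congr 1
        exact Fintype.sum_equiv (powCoprime hm.symm) _ _ fun g => rfl

/-- The inner products of `τ` of the averaged indicator. -/
theorem inner_offKer (hM : FpfAb M) (F : Family M) (ho : (orderOf θ).Prime) {a : ℤ}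
    (ha : classInner F.psi (tau N (thetaN N θ)) = a) :
    (orderOf θ : ℂ) * classInner (tau N (indSigma N (offKer θ))) F.psi =
        ((orderOf θ : ℂ) - 1) * a ∧
      (orderOf θ : ℂ) * classInner (tau N (indSigma N (offKer θ))) (fun _ => 1) =
        (orderOf θ : ℂ) - 1 := by
  classical
  haveI := Fintype.ofFinite N
  haveI := Fintype.ofFinite (sigmaIn N)
  set o := orderOf θ with ho'
  have hθpow : ∀ i, 0 < i → i < o → θ ^ i ≠ 1 := fun i h0 hi e => by
    have e' : HPow.hPow θ i = (1 : sigmaIn N →* ℂˣ) := e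
    have := Nat.le_of_dvd h0 ((orderOf_dvd_iff_pow_eq_one (x := θ) (n := i)).2 (by exact e'))
    omega
  have hθ1 : ∀ i ∈ Finset.range o, classInner F.psi (tau N (thetaN N (θ ^ i))) =
      if i = 0 then 0 else (a : ℂ) := by
    intro i hi
    split_ifs with h0
    · subst h0
      have : thetaN N (θ ^ 0) = 0 := by
        rw [thetaN, indSigma_eq, show (fun n : sigmaIn N => 1 - ((θ ^ 0) n : ℂ)) = 0 by
          funext n; simp, indFun_zero]
      rw [this]
      simp [tau, dadeIsometry, classInner]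
    · have hodvd : o * 1 ∣ Nat.card G := by
        rw [mul_one]
        refine (orderOf_dvd_of_pow_eq_one (?_ : θ ^ Nat.card (sigmaIn N) = 1)).trans
          ((card_subgroup_dvd_card (sigmaIn N)).trans (card_subgroup_dvd_card N))
        exact MonoidHom.ext fun n => by rw [MonoidHom.pow_apply, ← map_pow, pow_card_eq_one', map_one, MonoidHom.one_apply]
      haveI : NeZero (Nat.card G) := ⟨Nat.card_pos.ne'⟩
      obtain ⟨m, hm, hmi, -⟩ := exists_coprime_lift hodvd (Nat.coprime_one_right o) (k := i)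
        (((ho.coprime_iff_not_dvd).2 fun hd => (Finset.mem_range.1 hi).not_ge
          (Nat.le_of_dvd (Nat.pos_of_ne_zero h0) hd)).symm)
      have e : θ ^ i = θ ^ m := by exact (pow_eq_pow_iff_modEq (x := θ)).2 hmi.symm
      rw [e, inner_thetaN_pow hG h θ hM F hm, ha]
  have hone : classInner F.psi (fun _ => 1) = 0 := F.psi_one hG hM
  have key : ∀ χ : G → ℂ, IsClassFunction G χ →
      (o : ℂ) * classInner (tau N (indSigma N (offKer θ))) χ =
        ∑ i ∈ Finset.range o, classInner (tau N (thetaN N (θ ^ i))) χ := by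
    intro χ hχ
    rw [tau_avgS hG h.coatom (indSigma_class hG _) (indSigma_offKer_supp hG h θ) hχ,
      inner_indSigma_right hG _ (avgS_class hG h.coatom hχ), ← classInner_smul_left, offKer_sum hG θ,
      classInner_sum_left]
    refine Finset.sum_congr rfl fun i _ => ?_
    rw [tau_avgS hG h.coatom (thetaN_class hG h _) (thetaN_supp hG h _) hχ, thetaN,
      inner_indSigma_right hG _ (avgS_class hG h.coatom hχ)]
  have hsum : ∀ z : ℂ, ∑ i ∈ Finset.range o, (if i = 0 then 0 else z) = ((o : ℂ) - 1) * z := by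
    intro z
    rw [Finset.sum_ite, Finset.sum_const_zero, zero_add, Finset.sum_const, nsmul_eq_mul,
      Finset.filter_ne', Finset.card_erase_of_mem (Finset.mem_range.2 ho.pos), Finset.card_range,
      Nat.cast_sub ho.pos, Nat.cast_one]
  refine ⟨?_, ?_⟩
  · rw [key F.psi F.psi_class, ← hsum (a : ℂ)]
    refine Finset.sum_congr rfl fun i hi => ?_
    rw [← classInner_conj, hθ1 i hi]
    split_ifs <;> simp
  · rw [key (fun _ => 1) (fun _ _ => rfl), ← mul_one ((o : ℂ) - 1), ← hsum (1 : ℂ)]
    refine Finset.sum_congr rfl fun i hi => ?_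
    split_ifs with h0
    · subst h0
      rw [tau_inner_one hG h.coatom (thetaN_class hG h _) (thetaN_supp hG h _), thetaN, indSigma_eq,
        show (fun n : sigmaIn N => 1 - ((θ ^ 0) n : ℂ)) = 0 by funext n; simp, indFun_zero,
        classInner_zero_left]
    · exact tau_thetaN_one hG h _ (hθpow i (Nat.pos_of_ne_zero h0) (Finset.mem_range.1 hi))

end CfsgLib.FT
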