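import Cfsg.Agent.Lib.FT.MeetMixedInt
import Cfsg.Agent.Lib.FT.MeetMixedHat

/-!
# The test function `Φ = Ind_{⟨x⟩Q}^N ξ` of the mixed case (`docs/FT-meet-gap2.md`, step 3)

`D = (ψ, τΦ)` is divisible by `r` and `(ψ, τθ_N) ≡ εe + c + D (mod p)`.
-/

set_option autoImplicit false
set_option linter.unusedSectionVars false
set_option linter.style.haveILetI false

open Subgroup

namespace CfsgLib.FT

open CfsgLib.CFun CfsgLib.CFun.TauTwo Cfsg CfsgLib.Char
open scoped ComplexConjugate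

universe u

variable {G : Type u} [Group G]

/-- `f` extends `θ` with value one at `x`. -/
structure IsHat {N : Subgroup G} (xN : N) (θ : sigmaIn N →* ℂˣ)
    (f : hatGroup (sigmaIn N) xN →* ℂˣ) : Prop where
  at_x : f ⟨xN, mem_hatGroup_self _ xN⟩ = 1
  on_Q : ∀ n : sigmaIn N, f ⟨n, le_hatGroup _ xN n.2⟩ = θ n

/-- `Φ`. -/
noncomputable def mixPhi {N : Subgroup G} [Fintype N] {xN : N} (p : ℕ)
    (f : hatGroup (sigmaIn N) xN →* ℂˣ) : N → ℂ :=
  indFun (hatGroup (sigmaIn N) xN) (offFun (sigmaIn N) p f)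

variable [Fintype G] (hG : IsMinSimpleOddOrder G) {M N : Subgroup G} {x y : G} {p r s : ℕ}
  {θ : sigmaIn N →* ℂˣ} (h : BadData M N x p) (hX : MixedData M N x y p r s θ)
  {xN : N} (hxN : (xN : G) = x)
include hG h hX hxN

theorem MixedData.xN_ord : orderOf xN = p := by rw [← orderOf_coe, hxN, h.bad.ord]

theorem MixedData.xN_not_mem : xN ∉ sigmaIn N := fun hm => by
  refine primes_K hG h (s := x) (hxN ▸ (mem_subgroupOf.1 hm)) p h.bad.prime h.bad.ord.symm.dvd ?_
  exact primes_D hG h h.mem_D p h.bad.prime h.bad.ord.symm.dvd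

theorem MixedData.exists_isHat : ∃ f, IsHat xN θ f := by
  haveI := Fintype.ofFinite N
  haveI := sigmaIn_normal hG (M := N)
  obtain ⟨f, h1, h2⟩ := exists_hat h.bad.prime (hX.xN_ord hG h hxN) (hX.xN_not_mem hG h hxN) θ
    fun n m e => hX.inv_x n m (by rw [congrArg Subtype.val e, ← hxN]; rfl)
  exact ⟨f, h1, h2⟩

theorem MixedData.hat_le_zero : hatGroup (sigmaIn N) xN ≤ zeroN M N :=
  sup_le (zpowers_le.2 (mem_sup_left (show (xN : G) ∈ sigmaCore M ⊓ N from hxN ▸ h.mem_D))) le_sup_right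

theorem MixedData.exists_split (t : N) : ∃ q ∈ sigmaIn N, ∃ d : N, (d : G) ∈ M ⊓ N ∧ t = q * d := by
  haveI := sigmaIn_normal hG (M := N)
  obtain ⟨a, ha, b, hb, e⟩ := h.compl.2.2.2 (t : G) t.2
  let a' : N := ⟨a, (mem_inf.1 ha).2⟩
  let b' : N := ⟨b, map_subtype_le _ hb⟩
  refine ⟨a' * b' * a'⁻¹, (inferInstance : (sigmaIn N).Normal).conj_mem b' hb a', a', ha, ?_⟩
  rw [show t = a' * b' from Subtype.ext e]
  group

theorem MixedData.conj_x_mem (d : N) (hd : (d : G) ∈ M ⊓ N) : d * xN * d⁻¹ ∈ zpowers xN := by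
  have h1 := (mem_normalizer_iff.1 (hX.normalize hd) x).1 (mem_zpowers x)
  obtain ⟨i, hi⟩ := mem_zpowers_iff.1 h1
  refine mem_zpowers_iff.2 ⟨i, Subtype.ext ?_⟩
  simp only [coe_mul, coe_inv, coe_zpow, hxN]
  exact hi

theorem MixedData.hat_normal : (hatGroup (sigmaIn N) xN).Normal := by
  haveI := sigmaIn_normal hG (M := N)
  refine ⟨fun a ha t => ?_⟩
  obtain ⟨q, hq, d, hd, rfl⟩ := hX.exists_split hG h hxN t
  haveI := Fintype.ofFinite N
  obtain ⟨i, -, w, hw, rfl⟩ :=
    exists_decomp h.bad.prime (hX.xN_ord hG h hxN) (hX.xN_not_mem hG h hxN) ha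
  rw [show q * d * (xN ^ i * w) * (q * d)⁻¹ = q * ((d * xN * d⁻¹) ^ i * (d * w * d⁻¹)) * q⁻¹ by
    rw [conj_pow]; group]
  exact mul_mem (mul_mem (mem_sup_right hq) (mul_mem (mem_sup_left
    (pow_mem (hX.conj_x_mem hG h hxN d hd) i))
    (mem_sup_right ((inferInstance : (sigmaIn N).Normal).conj_mem w hw d)))) (inv_mem (mem_sup_right hq))

variable {f : hatGroup (sigmaIn N) xN →* ℂˣ} (hf : IsHat xN θ f)
include hf

theorem IsHat.conj_x (t : N) (a : hatGroup (sigmaIn N) xN) (ha : (a : N) = t * xN * t⁻¹) : f a = 1 := by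
  obtain ⟨q, hq, d, hd, rfl⟩ := hX.exists_split hG h hxN t
  obtain ⟨i, hi⟩ := mem_zpowers_iff.1 (hX.conj_x_mem hG h hxN d hd)
  rw [show a = ⟨q, mem_sup_right hq⟩ * ⟨xN, mem_hatGroup_self _ xN⟩ ^ i *
      (⟨q, mem_sup_right hq⟩ : hatGroup (sigmaIn N) xN)⁻¹ from Subtype.ext (by
    simp only [coe_mul, coe_inv, coe_zpow, ha, hi]; group),
    map_mul, map_mul, map_zpow, map_inv, hf.at_x, one_zpow, mul_one, mul_inv_cancel]

theorem IsHat.sum_theta [Fintype (sigmaIn N)] : ∑ n : sigmaIn N, (θ n : ℂ) = 0 := by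
  obtain ⟨r₀, -, hr₀⟩ := hX.theta_fix
  have e : (θ r₀ : ℂ) * ∑ n : sigmaIn N, (θ n : ℂ) = ∑ n : sigmaIn N, (θ n : ℂ) := by
    rw [Finset.mul_sum]
    exact Fintype.sum_equiv (Equiv.mulLeft r₀) _ _ fun n => by simp
  by_contra h0
  exact hr₀ (Units.ext ((mul_eq_right₀ h0).1 e))

theorem IsHat.test [Fintype N] : IsTest M N (mixPhi p f) := by
  classical
  haveI := hX.hat_normal hG h hxN
  haveI hn : (kerN N).Normal := sigmaIn_normal hG
  haveI : (sigmaIn N).Normal := sigmaIn_normal hG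
  haveI := Fintype.ofFinite (sigmaIn N)
  haveI := Fintype.ofFinite (kerN N)
  refine ⟨isClassFunction_indFun _ _, fun g hg => indFun_normal_not_mem _ _ fun h' =>
    hg (hX.hat_le_zero hG h hxN h'), fun g hg => ?_, fun g => ?_⟩
  · rw [mixPhi, show g = ((⟨g, le_hatGroup _ xN hg⟩ : hatGroup (sigmaIn N) xN) : N) from rfl,
      indFun_normal_mem]
    exact mul_eq_zero_of_right _ (Finset.sum_eq_zero fun t _ => if_pos (hn.conj_mem g hg t))
  · rw [finsum_mem_eq_toFinset_sum, Finset.sum_subtype (p := fun k => k ∈ kerN N) _ fun k => by simp]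
    refine Eq.trans (Fintype.sum_equiv (Equiv.refl _) _ (fun k : sigmaIn N => mixPhi p f (g * k))
      fun _ => rfl) ?_
    refine indFun_coset_zero _ (sigmaIn N) (le_hatGroup _ xN) _ (fun a => ?_) g
    by_cases ha : (a : N) ∈ sigmaIn N
    · exact Finset.sum_eq_zero fun k _ => if_pos (mul_mem ha k.2)
    · rw [Finset.sum_congr rfl (g := fun k : sigmaIn N => (p : ℂ) * (f a : ℂ) * (θ k : ℂ)) fun k _ => by
        have hne : ((a * ⟨k, le_hatGroup _ xN k.2⟩ : hatGroup (sigmaIn N) xN) : N) ∉ sigmaIn N :=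
          fun h' => ha (((sigmaIn N).mul_mem_cancel_right k.2).1 h')
        unfold offFun
        rw [if_neg hne, map_mul, Units.val_mul, ← hf.on_Q k]
        ring, ← Finset.mul_sum, hf.sum_theta hG h hX hxN, mul_zero]

theorem IsHat.gen [Fintype N] : IsGeneralizedCharacter N (mixPhi p f) := by
  haveI : (sigmaIn N).Normal := sigmaIn_normal hG
  exact isGeneralizedCharacter_indFun _
    (offFun_gen h.bad.prime (hX.xN_ord hG h hxN) (hX.xN_not_mem hG h hxN) f)

/-- `|⟨x⟩Q| = p |Q|`. -/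
theorem IsHat.card_hat :
    Nat.card (hatGroup (sigmaIn N) xN) = Nat.card (sigmaIn N) * p := by
  haveI := Fintype.ofFinite N
  haveI : (sigmaIn N).Normal := sigmaIn_normal hG
  rw [← ((sigmaIn N).subgroupOf (hatGroup (sigmaIn N) xN)).card_mul_index,
    Nat.card_congr (subgroupOfEquivOfLe (le_hatGroup _ xN)).toEquiv,
    show ((sigmaIn N).subgroupOf (hatGroup (sigmaIn N) xN)).index = p from
      relIndex_hat h.bad.prime (hX.xN_ord hG h hxN) (hX.xN_not_mem hG h hxN)]

/-- The inertia group of `θ` is `⟨x⟩ ⟨y⟩ Q` when `|M_σ| = p²`. -/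
theorem IsHat.card_inertia [(sigmaIn N).Normal] (hk : kZero M = p ^ 2) :
    Nat.card (inertia (sigmaIn N) (fun n => (θ n : ℂ))) = r * Nat.card (hatGroup (sigmaIn N) xN) := by
  classical
  haveI : (kerN N).Normal := sigmaIn_normal hG
  haveI := Fintype.ofFinite N
  haveI : (sigmaIn N).Normal := sigmaIn_normal hG
  set I := inertia (sigmaIn N) (fun n => (θ n : ℂ))
  set H := hatGroup (sigmaIn N) xN with hHdef
  set yN : N := ⟨y, hX.y_mem_N hG h⟩ with hyN
  have hmemI : ∀ t : N, (∀ n m : sigmaIn N, ((m : N) : G) = (t : G) * ((n : N) : G) * (t : G)⁻¹ → θ m = θ n) →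
      t ∈ I := fun t ht => funext fun n => congrArg Units.val (ht n _ rfl)
  have hHI : H ≤ I := sup_le (zpowers_le.2 (hmemI xN (by rw [hxN]; exact hX.inv_x)))
    (le_inertia _ (isClassFunction_irr ⟨_, isIrrCharacter_lin θ⟩))
  have hyI : yN ∈ I := hmemI yN hX.inv_y
  have hp := h.bad.prime
  have hr := hX.r_prime
  have hrH : ¬ r ∣ Nat.card H := by
    rw [hHdef, hf.card_hat hG h hX hxN]
    intro hd
    rcases hr.dvd_mul.1 hd with h' | h'
    · exact hX.not_dvd hG h h'
    · have := (Nat.prime_dvd_prime_iff_eq hr hp).1 h'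
      have := hX.two_r_lt hG h
      omega
  have hc1 := card_mul_index (H.subgroupOf I)
  rw [Nat.card_congr (subgroupOfEquivOfLe hHI).toEquiv] at hc1
  set c := (H.subgroupOf I).index with hc
  have hrc : r ∣ c := by
    have hrI : r ∣ Nat.card I := by
      rw [← hX.y_ord, show y = ((yN : N) : G) from rfl, orderOf_coe]
      exact Subgroup.orderOf_dvd_natCard _ hyI
    rw [← hc1] at hrI
    exact (hr.dvd_mul.1 hrI).resolve_left hrH
  have hNc : Nat.card I * I.index = Nat.card (sigmaIn N) * (r * p ^ 2) := by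
    rw [card_mul_index, ← (sigmaIn N).card_mul_index]
    congr 1
    rw [show (sigmaIn N).index = (kerN N).index from rfl, index_kerN hG h, hX.card_D hG h, hk]
  rw [← hc1, hHdef, hf.card_hat hG h hX hxN] at hNc
  have hpI := le_index_inertia hG h (θ := θ) (hX.theta_ne hG h)
  have hcr : c ≤ r := by
    have h1 : Nat.card (sigmaIn N) * p * (c * p) ≤ Nat.card (sigmaIn N) * p * (r * p) := by
      calc Nat.card (sigmaIn N) * p * (c * p) ≤ Nat.card (sigmaIn N) * p * (c * I.index) :=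
            Nat.mul_le_mul_left _ (Nat.mul_le_mul_left _ hpI)
        _ = Nat.card (sigmaIn N) * p * c * I.index := by ring
        _ = _ := by rw [hNc]; ring
    have h2 := Nat.le_of_mul_le_mul_left h1 (Nat.mul_pos Nat.card_pos hp.pos)
    exact Nat.le_of_mul_le_mul_right h2 hp.pos
  have hc0 : c ≠ 0 := index_ne_zero_of_finite
  rw [← hc1, le_antisymm hcr (Nat.le_of_dvd (Nat.pos_of_ne_zero hc0) hrc), mul_comm]

/-- `‖Φ‖² = p (p-1) r`. -/
theorem IsHat.norm [Fintype N] (hk : kZero M = p ^ 2) :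
    classInner (mixPhi p f) (mixPhi p f) = (p : ℂ) * ((p : ℂ) - 1) * r := by
  classical
  haveI : (sigmaIn N).Normal := sigmaIn_normal hG
  haveI := hX.hat_normal hG h hxN
  haveI := Fintype.ofFinite (hatGroup (sigmaIn N) xN)
  rw [mixPhi, inner_ind_offFun h.bad.prime (hX.xN_ord hG h hxN) (hX.xN_not_mem hG h hxN) f f hf.at_x
    (fun t a e => hf.conj_x hG h hX hxN t a e),
    show Nat.card {t : N // ∀ n : sigmaIn N, f ⟨n, le_hatGroup _ xN n.2⟩ = f ⟨t * n * t⁻¹,
      le_hatGroup _ xN ((inferInstance : (sigmaIn N).Normal).conj_mem n n.2 t)⟩} =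
      Nat.card (inertia (sigmaIn N) (fun n => (θ n : ℂ))) from
    Nat.card_congr (Equiv.subtypeEquivRight fun t => by
      rw [mem_inertia]
      constructor
      · intro e
        funext n
        have h1 := e n
        rw [hf.on_Q, hf.on_Q ⟨t * n * t⁻¹, (inferInstance : (sigmaIn N).Normal).conj_mem n n.2 t⟩] at h1
        exact congrArg Units.val h1.symm
      · intro e n
        rw [hf.on_Q, hf.on_Q ⟨t * n * t⁻¹, (inferInstance : (sigmaIn N).Normal).conj_mem n n.2 t⟩]
        exact Units.ext (congrFun e n).symm),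
    hf.card_inertia hG h hX hxN hk, Nat.cast_mul]
  have h0 : (Nat.card (hatGroup (sigmaIn N) xN) : ℂ) ≠ 0 := by exact_mod_cast Nat.card_pos.ne'
  field_simp

/-- `(Φ, Φ̄) = 0` as `θ` is not conjugate to `θ̄`. -/
theorem IsHat.inner_conj [Fintype N] : classInner (mixPhi p f) (Cfsg.conjFun (mixPhi p f)) = 0 := by
  classical
  haveI : (sigmaIn N).Normal := sigmaIn_normal hG
  haveI := hX.hat_normal hG h hxN
  haveI := Fintype.ofFinite (hatGroup (sigmaIn N) xN)
  have e : Cfsg.conjFun (offFun (sigmaIn N) p f) = offFun (sigmaIn N) p f⁻¹ := by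
    funext a
    simp only [Cfsg.conjFun, offFun]
    split_ifs
    · exact map_zero _
    · rw [map_mul, map_natCast, conj_hom]
  rw [mixPhi, star_indFun, e,
    inner_ind_offFun h.bad.prime (hX.xN_ord hG h hxN) (hX.xN_not_mem hG h hxN) f f⁻¹ hf.at_x
    fun t a e' => by rw [MonoidHom.inv_apply, hf.conj_x hG h hX hxN t a e', inv_one]]
  have hempty : IsEmpty {t : N // ∀ n : sigmaIn N, f ⟨n, le_hatGroup _ xN n.2⟩ = f⁻¹ ⟨t * n * t⁻¹,
      le_hatGroup _ xN ((inferInstance : (sigmaIn N).Normal).conj_mem n n.2 t)⟩} := by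
    refine ⟨fun ⟨t, ht⟩ => ?_⟩
    have ht' : ∀ n : sigmaIn N, θ n = (θ ⟨t * n * t⁻¹,
        (inferInstance : (sigmaIn N).Normal).conj_mem n n.2 t⟩)⁻¹ := fun n => by
      have := ht n
      rwa [MonoidHom.inv_apply, hf.on_Q, hf.on_Q ⟨t * n * t⁻¹, (inferInstance : (sigmaIn N).Normal).conj_mem n n.2 t⟩] at this
    set I := inertia (sigmaIn N) (fun n => (θ n : ℂ))
    have h2 : t ^ 2 ∈ I := funext fun n => congrArg Units.val (by
      have a1 := ht' n
      have a2 := ht' ⟨t * n * t⁻¹, (inferInstance : (sigmaIn N).Normal).conj_mem n n.2 t⟩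
      rw [a2, inv_inv] at a1
      rw [a1]
      congr 1
      exact Subtype.ext (by simp [pow_two, mul_assoc]))
    have hodd : Odd (Nat.card N) := hG.1.of_dvd_nat (card_subgroup_dvd_card N)
    have htI : t ∈ I := zpowers_le.2 h2 (mem_zpowers_pow_iff.2
      ((Nat.coprime_two_left.2 (hodd.of_dvd_nat (orderOf_dvd_natCard t)))))
    refine hX.theta_prime.ne_one (orderOf_eq_one_iff.2 (MonoidHom.ext fun n => ?_))
    have h3 : θ n = (θ n)⁻¹ := by
      refine (ht' n).trans (congrArg _ ?_)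
      exact Units.ext (congrFun htI n)
    have h4 : θ n ^ 2 = 1 := by rw [pow_two]; nth_rw 1 [h3]; exact inv_mul_cancel _
    have h5 : θ n ^ Nat.card (sigmaIn N) = 1 := by rw [← map_pow, pow_card_eq_one', map_one]
    have h6 := pow_gcd_eq_one.2 ⟨h4, h5⟩
    rwa [Nat.Coprime.gcd_eq_one (Nat.coprime_two_left.2
      (hodd.of_dvd_nat (card_subgroup_dvd_card (sigmaIn N)))), pow_one] at h6
  rw [Nat.card_eq_zero.2 (Or.inl hempty), Nat.cast_zero, mul_zero, zero_mul]

/-- `|N_σ| (τΦ, χ) = Σ f χ̄` over `⟨x⟩Q ∖ Q`. -/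
theorem IsHat.inner_meet [Fintype N] [Fintype (hatGroup (sigmaIn N) xN)]
    [DecidablePred (· ∈ sigmaIn N)] {χ : G → ℂ} (hχ : IsClassFunction G χ) :
    (Nat.card (sigmaIn N) : ℂ) * classInner (meetMap M N (mixPhi p f)) χ =
      ∑ a ∈ Finset.univ.filter (fun a : hatGroup (sigmaIn N) xN => (a : N) ∉ sigmaIn N),
        (f a : ℂ) * conj (χ ((a : N) : G)) := by
  haveI : (sigmaIn N).Normal := sigmaIn_normal hG
  rw [meetMap_inner hG h (hf.test hG h hX hxN) hχ, mixPhi,
    classInner_indFun (hatGroup (sigmaIn N) xN) _ (fun g : N => χ g) (fun a b => hχ (a : G) (b : G)),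
    classInner_offFun h.bad.prime (hX.xN_ord hG h hxN) (hX.xN_not_mem hG h hxN) f]

/-- `r ∣ (ψ, τΦ)`. -/
theorem IsHat.r_dvd [Fintype N] (ψ : IrrCharacter G) {D : ℤ}
    (hD : classInner (ψ : G → ℂ) (meetMap M N (mixPhi p f)) = D) : (r : ℤ) ∣ D := by
  classical
  haveI : (sigmaIn N).Normal := sigmaIn_normal hG
  haveI hHn := hX.hat_normal hG h hxN
  haveI := Fintype.ofFinite (hatGroup (sigmaIn N) xN)
  have hp := h.bad.prime
  have hxo := hX.xN_ord hG h hxN
  have hxQ := hX.xN_not_mem hG h hxN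
  set yN : N := ⟨y, hX.y_mem_N hG h⟩ with hyN
  let σ : hatGroup (sigmaIn N) xN → hatGroup (sigmaIn N) xN := fun a =>
    ⟨yN * a * yN⁻¹, hHn.conj_mem a a.2 yN⟩
  have hσp : ∀ a, σ^[r] a = a := fun a => by
    have e : ∀ i, ((σ^[i] a : hatGroup (sigmaIn N) xN) : N) = yN ^ i * a * (yN ^ i)⁻¹ := fun i => by
      induction i with
      | zero => simp
      | succ i ih =>
        rw [Function.iterate_succ_apply']
        show yN * ((σ^[i] a : hatGroup (sigmaIn N) xN) : N) * yN⁻¹ = _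
        rw [ih, pow_succ']
        group
    refine Subtype.ext ?_
    rw [e, show yN ^ r = 1 from Subtype.ext (show y ^ r = 1 by rw [← hX.y_ord, pow_orderOf_eq_one])]
    simp
  have hfσ : ∀ a, f (σ a) = f a := by
    intro a
    let g : hatGroup (sigmaIn N) xN →* ℂˣ := f.comp (normalConjHom _ yN)
    suffices g = f from DFunLike.congr_fun this a
    refine hat_ext hp hxo hxQ ?_ fun n => ?_
    · exact (hf.conj_x hG h hX hxN yN _ rfl).trans hf.at_x.symm
    · show f ⟨yN * n * yN⁻¹, _⟩ = _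
      rw [hf.on_Q n,
        show (⟨yN * n * yN⁻¹, _⟩ : hatGroup (sigmaIn N) xN) = ⟨((⟨yN * n * yN⁻¹,
          (inferInstance : (sigmaIn N).Normal).conj_mem n n.2 yN⟩ : sigmaIn N) : N),
          le_hatGroup _ xN ((inferInstance : (sigmaIn N).Normal).conj_mem n n.2 yN)⟩ from rfl, hf.on_Q]
      exact hX.inv_y n _ rfl
  set X := Finset.univ.filter (fun a : hatGroup (sigmaIn N) xN => (a : N) ∉ sigmaIn N) with hXdef
  have hψi : ∀ g, IsIntegral ℤ ((ψ : G → ℂ) g) := fun g => isCharacter_isIntegral (isCharacter_irr ψ) g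
  have hfi : ∀ a, IsIntegral ℤ (f a : ℂ) := fun a =>
    isCharacter_isIntegral (isCharacter_of_isIrr (isIrrCharacter_lin f)) a
  obtain ⟨w, hw, hsum⟩ := sum_sub_fixed hX.r_prime σ hσp
    (fun a => (f a : ℂ) * conj ((ψ : G → ℂ) ((a : N) : G)))
    (fun a => (hfi a).mul (isIntegral_conj (hψi _)))
    (fun a => by
      simp only [hfσ a]
      congr 2
      exact isClassFunction_irr ψ ((a : N) : G) y) X fun a ha => by
      refine Finset.mem_filter.2 ⟨Finset.mem_univ _, fun h' => (Finset.mem_filter.1 ha).2 ?_⟩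
      have := (inferInstance : (sigmaIn N).Normal).conj_mem _ h' yN⁻¹
      rwa [show yN⁻¹ * ((σ a : hatGroup (sigmaIn N) xN) : N) * yN⁻¹⁻¹ = (a : N) from by
        show yN⁻¹ * (yN * (a : N) * yN⁻¹) * yN⁻¹⁻¹ = _
        group] at this
  have hfix : X.filter (fun a => σ a = a) = ∅ := by
    rw [Finset.filter_eq_empty_iff]
    intro a ha e
    refine hX.move ?_
    obtain ⟨i, hi, q, hq, hdec⟩ := exists_decomp hp hxo hxQ a.2
    have hi0 : i ≠ 0 := fun h0 => (Finset.mem_filter.1 ha).2 (by rw [hdec, h0, pow_zero, one_mul]; exact hq)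
    obtain ⟨j, hj⟩ := mem_zpowers_iff.1 (hX.conj_x_mem hG h hxN yN hX.y_mem)
    have hpow : yN * xN ^ i * yN⁻¹ ∈ zpowers xN := by
      rw [← conj_pow]; exact pow_mem (mem_zpowers_iff.2 ⟨j, hj⟩) i
    classical
    rw [mem_zpowers_iff_mem_range_orderOf, Finset.mem_image] at hpow
    obtain ⟨l, hl, hl'⟩ := hpow
    have e' : xN ^ l * (yN * q * yN⁻¹) = xN ^ i * q := by
      rw [← hdec, ← congrArg Subtype.val e]
      show xN ^ l * (yN * q * yN⁻¹) = yN * (a : N) * yN⁻¹
      rw [hl', hdec]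
      group
    obtain ⟨rfl, -⟩ := decomp_unique hp hxo hxQ (hxo ▸ Finset.mem_range.1 hl) hi
      ((inferInstance : (sigmaIn N).Normal).conj_mem q hq yN) hq e'
    have hc : Commute yN (xN ^ l) := (mul_inv_eq_iff_eq_mul.1 hl'.symm)
    have hx : xN ∈ zpowers (xN ^ l) := mem_zpowers_pow_iff.2 (by
      rw [hxo]
      exact ((hp.coprime_iff_not_dvd).2 fun hd => hi.not_ge (Nat.le_of_dvd (Nat.pos_of_ne_zero hi0) hd)).symm)
    obtain ⟨z, hz⟩ := mem_zpowers_iff.1 hx
    have := congrArg Subtype.val (hz ▸ hc.zpow_right z).eq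
    rwa [coe_mul, coe_mul, hxN] at this
  rw [hfix, Finset.sum_empty, zero_add, ← hf.inner_meet hG h hX hxN (isClassFunction_irr ψ),
    ← classInner_conj, hD, map_intCast] at hsum
  have h2 : (r : ℤ) ∣ (Nat.card (sigmaIn N) : ℤ) * D - 0 :=
    Cong.dvd hX.r_prime (cong_of_eq hw (by push_cast; rw [hsum]; ring))
  rw [sub_zero] at h2
  exact ((Nat.prime_iff_prime_int.1 hX.r_prime).dvd_or_dvd h2).resolve_left fun hd =>
    hX.not_dvd hG h (Int.natCast_dvd_natCast.1 hd)

/-- `(ψ, τθ_N) ≡ εe + c + (ψ, τΦ)` modulo `p`. -/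
theorem IsHat.p_dvd [Fintype N] (hM : FpfAb M) (F : Family M) {a D : ℤ}
    (ha : classInner F.psi (tau N (thetaN N θ)) = a)
    (hD : classInner F.psi (meetMap M N (mixPhi p f)) = D) :
    (p : ℤ) ∣ a - F.ε * eIndex M - F.c - D := by
  classical
  haveI : (sigmaIn N).Normal := sigmaIn_normal hG
  haveI hHn := hX.hat_normal hG h hxN
  haveI := Fintype.ofFinite (hatGroup (sigmaIn N) xN)
  have hp := h.bad.prime
  have hxo := hX.xN_ord hG h hxN
  have hxQ := hX.xN_not_mem hG h hxN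
  obtain ⟨r₀, hr₀x, hr₀⟩ := hX.theta_fix
  obtain ⟨R, hR, hcd, hc⟩ := thetaN_cong hG h θ hp (x_mem_N hG h) h.bad.ord (not_dvd_kerN hG h) hX.inv_x
    ⟨r₀, fun e => hr₀ (by rw [e, map_one]), hr₀x⟩ (fun _ _ _ _ => inf_le_left.trans h.centralizer_le)
    (F.μ F.base) ha
  set ψ := (F.μ F.base : G → ℂ) with hψdef
  have hψi : ∀ g, IsIntegral ℤ (ψ g) := fun g =>
    isCharacter_isIntegral (isCharacter_irr (F.μ F.base)) g
  have hψg : IsGeneralizedCharacter G ψ := F.psi_gen
  have hθi : ∀ n : sigmaIn N, IsIntegral ℤ (θ n : ℂ) := fun n =>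
    isCharacter_isIntegral (isCharacter_of_isIrr (isIrrCharacter_lin θ)) n
  have hfi : ∀ a, IsIntegral ℤ (f a : ℂ) := fun a =>
    isCharacter_isIntegral (isCharacter_of_isIrr (isIrrCharacter_lin f)) a
  have hxp : x ^ p = 1 := by rw [← h.bad.ord, pow_orderOf_eq_one]
  -- the sum for `D` over the fixed points of `x`
  let σ : hatGroup (sigmaIn N) xN → hatGroup (sigmaIn N) xN := fun a =>
    ⟨xN * a * xN⁻¹, hHn.conj_mem a a.2 xN⟩
  let xH : hatGroup (sigmaIn N) xN := ⟨xN, mem_hatGroup_self _ xN⟩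
  have hσp : ∀ a, σ^[p] a = a := fun a => by
    have e : ∀ i, σ^[i] a = xH ^ i * a * (xH ^ i)⁻¹ := fun i => by
      induction i with
      | zero => simp
      | succ i ih =>
        rw [Function.iterate_succ_apply', ih, pow_succ']
        refine Subtype.ext ?_
        show xN * ((xH ^ i * a * (xH ^ i)⁻¹ : hatGroup (sigmaIn N) xN) : N) * xN⁻¹ = _
        simp only [coe_mul, coe_inv]
        show _ = _
        simp only [xH]
        group
    rw [e, show xH ^ p = 1 from Subtype.ext (show xN ^ p = 1 by rw [← hxo, pow_orderOf_eq_one])]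
    simp
  set X := Finset.univ.filter (fun a : hatGroup (sigmaIn N) xN => (a : N) ∉ sigmaIn N) with hXdef
  let g : hatGroup (sigmaIn N) xN → ℂ := fun a => (f a : ℂ) * conj (ψ ((a : N) : G))
  obtain ⟨w, hw, hsum⟩ := sum_sub_fixed hp σ hσp g (fun a => (hfi a).mul (isIntegral_conj (hψi _)))
    (fun a => by
      show (f (σ a) : ℂ) * conj (ψ ((σ a : N) : G)) = _
      rw [show σ a = xH * a * xH⁻¹ from Subtype.ext rfl, map_mul, map_mul, map_inv, mul_inv_cancel_comm]
      congr 2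
      exact isClassFunction_irr (F.μ F.base) ((a : N) : G) xN) X fun a ha => by
      refine Finset.mem_filter.2 ⟨Finset.mem_univ _, fun h' => (Finset.mem_filter.1 ha).2 ?_⟩
      have := (inferInstance : (sigmaIn N).Normal).conj_mem _ h' xN⁻¹
      rwa [show xN⁻¹ * ((σ a : hatGroup (sigmaIn N) xN) : N) * xN⁻¹⁻¹ = (a : N) from by
        show xN⁻¹ * (xN * (a : N) * xN⁻¹) * xN⁻¹⁻¹ = _
        group] at this
  let A : sigmaIn N → ℂ := fun n => (θ n : ℂ) * conj (ψ ((n : N) : G))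
  have hAi : ∀ n, IsIntegral ℤ (A n) := fun n => (hθi n).mul (isIntegral_conj (hψi _))
  have hfixed : Cong p (∑ a ∈ X.filter (fun a => σ a = a), g a)
      (∑ _i ∈ Finset.Ico 1 p, ∑ n ∈ R, A n) := by
    rw [← Finset.sum_product']
    let ι : ℕ × sigmaIn N → hatGroup (sigmaIn N) xN := fun z =>
      xH ^ z.1 * ⟨z.2, le_hatGroup _ xN z.2.2⟩
    rw [show ∑ a ∈ X.filter (fun a => σ a = a), g a = ∑ z ∈ Finset.Ico 1 p ×ˢ R, g (ι z) from
      (Finset.sum_bij (fun z _ => ι z) (fun z hz => ?_) (fun z hz z' hz' e => ?_) (fun a ha => ?_)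
        fun _ _ => rfl).symm]
    · refine Cong.sum _ (fun z => (hfi _).mul (isIntegral_conj (hψi _))) (fun z => hAi z.2) fun z hz => ?_
      obtain ⟨-, hn⟩ := Finset.mem_product.1 hz
      show Cong p ((f (ι z) : ℂ) * conj (ψ ((ι z : N) : G))) _
      rw [map_mul, map_pow, show f xH = 1 from hf.at_x, one_pow, one_mul, hf.on_Q z.2]
      refine Cong.mul_left (hθi _) (Cong.conj' ?_)
      have e : ((ι z : N) : G) = x ^ z.1 * ((z.2 : N) : G) := by simp [ι, xH, hxN]
      rw [e]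
      exact cong_mul_of_pow_prime hp hψg (k := 1) (by
        rw [pow_one, ← pow_mul, mul_comm, pow_mul, hxp, one_pow]) (((hR _).1 hn).pow_left _)
    · obtain ⟨hi, hn⟩ := Finset.mem_product.1 hz
      obtain ⟨hi1, hip⟩ := Finset.mem_Ico.1 hi
      refine Finset.mem_filter.2 ⟨Finset.mem_filter.2 ⟨Finset.mem_univ _, fun h' => ?_⟩,
        Subtype.ext (Subtype.ext ?_)⟩
      · have h1 : xN ^ z.1 ∈ sigmaIn N := ((sigmaIn N).mul_mem_cancel_right z.2.2).1 (by simpa [ι, xH] using h')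
        have := eq_zero_of_pow_mem hp hxo hxQ hip h1
        omega
      · simp only [σ, ι, xH, coe_mul, coe_pow, coe_inv, hxN]
        rw [mul_inv_eq_iff_eq_mul]
        exact (((Commute.refl x).pow_right _).mul_right ((hR _).1 hn)).eq
    · obtain ⟨hi, -⟩ := Finset.mem_product.1 hz
      obtain ⟨hi', -⟩ := Finset.mem_product.1 hz'
      have e' := congrArg Subtype.val e
      simp only [ι, xH, coe_mul, coe_pow] at e'
      obtain ⟨h1, h2⟩ := decomp_unique hp hxo hxQ (Finset.mem_Ico.1 hi).2 (Finset.mem_Ico.1 hi').2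
        z.2.2 z'.2.2 e'
      exact Prod.ext h1 (Subtype.ext h2)
    · obtain ⟨haX, haσ⟩ := Finset.mem_filter.1 ha
      obtain ⟨i, hi, q, hq, hdec⟩ := exists_decomp hp hxo hxQ a.2
      have hi0 : i ≠ 0 := fun h0 => (Finset.mem_filter.1 haX).2 (by rw [hdec, h0, pow_zero, one_mul]; exact hq)
      refine ⟨(i, ⟨q, hq⟩), Finset.mem_product.2 ⟨Finset.mem_Ico.2 ⟨by omega, hi⟩, (hR _).2 ?_⟩,
        Subtype.ext (by simp [ι, xH, hdec])⟩
      have e : xN * (xN ^ i * q) * xN⁻¹ = xN ^ i * q := by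
        rw [← hdec]; exact congrArg Subtype.val haσ
      have h1 : Commute xN (xN ^ i * q) := mul_inv_eq_iff_eq_mul.1 e
      have h2 : Commute xN q := by
        have := ((Commute.refl xN).pow_right i).inv_right.mul_right h1
        rwa [inv_mul_cancel_left] at this
      have := congrArg Subtype.val h2.eq
      rwa [coe_mul, coe_mul, hxN] at this
  have hsumD : Cong p ((Nat.card (sigmaIn N) : ℂ) * (D : ℂ)) (-(∑ n ∈ R, A n)) := by
    rw [← hf.inner_meet hG h hX hxN (χ := ψ) (isClassFunction_irr (F.μ F.base)), ← classInner_conj,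
      show classInner ψ (meetMap M N (mixPhi p f)) = D from hD, map_intCast] at hsum
    rw [Finset.sum_const, Nat.card_Ico, nsmul_eq_mul, Nat.cast_sub hp.pos, Nat.cast_one] at hfixed
    have hRi : IsIntegral ℤ (∑ n ∈ R, A n) := IsIntegral.sum _ fun n _ => hAi n
    have hgi : IsIntegral ℤ (∑ a ∈ X.filter (fun a => σ a = a), g a) :=
      IsIntegral.sum _ fun a _ => (hfi a).mul (isIntegral_conj (hψi _))
    refine (cong_of_eq hw hsum).trans ((isIntegral_natCast _).mul (isIntegral_intCast _)) hgi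
      (IsIntegral.neg hRi) (hfixed.trans hgi (((isIntegral_natCast p).sub isIntegral_one).mul hRi)
        (IsIntegral.neg hRi) (cong_of_eq hRi (by ring)))
  -- `|N_σ| (a - D) ≡ |R| conj ψ̂(x)`
  let B : sigmaIn N → ℂ := fun n => conj (ψ ((n : N) : G))
  have hBi : ∀ n, IsIntegral ℤ (B n) := fun n => isIntegral_conj (hψi _)
  have hB : Cong p ((Nat.card (sigmaIn N) : ℂ) * ((a : ℂ) - (D : ℂ))) (∑ n ∈ R, B n) := by
    have h1 := hsumD.mul_left (c := -1) (isIntegral_one.neg)
    have h2 := Cong.add ((isIntegral_natCast _).mul (isIntegral_intCast _))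
      (IsIntegral.sum _ fun n _ => (isIntegral_one.sub (hθi n)).mul (hBi n))
      (isIntegral_one.neg.mul ((isIntegral_natCast _).mul (isIntegral_intCast _)))
      (isIntegral_one.neg.mul (IsIntegral.neg (IsIntegral.sum _ fun n _ => hAi n))) hc h1
    convert h2 using 1
    · ring
    · rw [neg_one_mul, neg_neg, ← Finset.sum_add_distrib]
      exact Finset.sum_congr rfl fun n _ => by simp only [A, B]; ring
  set v : ℂ := (F.ε : ℂ) * valOn M F.base.1 x + F.c with hv
  have hRx : ∑ n ∈ R, ψ (x * ((n : N) : G)) = (R.card : ℂ) * v := by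
    have hval := hX.avg_psi hG h hM F h.bad.mem h.ne_one
    rw [avgR, supportR_x hG h] at hval
    have hbij : ∑ n ∈ R, ψ (x * ((n : N) : G)) =
        ∑ᶠ w ∈ ((sigmaCore N ⊓ centralizer ({x} : Set G) : Subgroup G) : Set G), F.psi (x * w) := by
      rw [finsum_mem_eq_toFinset_sum]
      refine Finset.sum_bij (fun n _ => ((n : N) : G)) (fun n hn => ?_)
        (fun n _ m _ e => Subtype.ext (Subtype.ext e)) (fun w hw => ?_) fun n _ => rfl
      · simp only [Set.mem_toFinset, SetLike.mem_coe]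
        exact mem_inf.2 ⟨n.2, mem_centralizer_singleton_iff.2 ((hR n).1 hn).eq.symm⟩
      · simp only [Set.mem_toFinset, SetLike.mem_coe] at hw
        refine ⟨⟨⟨w, map_subtype_le _ (mem_inf.1 hw).1⟩, (mem_inf.1 hw).1⟩, (hR _).2 ?_, rfl⟩
        exact (show Commute w x from mem_centralizer_singleton_iff.1 (mem_inf.1 hw).2).symm
    have hRcard : R.card = Nat.card (sigmaCore N ⊓ centralizer ({x} : Set G) : Subgroup G) := by
      rw [← Fintype.card_coe, ← Nat.card_eq_fintype_card]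
      refine Nat.card_congr ⟨fun n => ⟨((n.1 : N) : G), mem_inf.2 ⟨n.1.2,
        mem_centralizer_singleton_iff.2 ((hR n.1).1 n.2).eq.symm⟩⟩,
        fun w => ⟨⟨⟨w, map_subtype_le _ (mem_inf.1 w.2).1⟩, (mem_inf.1 w.2).1⟩, (hR _).2
          (show Commute (w : G) x from mem_centralizer_singleton_iff.1 (mem_inf.1 w.2).2).symm⟩,
        fun n => rfl, fun w => rfl⟩
    rw [hbij, hRcard, hv, ← hval, ← mul_assoc,
      mul_inv_cancel₀ (by exact_mod_cast Nat.card_pos.ne'), one_mul]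
  have hxM : x ∈ M := map_subtype_le _ h.bad.mem
  have hvi : IsIntegral ℤ v := by
    refine ((isIntegral_intCast _).mul ?_).add (isIntegral_intCast _)
    rw [valOn_mem _ hxM]
    haveI := Fintype.ofFinite M
    exact generalized_isIntegral (member_gen hG F.base) _
  have hve : Cong p v ((F.ε * eIndex M + F.c : ℤ) : ℂ) := by
    haveI := Fintype.ofFinite M
    have h1 := cong_mul_of_pow_prime hp (member_gen hG F.base) (x := (⟨x, hxM⟩ : M)) (y := 1) (k := 1)
      (by rw [pow_one]; exact Subtype.ext hxp) (Commute.one_right _)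
    rw [mul_one, member_one F.base] at h1
    rw [hv, valOn_mem _ hxM]
    push_cast
    exact Cong.add ((isIntegral_intCast _).mul (generalized_isIntegral (member_gen hG F.base) _))
      ((isIntegral_intCast _).mul (isIntegral_natCast _)) (isIntegral_intCast _) (isIntegral_intCast _)
      (h1.mul_left (isIntegral_intCast _)) (cong_refl p _)
  have hb : Cong p (∑ n ∈ R, B n) ((R.card : ℂ) * ((F.ε * eIndex M + F.c : ℤ) : ℂ)) := by
    have h1 : Cong p (∑ n ∈ R, B n) (∑ n ∈ R, conj (ψ (x * ((n : N) : G)))) :=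
      Cong.sum R hBi (fun n => isIntegral_conj (hψi _)) fun n hn =>
        (cong_mul_of_pow_prime hp hψg (k := 1) (by rw [pow_one, hxp]) ((hR n).1 hn)).symm.conj'
    rw [← map_sum (starRingEnd ℂ) (fun n : sigmaIn N => ψ (x * ((n : N) : G))) R, hRx, map_mul, map_natCast] at h1
    have h2 := Cong.conj' hve
    rw [map_intCast] at h2
    exact h1.trans (IsIntegral.sum _ fun n _ => hBi n) ((isIntegral_natCast _).mul (isIntegral_conj hvi))
      ((isIntegral_natCast _).mul (isIntegral_intCast _)) (h2.mul_left (isIntegral_natCast _))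
  have h3 := hB.trans ((isIntegral_natCast _).mul ((isIntegral_intCast _).sub (isIntegral_intCast _)))
    (IsIntegral.sum _ fun n _ => hBi n) ((isIntegral_natCast _).mul (isIntegral_intCast _)) hb
  have hdvd : (p : ℤ) ∣ (Nat.card (sigmaIn N) : ℤ) * (a - D) - (R.card : ℤ) * (F.ε * eIndex M + F.c) :=
    Cong.dvd hp (by push_cast at h3 ⊢; exact h3)
  refine ((Nat.prime_iff_prime_int.1 hp).dvd_or_dvd (a := (Nat.card (sigmaIn N) : ℤ)) ?_).resolve_left
    fun hd => not_dvd_kerN hG h (Int.natCast_dvd_natCast.1 hd)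
  rw [show (Nat.card (sigmaIn N) : ℤ) * (a - F.ε * eIndex M - F.c - D) =
    ((Nat.card (sigmaIn N) : ℤ) * (a - D) - (R.card : ℤ) * (F.ε * eIndex M + F.c)) -
      ((Nat.card (sigmaIn N) : ℤ) - R.card) * (F.ε * eIndex M + F.c) by ring]
  exact dvd_sub hdvd (hcd.mul_right _)

end CfsgLib.FT
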