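import Cfsg.Agent.Lib.FT.MeetMixedMass
import Cfsg.Agent.Lib.FT.MeetMixedBig
import Cfsg.Agent.Lib.FT.MeetMixedArith

/-!
# The mixed case of §1 with `|M_σ| = p²` (`docs/FT-meet-gap2.md`, step 3)

`norm_identity` is `1 ≥ ∫_{tilde M} |ψ|² + σ ∫_{tilde M} v + ∫_{tilde N} (v² + σ v)`, `v = εψ`, in
terms of inner products with test functions.
-/

set_option autoImplicit false
set_option linter.unusedSectionVars false
set_option linter.style.haveILetI false

open Subgroup

namespace CfsgLib.FT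

open CfsgLib.CFun CfsgLib.CFun.TauTwo Cfsg CfsgLib.Char
open scoped ComplexConjugate

universe u

variable {G : Type u} [Group G] [Fintype G] (hG : IsMinSimpleOddOrder G)
include hG

/-- The mass inequality: `T` and `U` are carried by `tilde M`, `W` by `tilde N`. -/
theorem mass_ineq {M : Subgroup G} (hM : FpfAb M) (F : Family M) {T U W : G → ℂ}
    (hT : ∀ g, g ∉ tildeOf M (sharp M) → T g = 0)
    (hU0 : ∀ g, g ∉ tildeOf M (sharp M) → U g = 0) (hU1 : ∀ g ∈ tildeOf M (sharp M), U g = 1)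
    (hW : ∀ g, ∃ z : ℝ, 0 ≤ z ∧ z ≤ 1 ∧ W g = z) (hW0 : ∀ g ∈ tildeOf M (sharp M), W g = 0)
    (σ A : ℤ) (hσ : σ = 1 ∨ σ = -1) :
    2 * (classInner T F.psi).re - (classInner T T).re + (σ * F.ε : ℤ) * (classInner U F.psi).re +
      ((2 * A + σ) * F.ε : ℤ) * (classInner W F.psi).re - (A : ℝ) ^ 2 * (classInner W (fun _ => 1)).re ≤ 1 := by
  classical
  have hpt : ∀ g : G, 2 * (T g * conj (F.psi g)).re - (T g * conj (T g)).re +
      (σ * F.ε : ℤ) * (U g * conj (F.psi g)).re + ((2 * A + σ) * F.ε : ℤ) * (W g * conj (F.psi g)).re -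
      (A : ℝ) ^ 2 * (W g * conj (1 : ℂ)).re ≤
      (F.psi g * conj (F.psi g)).re + (σ * F.ε : ℤ) * (F.psi g * conj (1 : ℂ)).re := by
    intro g
    by_cases hg : g ∈ tildeOf M (sharp M)
    · rw [hW0 g hg, hU1 g hg]
      simp only [map_one, mul_one, one_mul, zero_mul, Complex.zero_re, mul_zero, add_zero, sub_zero,
        Complex.conj_re, Complex.mul_re, Complex.conj_im]
      nlinarith [sq_nonneg ((T g).re - (F.psi g).re), sq_nonneg ((T g).im - (F.psi g).im)]
    · obtain ⟨z, hz⟩ := psi_int_off_tilde hG hM F hg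
      obtain ⟨w, hw0, hw1, hw⟩ := hW g
      rw [hT g hg, hU0 g hg, hw, hz]
      simp only [map_one, mul_one, zero_mul, Complex.zero_re, mul_zero, sub_zero, zero_add,
        map_intCast, ← Int.cast_mul, Complex.intCast_re, Complex.ofReal_re,
        Complex.re_ofReal_mul]
      set v : ℤ := F.ε * z with hv
      have h1 : (0 : ℝ) ≤ ((v * v + σ * v : ℤ) : ℝ) := by
        have : 0 ≤ v * v + σ * v := by
          rcases hσ with rfl | rfl
          · rcases le_or_gt 0 v with h' | h'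
            · nlinarith
            · nlinarith
          · rcases le_or_gt v 0 with h' | h'
            · nlinarith
            · nlinarith
        exact_mod_cast this
      have h2 : (0 : ℝ) ≤ w * ((v : ℝ) - A) ^ 2 := by positivity
      have h3 : w * ((v * v + σ * v : ℤ) : ℝ) ≤ ((v * v + σ * v : ℤ) : ℝ) :=
        mul_le_of_le_one_left h1 hw1
      have he : (F.ε : ℝ) * F.ε = 1 := by rcases F.sign with e | e <;> simp [e]
      have e2 : ((v * v + σ * v : ℤ) : ℝ) = (z : ℝ) * z + (σ : ℝ) * F.ε * z := by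
        rw [hv]; push_cast; linear_combination ((z : ℝ) * z) * he
      rw [e2] at h3
      have e3 : ((v : ℝ) - A) ^ 2 = (z : ℝ) * z - 2 * A * F.ε * z + (A : ℝ) ^ 2 := by
        rw [hv]; push_cast; linear_combination ((z : ℝ) * z) * he
      rw [e3] at h2
      push_cast
      linarith
  have hsum := Finset.sum_le_sum (s := Finset.univ) fun g _ => hpt g
  have hn : (0 : ℝ) ≤ (Nat.card G : ℝ)⁻¹ := by positivity
  have h4 := mul_le_mul_of_nonneg_left hsum hn
  simp only [Finset.sum_add_distrib, Finset.sum_sub_distrib, ← Finset.mul_sum] at h4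
  have h5 : (classInner F.psi F.psi).re = 1 := by
    rw [show F.psi = (F.μ F.base : G → ℂ) from rfl, classInner_irr_self, Complex.one_re]
  have h6 : (classInner F.psi (fun _ => 1)).re = 0 := by rw [F.psi_one hG hM, Complex.zero_re]
  rw [re_classInner] at h5 h6
  simp only [re_classInner]
  linear_combination h4 + h5 + ((σ * F.ε : ℤ) : ℝ) * h6

variable {M N : Subgroup G} {x y : G} {p r s : ℕ} {θ : sigmaIn N →* ℂˣ} (h : BadData M N x p)
  (hX : MixedData M N x y p r s θ) (hM : FpfAb M) (F : Family M)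
  (hZ : ∀ v ∈ sigmaCore N, v ≠ 1 → Commute y v → F.psi (y * v) = 0)
include h hX hM

/-- `(β, β)` and `(1_{M_σ#}, β)` for the averages `β` of `ψ`. -/
theorem MixedData.avg_inner [Fintype M] (hk : kZero M = p ^ 2) :
    ((eIndex M : ℂ) * (p : ℂ) ^ 2) * classInner (avgS M F.psi) (avgS M F.psi) =
        (eIndex M : ℂ) * (p : ℂ) ^ 2 + (F.c : ℂ) ^ 2 * (p : ℂ) ^ 2 -
          ((F.ε : ℂ) * eIndex M + F.c) ^ 2 ∧
      ((eIndex M : ℂ) * (p : ℂ) ^ 2) * classInner (sharpInd M) (avgS M F.psi) =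
        (F.c : ℂ) * (p : ℂ) ^ 2 - ((F.ε : ℂ) * eIndex M + F.c) := by
  classical
  have hcard : (Nat.card M : ℂ) = (eIndex M : ℂ) * (p : ℂ) ^ 2 := by
    rw [Family.card_M hG hM, hX.der, Subgroup.card_bot, one_mul, hk]
    push_cast
    rfl
  have he : (eIndex M : ℂ) ≠ 0 := by exact_mod_cast eIndex_pos.ne'
  have hp : (p : ℂ) ≠ 0 := by exact_mod_cast h.bad.prime.ne_zero
  set one : M → ℂ := indSigma M (fun _ => 1) with hone
  set δ : M → ℂ := fun m => if m = 1 then 1 else 0 with hδ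
  have h1mem : ((1 : M) : G) ∈ sigmaCore M := one_mem (sigmaCore M)
  have hsh : ∀ m : M, (m : G) ∈ sharp M ↔ (m : G) ∈ sigmaCore M ∧ m ≠ 1 := fun m => by
    rw [mem_sharp]
    exact and_congr_right fun _ => ⟨fun h' e => h' (by rw [e]; rfl), fun h' e => h' (Subtype.ext e)⟩
  have hb : avgS M F.psi = (F.ε : ℂ) • F.base.1 + ((F.c : ℂ) / eIndex M) • one -
      ((F.ε : ℂ) * eIndex M + F.c) • δ := by
    funext m
    simp only [hone, hδ, Pi.sub_apply, Pi.add_apply, Pi.smul_apply, smul_eq_mul, indOne_eq hG]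
    by_cases hm : (m : G) ∈ sharp M
    · obtain ⟨hms, hm1⟩ := (hsh m).1 hm
      rw [avgS_mem _ hm, hX.avg_psi hG h hM F hm.1 hm.2, valOn_mem _ m.2, if_pos hms, if_neg hm1]
      field_simp
      ring
    · rw [avgS_supp _ m hm]
      by_cases hms : (m : G) ∈ sigmaCore M
      · obtain rfl : m = 1 := not_not.1 fun hm1 => hm ((hsh m).2 ⟨hms, hm1⟩)
        rw [if_pos hms, if_pos rfl, member_one]
        field_simp
        ring
      · rw [if_neg hms, if_neg (fun e : m = 1 => hms (e ▸ h1mem)), member_vanish hG _ hms]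
        ring
  have hi : sharpInd M = (eIndex M : ℂ)⁻¹ • one - δ := by
    funext m
    simp only [hone, hδ, Pi.sub_apply, Pi.smul_apply, smul_eq_mul, indOne_eq hG, sharpInd]
    by_cases hm : (m : G) ∈ sharp M
    · obtain ⟨hms, hm1⟩ := (hsh m).1 hm
      rw [if_pos hm, if_pos hms, if_neg hm1, inv_mul_cancel₀ he, sub_zero]
    · rw [if_neg hm]
      by_cases hms : (m : G) ∈ sigmaCore M
      · obtain rfl : m = 1 := not_not.1 fun hm1 => hm ((hsh m).2 ⟨hms, hm1⟩)
        rw [if_pos hms, if_pos rfl, inv_mul_cancel₀ he, sub_self]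
      · rw [if_neg hms, if_neg (fun e : m = 1 => hms (e ▸ h1mem)), mul_zero, sub_zero]
  have hδr : ∀ f : M → ℂ, classInner f δ = f 1 / (Nat.card M : ℂ) := fun f => by
    simp only [classInner, hδ, apply_ite (starRingEnd ℂ), map_one, map_zero, mul_ite, mul_one, mul_zero,
      Finset.sum_ite_eq', Finset.mem_univ, if_true]
    ring
  have hone1 : one 1 = (eIndex M : ℂ) := by rw [hone, indOne_eq hG, if_pos h1mem]
  have hδl : ∀ f : M → ℂ, classInner δ f = conj (f 1) / (Nat.card M : ℂ) := fun f => by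
    rw [← classInner_conj, hδr, map_div₀, Complex.conj_natCast]
  have hφ1 : F.base.1 1 = (eIndex M : ℂ) := member_one F.base
  have hδ1 : δ 1 = 1 := if_pos rfl
  have hon : classInner one F.base.1 = 0 := indOne_inner_member hG F.base
  have hno : classInner F.base.1 one = 0 := by rw [← classInner_conj, hon, map_zero]
  have hoo : classInner one one = (eIndex M : ℂ) := indOne_norm hG
  rw [hb, hi]
  simp only [classInner_sub_left, classInner_sub_right, classInner_add_left, classInner_add_right,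
    classInner_smul_left, classInner_smul_right, member_self hG hM, hon, hno, hoo, hδr, hδl, hone1,
    hφ1, hδ1, Pi.sub_apply, Pi.add_apply, Pi.smul_apply, smul_eq_mul, map_sub, map_add, map_mul, map_div₀, map_inv₀, map_one, map_intCast, Complex.conj_natCast,
    hcard]
  constructor
  · field_simp
    linear_combination ((p : ℂ) ^ 2 * (eIndex M : ℂ)) * F.eps_sq
  · field_simp
    ring

include hZ

/-- There is no mixed bad pair with `|M_σ| = p²`. -/
theorem MixedData.false_of_sq (hk : kZero M = p ^ 2) : False := by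
  classical
  haveI := Fintype.ofFinite M
  haveI := Fintype.ofFinite N
  haveI : (sigmaIn N).Normal := sigmaIn_normal hG
  haveI : (kerN N).Normal := sigmaIn_normal hG
  haveI := member_finite hG hM
  haveI := Fintype.ofFinite (Member M)
  set xN : N := ⟨x, x_mem_N hG h⟩ with hxN'
  have hxN : (xN : G) = x := rfl
  obtain ⟨f, hf⟩ := hX.exists_isHat hG h hxN
  set Φ := mixPhi p f with hΦ
  have hΦt := hf.test hG h hX hxN
  have hΦg := hf.gen hG h hX hxN
  have hΦcg : IsGeneralizedCharacter N (Cfsg.conjFun Φ) := by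
    obtain ⟨a, b, ha, hb, e⟩ := hΦg
    refine ⟨_, _, isCharacter_conj ha, isCharacter_conj hb, ?_⟩
    funext g
    simp [hΦ, Cfsg.conjFun, e]
  set TN := tau N (thetaN N θ) with hTN
  set Fp := meetMap M N Φ + meetMap M N (Cfsg.conjFun Φ) with hFp
  obtain ⟨a, ha⟩ := classInner_generalized_int F.psi_gen
    (tau_gen hG h.coatom (thetaN_gen hG h θ) (thetaN_supp hG h θ))
  obtain ⟨D, hD⟩ := classInner_generalized_int F.psi_gen (meetMap_gen hG h hΦt hΦg)
  -- the values on the family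
  have hμT : ∀ i, classInner (F.μ i : G → ℂ) TN = a := fun i =>
    (inner_thetaN_const hG h θ (famIn hG hM F) i F.base).trans ha
  have hμΦ : ∀ i, classInner (F.μ i : G → ℂ) (meetMap M N Φ) = D := fun i =>
    (inner_meetMap_const hG h (famIn hG hM F) hΦt i F.base).trans hD
  have hμΦc : ∀ i, classInner (F.μ i : G → ℂ) (meetMap M N (Cfsg.conjFun Φ)) = D := fun i => by
    have h0 := inner_meetMap_eq_zero hG h (famIn hG hM F) (hΦt.sub' hΦt.conjFun)
      (isGeneralizedCharacter_sub hΦg hΦcg) (Or.inr (by funext g; simp [hΦ, Cfsg.conjFun])) i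
    rw [meetMap_sub, classInner_sub_right, sub_eq_zero] at h0
    exact h0.symm.trans (hμΦ i)
  have hμF : ∀ i, classInner (F.μ i : G → ℂ) Fp = 2 * D := fun i => by
    rw [hFp, classInner_add_right, hμΦ i, hμΦc i]; ring
  have hΦn := hf.norm hG h hX hxN hk
  have hΦi : classInner Φ (Cfsg.conjFun Φ) = 0 := hf.inner_conj hG h hX hxN
  have hFn : classInner Fp Fp = 2 * ((p : ℂ) * ((p : ℂ) - 1) * r) := by
    have e : ∀ u w : N → ℂ, IsTest M N u → IsTest M N w →
        classInner (meetMap M N u) (meetMap M N w) = classInner u w := fun u w hu hw =>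
      dade_isometry (meet_dade hG h) hu.cls (fun _ => hu.supp hG h) hw.cls
    rw [hFp, classInner_add_left, classInner_add_right, classInner_add_right, e _ _ hΦt hΦt,
      e _ _ hΦt hΦt.conjFun, e _ _ hΦt.conjFun hΦt, e _ _ hΦt.conjFun hΦt.conjFun, norm_conjFun, hΦn,
      ← classInner_conj Φ (Cfsg.conjFun Φ), hΦi, map_zero]
    ring
  have hFT : classInner Fp TN = 0 := by
    rw [hFp, classInner_add_left, hTN, meetMap_orth_tauN hG h, meetMap_orth_tauN hG h, add_zero]
  have hTF : classInner TN Fp = 0 := by rw [← classInner_conj, hFT, map_zero]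
  -- basic numbers
  obtain ⟨b, hb⟩ := hX.r_dvd_a hG h hM F hZ ha
  obtain ⟨d, hd⟩ := hf.r_dvd hG h hX hxN (F.μ F.base) hD
  have hcong := hf.p_dvd hG h hX hxN hM F ha hD
  have hn : Nat.card (Member M) * eIndex M + 1 = p ^ 2 := hk ▸ member_card hG hM
  have hp5 := hX.five_le
  have hr3 := hX.three_le_r
  have hdeg : (sigmaIn N).index = r * p ^ 2 := by
    rw [show (sigmaIn N).index = (kerN N).index from rfl, index_kerN hG h, hX.card_D hG h, hk]
  -- `(p-1) b² + 2 (p+1) d² ≤ p s`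
  have hTn : (classInner TN TN).re ≤ (r : ℝ) * p * ((p : ℝ) + 1) := by
    rw [hTN, tau_thetaN_norm hG h θ (hX.theta_ne hG h), hdeg, Complex.add_re, Complex.natCast_re,
      Complex.div_natCast_re, Complex.natCast_re]
    have hI : (p : ℝ) ≤ ((inertia (sigmaIn N) (fun n => (θ n : ℂ))).index : ℝ) := by
      exact_mod_cast le_index_inertia hG h (θ := θ) (hX.theta_ne hG h)
    have hp0 : (0 : ℝ) < p := by exact_mod_cast h.bad.prime.pos
    refine le_trans (add_le_add le_rfl (div_le_div_of_nonneg_left (by positivity) hp0 hI)) (le_of_eq ?_)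
    push_cast
    field_simp
  have hBes : ((p : ℤ) - 1) * b ^ 2 + 2 * ((p : ℤ) + 1) * d ^ 2 ≤ (p : ℤ) * s := by
    set α : ℤ := a * (2 * p * (p - 1) * r) with hα
    set β : ℤ := 2 * D * (r * p * (p + 1)) with hβ
    set V : G → ℂ := (α : ℂ) • TN + (β : ℂ) • Fp with hV
    have hVg : IsGeneralizedCharacter G V := by
      refine isGeneralizedCharacter_add (isGeneralizedCharacter_zsmul
        (tau_gen hG h.coatom (thetaN_gen hG h θ) (thetaN_supp hG h θ)) _)
        (isGeneralizedCharacter_zsmul (isGeneralizedCharacter_add (meetMap_gen hG h hΦt hΦg)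
          (meetMap_gen hG h hΦt.conjFun hΦcg)) _)
    obtain ⟨m, hm, hle⟩ := bessel hVg (Finset.univ.image F.μ)
    have hmi : ∀ i, m (F.μ i) = α * a + β * (2 * D) := fun i => by
      have e : classInner (F.μ i : G → ℂ) V = ((α * a + β * (2 * D) : ℤ) : ℂ) := by
        rw [hV, classInner_add_right, classInner_smul_right, classInner_smul_right, hμT i, hμF i,
          map_intCast, map_intCast]
        push_cast
        ring
      rw [← classInner_conj, hm, map_intCast] at e
      exact_mod_cast e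
    rw [Finset.sum_image fun a _ b _ e => F.inj e,
      Finset.sum_congr rfl (g := fun _ : Member M => (α * a + β * (2 * D)) ^ 2) fun i _ => by rw [hmi i],
      Finset.sum_const, nsmul_eq_mul, Finset.card_univ, ← Nat.card_eq_fintype_card] at hle
    have hVn : (classInner V V).re ≤ (α : ℝ) ^ 2 * ((r : ℝ) * p * ((p : ℝ) + 1)) +
        (β : ℝ) ^ 2 * (2 * ((p : ℝ) * ((p : ℝ) - 1) * r)) := by
      rw [hV, classInner_add_left, classInner_add_right, classInner_add_right]
      simp only [classInner_smul_left, classInner_smul_right, map_intCast, hFT, hTF, hFn, mul_zero,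
        add_zero, zero_add]
      rw [← Complex.ofReal_intCast α, ← Complex.ofReal_intCast β, Complex.add_re, ← mul_assoc, ← mul_assoc,
        ← Complex.ofReal_mul, ← Complex.ofReal_mul, Complex.re_ofReal_mul, Complex.re_ofReal_mul,
        ← pow_two, ← pow_two,
        show (2 * ((p : ℂ) * ((p : ℂ) - 1) * r)) = ((2 * ((p : ℝ) * ((p : ℝ) - 1) * r) : ℝ) : ℂ) by
          push_cast; ring, Complex.ofReal_re]
      exact add_le_add (mul_le_mul_of_nonneg_left hTn (sq_nonneg _)) le_rfl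
    have hZ' : (Nat.card (Member M) : ℤ) * (α * a + β * (2 * D)) ^ 2 ≤
        α ^ 2 * ((r : ℤ) * p * ((p : ℤ) + 1)) + β ^ 2 * (2 * ((p : ℤ) * ((p : ℤ) - 1) * r)) := by
      have := hle.trans hVn
      exact_mod_cast this
    have hne : (Nat.card (Member M) : ℤ) * (r * s) + 1 = (p : ℤ) ^ 2 := by
      rw [hX.e_eq] at hn; exact_mod_cast hn
    set Q : ℤ := ((p : ℤ) - 1) * b ^ 2 + 2 * ((p : ℤ) + 1) * d ^ 2 with hQ
    have hp' : (5 : ℤ) ≤ p := by exact_mod_cast hp5
    have hr' : (3 : ℤ) ≤ r := by exact_mod_cast hr3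
    have hQ0 : 0 ≤ Q := by
      rw [hQ]
      have : (0 : ℤ) ≤ (p : ℤ) - 1 := by linarith
      positivity
    have e1 : α * a + β * (2 * D) = 2 * (p : ℤ) * r ^ 3 * Q := by
      rw [hα, hβ, hQ, hb, hd]; ring
    have e2 : α ^ 2 * ((r : ℤ) * p * ((p : ℤ) + 1)) + β ^ 2 * (2 * ((p : ℤ) * ((p : ℤ) - 1) * r)) =
        4 * (p : ℤ) ^ 3 * ((p : ℤ) ^ 2 - 1) * r ^ 5 * Q := by
      rw [hα, hβ, hQ, hb, hd]; ring
    rw [e1, e2] at hZ'
    rcases hQ0.eq_or_lt with h0 | h0
    · rw [← h0]; positivity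
    have h7 : (Nat.card (Member M) : ℤ) * r * Q ≤ (p : ℤ) * ((p : ℤ) ^ 2 - 1) := by
      refine le_of_mul_le_mul_right ?_ (by positivity : (0 : ℤ) < 4 * (p : ℤ) ^ 2 * r ^ 5 * Q)
      linarith
    have h8 : (Nat.card (Member M) : ℤ) * r * Q ≤ (Nat.card (Member M) : ℤ) * r * (p * s) := by
      calc _ ≤ _ := h7
        _ = _ := by rw [← hne]; ring
    have hn0 : (0 : ℤ) < (Nat.card (Member M) : ℤ) := by
      by_contra hc
      rw [not_lt] at hc
      have : (Nat.card (Member M) : ℤ) = 0 := le_antisymm hc (by positivity)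
      rw [this] at hne
      nlinarith
    exact le_of_mul_le_mul_left h8 (mul_pos hn0 (by linarith))
  -- `(p² - 1) c² ≤ e² + 2 ε c e`
  have hCn : ((p : ℤ) ^ 2 - 1) * F.c ^ 2 ≤ (eIndex M : ℤ) ^ 2 + 2 * (F.ε * F.c) * eIndex M := by
    have h1 := (F.norm_ineq hG hM).trans (F.tilde_le_one hG hM)
    have hd : (0 : ℝ) < (kZero M : ℝ) * eIndex M := by exact_mod_cast Nat.mul_pos kZero_pos eIndex_pos
    rw [div_le_one hd, hk] at h1
    push_cast at h1
    have : (((p : ℝ) ^ 2 - 1) * (F.c : ℝ) ^ 2) ≤ (eIndex M : ℝ) ^ 2 + 2 * ((F.ε : ℝ) * F.c) * eIndex M := by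
      linarith
    exact_mod_cast this
  -- the mass inequality
  set A' : ℤ := F.ε * a with hA'
  have hmass : ∀ σ : ℤ, σ = 1 ∨ σ = -1 →
      6 * (r : ℤ) ^ 2 * s * d ^ 2 + 2 * (s : ℤ) * (A' ^ 2 + σ * A') ≤
        3 * (((eIndex M : ℤ) + F.ε * F.c) ^ 2 + σ * ((eIndex M : ℤ) + F.ε * F.c) -
          ((F.ε * F.c) ^ 2 + σ * (F.ε * F.c)) * (p : ℤ) ^ 2) := by
    intro σ hσ
    have hβc := avgS_class hG hM.coatom F.psi_class
    have hβs : SharpSupp M (avgS M F.psi) := avgS_supp _
    set B := tau M (avgS M F.psi) with hB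
    have hBF : classInner B Fp = 0 := by
      rw [hFp, classInner_add_right, hB, show tau M (avgS M F.psi) =
        dadeIsometry ((sigmaCore M : Set G) \ {1}) M (supportR M) (avgS M F.psi) from rfl,
        meetMap_orth hG h hΦt hβc hβs, meetMap_orth hG h hΦt.conjFun hβc hβs, add_zero]
    have hFB : classInner Fp B = 0 := by rw [← classInner_conj, hBF, map_zero]
    set t : ℝ := (D : ℝ) / ((p : ℝ) * ((p : ℝ) - 1) * r) with ht
    set T := B + (t : ℂ) • Fp with hT
    set U := tau M (sharpInd M) with hU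
    set W : G → ℂ := ((sigmaIn N).index : ℂ)⁻¹ • tau N (indSigma N (offKer θ)) with hWdef
    have hW : ∀ g, ∃ z : ℝ, 0 ≤ z ∧ z ≤ 1 ∧ W g = z := by
      intro g
      have hI : ((sigmaIn N).index : ℂ) ≠ 0 := by exact_mod_cast index_ne_zero_of_finite
      simp only [hWdef, Pi.smul_apply, smul_eq_mul, tau, dadeIsometry]
      split_ifs with hex
      · obtain ⟨z, h0, h1, e⟩ := indSigma_offKer hG h θ (Classical.choose hex)
        exact ⟨z, h0, h1, by rw [e, inv_mul_cancel_left₀ hI]⟩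
      · exact ⟨0, le_rfl, zero_le_one, by simp⟩
    have hineq := mass_ineq hG hM F (T := T) (U := U) (W := W)
      (fun g hg => by
        simp only [hT, hB, hFp, Pi.add_apply, Pi.smul_apply, smul_eq_mul, tau_eq_zero' hg,
          meetMap_off hG h hg, add_zero, mul_zero])
      (fun g hg => tau_eq_zero' hg) (fun g hg => tau_sharpInd hG hM.coatom hg) hW
      (fun g hg => by
        simp only [hWdef, Pi.smul_apply, smul_eq_mul]
        rw [tau_eq_zero' fun h' => (Set.eq_empty_iff_forall_notMem.1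
          (Tilde.tilde_disjoint hG h.bad.coatom h.coatom h.notConj)) g ⟨hg, h'⟩, mul_zero]) σ A' hσ
    obtain ⟨hββ, hUβ⟩ := hX.avg_inner hG h hM F hk
    obtain ⟨hWψ, hW1⟩ := inner_offKer hG h θ hM F hX.theta_prime ha
    have hBB : classInner B B = classInner (avgS M F.psi) (avgS M F.psi) :=
      tau_inner hG hM.coatom hβc hβs hβc
    have hBψ : classInner B F.psi = classInner (avgS M F.psi) (avgS M F.psi) :=
      tau_avgS hG hM.coatom hβc hβs F.psi_class
    have hFψ : classInner Fp F.psi = 2 * (D : ℂ) := by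
      rw [← classInner_conj, show classInner F.psi Fp = 2 * (D : ℂ) from hμF F.base, map_mul, map_intCast,
        map_ofNat]
    have hUψ : classInner U F.psi = classInner (sharpInd M) (avgS M F.psi) :=
      tau_avgS hG hM.coatom (sharpInd_class hG hM.coatom) (sharpInd_supp hG) F.psi_class
    set o : ℝ := (orderOf θ : ℝ) with ho
    have hodd : 3 ≤ orderOf θ := by
      have h2 := hX.theta_prime.two_le
      rcases h2.eq_or_lt with e | e
      · exfalso
        have hd : orderOf θ ∣ Nat.card (sigmaIn N) := orderOf_dvd_of_pow_eq_one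
          (MonoidHom.ext fun n => by rw [MonoidHom.pow_apply, ← map_pow, pow_card_eq_one', map_one, MonoidHom.one_apply])
        have hoddG : Odd (Nat.card G) := hG.1
        have h3 := hoddG.of_dvd_nat (hd.trans ((card_subgroup_dvd_card (sigmaIn N)).trans (card_subgroup_dvd_card N)))
        rw [← e] at h3
        exact absurd h3 (by decide)
      · exact e
    have ho3 : (3 : ℝ) ≤ o := by rw [ho]; exact_mod_cast hodd
    set E : ℝ := (eIndex M : ℝ) * (p : ℝ) ^ 2 with hE
    have hp' : (5 : ℝ) ≤ p := by exact_mod_cast hp5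
    have hr' : (3 : ℝ) ≤ r := by exact_mod_cast hr3
    have he' : (0 : ℝ) < eIndex M := by exact_mod_cast eIndex_pos
    -- real values
    have v1 : E * (classInner (avgS M F.psi) (avgS M F.psi)).re =
        E + (F.c : ℝ) ^ 2 * (p : ℝ) ^ 2 - ((F.ε : ℝ) * eIndex M + F.c) ^ 2 := by
      have := congrArg Complex.re hββ
      rw [show ((eIndex M : ℂ) * (p : ℂ) ^ 2) = ((E : ℝ) : ℂ) by rw [hE]; push_cast; rfl,
        Complex.re_ofReal_mul,
        show ((E : ℝ) : ℂ) + (F.c : ℂ) ^ 2 * (p : ℂ) ^ 2 - ((F.ε : ℂ) * eIndex M + F.c) ^ 2 =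
          ((E + (F.c : ℝ) ^ 2 * (p : ℝ) ^ 2 - ((F.ε : ℝ) * eIndex M + F.c) ^ 2 : ℝ) : ℂ) by push_cast; ring,
        Complex.ofReal_re] at this
      exact this
    have v2 : E * (classInner U F.psi).re = (F.c : ℝ) * (p : ℝ) ^ 2 - ((F.ε : ℝ) * eIndex M + F.c) := by
      have := congrArg Complex.re hUβ
      rw [← hUψ, show ((eIndex M : ℂ) * (p : ℂ) ^ 2) = ((E : ℝ) : ℂ) by rw [hE]; push_cast; rfl,
        Complex.re_ofReal_mul,
        show (F.c : ℂ) * (p : ℂ) ^ 2 - ((F.ε : ℂ) * eIndex M + F.c) =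
          (((F.c : ℝ) * (p : ℝ) ^ 2 - ((F.ε : ℝ) * eIndex M + F.c) : ℝ) : ℂ) by push_cast; ring,
        Complex.ofReal_re] at this
      exact this
    have v3 : o * ((r : ℝ) * (p : ℝ) ^ 2) * (classInner W F.psi).re = (o - 1) * a := by
      have := congrArg Complex.re hWψ
      rw [show ((orderOf θ : ℂ)) = ((o : ℝ) : ℂ) by rw [ho]; push_cast; rfl, Complex.re_ofReal_mul,
        show ((o : ℝ) : ℂ) - 1 = (((o - 1 : ℝ)) : ℂ) by push_cast; rfl, Complex.re_ofReal_mul,
        Complex.intCast_re] at this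
      rw [hWdef, classInner_smul_left, hdeg,
        show ((r * p ^ 2 : ℕ) : ℂ)⁻¹ = ((((r : ℝ) * (p : ℝ) ^ 2)⁻¹ : ℝ) : ℂ) by push_cast; rfl,
        Complex.re_ofReal_mul, ← this]
      field_simp
    have v4 : o * ((r : ℝ) * (p : ℝ) ^ 2) * (classInner W (fun _ => 1)).re = o - 1 := by
      have := congrArg Complex.re hW1
      rw [show ((orderOf θ : ℂ)) = ((o : ℝ) : ℂ) by rw [ho]; push_cast; rfl, Complex.re_ofReal_mul,
        show ((o : ℝ) : ℂ) - 1 = (((o - 1 : ℝ)) : ℂ) by push_cast; rfl, Complex.ofReal_re] at this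
      rw [hWdef, classInner_smul_left, hdeg,
        show ((r * p ^ 2 : ℕ) : ℂ)⁻¹ = ((((r : ℝ) * (p : ℝ) ^ 2)⁻¹ : ℝ) : ℂ) by push_cast; rfl,
        Complex.re_ofReal_mul, ← this]
      field_simp
    have v5 : (classInner T T).re = (classInner (avgS M F.psi) (avgS M F.psi)).re +
        t ^ 2 * (2 * ((p : ℝ) * ((p : ℝ) - 1) * r)) := by
      rw [hT, classInner_add_left, classInner_add_right, classInner_add_right, classInner_smul_left,
        classInner_smul_right, classInner_smul_left, classInner_smul_right, hBF, hFB, hFn, Complex.conj_ofReal,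
        hBB, mul_zero, add_zero, zero_add,
        show (2 * ((p : ℂ) * ((p : ℂ) - 1) * r)) = ((2 * ((p : ℝ) * ((p : ℝ) - 1) * r) : ℝ) : ℂ) by
          push_cast; ring,
        ← Complex.ofReal_mul, ← Complex.ofReal_mul, Complex.add_re, Complex.ofReal_re]
      ring
    have v6 : (classInner T F.psi).re =
        (classInner (avgS M F.psi) (avgS M F.psi)).re + t * (2 * (D : ℝ)) := by
      rw [hT, classInner_add_left, classInner_smul_left, hBψ, hFψ, Complex.add_re, Complex.re_ofReal_mul,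
        show (2 : ℂ) * (D : ℂ) = ((2 * (D : ℝ) : ℝ) : ℂ) by push_cast; rfl, Complex.ofReal_re]
    rw [v5, v6] at hineq
    -- conclusion
    set X := (classInner (avgS M F.psi) (avgS M F.psi)).re
    set Y := (classInner U F.psi).re
    set P := (classInner W F.psi).re
    set R₁ := (classInner W (fun _ => 1)).re
    have hp1 : (0 : ℝ) < (p : ℝ) * ((p : ℝ) - 1) * r := by
      have : (0 : ℝ) < (p : ℝ) - 1 := by linarith
      positivity
    have ht' : t * ((p : ℝ) * ((p : ℝ) - 1) * r) = (D : ℝ) := by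
      have : (p : ℝ) - 1 ≠ 0 := by linarith
      rw [ht]; field_simp
    have heps : (F.ε : ℝ) * F.ε = 1 := by rcases F.sign with e | e <;> simp [e]
    have hDd : (D : ℝ) = (r : ℝ) * d := by rw [hd]; push_cast; rfl
    push_cast at hineq
    -- `E ×` the inequality
    have hrat : (0 : ℝ) ≤ ((((A' ^ 2 + σ * A' : ℤ)) : ℝ)) := by
      have : 0 ≤ A' ^ 2 + σ * A' := by
        rcases hσ with rfl | rfl
        · rcases le_or_gt 0 A' with h' | h' <;> nlinarith
        · rcases le_or_gt A' 0 with h' | h' <;> nlinarith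
      exact_mod_cast this
    push_cast at hrat
    have hA'r : (A' : ℝ) = (F.ε : ℝ) * a := by rw [hA']; push_cast; rfl
    -- the part from `tilde N`
    have v7 : E * ((2 * (A' : ℝ) + σ) * F.ε * P - (A' : ℝ) ^ 2 * R₁) =
        (s : ℝ) * (1 - 1 / o) * ((A' : ℝ) ^ 2 + σ * A') := by
      have hes : (eIndex M : ℝ) = (r : ℝ) * s := by exact_mod_cast hX.e_eq
      have hP : P = (o - 1) * a / (o * ((r : ℝ) * (p : ℝ) ^ 2)) := by
        rw [eq_div_iff (by positivity), ← v3]; ring
      have hR : R₁ = (o - 1) / (o * ((r : ℝ) * (p : ℝ) ^ 2)) := by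
        rw [eq_div_iff (by positivity), ← v4]; ring
      have ha' : (a : ℝ) = (F.ε : ℝ) * A' := by rw [hA'r, ← mul_assoc, heps, one_mul]
      rw [hE, hes, hP, hR, ha']
      field_simp
      linear_combination ((s : ℝ) * (o - 1) * ((2 * (A' : ℝ) + σ) * A')) * heps
    -- the part from `Φ`
    have v8 : 2 * (r : ℝ) ^ 2 * s * (d : ℝ) ^ 2 ≤
        E * (2 * (t * (2 * (D : ℝ))) - t ^ 2 * (2 * ((p : ℝ) * ((p : ℝ) - 1) * r))) := by
      have hes : (eIndex M : ℝ) = (r : ℝ) * s := by exact_mod_cast hX.e_eq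
      rw [show E * (2 * (t * (2 * (D : ℝ))) - t ^ 2 * (2 * ((p : ℝ) * ((p : ℝ) - 1) * r))) =
        2 * (r : ℝ) * s * (p : ℝ) ^ 2 * (t * D) by rw [hE, hes, ← ht']; ring, ht, hDd]
      rw [show 2 * (r : ℝ) * s * (p : ℝ) ^ 2 * ((r : ℝ) * d / ((p : ℝ) * ((p : ℝ) - 1) * r) * ((r : ℝ) * d)) =
        2 * (r : ℝ) ^ 2 * s * (d : ℝ) ^ 2 * ((p : ℝ) / ((p : ℝ) - 1)) by
          have : (p : ℝ) - 1 ≠ 0 := by linarith
          field_simp]
      refine le_mul_of_one_le_right (by positivity) ?_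
      rw [one_le_div (by linarith)]
      linarith
    have v9 : 2 / 3 ≤ 1 - 1 / o := by
      rw [le_sub_comm, div_le_iff₀ (by linarith)]
      linarith
    have v10 : (2 / 3 : ℝ) * ((s : ℝ) * ((A' : ℝ) ^ 2 + σ * A')) ≤
        (1 - 1 / o) * ((s : ℝ) * ((A' : ℝ) ^ 2 + σ * A')) :=
      mul_le_mul_of_nonneg_right v9 (by positivity)
    have hE0 : 0 ≤ E := by rw [hE]; positivity
    have h11 := mul_le_mul_of_nonneg_left hineq hE0
    have e12 : ((F.ε : ℝ) * eIndex M + F.c) ^ 2 = ((eIndex M : ℝ) + F.ε * F.c) ^ 2 := by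
      linear_combination ((eIndex M : ℝ) ^ 2 - (F.c : ℝ) ^ 2) * heps
    have e13 : (F.ε : ℝ) * ((F.ε : ℝ) * eIndex M + F.c) = (eIndex M : ℝ) + F.ε * F.c := by
      linear_combination (eIndex M : ℝ) * heps
    have goalR : 6 * (r : ℝ) ^ 2 * s * (d : ℝ) ^ 2 + 2 * (s : ℝ) * ((A' : ℝ) ^ 2 + σ * A') ≤
        3 * (((eIndex M : ℝ) + F.ε * F.c) ^ 2 + σ * ((eIndex M : ℝ) + F.ε * F.c) -
          (((F.ε : ℝ) * F.c) ^ 2 + σ * ((F.ε : ℝ) * F.c)) * (p : ℝ) ^ 2) := by
      have e14 : ((F.ε : ℝ) * F.c) ^ 2 = (F.c : ℝ) ^ 2 := by linear_combination ((F.c : ℝ) ^ 2) * heps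
      rw [e14, ← e12, ← e13]
      have key : E * (2 * (X + t * (2 * (D : ℝ))) - (X + t ^ 2 * (2 * ((p : ℝ) * ((p : ℝ) - 1) * r))) +
          (σ : ℝ) * F.ε * Y + (2 * (A' : ℝ) + σ) * F.ε * P - (A' : ℝ) ^ 2 * R₁) =
          E * X + E * (2 * (t * (2 * (D : ℝ))) - t ^ 2 * (2 * ((p : ℝ) * ((p : ℝ) - 1) * r))) +
          (σ : ℝ) * F.ε * (E * Y) + E * ((2 * (A' : ℝ) + σ) * F.ε * P - (A' : ℝ) ^ 2 * R₁) := by ring
      rw [key, v1, v2, v7, mul_one] at h11
      linarith
    exact_mod_cast goalR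
  -- normalise and conclude
  obtain ⟨j, hj⟩ : ∃ j : ℕ, p = 2 * j * r + 1 := by
    obtain ⟨c, hc⟩ := hX.r_dvd
    have hpo : p % 2 = 1 := (h.bad.prime.eq_two_or_odd).resolve_left (by omega)
    have hro : Odd r := hX.r_prime.odd_of_ne_two (by omega)
    have hce : Even c := by
      have : Even (r * c) := hc ▸ ⟨(p - 1) / 2, by omega⟩
      exact (Nat.even_mul.1 this).resolve_left (Nat.not_even_iff_odd.2 hro)
    obtain ⟨c', rfl⟩ := hce
    exact ⟨c', by rw [show 2 * c' * r = r * (c' + c') by ring, ← hc]; omega⟩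
  have hj1 : 1 ≤ j := by
    rcases j with _ | j
    · omega
    · omega
  have hso : Odd s := (Nat.odd_mul.1 (hX.e_eq ▸ eIndex_odd hG : Odd (r * s))).2
  have hec : (eIndex M : ℤ) = (r : ℤ) * s := by exact_mod_cast hX.e_eq
  have he : F.ε * F.ε = 1 := by rcases F.sign with e | e <;> simp [e]
  refine MixedArith.false_of_mixed (p := (p : ℤ)) (r := (r : ℤ)) (s := (s : ℤ)) (j := (j : ℤ))
    (C := F.ε * F.c) (b := F.ε * b) (d := F.ε * d) (by exact_mod_cast hj1) (by exact_mod_cast hj)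
    (by exact_mod_cast hr3) (by exact_mod_cast hX.r_prime.odd_of_ne_two (by omega))
    (by exact_mod_cast hX.three_le_s) (by exact_mod_cast hso) (by exact_mod_cast hX.s_dvd) ?_ ?_ ?_ ?_
  · rw [hec] at hCn
    have e1 : (F.ε * F.c) ^ 2 = F.c ^ 2 := by linear_combination (F.c ^ 2) * he
    rw [e1]
    have := mul_le_mul_of_nonneg_right (le_abs_self (F.ε * F.c))
      (by positivity : (0 : ℤ) ≤ (r : ℤ) * s)
    linarith
  · have := hcong.mul_left F.ε
    rw [hb, hd, hec] at this
    rw [show (r : ℤ) * (F.ε * b) - (r : ℤ) * s - F.ε * F.c - (r : ℤ) * (F.ε * d) =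
      F.ε * ((r : ℤ) * b - F.ε * ((r : ℤ) * s) - F.c - (r : ℤ) * d) by
        linear_combination ((r : ℤ) * s) * he]
    exact this
  · have e1 : (F.ε * b) ^ 2 = b ^ 2 := by linear_combination (b ^ 2) * he
    have e2 : (F.ε * d) ^ 2 = d ^ 2 := by linear_combination (d ^ 2) * he
    rw [e1, e2]
    exact hBes
  · intro hC0
    have h12 := hmass (F.ε * F.c).sign (by
      rcases lt_or_gt_of_ne hC0 with h' | h'
      · exact Or.inr (Int.sign_eq_neg_one_of_neg h')
      · exact Or.inl (Int.sign_eq_one_of_pos h'))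
    rw [Int.sign_mul_self_eq_abs, hec, hA', hb] at h12
    rw [show (r : ℤ) * (F.ε * b) = F.ε * ((r : ℤ) * b) by ring,
      show (F.ε * d) ^ 2 = d ^ 2 by linear_combination (d ^ 2) * he]
    exact h12

/-- There is no mixed bad pair. -/
theorem MixedData.false
    (hsize : kZero M = p ^ 2 ∨ p ^ 2 * (2 * eIndex M + 1) ≤ kZero M) : False :=
  hsize.elim (hX.false_of_sq hG h hM F hZ) (hX.false_of_big hG h hM F hZ)

end CfsgLib.FT
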