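import Cfsg.Agent.Lib.FT.MeetCaseB
import Cfsg.Agent.Lib.FT.MeetMixedGroup
import Cfsg.Agent.S1449

/-!
# The abelian and `K = 1` endings of §1 put together
-/

set_option autoImplicit false
set_option linter.unusedSectionVars false
set_option linter.style.haveILetI false

open Subgroup
open scoped commutatorElement

namespace CfsgLib.FT

open CfsgLib.CFun CfsgLib.CFun.TauTwo CfsgLib.CFun.Lines
open Cfsg (sigmaCore IsMinSimpleOddOrder)

universe u

variable {G : Type u} [Group G] [Fintype G] (hG : IsMinSimpleOddOrder G)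
  {M N : Subgroup G} {x : G} {p : ℕ} (h : Nbr M N x p) (hmin : MinBad p G)
include hG h hmin

/-- No bad pair with abelian `M_σ`. -/
theorem Nbr.false_of_comm (hfix : ¬ sigmaCore N ⊓ centralizer ({x} : Set G) ≤ ⁅sigmaCore N, sigmaCore N⁆)
    (hnil : Group.IsNilpotent (sigmaCore M)) (hab : ¬ NonabSylow p G) : False := by
  by_cases he : 2 * eIndex M ≤ p + 1
  · exact h.false_of_abelian hG hmin (h.badData hG hfix) hnil hab he
  haveI : Fact p.Prime := ⟨h.bad.prime⟩
  obtain ⟨g, hm⟩ := h.exists_meet hG hnil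
  have hall : ∀ S : Sylow p G, IsMulCommutative (S : Subgroup G) := by
    obtain ⟨S₀, hS₀⟩ : ∃ S : Sylow p G, IsMulCommutative (S : Subgroup G) := by
      by_contra hno
      exact hab fun S hS => hno ⟨S, hS⟩
    intro S
    haveI := hS₀
    exact ⟨⟨fun a b => (Sylow.equiv S S₀).injective (by rw [map_mul, map_mul, mul_comm'])⟩⟩
  obtain ⟨hc, hrk, -, hK⟩ := MeetStructure.abelian_case hG h.bad.coatom hm (h.pow_prime hG) hall
  haveI := hc
  obtain ⟨K, U, d⟩ := CfsgLib.CFun.Chain.exists_decomposition hG h.bad.coatom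
  have hK' := hK K U d
  obtain ⟨A, T⟩ := h.exists_torus hG
  have hcomm : ∀ a ∈ sigmaCore M, ∀ b ∈ sigmaCore M, a * b = b * a := fun a ha b hb =>
    congrArg Subtype.val (mul_comm' (⟨a, ha⟩ : sigmaCore M) ⟨b, hb⟩)
  have hσN : sigmaCore M ≤ N := fun v hv =>
    h.centralizer_le (mem_centralizer_singleton_iff.2 (hcomm v hv x h.bad.mem))
  have hE := UFixed.compl_of_bot hG h.bad.coatom d hK'
  have hA1 : A ≠ ⊥ := fun e => by
    have h2 := T.card
    rw [e, card_bot] at h2
    nlinarith [h.bad.prime.two_le]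
  have hMA : M ≤ normalizer (A : Set G) := fun m hm => mem_normalizer_fintype fun a ha => by
    show m * a * m⁻¹ ∈ A
    have hmem : m * a * m⁻¹ ∈ sigmaCore M :=
      (mem_normalizer_iff.1 (TauTwo.sigmaCore_normal hG M hm) a).1 (T.le_sigma ha)
    rcases eq_or_ne a 1 with rfl | ha1
    · simp
    refine T.lines (zpowers (m * a * m⁻¹))
      (zpowers_le.2 (mem_inf.2 ⟨map_subtype_le _ hmem, hσN hmem⟩)) ?_ (mem_zpowers _)
    rw [Nat.card_zpowers, ← MulAut.conj_apply, MulEquiv.orderOf_eq]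
    exact orderOf_eq_prime (T.elem.2 a ha) ha1
  have hUA : U ≤ normalizer (A : Set G) := hE.1.trans hMA
  have hreg : CfsgLib.Coprime.IsFpfOn U A := fun u hu hu1 => le_bot_iff.1
    ((inf_le_inf_right _ T.le_sigma).trans (h.regular_of_min hG hmin d hK' hu hu1).le)
  have hp2 : p ≠ 2 := ms_ne_two hG (h.bad.ord ▸ _root_.orderOf_dvd_natCard x)
  have hfaith : U ⊓ centralizer (A : Set G) = ⊥ := le_bot_iff.1 fun u hu => mem_bot.2 <| by
    by_contra hu1
    refine hA1 (le_bot_iff.1 fun a ha => (hreg u (mem_inf.1 hu).1 hu1).le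
      (mem_inf.2 ⟨ha, mem_centralizer_singleton_iff.2 ?_⟩))
    exact mem_centralizer_iff.1 (mem_inf.1 hu).2 a ha
  have hder := Cfsg.Agent.S1449.result p hp2 A U (isPGroup_of_elementary T.elem)
    (RankTwoTower.pRankLE_of_injective (f := inclusion T.le_sigma) (inclusion_injective _)
      (hrk p h.bad.prime)) hUA (Compl.compl_solvable hG h.bad.coatom hE)
    (hG.1.of_dvd_nat (card_subgroup_dvd_card U)) hfaith
  have hU' : ⁅U, U⁆ = ⊥ := by
    by_contra hne
    have hpd : p ∣ Nat.card U := by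
      obtain ⟨i, hi⟩ := IsPGroup.iff_card.1 hder
      rcases i with _ | i
      · exact absurd (card_eq_one.1 (hi.trans (pow_zero p))) hne
      · exact (dvd_pow_self p i.succ_ne_zero).trans (hi ▸ card_dvd_of_le (commutator_le_self U))
    exact Compl.compl_not_sigma hG h.bad.coatom hE hpd (h.bad.mem_sigma hG)
  haveI : IsMulCommutative U := ⟨⟨fun a b => Subtype.ext (commutatorElement_eq_one_iff_mul_comm.1
    (mem_bot.1 (hU' ▸ commutator_mem_commutator a.2 b.2)))⟩⟩
  refine MixedHyp.false hG (M := M) (N := N) (x := x) (p := p) (A := A) (E := U)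
    ⟨h, T, ?_, hE, hreg.isCyclic hUA hA1, fun u hu hu1 => h.regular_of_min hG hmin d hK' hu hu1,
      by omega⟩ hfix
  exact commutator_eq_bot_iff_le_centralizer.2
    fun a ha => mem_centralizer_iff.2 fun b hb => hcomm b hb a ha

end CfsgLib.FT
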