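import Cfsg.Agent.Lib.FT.MeetTI
import Cfsg.Agent.Lib.Char.InducedSet

/-!
# The characters of the family are constant on `x N_σ` (`docs/FT.md`, §1 (i))

`FamIn M` is what is used of the coherent family of `M`: the images `μ i` of the members `φ i` under the
Dade map and the decomposition `τθ_M = 1 + Δ - εψ`.
-/

set_option autoImplicit false
set_option linter.unusedSectionVars false
set_option linter.style.haveILetI false

open Subgroup

namespace CfsgLib.FT

open Cfsg CfsgLib.Char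

universe u

variable {G : Type u} [Group G] [Fintype G]

/-- A family of `M` and its images, as used in §1. -/
structure FamIn (M : Subgroup G) where
  ι : Type u
  fin : Fintype ι
  base : ι
  μ : ι → IrrCharacter G
  inj : Function.Injective μ
  ne_one : ∀ i, (μ i : G → ℂ) ≠ fun _ => 1
  bar : ι → ι
  μ_bar : ∀ i, (μ (bar i) : G → ℂ) = Cfsg.conjFun (μ i)
  φ : ι → M → ℂ
  φ_class : ∀ i, IsClassFunction M (φ i)
  φ_supp : ∀ i l, ∀ g : M, (g : G) ∉ (sigmaCore M : Set G) \ {1} → φ i g = φ l g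
  ε : ℤ
  sign : ε = 1 ∨ ε = -1
  image : ∀ i l, dadeIsometry ((sigmaCore M : Set G) \ {1}) M (supportR M) (φ i - φ l) =
    (ε : ℂ) • ((μ i : G → ℂ) - (μ l : G → ℂ))
  θ : M → ℂ
  θ_class : IsClassFunction M θ
  θ_supp : ∀ g : M, (g : G) ∉ (sigmaCore M : Set G) \ {1} → θ g = 0
  Δ : G → ℂ
  Δ_gen : IsGeneralizedCharacter G Δ
  Δ_real : Cfsg.conjFun Δ = Δ
  Δ_one : classInner Δ (fun _ => 1) = 0
  tht : dadeIsometry ((sigmaCore M : Set G) \ {1}) M (supportR M) θ =
    (fun _ => 1) + Δ - (ε : ℂ) • (μ base : G → ℂ)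

variable (hG : IsMinSimpleOddOrder G) {M N : Subgroup G} {x : G} {p : ℕ} (h : BadData M N x p)
  (Φ : FamIn M)
include hG h

theorem FamIn.sign_ne : (Φ.ε : ℂ) ≠ 0 := by
  rcases Φ.sign with e | e <;> simp [e]

/-- The inner products with a test function do not depend on the member. -/
theorem inner_meetMap_const [Fintype M] {f : N → ℂ} (hf : IsTest M N f) (i l : Φ.ι) :
    classInner (Φ.μ i : G → ℂ) (meetMap M N f) = classInner (Φ.μ l : G → ℂ) (meetMap M N f) := by
  have h0 := meetMap_orth hG h hf (α := Φ.φ i - Φ.φ l)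
    (fun a b => by simp only [Pi.sub_apply, Φ.φ_class i a b, Φ.φ_class l a b])
    fun g hg => by rw [Pi.sub_apply, Φ.φ_supp i l g hg, sub_self]
  rw [Φ.image, classInner_smul_left, classInner_sub_left] at h0
  exact sub_eq_zero.1 ((mul_eq_zero.1 h0).resolve_left (FamIn.sign_ne hG h Φ))

/-- The members are orthogonal to `Ind f` for a real or anti-real test function of small norm. -/
theorem inner_meetMap_eq_zero [Fintype M] [Fintype N] {f : N → ℂ} (hf : IsTest M N f)
    (hg : IsGeneralizedCharacter N f)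
    (hr : (Cfsg.conjFun f = f ∧ (classInner f f).re < 4 * (Nat.card Φ.ι : ℝ)) ∨ Cfsg.conjFun f = -f)
    (i : Φ.ι) : classInner (Φ.μ i : G → ℂ) (meetMap M N f) = 0 := by
  classical
  haveI := Φ.fin
  set F := meetMap M N f with hF
  have hFgen : IsGeneralizedCharacter G F := meetMap_gen hG h hf hg
  obtain ⟨m, hm, hle⟩ := bessel hFgen (Finset.univ.image Φ.μ)
  have hmi : ∀ i, classInner (Φ.μ i : G → ℂ) F = m (Φ.μ i) := fun i => by
    rw [← classInner_conj, hm, map_intCast]
  have hconst : ∀ i l, m (Φ.μ i) = m (Φ.μ l) := fun i l => by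
    have := inner_meetMap_const hG h Φ hf i l
    rw [hmi, hmi] at this
    exact_mod_cast this
  rw [hmi]
  rcases hr with ⟨hreal, hnorm⟩ | hanti
  · have hodd : Odd (Nat.card G) := hG.1
    have hFr : Cfsg.conjFun F = F := by rw [hF, conjFun_meetMap, hreal]
    obtain ⟨k, hk⟩ := even_inner_of_real hodd Φ.Δ_gen hFgen Φ.Δ_real hFr Φ.Δ_one
    have h0 := meetMap_orth hG h hf (α := Φ.θ) Φ.θ_class Φ.θ_supp
    rw [Φ.tht, classInner_sub_left, classInner_add_left, classInner_smul_left, ← hF,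
      ← classInner_conj (G := G) F, meetMap_one hG h hf, map_zero, zero_add, hk, hmi] at h0
    have h1 : (2 * k : ℤ) - Φ.ε * m (Φ.μ Φ.base) = 0 := by exact_mod_cast h0
    by_contra hne
    have hne' : m (Φ.μ i) ≠ 0 := fun e => hne (by rw [e, Int.cast_zero])
    have h4 : 4 ≤ m (Φ.μ i) ^ 2 := by
      rw [hconst Φ.base i] at h1
      obtain ⟨z, hz⟩ : (2 : ℤ) ∣ m (Φ.μ i) := by
        rcases Φ.sign with e | e <;> rw [e] at h1
        · exact ⟨k, by linarith⟩
        · exact ⟨-k, by linarith⟩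
      rw [hz] at hne' ⊢
      have hz0 : z ≠ 0 := fun e => hne' (by rw [e, mul_zero])
      nlinarith [mul_self_pos.2 hz0]
    have hsum : 4 * (Nat.card Φ.ι : ℤ) ≤ ∑ χ ∈ Finset.univ.image Φ.μ, m χ ^ 2 := by
      rw [Finset.sum_image fun a _ b _ e => Φ.inj e,
        Finset.sum_congr rfl fun l _ => by rw [hconst l i], Finset.sum_const, Finset.card_univ,
        nsmul_eq_mul, ← Nat.card_eq_fintype_card, mul_comm (4 : ℤ)]
      exact mul_le_mul_of_nonneg_left h4 (Nat.cast_nonneg _)
    have h5 : (4 * (Nat.card Φ.ι : ℤ) : ℤ) ≤ ((∑ χ ∈ Finset.univ.image Φ.μ, m χ ^ 2 : ℤ) : ℝ) :=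
      (Int.cast_le (R := ℝ)).2 hsum
    rw [hF, meetMap_norm hG h hf] at hle
    push_cast at h5 hle
    linarith
  · have hFr : Cfsg.conjFun F = -F := by
      rw [hF, conjFun_meetMap, hanti]
      funext g
      simp only [meetMap, dadeIsometry, Pi.neg_apply]
      split_ifs <;> simp
    have h1 := classInner_starFun F (Φ.μ i : G → ℂ)
    rw [hFr, classInner_neg_left, hm, map_intCast] at h1
    have h2 : classInner F (Cfsg.conjFun (Φ.μ i : G → ℂ)) = m (Φ.μ (Φ.bar i)) := by
      rw [← Φ.μ_bar, hm]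
    rw [h2, hconst (Φ.bar i) i] at h1
    have : (m (Φ.μ i) : ℂ) = 0 := by linear_combination -h1 / 2
    exact this

/-- Some linear character of `N₀` trivial on `N_σ` is non-trivial at `x`. -/
theorem x_not_mem_sup (z : zeroN M N) (hz : ((z : N) : G) = x) :
    z ∉ (kerN N).subgroupOf (zeroN M N) ⊔ commutator (zeroN M N) := by
  haveI := kerN_normal hG h
  set K := (kerN N).subgroupOf (zeroN M N) with hK
  haveI : K.Normal := (kerN_normal hG h).subgroupOf _
  let f : (sigmaCore M ⊓ N : Subgroup G) →* zeroN M N ⧸ K :=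
    (QuotientGroup.mk' K).comp
      { toFun := fun d => ⟨⟨d, (mem_inf.1 d.2).2⟩, mem_sup_left d.2⟩
        map_one' := rfl
        map_mul' := fun _ _ => rfl }
  have hsurj : Function.Surjective f := by
    intro q
    obtain ⟨a, rfl⟩ := QuotientGroup.mk'_surjective K q
    obtain ⟨d, hd, n, hn, e⟩ := mem_sup_of_normal_right.1 a.2
    refine ⟨⟨d, hd⟩, QuotientGroup.eq.2 (show (_ : zeroN M N) ∈ K from ?_)⟩
    rw [mem_subgroupOf]
    simpa [← e] using hn
  intro hmem
  have h1 : QuotientGroup.mk' K z ∈ (commutator (sigmaCore M ⊓ N : Subgroup G)).map f := by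
    have := mem_map_of_mem (QuotientGroup.mk' K) hmem
    rw [Subgroup.map_sup, QuotientGroup.map_mk'_self, bot_sup_eq, _root_.commutator_def,
      map_commutator, map_top_of_surjective _ (QuotientGroup.mk'_surjective K)] at this
    rwa [_root_.commutator_def, map_commutator, map_top_of_surjective _ hsurj]
  obtain ⟨d, hd, e⟩ := h1
  have hd' : (d : G) ∈ ⁅sigmaCore M ⊓ N, sigmaCore M ⊓ N⁆ := by
    rw [← map_subtype_commutator]
    exact ⟨d, hd, rfl⟩
  refine h.notDer ?_
  have hn : (d : G)⁻¹ * x ∈ sigmaCore N := by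
    have := QuotientGroup.eq.1 e
    rw [mem_subgroupOf] at this
    simpa [hz, kerN, mem_subgroupOf] using this
  have h0 : (d : G)⁻¹ * x ∈ (M ⊓ N) ⊓ sigmaCore N :=
    mem_inf.2 ⟨inf_le_inf_right N (map_subtype_le _) (mul_mem (inv_mem d.2) h.mem_D), hn⟩
  rw [h.compl.2.2.1, mem_bot, inv_mul_eq_one] at h0
  exact h0 ▸ hd'

/-- The members are constant on `x N_σ`. -/
theorem mu_const_coset (hn : 2 * (zeroN M N).index < Nat.card Φ.ι) (i : Φ.ι) {k : G}
    (hk : k ∈ sigmaCore N) : (Φ.μ i : G → ℂ) (x * k) = (Φ.μ i : G → ℂ) x := by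
  classical
  haveI := Fintype.ofFinite M
  haveI := Fintype.ofFinite N
  haveI := kerN_normal hG h
  haveI := zeroN_normal hG h
  set Γ := zeroN M N with hΓ
  haveI := Fintype.ofFinite Γ
  have hKΓ : kerN N ≤ Γ := le_sup_right
  set K := (kerN N).subgroupOf Γ with hK
  haveI : K.Normal := (kerN_normal hG h).subgroupOf Γ
  haveI := Fintype.ofFinite K
  set xN : N := ⟨x, (mem_inf.1 h.mem_D).2⟩
  set xΓ : Γ := ⟨xN, mem_sup_left (show (xN : G) ∈ sigmaCore M ⊓ N from h.mem_D)⟩
  set kN : N := ⟨k, map_subtype_le _ hk⟩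
  set kΓ : Γ := ⟨kN, hKΓ hk⟩
  set K' : Subgroup Γ := K ⊔ commutator Γ with hK'
  have hab : ∀ a b : Γ, a * b * a⁻¹ * b⁻¹ ∈ K' := fun a b =>
    mem_sup_right (commutator_mem_commutator (mem_top a) (mem_top b))
  have hxK : xΓ ∉ K' := x_not_mem_sup hG h xΓ rfl
  obtain ⟨lam, hlam', hlamx⟩ := exists_linear_ne K' hab hxK
  have hlam : ∀ g : Γ, g ∈ K → lam g = 1 := fun g hg => hlam' g (mem_sup_left hg)
  have key := const_on_coset K (ψ := fun g : Γ => (Φ.μ i : G → ℂ) g)
    (isCharacter_comp (isCharacter_comp (isCharacter_irr (Φ.μ i)) N.subtype) Γ.subtype) lam hlam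
    ?_ hlamx (k := kΓ) hk
  · exact key
  intro χ hχ
  set α : Γ → ℂ := fun g => (χ : Γ → ℂ) g * (1 - (lam g : ℂ)) with hα
  have hgen : IsGeneralizedCharacter Γ α := by
    have e : α = (χ : Γ → ℂ) - (χ : Γ → ℂ) * fun g => (lam g : ℂ) := by
      funext g; simp [hα, mul_sub]
    rw [e]
    exact isGeneralizedCharacter_sub (isGeneralizedCharacter_of_isCharacter (isCharacter_irr χ))
      (isGeneralizedCharacter_of_isCharacter
        (isCharacter_mul (isCharacter_irr χ) (isCharacter_of_isIrr (isIrrCharacter_lin lam))))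
  have hgen' : IsGeneralizedCharacter Γ (Cfsg.conjFun α) := by
    obtain ⟨a, b, ha, hb, e⟩ := hgen
    refine ⟨_, _, isCharacter_conj ha, isCharacter_conj hb, ?_⟩
    funext g
    simp [Cfsg.conjFun, e]
  have hαK : ∀ g : Γ, g ∈ K → α g = 0 := fun g hg => by simp [hα, hlam g hg]
  have hαsum : ∀ a : Γ, ∑ n : kerN N, α (a * ⟨n, hKΓ n.2⟩) = 0 := by
    intro a
    have h0 := sum_irr_coset K χ hχ a
    have e : ∀ n : kerN N, lam (a * ⟨n, hKΓ n.2⟩) = lam a := fun n => by
      rw [map_mul, hlam _ (show (⟨n, hKΓ n.2⟩ : Γ) ∈ K from n.2), mul_one]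
    simp only [hα, e, ← Finset.sum_mul]
    rw [show ∑ n : kerN N, (χ : Γ → ℂ) (a * ⟨n, hKΓ n.2⟩) = ∑ n : K, (χ : Γ → ℂ) (a * n) from
      Fintype.sum_equiv (Subgroup.subgroupOfEquivOfLe hKΓ).symm.toEquiv _ _ fun n => rfl, h0, zero_mul]
  -- the two test functions
  have test : ∀ ξ : Γ → ℂ, IsGeneralizedCharacter Γ ξ → (∀ g : Γ, g ∈ K → ξ g = 0) →
      (∀ a : Γ, ∑ n : kerN N, ξ (a * ⟨n, hKΓ n.2⟩) = 0) →
      ((Cfsg.conjFun ξ = ξ ∧ (classInner ξ ξ).re ≤ 8) ∨ Cfsg.conjFun ξ = -ξ) →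
      classInner ξ (fun g : Γ => (Φ.μ i : G → ℂ) g) = 0 := by
    intro ξ hξ hξK hξs hξr
    have hf : IsTest M N (indFun Γ ξ) :=
      { cls := isClassFunction_indFun _ _
        off := fun g hg => indFun_normal_not_mem _ _ hg
        ker := fun g hg => by
          rw [show g = ((⟨g, hKΓ hg⟩ : Γ) : N) from rfl, indFun_normal_mem]
          rw [Finset.sum_eq_zero fun t _ => hξK _ ((kerN_normal hG h).conj_mem g hg t), mul_zero]
        coset := fun g => by
          rw [finsum_mem_eq_toFinset_sum,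
            Finset.sum_subtype (p := fun k => k ∈ kerN N) _ fun k => by simp]
          exact indFun_coset_zero Γ (kerN N) hKΓ ξ hξs g }
    have h0 := inner_meetMap_eq_zero hG h Φ hf (isGeneralizedCharacter_indFun _ hξ) ?_ i
    · rw [← classInner_conj, map_eq_zero, meetMap_inner hG h hf (isClassFunction_irr (Φ.μ i)),
        classInner_indFun Γ ξ (fun g : N => (Φ.μ i : G → ℂ) g)
          fun a b => isClassFunction_irr (Φ.μ i) (a : G) (b : G)] at h0
      exact h0
    rcases hξr with ⟨hr, hb⟩ | hr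
    · refine Or.inl ⟨by rw [star_indFun, hr], (norm_indFun_le Γ ξ).trans_lt ?_⟩
      have h1 : (Γ.index : ℝ) * (classInner ξ ξ).re ≤ (Γ.index : ℝ) * 8 :=
        mul_le_mul_of_nonneg_left hb (Nat.cast_nonneg _)
      have h2 : (2 * (Γ.index : ℝ)) < (Nat.card Φ.ι : ℝ) := by exact_mod_cast hn
      linarith
    · exact Or.inr (by rw [star_indFun, hr, indFun_neg])
  have hplus := test (α + Cfsg.conjFun α) (isGeneralizedCharacter_add hgen hgen')
    (fun g hg => by simp [Cfsg.conjFun, hαK g hg])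
    (fun a => by simp only [Pi.add_apply, Cfsg.conjFun, Finset.sum_add_distrib, ← map_sum, hαsum,
      map_zero, add_zero])
    (Or.inl ⟨by funext g; simp [Cfsg.conjFun, add_comm], by
      have h1 := norm_add_le_two α (Cfsg.conjFun α)
      rw [norm_conjFun] at h1
      have h2 := norm_sub_twist_le χ lam
      linarith⟩)
  have hminus := test (α - Cfsg.conjFun α) (isGeneralizedCharacter_sub hgen hgen')
    (fun g hg => by simp [Cfsg.conjFun, hαK g hg])
    (fun a => by simp only [Pi.sub_apply, Cfsg.conjFun, Finset.sum_sub_distrib, ← map_sum, hαsum,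
      map_zero, sub_zero])
    (Or.inr (by funext g; simp [Cfsg.conjFun]))
  rw [classInner_add_left] at hplus
  rw [classInner_sub_left] at hminus
  linear_combination (hplus + hminus) / 2

end CfsgLib.FT
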