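import Cfsg.Agent.Lib.FT.MeetSplitVal
import Cfsg.Agent.Lib.FT.MeetGroupFrob
import Cfsg.Agent.Lib.FT.MeetGroupNil
import Cfsg.Agent.Lib.FT.MeetLevels
import Cfsg.Agent.Lib.CFun.OddKappaPartner

/-!
# Case A1 of §1: `C_Q(x) ≤ C(D)` (`docs/FT-meet-weights.md`)

For abelian `D` the element of order `e` of `M ⊓ N` puts `e` into `κ(M) ∩ κ(N)`, so `M` and `N` are
partners of one maximal subgroup and share a prime of `σ`; otherwise the levels of `M_σ / [Q, D]`
give the weight.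
-/

set_option autoImplicit false
set_option linter.unusedSectionVars false
set_option linter.style.haveILetI false

open Subgroup
open scoped commutatorElement

namespace CfsgLib.FT.Meet

open CfsgLib.CFun CfsgLib.CFun.TauTwo CfsgLib.CFun.Lines CfsgLib.CFun.Kappa CfsgLib.CFun.FifteenTwo
open CfsgLib.CFun.Partner (fixed_le_kappa_hall line_regular)
open Cfsg (sigmaCore IsMinSimpleOddOrder IrrCharacter)

universe u

variable {G : Type u} [Group G] [Finite G] (hG : IsMinSimpleOddOrder G)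
include hG

/-- Non-conjugate `M`, `N` cannot have Hall `κ`-subgroups sharing a line. -/
theorem false_of_kappa_meet {M N KM KN W : Subgroup G} (hM : IsCoatom M) (hN : IsCoatom N)
    (hnc : NotConj M N) (hKM : Cfsg.IsPiHallOf (Cfsg.kappa M) KM M)
    (hKN : Cfsg.IsPiHallOf (Cfsg.kappa N) KN N) {e : ℕ} [he : Fact e.Prime] (hWM : W ≤ KM)
    (hWN : W ≤ KN) (hWc : Nat.card W = e) : False := by
  have hW1 : W ≠ ⊥ := line_ne_bot hWc
  have hKM1 : KM ≠ ⊥ := fun e1 => hW1 (le_bot_iff.1 (e1 ▸ hWM))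
  have hKN1 : KN ≠ ⊥ := fun e1 => hW1 (le_bot_iff.1 (e1 ▸ hWN))
  obtain ⟨L, hL, hNW⟩ := exists_coatom_normalizer hG hW1
    (ms_isPGroup_ne_top hG (IsPGroup.of_card (p := e) (n := 1) (by rw [hWc, pow_one])))
  set Z := KN ⊔ (sigmaCore N ⊓ centralizer (KN : Set G)) with hZ
  have hmN : Partner.Member Z N := ⟨hN, KN, hKN, hKN1, rfl⟩
  obtain ⟨L', hmL, heL⟩ := hmN.exists_member hG (hWN.trans le_sup_left) hWc
  have hCL : centralizer (W : Set G) ≤ L :=
    (CfsgLib.Coprime.centralizer_le_normalizer_self _).trans hNW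
  obtain rfl : L = L' := (hmL.unique hG (hWN.trans le_sup_left) hWc heL).2 L hL hCL
  -- a prime of `M_σ ∩ C(KM)` lies in `κ(L)`
  obtain ⟨q, hq, hqd⟩ := Nat.exists_prime_and_dvd
    (n := Nat.card ↥(sigmaCore M ⊓ centralizer (KM : Set G)))
    fun e1 => Kappa.fixed_ne_bot hG hM hKM (card_eq_one.1 e1)
  haveI : Fact q.Prime := ⟨hq⟩
  have hqL := (fixed_le_kappa_hall hG hM hKM hWM hWc hL hNW).1 q hq hqd
  have hqM : q ∈ Cfsg.sigma M :=
    (sigmaCore_hall hG hM).1.2.1 q hq (hqd.trans (card_dvd_of_le inf_le_left))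
  obtain ⟨KL, hKL, -, hZL⟩ := hmL.exists_hall
  have hqKL : q ∣ Nat.card KL := by
    have h1 := hqL.2.1
    rw [← CfsgLib.Coprime.card_mul_relIndex hKL.1] at h1
    exact (hq.dvd_mul.1 h1).resolve_right (hKL.2.2 q hq hqL)
  obtain ⟨Y, hY, hYc⟩ := exists_line_of_dvd hqKL
  obtain ⟨L'', hmL'', hqL''⟩ :=
    hmN.exists_member hG (hY.trans (le_sup_left.trans hZL.le)) hYc
  have hne1 : N ≠ L := fun e1 => (hKN.2.1 e he.out (hWc ▸ card_dvd_of_le hWN)).2.2.1 (e1 ▸ heL)
  have hne2 : L'' ≠ L := fun e1 => hqL.2.2.1 (e1 ▸ hqL'')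
  have hne3 : L'' ≠ N := fun e1 => Disjoint.not_sigma hG hM hN hnc hqM (e1 ▸ hqL'')
  exact hmN.no_three hG hmL hmL'' hne1 hne3.symm hne2.symm

namespace SplitData

variable {M N K Q D A : Subgroup G} {x : G} {p : ℕ} (h : SplitData M N K Q D A x p)
include h

/-- `|M_σ : [Q, D]| = |C_Q(D)| |D|`. -/
theorem relIndex_comm : (⁅Q, D⁆ : Subgroup G).relIndex (sigmaCore M) =
    Nat.card ↥(Q ⊓ centralizer (D : Set G)) * Nat.card D := by
  obtain ⟨hle, -, hn, hsup, hinf, -⟩ := h.comm_facts hG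
  refine Nat.eq_of_mul_eq_mul_left (Nat.card_pos (α := (⁅Q, D⁆ : Subgroup G))) ?_
  rw [CfsgLib.Coprime.card_mul_relIndex (hle.trans h.split.compl.1), card_of_compl h.split.compl,
    ← mul_assoc]
  congr 1
  refine card_of_compl ⟨hle, inf_le_left, by rw [inf_comm]; exact hinf, fun a ha => ?_⟩
  obtain ⟨r, hr, z, hz, e⟩ := CfsgLib.Coprime.mem_sup_exists
    ((inf_le_left.trans (h.le_M hG).1).trans hn) (hsup.ge ha)
  exact ⟨r, hr, z, hz, e.symm⟩

/-- A subgroup of order `|K|` of `M` is a Hall `κ(M)`-subgroup. -/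
theorem hall_of_card {W : Subgroup G} (hWM : W ≤ M) (hWc : Nat.card W = Nat.card K) :
    Cfsg.IsPiHallOf (Cfsg.kappa M) W M := by
  refine ⟨hWM, fun r hr hrd => h.decomp.hall.2.1 r hr (hWc ▸ hrd), fun r hr hrκ hrd => ?_⟩
  refine h.decomp.hall.2.2 r hr hrκ ?_
  have e1 : W.relIndex M = K.relIndex M := Nat.eq_of_mul_eq_mul_left (Nat.card_pos (α := K))
    ((hWc ▸ CfsgLib.Coprime.card_mul_relIndex hWM).trans
      (CfsgLib.Coprime.card_mul_relIndex h.decomp.hall.1).symm)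
  rwa [← e1]

/-- The complement is fixed point free on `M_σ / L` when `M_σ ∩ C(K) ≤ L`: no invariant character. -/
theorem irregular_empty [Fintype G] {L : Subgroup G} (hL : L ≤ sigmaCore M)
    (hn : M ≤ normalizer (L : Set G)) (hW2 : sigmaCore M ⊓ centralizer (K : Set G) ≤ L) :
    irregular M L = ∅ := by
  refine irregular_eq_empty hG hn fun y hy hyσ v hv hyv => ?_
  have hM := h.coatom
  have he := h.prime_e hG
  have hσn := sigmaCore_normal hG M
  have hcK := Split.coprime_K hG hM h.decomp h.split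
  obtain ⟨k, hk, s, hs, rfl⟩ := (compl_kappa hG hM h.decomp rfl).2.2.2 y hy
  have hk1 : k ≠ 1 := fun e1 => hyσ (by rwa [e1, one_mul])
  have hkM : k ∈ M := h.decomp.hall.1 hk
  have hpow : ∀ i : ℕ, ∃ t ∈ sigmaCore M, (k * s) ^ i = k ^ i * t := by
    intro i
    induction i with
    | zero => exact ⟨1, one_mem _, by simp⟩
    | succ i ih =>
      obtain ⟨t, ht, e1⟩ := ih
      refine ⟨k⁻¹ * t * k * s, mul_mem ?_ hs, by rw [pow_succ, e1, pow_succ]; group⟩
      simpa using (mem_normalizer_iff.1 (hσn (inv_mem hkM)) t).1 ht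
  set n := Nat.card (sigmaCore M)
  set w := (k * s) ^ n with hw
  have hall : ∀ i : ℕ, (k * s) ^ i * v * ((k * s) ^ i)⁻¹ * v⁻¹ ∈ L := by
    intro i
    induction i with
    | zero => simp
    | succ i ih =>
      have := mul_mem ((mem_normalizer_iff.1 (hn hy) _).1 ih) hyv
      have e1 : ∀ z : G, z * (z ^ i * v * (z ^ i)⁻¹ * v⁻¹) * z⁻¹ * (z * v * z⁻¹ * v⁻¹) =
          z ^ (i + 1) * v * (z ^ (i + 1))⁻¹ * v⁻¹ := fun z => by rw [pow_succ']; group
      rwa [e1] at this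
  obtain ⟨t, ht, hwt⟩ := hpow n
  have hw1 : w ≠ 1 := fun e1 => hk1 (orderOf_eq_one_iff.1 (Nat.eq_one_of_dvd_coprimes hcK
    (Subgroup.orderOf_dvd_natCard _ hk) (orderOf_dvd_of_pow_eq_one (by
      have hm : k ^ n ∈ K ⊓ sigmaCore M := mem_inf.2 ⟨pow_mem hk n, by
        rw [hw, hwt] at e1
        rw [eq_inv_of_mul_eq_one_left e1]; exact inv_mem ht⟩
      rwa [(compl_kappa hG hM h.decomp rfl).2.2.1, mem_bot] at hm))))
  have hcardM : Nat.card M = Nat.card K * n := card_of_compl (compl_kappa hG hM h.decomp rfl)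
  have hwe : w ^ Nat.card K = 1 := by
    rw [hw, ← pow_mul, mul_comm n, ← hcardM]
    exact congrArg Subtype.val (pow_card_eq_one' (x := (⟨k * s, hy⟩ : M)))
  haveI : Fact (Nat.card K).Prime := ⟨he⟩
  have hwM : w ∈ M := pow_mem hy n
  have hWc : Nat.card (zpowers w) = Nat.card K := by rw [Nat.card_zpowers, orderOf_eq_prime hwe hw1]
  have hhall : ∀ {H : Subgroup G}, Cfsg.IsPiHallOf (Cfsg.kappa M) H M →
      CfsgLib.Coprime.IsHallIn (Cfsg.kappa M) H M := fun hH =>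
    ⟨hH.1, hH.2.1, fun r hr hrd hrκ => hH.2.2 r hr hrκ hrd⟩
  obtain ⟨u, hu, hconj⟩ := (hhall h.decomp.hall).exists_conj
    (hhall (h.hall_of_card hG (zpowers_le.2 hwM) hWc)) (ms_solvable hG hM.1)
  refine mem_of_fixed_mod he hwe (hn hwM) ((map_subtype_le _).trans hn) hL
    (hcK.coprime_dvd_right (card_dvd_of_le hL)) (fun z hz hzw => ?_) hv (hall n)
  have h1 : u⁻¹ * z * u ∈ sigmaCore M ⊓ centralizer (K : Set G) := by
    refine mem_inf.2 ⟨by simpa using (mem_normalizer_iff.1 (hσn (inv_mem hu)) z).1 hz,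
      mem_centralizer_iff.2 fun j hj => ?_⟩
    have hjw : u * j * u⁻¹ ∈ zpowers w := hconj.le (CfsgLib.Coprime.conj_mem_conjBy hj)
    obtain ⟨i, hi⟩ := mem_zpowers_iff.1 hjw
    have hc : Commute (u * j * u⁻¹) z := hi ▸ (show Commute w z from hzw).zpow_left i
    calc j * (u⁻¹ * z * u) = u⁻¹ * ((u * j * u⁻¹) * z) * u := by group
      _ = u⁻¹ * (z * (u * j * u⁻¹)) * u := by rw [hc.eq]
      _ = _ := by group
  have h2 := (mem_normalizer_iff.1 (hn hu) _).1 (hW2 h1)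
  simpa [mul_assoc] using h2

/-- An element of order `e` of `M ⊓ N` is a contradiction. -/
theorem false_of_elt {w : G} (hw : w ∈ M ⊓ N) (hwo : orderOf w = Nat.card K) : False := by
  have hM := h.coatom
  have hN := h.nbr.coatom
  have he := h.prime_e hG
  haveI : Fact (Nat.card K).Prime := ⟨he⟩
  have hp := h.nbr.bad.prime
  haveI : Fact p.Prime := ⟨hp⟩
  set W := zpowers w with hW
  have hWc : Nat.card W = Nat.card K := by rw [hW, Nat.card_zpowers, hwo]
  have hWM : W ≤ M := zpowers_le.2 (mem_inf.1 hw).1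
  have hWN : W ≤ N := zpowers_le.2 (mem_inf.1 hw).2
  have hcK := Split.coprime_K hG hM h.decomp h.split
  have hKW : Cfsg.IsPiHallOf (Cfsg.kappa M) W M := h.hall_of_card hG hWM hWc
  -- `w` is fixed point free on `A`
  have hfpfA : A ⊓ centralizer ({w} : Set G) = ⊥ := by
    obtain ⟨U', d'⟩ := Decomp.exists_decomp hG hM hKW
    obtain ⟨Q', D', sp'⟩ := exists_split hG hM d' h.split.ne
    have hq' := split_q_ne hG hM d' sp' h.nbr
    refine card_eq_one.1 (Nat.eq_one_of_dvd_coprimes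
      (((Nat.coprime_primes hp sp'.prime).2 hq'.symm).pow_left 2)
      (h.torus.card ▸ card_dvd_of_le inf_le_left) (card_dvd_of_le ?_))
    rw [hW, centralizer_zpowers]
    exact inf_le_inf_right _ h.torus.le_sigma
  have hrp : Nat.card K ≠ p := fun e1 => h.data.ne_one (by
    have h1 : orderOf x ∣ Nat.card (sigmaCore M) := Subgroup.orderOf_dvd_natCard _ h.nbr.bad.mem
    rw [h.nbr.bad.ord, ← e1] at h1
    exact absurd (Nat.eq_one_of_dvd_coprimes hcK dvd_rfl h1) he.ne_one)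
  -- a fixed point on `N_σ`
  have hNc := compl_coprime hG hN h.nbr.compl
  have hfix : sigmaCore N ⊓ centralizer (W : Set G) ≠ ⊥ := fun e0 => by
    have hcard := card_eq_fixed_pow (U := A) (H := sigmaCore N) he hwo
      (h.torus.normal hw) (by
        rw [h.torus.card]
        exact fun hd => hrp ((Nat.prime_dvd_prime_iff_eq he hp).1 (he.dvd_of_dvd_pow hd)))
      hfpfA ((h.torus.le.trans inf_le_right).trans (sigmaCore_normal hG N))
      (sigmaCore_normal hG N (mem_inf.1 hw).2) (sigmaCore_solvable hG hN)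
      (hNc.coprime_dvd_left (card_dvd_of_le h.torus.le))
      (hNc.coprime_dvd_left (hwo ▸ Subgroup.orderOf_dvd_natCard _ hw)) h.torus.fixed
    rw [hW, centralizer_zpowers] at e0
    rw [e0, card_bot, one_pow] at hcard
    exact sigmaCore_ne_bot hG hN (card_eq_one.1 hcard)
  have heσ : Nat.card K ∉ Cfsg.sigma N :=
    Compl.compl_not_sigma hG hN h.nbr.compl (hwo ▸ Subgroup.orderOf_dvd_natCard _ hw)
  have hr1 : Cfsg.PRankLE (Nat.card K) 1 N := by
    refine (tau_or_rank_one hG hN he heσ).resolve_left fun ht => ?_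
    obtain ⟨B, hB, -, hBc⟩ := Compl.exists_elementary_compl hG hN h.nbr.compl ht
    have hd : Nat.card K ^ 2 ∣ Nat.card K * Nat.card (sigmaCore M) := by
      rw [← hBc, ← card_of_compl (compl_kappa hG hM h.decomp rfl)]
      exact card_dvd_of_le (hB.trans inf_le_left)
    rw [sq, mul_dvd_mul_iff_left he.ne_zero] at hd
    exact he.ne_one (Nat.eq_one_of_dvd_coprimes hcK dvd_rfl hd)
  have heκ : Nat.card K ∈ Cfsg.kappa N := by
    by_contra hne
    exact hfix (line_regular hG hN hWN hWc heσ hne hr1)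
  obtain ⟨KN, ⟨hKN1, hKN2, hKN3⟩, hle⟩ := CfsgLib.Coprime.IsHallIn.exists_ge (π := Cfsg.kappa N)
    (ms_solvable hG hN.1) hWN fun r hr hrd => by
      rw [hWc] at hrd
      rwa [(Nat.prime_dvd_prime_iff_eq hr he).1 hrd]
  exact false_of_kappa_meet hG hM hN h.nbr.notConj hKW
    ⟨hKN1, hKN2, fun s hs hsκ hsd => hKN3 s hs hsd hsκ⟩ le_rfl hle hWc

/-- A1 for abelian `D`. -/
theorem false_of_central [Fintype G] (hM : FpfAb M) (F : Family M)
    (hB : Q ⊓ centralizer ({x} : Set G) ≤ centralizer (D : Set G))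
    (hDx : D ≤ centralizer ({x} : Set G)) : False := by
  have hcomm : ∀ a ∈ D, ∀ b ∈ D, a * b = b * a := fun a ha b hb =>
    h.comm_cx hG (mem_inf.2 ⟨ha, hDx ha⟩) (mem_inf.2 ⟨hb, hDx hb⟩)
  obtain ⟨hle, -, hn, -, -, -⟩ := h.comm_facts hG
  have hσM : sigmaCore M ≤ M := map_subtype_le _
  have hder : sigmaDer M ≤ (⁅Q, D⁆ : Subgroup G) := by
    rw [sigmaDer, commutator_le]
    intro y hy z hz
    obtain ⟨a, ha, c, hc, rfl⟩ := h.split.compl.2.2.2 y hy
    obtain ⟨a', ha', c', hc', rfl⟩ := h.split.compl.2.2.2 z hz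
    have hconj : ∀ {g v : G}, g ∈ Q → v ∈ (⁅Q, D⁆ : Subgroup G) → g * v * g⁻¹ ∈ (⁅Q, D⁆ : Subgroup G) :=
      fun hg hv => (mem_normalizer_iff.1 (hn ((h.le_M hG).1 hg)) _).1 hv
    have hgen : ∀ {v : G}, (v ∈ Q ∨ v ∈ D) → ⁅v, a' * c'⁆ ∈ (⁅Q, D⁆ : Subgroup G) := by
      intro v hv
      rw [show ⁅v, a' * c'⁆ = ⁅v, a'⁆ * (a' * ⁅v, c'⁆ * a'⁻¹) by simp only [commutatorElement_def]; group]
      refine mul_mem ?_ (hconj ha' ?_)
      · rcases hv with hv | hv
        · rw [commutatorElement_eq_one_iff_mul_comm.2 (h.comm_Q hG hv ha')]; exact one_mem _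
        · rw [← commutatorElement_inv]; exact inv_mem (commutator_mem_commutator ha' hv)
      · rcases hv with hv | hv
        · exact commutator_mem_commutator hv hc'
        · rw [commutatorElement_eq_one_iff_mul_comm.2 (hcomm v hv c' hc')]; exact one_mem _
    rw [show ⁅a * c, a' * c'⁆ = a * ⁅c, a' * c'⁆ * a⁻¹ * ⁅a, a' * c'⁆ by
      simp only [commutatorElement_def]; group]
    exact mul_mem (hconj ha (hgen (Or.inr hc))) (hgen (Or.inl ha))
  have hle1 : Nat.card ↥(sigmaCore M ⊓ N) ≤ kZero M := by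
    rw [h.card_D1 hG, inf_eq_left.2 hDx, show Q ⊓ centralizer ({x} : Set G) = Q ⊓ centralizer (D : Set G) from
      le_antisymm (le_inf inf_le_left hB) (h.fixed_le hG), ← h.relIndex_comm hG]
    exact Nat.le_of_dvd kZero_pos' (relIndex_dvd_of_le_left _ hder)
  have hidx := index_eq_of_cong hG h.data hM F (h.nums hG) (h.cong hG hM F) hle1
  have hcard : Nat.card K ∣ Nat.card ↥(M ⊓ N) := by
    rw [← index_kerN hG h.data, ← index_zeroN hG h.data, hidx, h.eIndex_eq hG]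
    exact dvd_mul_right _ _
  haveI : Fact (Nat.card K).Prime := ⟨h.prime_e hG⟩
  obtain ⟨w, hw⟩ := exists_prime_orderOf_dvd_card' (G := ↥(M ⊓ N)) _ hcard
  exact h.false_of_elt hG w.2 ((orderOf_coe w).trans hw)

/-- A1 for non-abelian `D`. -/
theorem false_of_noncentral [Fintype G] (hM : FpfAb M) (F : Family M)
    (hB : Q ⊓ centralizer ({x} : Set G) ≤ centralizer (D : Set G))
    (hDx : ¬ D ≤ centralizer ({x} : Set G)) : False := by
  classical
  have hc := h.coatom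
  have hp := h.nbr.bad.prime
  haveI : Fact p.Prime := ⟨hp⟩
  obtain ⟨hQM, hDM⟩ := h.le_M hG
  obtain ⟨hle, hLder, hn, hsup, -, hW2⟩ := h.comm_facts hG
  obtain ⟨S, C, P⟩ := exists_nilParts (Split.nilpotent_D hG hc h.decomp h.split) p
  obtain ⟨-, hnC⟩ := P.le_normalizer
  have hCQ : C ≤ normalizer (Q : Set G) := (P.leC.trans hDM).trans h.split.normal
  set C₁ := Q ⊔ C with hC₁
  have hC₁σ : C₁ ≤ sigmaCore M := sup_le h.split.compl.1 (P.leC.trans h.split.compl.2.1)
  have hcen : ∀ {c z : G}, c ∈ C → z ∈ D → c * z = z * c := fun {c z} hc' hz =>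
    h.central_of_not_dvd hG (P.leC hc') (fun hd => P.cop (hd.trans (Subgroup.orderOf_dvd_natCard _ hc'))) hz
  have hnC₁ : M ≤ normalizer (C₁ : Set G) := Split.M_le hG hc h.decomp h.split
    (le_normalizer_sup (h.decomp.hall.1.trans h.split.normal) (h.split.invariant.trans hnC))
    ((le_sup_left : Q ≤ C₁).trans le_normalizer)
    (le_normalizer_sup (hDM.trans h.split.normal) (le_normalizer.trans hnC))
  have hcent : ∀ y ∈ C₁, ∀ z ∈ sigmaCore M, y * z * y⁻¹ * z⁻¹ ∈ (⁅Q, D⁆ : Subgroup G) := by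
    intro y hy z hz
    obtain ⟨a, ha, c, hc', rfl⟩ := CfsgLib.Coprime.mem_sup_exists hCQ hy
    obtain ⟨a', ha', c', hcD', rfl⟩ := h.split.compl.2.2.2 z hz
    have hQD : ∀ {v u : G}, v ∈ Q → u ∈ D → ⁅v, u⁆ ∈ (⁅Q, D⁆ : Subgroup G) := fun hv hu =>
      commutator_mem_commutator hv hu
    have hconj : ∀ {g v : G}, g ∈ Q → v ∈ (⁅Q, D⁆ : Subgroup G) → g * v * g⁻¹ ∈ (⁅Q, D⁆ : Subgroup G) :=
      fun hg hv => (mem_normalizer_iff.1 (hn (hQM hg)) _).1 hv
    rw [← commutatorElement_def, show ⁅a * c, a' * c'⁆ =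
      a * (⁅c, a'⁆ * (a' * ⁅c, c'⁆ * a'⁻¹)) * a⁻¹ * (⁅a, a'⁆ * (a' * ⁅a, c'⁆ * a'⁻¹)) by
      simp only [commutatorElement_def]; group]
    rw [commutatorElement_eq_one_iff_mul_comm.2 (hcen hc' hcD'),
      commutatorElement_eq_one_iff_mul_comm.2 (h.comm_Q hG ha ha'), mul_one, mul_inv_cancel, mul_one,
      one_mul]
    refine mul_mem (hconj ha ?_) (hconj ha' (hQD ha hcD'))
    rw [← commutatorElement_inv]
    exact inv_mem (hQD ha' (P.leC hc'))
  obtain ⟨s, hs⟩ := IsPGroup.iff_card.1 P.pGroup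
  have hC₁c : Nat.card C₁ = Nat.card Q * Nat.card C := card_of_compl ⟨le_sup_left, le_sup_right,
    le_bot_iff.1 ((inf_le_inf_left _ P.leC).trans h.split.compl.2.2.1.le), fun z hz => by
      obtain ⟨a, ha, c, hc', e⟩ := CfsgLib.Coprime.mem_sup_exists hCQ hz
      exact ⟨a, ha, c, hc', e.symm⟩⟩
  have hidx : C₁.relIndex (sigmaCore M) = p ^ s := by
    refine Nat.eq_of_mul_eq_mul_left (Nat.card_pos (α := C₁)) ?_
    rw [CfsgLib.Coprime.card_mul_relIndex hC₁σ, card_of_compl h.split.compl, P.card_mul, hC₁c, hs]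
    ring
  have he : 2 * eIndex M ≤ p - 1 := by rw [h.eIndex_eq hG]; exact (h.e_le hG).2 hDx
  have d : LevelData M (⁅Q, D⁆ : Subgroup G) C₁ p s := ⟨hp, hLder, hn, hnC₁,
    hle.trans le_sup_left, hC₁σ, hcent, hidx, he, h.nbr.sq_le_kZero hG h.torus⟩
  have hirr : irregular M (⁅Q, D⁆ : Subgroup G) = ∅ := h.irregular_empty hG (hle.trans h.split.compl.1) hn hW2
  obtain ⟨X, Dg, hX, -, -, hrank, hsum⟩ := exists_levels hG hM d (by simp [hirr])
  obtain ⟨δ, ν, hinj, hν⟩ := F.exists_greedy hG hM X Dg Dg hX hrank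
  refine false_of_weight hG h.data hM F (h.nums hG) (h.cong hG hM F) X Dg δ ν hinj hν ?_
  refine weight_of_three hG h.data hM F (h.nums hG) (three_le_eIndex hG hc) ?_
  rw [hirr, finsum_mem_empty, add_zero, h.relIndex_comm hG] at hsum
  have hcard := h.card_D1 hG
  rw [show Q ⊓ centralizer ({x} : Set G) = Q ⊓ centralizer (D : Set G) from
    le_antisymm (le_inf inf_le_left hB) (h.fixed_le hG)] at hcard
  have h3 : 3 * Nat.card ↥(D ⊓ centralizer ({x} : Set G)) ≤ Nat.card D := by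
    have hm := CfsgLib.Coprime.card_mul_relIndex (inf_le_left : D ⊓ centralizer ({x} : Set G) ≤ D)
    have hodd : Odd ((D ⊓ centralizer ({x} : Set G)).relIndex D) :=
      hG.1.of_dvd_nat ((relIndex_dvd_card _ _).trans D.card_subgroup_dvd_card)
    have hne : (D ⊓ centralizer ({x} : Set G)).relIndex D ≠ 1 := fun e1 =>
      hDx ((relIndex_eq_one.1 e1).trans inf_le_right)
    obtain ⟨r, hr⟩ := hodd
    rw [← hm, mul_comm 3]
    exact Nat.mul_le_mul_left _ (by omega)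
  have h3' : 3 * Nat.card ↥(sigmaCore M ⊓ N) ≤
      eIndex M * (Nat.card (Member M) + ∑ χ ∈ X, Dg χ ^ 2) + 1 := by
    rw [hsum, hcard, mul_left_comm]
    exact Nat.mul_le_mul_left _ h3
  exact_mod_cast h3'

end SplitData

end CfsgLib.FT.Meet
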