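import Cfsg.Agent.Lib.CFun.OddFifteenTwo
import Cfsg.Agent.Lib.FT.MeetGroupNil
import Cfsg.Agent.Lib.Coprime.FpfAction

/-!
# The lines of `Q` in case A2 (`docs/FT-meet-weights.md`, case A, step 5)

`M_σ = Q ⋊ D` with `C_Q(D) = 1`; the `K`-translates of `C_Q(x)`, `x ∈ D`, are `|K|` independent lines;
all of them but `C_Q(x)` span a subgroup `Q₁` of index `q`, moved by every element of `M` outside `M_σ`.
-/

set_option autoImplicit false
set_option linter.unusedSectionVars false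
set_option linter.style.haveILetI false

open Subgroup
open scoped commutatorElement

namespace CfsgLib.FT

open CfsgLib.CFun CfsgLib.CFun.TauTwo CfsgLib.CFun.FifteenTwo
open CfsgLib.Coprime (conjBy mem_conjBy conj_mem_conjBy)
open Cfsg (sigmaCore IsMinSimpleOddOrder)

universe u

variable {G : Type u} [Group G] [Finite G] (hG : IsMinSimpleOddOrder G) {M K U Q D : Subgroup G}
  (hM : IsCoatom M) (d : Cfsg.IsSigmaDecomposition M K U) (hs : Split M K Q D)
  (hQc : IsMulCommutative Q) (hQ0 : Q ⊓ centralizer (D : Set G) = ⊥)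
include hG hM d hs hQc hQ0

/-- `Q` is elementary abelian of order `q ^ e` and lies in `M_σ'`. -/
theorem SplitA.q_facts :
    (∀ a ∈ Q, a ^ Nat.card ↥(sigmaCore M ⊓ centralizer (K : Set G)) = 1) ∧
    Nat.card Q = Nat.card ↥(sigmaCore M ⊓ centralizer (K : Set G)) ^ Nat.card K ∧
    Q ≤ ⁅sigmaCore M, sigmaCore M⁆ := by
  refine ⟨fun a ha => ?_, ?_, ?_⟩
  · exact mem_bot.1 (hQ0.le (Split.pow_and_commutator_mem hG hM d hs ha ha).1)
  · have h := (Split.frobenius hG hM d hs).2.1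
    rwa [hQ0, card_bot, one_mul] at h
  · have h := CfsgLib.Coprime.commutator_sup_centralizer ((Split.le_M hG hM d hs).2.trans hs.normal)
      hs.cop (Or.inl (CfsgLib.Coprime.isSolvable_of_isNilpotent (Split.nilpotent_D hG hM d hs)))
    rw [hQ0, sup_bot_eq] at h
    exact h.ge.trans (commutator_mono hs.compl.1 hs.compl.2.1)

/-- The line `C_Q(x)`, the other lines, and what they give. -/
theorem SplitA.exists_lines {x : G} {A : Subgroup G} {p : ℕ} (hp : p.Prime) (hxD : x ∈ D)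
    (hxo : orderOf x = p) (hAD : A ≤ D) (hAc : IsMulCommutative A)
    (hAL : A ≤ centralizer ((Q ⊓ centralizer ({x} : Set G) : Subgroup G) : Set G))
    (hcyc : IsCyclic ↥(Q ⊓ centralizer ({x} : Set G)))
    (hne : Q ⊓ centralizer ({x} : Set G) ≠ ⊥) :
    Nat.card ↥(Q ⊓ centralizer ({x} : Set G)) = Nat.card ↥(sigmaCore M ⊓ centralizer (K : Set G)) ∧
    p ∣ Nat.card ↥(sigmaCore M ⊓ centralizer (K : Set G)) - 1 ∧
    ∃ Q₁ : Subgroup G, Q₁ ≤ Q ∧ sigmaCore M ≤ normalizer (Q₁ : Set G) ∧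
      Q₁.relIndex Q = Nat.card ↥(sigmaCore M ⊓ centralizer (K : Set G)) ∧
      (∀ m ∈ M, m ∉ sigmaCore M → m ∉ normalizer (Q₁ : Set G)) ∧
      ∀ a ∈ Q ⊔ A, ∀ b ∈ Q ⊔ A, a * b * a⁻¹ * b⁻¹ ∈ Q₁ := by
  classical
  obtain ⟨hexp, hQcard, -⟩ := SplitA.q_facts hG hM d hs hQc hQ0
  obtain ⟨hKp, -, hder⟩ := Split.frobenius hG hM d hs
  obtain ⟨hQM, hDM⟩ := Split.le_M hG hM d hs
  set q := Nat.card ↥(sigmaCore M ⊓ centralizer (K : Set G)) with hq
  haveI : Fact q.Prime := ⟨hs.prime⟩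
  haveI : Fact p.Prime := ⟨hp⟩
  haveI : Fact (Nat.card K).Prime := ⟨hKp⟩
  have hKM : K ≤ M := d.hall.1
  have hQcomm : ∀ a ∈ Q, ∀ b ∈ Q, a * b = b * a := fun a ha b hb =>
    congrArg Subtype.val (hQc.is_comm.comm (⟨a, ha⟩ : Q) ⟨b, hb⟩)
  set L := Q ⊓ centralizer ({x} : Set G) with hL
  -- a line has order `q`
  have hLc : Nat.card L = q := by
    obtain ⟨g, hg⟩ := IsCyclic.exists_generator (α := L)
    have h1 : Nat.card L = orderOf g := (orderOf_eq_card_of_forall_mem_zpowers hg).symm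
    have h2 : orderOf g ∣ q := orderOf_dvd_of_pow_eq_one (Subtype.ext (hexp g (mem_inf.1 g.2).1))
    rcases (Nat.dvd_prime hs.prime).1 h2 with h3 | h3
    · exact absurd (card_eq_one.1 (h1.trans h3)) hne
    · exact h1.trans h3
  -- `D` and `K` permute the lines
  have hDL : D ≤ normalizer (L : Set G) := by
    intro c hc
    refine mem_normalizer_fintype fun v hv => ?_
    obtain ⟨hvQ, hvx⟩ := mem_inf.1 hv
    refine mem_inf.2 ⟨(mem_normalizer_iff.1 (hDM.trans hs.normal hc) v).1 hvQ,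
      mem_centralizer_singleton_iff.2 ?_⟩
    have hw : c⁻¹ * x * c * x⁻¹ ∈ centralizer (Q : Set G) := hder (by
      have := commutator_mem_commutator (inv_mem hc) hxD
      rwa [commutatorElement_def, inv_inv] at this)
    have e1 : c⁻¹ * x * c * v = v * (c⁻¹ * x * c) := by
      rw [show c⁻¹ * x * c = c⁻¹ * x * c * x⁻¹ * x by group, mul_assoc _ x v,
        (mem_centralizer_singleton_iff.1 hvx).symm, ← mul_assoc, ← mem_centralizer_iff.1 hw v hvQ,
        mul_assoc]
    calc c * v * c⁻¹ * x = c * (v * (c⁻¹ * x * c)) * c⁻¹ := by group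
      _ = c * (c⁻¹ * x * c * v) * c⁻¹ := by rw [e1]
      _ = x * (c * v * c⁻¹) := by group
  have hKD : ∀ u ∈ K, ∀ c ∈ D, u⁻¹ * c * u ∈ D := fun u hu c hc => by
    have := (mem_normalizer_iff.1 (hs.invariant (inv_mem hu)) c).1 hc
    rwa [inv_inv] at this
  let Ln : K → Subgroup G := fun u => conjBy (u : G) L
  have hLnQ : ∀ u, Ln u ≤ Q := fun u z hz => by
    have := (mem_normalizer_iff.1 (hKM.trans hs.normal u.2) _).1 (mem_inf.1 (mem_conjBy.1 hz)).1
    simpa [mul_assoc] using this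
  have hLnc : ∀ u, Nat.card (Ln u) = q := fun u => (CfsgLib.Coprime.card_conjBy _ _).trans hLc
  have hDLn : ∀ u, ∀ c ∈ D, ∀ z ∈ Ln u, c * z * c⁻¹ ∈ Ln u := fun u c hc z hz => by
    rw [mem_conjBy] at hz ⊢
    have := (mem_normalizer_iff.1 (hDL (hKD u u.2 c hc)) _).1 hz
    simpa [mul_assoc] using this
  have hcard : ∀ s : Finset K, Nat.card ↥(s.sup Ln) ≤ q ^ s.card := by
    intro s
    induction s using Finset.induction_on with
    | empty =>
      rw [Finset.sup_empty, card_bot, Finset.card_empty, pow_zero]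
    | @insert u t hu ih =>
      rw [Finset.sup_insert, Finset.card_insert_of_notMem hu, pow_succ']
      have hn : Ln u ≤ normalizer ((t.sup Ln : Subgroup G) : Set G) := fun a ha =>
        CfsgLib.Coprime.centralizer_le_normalizer_self _ (mem_centralizer_iff.2 fun b hb =>
          hQcomm b ((Finset.sup_le fun v _ => hLnQ v : t.sup Ln ≤ Q) hb) a (hLnQ u ha))
      refine (Nat.le_of_dvd (mul_pos Nat.card_pos Nat.card_pos)
        (CfsgLib.Coprime.card_sup_dvd_of_le_normalizer hn)).trans ?_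
      rw [hLnc]
      exact Nat.mul_le_mul_left _ ih
  letI : Fintype K := Fintype.ofFinite K
  set W := (Finset.univ : Finset K).sup Ln with hW
  have hWQ : W ≤ Q := Finset.sup_le fun v _ => hLnQ v
  -- an invariant subgroup of `Q` containing a line is `Q`
  have hQle : ∀ V : Subgroup G, V ≤ Q → V ≠ ⊥ → (∀ u ∈ K, ∀ z ∈ V, u * z * u⁻¹ ∈ V) →
      (∀ c ∈ D, ∀ z ∈ V, c * z * c⁻¹ ∈ V) → V = Q := by
    intro V hVQ hV hKV hDV
    by_contra hVne
    refine Split.minimal hG hM d hs (hQ0 ▸ bot_lt_iff_ne_bot.2 hV) (lt_of_le_of_ne hVQ hVne)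
      (Split.M_le hG hM d hs (fun u hu => mem_normalizer_fintype fun z hz => hKV u hu z hz)
        (fun a ha => CfsgLib.Coprime.centralizer_le_normalizer_self _
          (mem_centralizer_iff.2 fun z hz => hQcomm z (hVQ hz) a ha))
        fun c hc => mem_normalizer_fintype fun z hz => hDV c hc z hz)
  have hsupD : ∀ s : Finset K, ∀ c ∈ D, ∀ z ∈ s.sup Ln, c * z * c⁻¹ ∈ s.sup Ln := by
    intro s c hc z hz
    have h1 : s.sup Ln ≤ (s.sup Ln).comap (MulAut.conj c).toMonoidHom := Finset.sup_le fun v hv y hy =>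
      (Finset.le_sup hv : Ln v ≤ s.sup Ln) (hDLn v c hc y hy)
    exact h1 hz
  have hone : ∀ z ∈ L, z ∈ Ln 1 := fun z hz => by
    show z ∈ conjBy (((1 : K) : G)) L
    rw [OneMemClass.coe_one, CfsgLib.Coprime.conjBy_one]
    exact hz
  have hWeq : W = Q := by
    refine hQle W hWQ (fun e => hne ?_) (fun u hu z hz => ?_) (hsupD _)
    · rw [eq_bot_iff]
      exact fun z hz => e ▸ (Finset.le_sup (Finset.mem_univ (1 : K)) : Ln 1 ≤ W) (hone z hz)
    · have h1 : W ≤ W.comap (MulAut.conj u).toMonoidHom := Finset.sup_le fun v _ y hy => by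
        refine (Finset.le_sup (Finset.mem_univ (⟨u, hu⟩ * v : K)) : Ln (⟨u, hu⟩ * v) ≤ W) ?_
        rw [mem_conjBy] at hy ⊢
        simpa [mul_assoc] using hy
      exact h1 hz
  set Q₁ := ((Finset.univ : Finset K).erase 1).sup Ln with hQ₁
  have hQ₁Q : Q₁ ≤ Q := Finset.sup_le fun v _ => hLnQ v
  have hQLQ : Q = L ⊔ Q₁ := by
    refine le_antisymm ?_ (sup_le inf_le_left hQ₁Q)
    rw [← hWeq, hW, ← Finset.insert_erase (Finset.mem_univ (1 : K)), Finset.sup_insert]
    refine sup_le_sup_right (fun z hz => ?_) _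
    have hz' : z ∈ conjBy (((1 : K) : G)) L := hz
    rwa [OneMemClass.coe_one, CfsgLib.Coprime.conjBy_one] at hz'
  have hQ₁card : Nat.card Q₁ ≤ q ^ (Nat.card K - 1) := by
    refine (hcard _).trans (le_of_eq ?_)
    rw [Finset.card_erase_of_mem (Finset.mem_univ _), Finset.card_univ, Nat.card_eq_fintype_card]
  have hcomm₁ : ∀ a ∈ Q, a ∈ normalizer (Q₁ : Set G) := fun a ha =>
    CfsgLib.Coprime.centralizer_le_normalizer_self _
      (mem_centralizer_iff.2 fun z hz => hQcomm z (hQ₁Q hz) a ha)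
  have hQ₁idx : Q₁.relIndex Q = q := by
    have h1 : Nat.card Q ≤ q * Nat.card Q₁ := by
      conv_lhs => rw [hQLQ]
      rw [← hLc]
      exact Nat.le_of_dvd (mul_pos Nat.card_pos Nat.card_pos)
        (CfsgLib.Coprime.card_sup_dvd_of_le_normalizer fun a ha => hcomm₁ a (mem_inf.1 ha).1)
    have h2 := CfsgLib.Coprime.card_mul_relIndex hQ₁Q
    have h3 : q ^ Nat.card K = q * q ^ (Nat.card K - 1) := by
      rw [← pow_succ', Nat.sub_add_cancel hKp.one_le]
    have h4 : Nat.card Q₁ * q ≤ Nat.card Q := by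
      rw [hQcard, h3, mul_comm q]
      exact Nat.mul_le_mul_right _ hQ₁card
    refine Nat.eq_of_mul_eq_mul_left (Nat.card_pos (α := Q₁)) ?_
    rw [h2]
    exact le_antisymm (h1.trans (mul_comm _ _).le) h4
  have hσn : sigmaCore M ≤ normalizer (Q₁ : Set G) := by
    intro z hz
    obtain ⟨a, ha, c, hc, rfl⟩ := hs.compl.2.2.2 z hz
    exact mul_mem (hcomm₁ a ha) (mem_normalizer_fintype fun y hy => hsupD _ c hc y hy)
  -- `x` moves some line
  have hpq : p ∣ q - 1 := by
    obtain ⟨u, hu⟩ : ∃ u : K, Ln u ⊓ centralizer ({x} : Set G) = ⊥ := by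
      by_contra hall
      push Not at hall
      have hfix : ∀ u : K, Ln u ≤ centralizer ({x} : Set G) := by
        intro u
        have h1 : Ln u ⊓ centralizer ({x} : Set G) = Ln u :=
          eq_of_le_of_card_ge inf_le_left (by
            have h2 := card_dvd_of_le (inf_le_left : Ln u ⊓ centralizer ({x} : Set G) ≤ Ln u)
            rw [hLnc] at h2 ⊢
            rcases (Nat.dvd_prime hs.prime).1 h2 with h3 | h3
            · exact absurd (card_eq_one.1 h3) (hall u)
            · exact h3.ge)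
        exact h1.ge.trans inf_le_right
      have hQx : Q ≤ L := le_inf le_rfl (hWeq ▸ Finset.sup_le fun u _ => hfix u)
      have h2 : q ^ Nat.card K ≤ q ^ 1 := by
        rw [← hQcard, pow_one, ← hLc]
        exact Nat.le_of_dvd Nat.card_pos (card_dvd_of_le hQx)
      exact absurd ((Nat.pow_le_pow_iff_right hs.prime.one_lt).1 h2) (not_le.2 hKp.one_lt)
    have hfpf : CfsgLib.Coprime.IsFpfOn (zpowers x) (Ln u) := by
      intro a ha ha1
      rw [← hu, ← centralizer_zpowers a, ← centralizer_zpowers x]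
      congr 2
      refine congrArg SetLike.coe (eq_of_le_of_card_ge (zpowers_le.2 ha) ?_)
      have h2 : orderOf a ∣ p := hxo ▸ Nat.card_zpowers x ▸ Subgroup.orderOf_dvd_natCard _ ha
      rw [Nat.card_zpowers, Nat.card_zpowers, hxo]
      rcases (Nat.dvd_prime hp).1 h2 with h3 | h3
      · exact absurd (orderOf_eq_one_iff.1 h3) ha1
      · exact h3.ge
    have hmod := hfpf.card_mod (fun a ha => mem_normalizer_fintype fun y hy =>
      hDLn u a ((zpowers_le.2 hxD) ha) y hy)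
    rw [hLnc, Nat.card_zpowers, hxo] at hmod
    exact (Nat.modEq_iff_dvd' hs.prime.one_le).1 (Eq.symm hmod)
  refine ⟨hLc, hpq, Q₁, hQ₁Q, hσn, hQ₁idx, fun m hm hmσ hmn => ?_, ?_⟩
  · -- `Q₁` is moved outside `M_σ`
    have hcompl := compl_kappa hG hM d (Split.bot hG hM d hs).1
    obtain ⟨u, hu, k, hk, rfl⟩ := hcompl.2.2.2 m hm
    have hu1 : u ≠ 1 := fun e => hmσ (by rwa [e, one_mul])
    have hun : u ∈ normalizer (Q₁ : Set G) := by
      simpa using mul_mem hmn (inv_mem (hσn hk))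
    have hKn : K ≤ normalizer (Q₁ : Set G) := by
      have h1 : zpowers u = K := by
        refine eq_of_le_of_card_ge (zpowers_le.2 hu) ?_
        rw [Nat.card_zpowers]
        exact (((Nat.dvd_prime hKp).1 (Subgroup.orderOf_dvd_natCard _ hu)).resolve_left
          fun e => hu1 (orderOf_eq_one_iff.1 e)).ge
      exact h1 ▸ zpowers_le.2 hun
    have hne₁ : Q₁ ≠ ⊥ := by
      intro e
      have h1 : q ^ Nat.card K ≤ q ^ 1 := by
        rw [← hQcard, pow_one, ← hLc]
        exact Nat.le_of_dvd Nat.card_pos (card_dvd_of_le (by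
          conv_lhs => rw [hQLQ, e, sup_bot_eq]))
      exact absurd ((Nat.pow_le_pow_iff_right hs.prime.one_lt).1 h1) (not_le.2 hKp.one_lt)
    have := hQle Q₁ hQ₁Q hne₁ (fun a ha z hz => (mem_normalizer_iff.1 (hKn ha) z).1 hz) (hsupD _)
    rw [this, relIndex_self] at hQ₁idx
    exact hs.prime.ne_one hQ₁idx.symm
  · -- `(Q A) / Q₁` is abelian
    set Z := L ⊔ A with hZ
    have hZc : Z ≤ centralizer (Z : Set G) := by
      refine sup_le ?_ ?_ <;> rw [le_centralizer_iff] <;> refine sup_le ?_ ?_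
      · exact le_centralizer_iff.1 fun a ha => mem_centralizer_iff.2 fun b hb =>
          hQcomm b (mem_inf.1 hb).1 a (mem_inf.1 ha).1
      · exact hAL
      · exact le_centralizer_iff.1 hAL
      · exact fun a ha => mem_centralizer_iff.2 fun b hb =>
          congrArg Subtype.val (hAc.is_comm.comm (⟨b, hb⟩ : A) ⟨a, ha⟩)
    have hAn : A ≤ normalizer (Q₁ : Set G) := fun c hc => hσn (hs.compl.2.1 (hAD hc))
    have hZn : Z ≤ normalizer (Q₁ : Set G) := sup_le (fun a ha => hcomm₁ a (mem_inf.1 ha).1) hAn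
    intro a ha b hb
    have hsup : Q ⊔ A = Q₁ ⊔ Z := by
      rw [hZ, hQLQ, sup_comm L Q₁, sup_assoc]
    rw [hsup] at ha hb
    obtain ⟨r, hr, z, hz, rfl⟩ := CfsgLib.Coprime.mem_sup_exists hZn ha
    obtain ⟨r', hr', z', hz', rfl⟩ := CfsgLib.Coprime.mem_sup_exists hZn hb
    have e : r * z * (r' * z') * (r * z)⁻¹ * (r' * z')⁻¹ =
        r * (z * r' * z⁻¹) * (z' * r⁻¹ * z'⁻¹) * r'⁻¹ := by
      have hc : z * z' = z' * z := mem_centralizer_iff.1 (hZc hz') z hz
      calc r * z * (r' * z') * (r * z)⁻¹ * (r' * z')⁻¹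
          = r * (z * r' * z⁻¹) * ((z * z') * z⁻¹) * r⁻¹ * z'⁻¹ * r'⁻¹ := by group
        _ = r * (z * r' * z⁻¹) * ((z' * z) * z⁻¹) * r⁻¹ * z'⁻¹ * r'⁻¹ := by rw [hc]
        _ = _ := by group
    rw [e]
    exact mul_mem (mul_mem (mul_mem hr ((mem_normalizer_iff.1 (hZn hz) _).1 hr'))
      ((mem_normalizer_iff.1 (hZn hz') _).1 (inv_mem hr))) (inv_mem hr')

end CfsgLib.FT
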