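import Cfsg.Agent.Lib.FT.NotTypeIIIModule
import Cfsg.Agent.Lib.CFun.OddFifteenTwo
import Mathlib.LinearAlgebra.Matrix.ToLinearEquiv
import Mathlib.LinearAlgebra.Dual.Lemmas
import Mathlib.Algebra.Module.ZMod

/-!
# `Q` is abelian for a non-nilpotent `M_σ` (`docs/FT-meet-weights.md`, case A)

An invariant alternating map on a chief factor of odd prime dimension vanishes; applied to the
commutator map on `Q / C_Q(D)` with values in `C_Q(D)`.
-/

set_option autoImplicit false
set_option linter.unusedSectionVars false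
set_option linter.style.haveILetI false

open Subgroup
open scoped commutatorElement

namespace CfsgLib.FT

universe u

namespace Regular

open Module

variable {p : ℕ} [hp : Fact p.Prime] {V : Type u} [AddCommGroup V] [Module (ZMod p) V] [Finite V]
variable {e : ℕ} {A : Subgroup (V ≃ₗ[ZMod p] V)} {g : V ≃ₗ[ZMod p] V}

/-- Without invariant subspaces an invariant alternating form in odd dimension is zero. -/
theorem Frob.form_eq_zero (F : Frob e A g)
    (hirr : ∀ X : Submodule (ZMod p) V, (∀ a ∈ A, ∀ x ∈ X, a x ∈ X) → X = ⊥ ∨ X = ⊤)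
    (b : V →ₗ[ZMod p] V →ₗ[ZMod p] ZMod p) (halt : ∀ v, b v v = 0)
    (hinv : ∀ a ∈ A, ∀ u v, b (a u) (a v) = b u v) : b = 0 := by
  classical
  have hanti : ∀ u v, b u v = - b v u := fun u v => by
    have h := halt (u + v)
    simp only [map_add, LinearMap.add_apply, halt, zero_add, add_zero] at h
    rwa [add_eq_zero_iff_eq_neg, eq_comm, neg_eq_iff_eq_neg] at h
  let bs := Module.finBasisOfFinrankEq (ZMod p) V F.finrank
  let T : Matrix (Fin e) (Fin e) (ZMod p) := fun i j => b (bs i) (bs j)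
  have hT : T.transpose = - T := Matrix.ext fun i j => hanti (bs j) (bs i)
  have hdet : T.det = 0 := by
    have h := congrArg Matrix.det hT
    rw [Matrix.det_transpose, Matrix.det_neg, Fintype.card_fin, F.oddE.neg_one_pow, neg_one_mul] at h
    have h2 : ((2 : ℕ) : ZMod p) * T.det = 0 := by
      push_cast; linear_combination h
    rcases mul_eq_zero.1 h2 with h3 | h3
    · rw [ZMod.natCast_eq_zero_iff, Nat.prime_dvd_prime_iff_eq hp.out Nat.prime_two] at h3
      obtain ⟨t, ht⟩ := F.oddP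
      omega
    · exact h3
  obtain ⟨c, hc0, hc⟩ := Matrix.exists_vecMul_eq_zero_iff.2 hdet
  have hu : ∑ i, c i • bs i ≠ 0 := fun h => hc0 (funext fun i => by
    exact Fintype.linearIndependent_iff.1 bs.linearIndependent c h i)
  have hbu : b (∑ i, c i • bs i) = 0 := bs.ext fun j => by
    rw [map_sum, LinearMap.sum_apply, LinearMap.zero_apply]
    have h := congrFun hc j
    simpa [Matrix.vecMul, dotProduct, T] using h
  rcases hirr (LinearMap.ker b) (fun a ha x hx => LinearMap.mem_ker.2 (LinearMap.ext fun v => by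
    conv_lhs => rw [← a.apply_symm_apply v]
    rw [hinv a ha, LinearMap.mem_ker.1 hx]; rfl)) with h | h
  · exact absurd ((Submodule.mem_bot _).1 (h.le (LinearMap.mem_ker.2 hbu))) hu
  · exact LinearMap.ker_eq_top.1 h

/-- An invariant alternating map is zero when no non-zero vector is fixed by `A`. -/
theorem Frob.alt_eq_zero (F : Frob e A g) {W : Type u} [AddCommGroup W] [Module (ZMod p) W]
    (b : V →ₗ[ZMod p] V →ₗ[ZMod p] W) (halt : ∀ v, b v v = 0)
    (hinv : ∀ a ∈ A, ∀ u v, b (a u) (a v) = b u v)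
    (hfix : ∀ v, (∀ a ∈ A, a v = v) → v = 0) : b = 0 := by
  classical
  rcases F.minimal_cases with ⟨v, hv, hline⟩ | hirr
  swap
  · refine LinearMap.ext fun u => LinearMap.ext fun w => ?_
    refine (Module.forall_dual_apply_eq_zero_iff (ZMod p) (b u w)).1 fun φ => ?_
    have h := F.form_eq_zero hirr (b.compr₂ φ) (fun z => by simp [halt])
      (fun a ha s t => by simp [hinv a ha])
    exact LinearMap.congr_fun (LinearMap.congr_fun h u) w
  -- the translates of the line
  set σ : ℕ → (V ≃ₗ[ZMod p] V) → (V ≃ₗ[ZMod p] V) := fun i a => (g ^ i)⁻¹ * a * g ^ i with hσ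
  have hspan : Submodule.span (ZMod p) (Set.range fun i : Fin e => (g ^ (i : ℕ) : V ≃ₗ[ZMod p] V) v) = ⊤ := by
    refine F.translates_top (W := Submodule.span (ZMod p) {v})
      (by simpa [Submodule.span_singleton_eq_bot] using hv) (fun a ha x hx => ?_) fun i hi => ?_
    · obtain ⟨r, rfl⟩ := Submodule.mem_span_singleton.1 hx
      obtain ⟨c, hc⟩ := hline a ha
      exact Submodule.mem_span_singleton.2 ⟨r * c, by rw [map_smul, ← hc, smul_smul]⟩
    · rw [Submodule.map_span, Set.image_singleton, Submodule.span_singleton_le_iff_mem]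
      exact Submodule.subset_span ⟨⟨i, hi⟩, rfl⟩
  refine LinearMap.ext_on hspan ?_
  rintro _ ⟨i, rfl⟩
  refine LinearMap.ext_on hspan ?_
  rintro _ ⟨j, rfl⟩
  simp only [LinearMap.zero_apply]
  by_contra hne
  refine hv (hfix v fun a ha => ?_)
  set k := (j : ℕ) + e - i with hk
  have hgij : g ^ (i : ℕ) * g ^ k = g ^ (j : ℕ) := by
    rw [← pow_add, show (i : ℕ) + k = e + j by omega, pow_add, F.pow, one_mul]
  -- `a * σ k a` fixes `v`
  have key : ∀ a ∈ A, a (σ k a v) = v := by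
    intro a ha
    obtain ⟨c, hc⟩ := hline a ha
    obtain ⟨c', hc'⟩ := hline _ (F.pow_inv_norm k ha)
    change c' • v = σ k a v at hc'
    have ha' := F.pow_norm i ha
    set a' := g ^ (i : ℕ) * a * (g ^ (i : ℕ))⁻¹ with ha'def
    have h1 : a' ((g ^ (i : ℕ) : V ≃ₗ[ZMod p] V) v) = c • (g ^ (i : ℕ) : V ≃ₗ[ZMod p] V) v := by
      show (a' * g ^ (i : ℕ)) v = _
      rw [ha'def, inv_mul_cancel_right, ← map_smul, hc]
      rfl
    have h2 : a' ((g ^ (j : ℕ) : V ≃ₗ[ZMod p] V) v) = c' • (g ^ (j : ℕ) : V ≃ₗ[ZMod p] V) v := by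
      show (a' * g ^ (j : ℕ)) v = _
      rw [ha'def, ← map_smul, hc', ← hgij, hσ]
      show _ = ((g ^ (i : ℕ) * g ^ k) * ((g ^ k)⁻¹ * a * g ^ k)) v
      congr 1
      group
    have h := hinv a' ha' ((g ^ (i : ℕ) : V ≃ₗ[ZMod p] V) v) ((g ^ (j : ℕ) : V ≃ₗ[ZMod p] V) v)
    rw [h1, h2, LinearMap.map_smul₂, map_smul, smul_smul] at h
    have hcc : (c * c' - 1) • b ((g ^ (i : ℕ) : V ≃ₗ[ZMod p] V) v) ((g ^ (j : ℕ) : V ≃ₗ[ZMod p] V) v) = 0 := by
      rw [sub_smul, one_smul, h, sub_self]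
    have hcc1 : c * c' = 1 := sub_eq_zero.1 ((smul_eq_zero.1 hcc).resolve_right hne)
    rw [← hc', map_smul, ← hc, smul_smul, mul_comm, hcc1, one_smul]
  have hσmem : ∀ m, ∀ a ∈ A, σ m a ∈ A := fun m a ha => F.pow_inv_norm m ha
  have hσσ : ∀ m l a, σ m (σ l a) = σ (l + m) a := fun m l a => by
    simp only [hσ, pow_add, mul_inv_rev]; group
  have htwo : ∀ a ∈ A, σ (2 * k) a v = a v := fun a ha => by
    refine (σ k a).injective ?_
    have h1 := key _ (hσmem k a ha)
    rw [hσσ, ← two_mul] at h1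
    rw [h1]
    show v = (σ k a * a) v
    rw [F.comm _ (hσmem k a ha) a ha]
    exact (key a ha).symm
  have hiter : ∀ m, ∀ a ∈ A, σ (2 * k * m) a v = a v := by
    intro m
    induction m with
    | zero => intro a _; simp [hσ]
    | succ m ih =>
      intro a ha
      rw [Nat.mul_succ, ← hσσ, htwo _ (hσmem _ a ha), ih a ha]
  obtain ⟨t, ht⟩ := F.oddE
  have hσe : σ (2 * k * (t + 1)) a = σ k a := by
    simp only [hσ]
    rw [show g ^ (2 * k * (t + 1)) = g ^ k by
      rw [show 2 * k * (t + 1) = k + e * k by rw [ht]; ring, pow_add, pow_mul, F.pow, one_pow, mul_one]]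
  have h2 : (a * a) v = v := by
    have h1 := key a ha
    rwa [← hσe, hiter (t + 1) a ha] at h1
  obtain ⟨s, hs⟩ := F.odd
  have hpow : ∀ m : ℕ, ((a * a) ^ m) v = v := by
    intro m
    induction m with
    | zero => rfl
    | succ m ih =>
      rw [pow_succ]
      show ((a * a) ^ m) ((a * a) v) = v
      rw [h2, ih]
  have ha1 : (a * a) ^ (s + 1) = a := by
    rw [← pow_two, ← pow_mul, show 2 * (s + 1) = Nat.card A + 1 by omega, pow_succ,
      show a ^ Nat.card A = 1 from congrArg Subtype.val (pow_card_eq_one' (x := (⟨a, ha⟩ : A))), one_mul]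
  rw [← ha1]
  exact hpow (s + 1)

end Regular

section group

open CfsgLib.CFun CfsgLib.CFun.FifteenTwo

variable {G : Type u} [Group G] [Finite G] (hG : Cfsg.IsMinSimpleOddOrder G) {M K U Q D : Subgroup G}
  (hM : IsCoatom M) (d : Cfsg.IsSigmaDecomposition M K U) (h : Split M K Q D)
include hG hM d h

/-- An abelian `C_Q(D)` is central in `Q`. -/
theorem split_central
    (habel : ∀ z ∈ Q ⊓ centralizer (D : Set G), ∀ w ∈ Q ⊓ centralizer (D : Set G), z * w = w * z)
    {z a : G} (hz : z ∈ Q ⊓ centralizer (D : Set G)) (ha : a ∈ Q) : z * a = a * z := by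
  obtain ⟨hQM, hDM⟩ := Split.le_M hG hM d h
  set Q₀ := Q ⊓ centralizer (D : Set G) with hQ₀
  have hn₀ : M ≤ normalizer (Q₀ : Set G) := Split.normal_fixed hG hM d h
  have hV : Q ⊓ centralizer (Q₀ : Set G) = Q := by
    refine Split.eq_of_commutator_mem hG hM d h inf_le_left
      (le_inf inf_le_left fun w hw => mem_centralizer_iff.2 fun y hy => habel y hy w hw) ?_
    intro c hc b hb
    refine mem_inf.2 ⟨mul_mem ((mem_normalizer_iff.1 (h.normal (hDM hc)) b).1 hb) (inv_mem hb),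
      mem_centralizer_iff.2 fun w hw => ?_⟩
    have h1 : b⁻¹ * w * b ∈ Q₀ := by
      simpa using (mem_normalizer_iff.1 (hn₀ (inv_mem (hQM hb))) w).1 hw
    have e1 := mem_centralizer_iff.1 h1.2 c hc
    have e2 := mem_centralizer_iff.1 (mem_inf.1 hw).2 c hc
    calc w * (c * b * c⁻¹ * b⁻¹) = (w * c) * b * c⁻¹ * b⁻¹ := by group
      _ = (c * w) * b * c⁻¹ * b⁻¹ := by rw [e2]
      _ = c * b * ((b⁻¹ * w * b) * c⁻¹) * b⁻¹ := by group
      _ = c * b * (c⁻¹ * (c * (b⁻¹ * w * b)) * c⁻¹) * b⁻¹ := by group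
      _ = c * b * (c⁻¹ * ((b⁻¹ * w * b) * c) * c⁻¹) * b⁻¹ := by rw [e1]
      _ = _ := by group
  exact mem_centralizer_iff.1 (hV.ge ha).2 z hz

/-- `Q` is abelian when `C_Q(D)` is. -/
theorem split_comm
    (habel : ∀ z ∈ Q ⊓ centralizer (D : Set G), ∀ w ∈ Q ⊓ centralizer (D : Set G), z * w = w * z)
    {a b : G} (ha : a ∈ Q) (hb : b ∈ Q) : a * b = b * a := by
  classical
  obtain ⟨hQM, hDM⟩ := Split.le_M hG hM d h
  obtain ⟨hep, hcardQ, hDD⟩ := Split.frobenius hG hM d h
  have hKM : K ≤ M := d.hall.1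
  set q := Nat.card ↥(Cfsg.sigmaCore M ⊓ centralizer (K : Set G)) with hq
  haveI : Fact q.Prime := ⟨h.prime⟩
  haveI : Fact (Nat.card K).Prime := ⟨hep⟩
  set Q₀ := Q ⊓ centralizer (D : Set G) with hQ₀
  have hn₀ : M ≤ normalizer (Q₀ : Set G) := Split.normal_fixed hG hM d h
  have hcen : ∀ {z x : G}, z ∈ Q₀ → x ∈ Q → z * x = x * z := fun hz hx =>
    split_central hG hM d h habel hz hx
  have hder : ∀ {x y : G}, x ∈ Q → y ∈ Q → ⁅x, y⁆ ∈ Q₀ := fun hx hy => by
    rw [commutatorElement_def]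
    exact (Split.pow_and_commutator_mem hG hM d h hx hy).2
  -- the commutator is bilinear
  have hmul : ∀ {x y z : G}, x ∈ Q → y ∈ Q → z ∈ Q → ⁅x * y, z⁆ = ⁅x, z⁆ * ⁅y, z⁆ := fun {x y z} hx hy hz => by
    calc ⁅x * y, z⁆ = x * ⁅y, z⁆ * z * x⁻¹ * z⁻¹ := by simp only [commutatorElement_def]; group
      _ = ⁅y, z⁆ * x * z * x⁻¹ * z⁻¹ := by rw [hcen (hder hy hz) hx]
      _ = ⁅y, z⁆ * ⁅x, z⁆ := by simp only [commutatorElement_def]; group
      _ = _ := hcen (hder hy hz) (mem_inf.1 (hder hx hz)).1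
  let N₀ : Subgroup Q := Q₀.subgroupOf Q
  haveI hN₀ : N₀.Normal := normal_subgroupOf_of_le_normalizer (hQM.trans hn₀)
  have hmk : ∀ x y : Q, (x : Q ⧸ N₀) = y ↔ (x : G)⁻¹ * y ∈ Q₀ := fun x y => QuotientGroup.eq
  letI : CommGroup (Q ⧸ N₀) :=
    { (inferInstance : Group (Q ⧸ N₀)) with
      mul_comm := fun u v => by
        induction u using QuotientGroup.induction_on
        induction v using QuotientGroup.induction_on
        rename_i x y
        show ((x * y : Q) : Q ⧸ N₀) = ((y * x : Q) : Q ⧸ N₀)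
        rw [hmk]
        have := hder (inv_mem y.2) (inv_mem x.2)
        rw [commutatorElement_def, inv_inv, inv_inv] at this
        simpa [mul_assoc] using this }
  let Ω : Subgroup G :=
    { carrier := {z | z ∈ Q₀ ∧ z ^ q = 1}
      one_mem' := ⟨one_mem _, one_pow _⟩
      mul_mem' := fun {z w} hz hw => ⟨mul_mem hz.1 hw.1, by
        rw [(show Commute z w from habel z hz.1 w hw.1).mul_pow, hz.2, hw.2, one_mul]⟩
      inv_mem' := fun {z} hz => ⟨inv_mem hz.1, by rw [inv_pow, hz.2, inv_one]⟩ }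
  letI : CommGroup Ω :=
    { (inferInstance : Group Ω) with
      mul_comm := fun z w => Subtype.ext (habel z z.2.1 w w.2.1) }
  have hΩ : ∀ {x y : G}, x ∈ Q → y ∈ Q → ⁅x, y⁆ ∈ Ω := fun {x y} hx hy => by
    refine ⟨hder hx hy, ?_⟩
    have hpow : ∀ n : ℕ, ⁅x, y⁆ ^ n = ⁅x ^ n, y⁆ := by
      intro n
      induction n with
      | zero => simp
      | succ n ih => rw [pow_succ, ih, pow_succ, hmul (pow_mem hx n) hx hy]
    rw [hpow, commutatorElement_eq_one_iff_mul_comm]
    exact hcen (Split.pow_and_commutator_mem hG hM d h hx hy).1 hy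
  haveI : Module (ZMod q) (Additive (Q ⧸ N₀)) := AddCommGroup.zmodModule (n := q) fun v => by
    obtain ⟨x, hx⟩ := QuotientGroup.mk'_surjective N₀ v.toMul
    show Additive.ofMul (v.toMul ^ q) = 0
    rw [← hx, ← map_pow, QuotientGroup.mk'_apply,
      (QuotientGroup.eq_one_iff (N := N₀) (x ^ q)).2 (show (x : G) ^ q ∈ Q₀ from
        (Split.pow_and_commutator_mem hG hM d h x.2 x.2).1)]
    rfl
  haveI : Module (ZMod q) (Additive Ω) := AddCommGroup.zmodModule (n := q) fun v => by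
    show Additive.ofMul (v.toMul ^ q) = 0
    rw [show v.toMul ^ q = 1 from Subtype.ext v.toMul.2.2]
    rfl
  haveI : Finite (Additive (Q ⧸ N₀)) := Finite.of_equiv _ Additive.ofMul
  -- the action of `M`
  let act : M → (Q →* Q) := fun m =>
    { toFun := fun x => ⟨(m : G) * x * (m : G)⁻¹, (mem_normalizer_iff.1 (h.normal m.2) _).1 x.2⟩
      map_one' := Subtype.ext (by simp)
      map_mul' := fun x y => Subtype.ext (by simp [mul_assoc]) }
  let actV : M → (Q ⧸ N₀ →* Q ⧸ N₀) := fun m => QuotientGroup.map N₀ N₀ (act m)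
    fun x hx => (mem_normalizer_iff.1 (hn₀ m.2) (x : G)).1 hx
  have hactV : ∀ (m : M) (x : Q), actV m x = (act m x : Q ⧸ N₀) := fun m x => rfl
  have act1 : ∀ v, actV 1 v = v := fun v => by
    induction v using QuotientGroup.induction_on
    rw [hactV]
    exact congrArg _ (Subtype.ext (by simp [act]))
  have actmul : ∀ m n v, actV (m * n) v = actV m (actV n v) := fun m n v => by
    induction v using QuotientGroup.induction_on
    rw [hactV, hactV, hactV]
    exact congrArg _ (Subtype.ext (by simp [act, mul_assoc]))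
  let aV : M → (Additive (Q ⧸ N₀)) →+ (Additive (Q ⧸ N₀)) := fun m =>
    { toFun := fun v => Additive.ofMul (actV m v.toMul)
      map_zero' := congrArg Additive.ofMul (map_one (actV m))
      map_add' := fun v w => congrArg Additive.ofMul (map_mul (actV m) v.toMul w.toMul) }
  have aV1 : ∀ v, aV 1 v = v := fun v => congrArg Additive.ofMul (act1 v.toMul)
  have aVmul : ∀ m n v, aV (m * n) v = aV m (aV n v) := fun m n v =>
    congrArg Additive.ofMul (actmul m n v.toMul)
  let ρ : M →* ((Additive (Q ⧸ N₀)) ≃ₗ[ZMod q] (Additive (Q ⧸ N₀))) :=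
    { toFun := fun m =>
        { (aV m).toZModLinearMap q with
          invFun := aV m⁻¹
          left_inv := fun v => show aV m⁻¹ (aV m v) = v by rw [← aVmul, inv_mul_cancel, aV1]
          right_inv := fun v => show aV m (aV m⁻¹ v) = v by rw [← aVmul, mul_inv_cancel, aV1] }
      map_one' := LinearEquiv.ext fun v => aV1 v
      map_mul' := fun m n => LinearEquiv.ext fun v => aVmul m n v }
  have hρ : ∀ (m : M) (x : Q), ρ m (Additive.ofMul (x : Q ⧸ N₀)) = Additive.ofMul (act m x : Q ⧸ N₀) :=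
    fun m x => rfl
  have hρ1 : ∀ m : M, ρ m = 1 → ∀ x ∈ Q, (m : G) * x * (m : G)⁻¹ * x⁻¹ ∈ Q₀ := fun m hm x hx => by
    have := congrArg Additive.toMul ((hρ m ⟨x, hx⟩).symm.trans (LinearEquiv.congr_fun hm _))
    have h1 := (hmk _ _).1 (Additive.ofMul.injective this :).symm
    have h2 : x * (x⁻¹ * ((m : G) * x * (m : G)⁻¹)) * x⁻¹ ∈ Q₀ :=
      (mem_normalizer_iff.1 (hn₀ (hQM hx)) _).1 h1
    simpa [mul_assoc] using h2
  obtain ⟨k₀, hk₀⟩ := (isCyclic_of_prime_card (α := K) rfl).exists_generator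
  let k : M := ⟨k₀, hKM k₀.2⟩
  have hk₀1 : (k₀ : G) ≠ 1 := fun e1 => by
    have : Nontrivial K := Finite.one_lt_card_iff_nontrivial.1 hep.one_lt
    obtain ⟨y, hy⟩ := exists_ne (1 : K)
    obtain ⟨i, rfl⟩ := mem_zpowers_iff.1 (hk₀ y)
    exact hy (by rw [show k₀ = 1 from Subtype.ext e1, one_zpow])
  let A : Subgroup (Additive (Q ⧸ N₀) ≃ₗ[ZMod q] Additive (Q ⧸ N₀)) := (D.subgroupOf M).map ρ
  have hA : ∀ c (hc : c ∈ D), ρ ⟨c, hDM hc⟩ ∈ A := fun c hc => ⟨_, hc, rfl⟩
  have hoddS : ∀ H : Subgroup G, Odd (Nat.card H) := fun H => hG.1.of_dvd_nat H.card_subgroup_dvd_card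
  have F : Regular.Frob (Nat.card K) A (ρ k) :=
    { prime := hep
      oddE := hoddS K
      oddP := hoddS _
      finrank := Nat.pow_right_injective h.prime.two_le (by
        have h1 : Nat.card (Q ⧸ N₀) * Nat.card N₀ = Nat.card Q :=
          (card_eq_card_quotient_mul_card_subgroup N₀).symm
        rw [Nat.card_congr (subgroupOfEquivOfLe (inf_le_left : Q₀ ≤ Q)).toEquiv, hcardQ, mul_comm] at h1
        show q ^ Module.finrank (ZMod q) (Additive (Q ⧸ N₀)) = q ^ Nat.card K
        rw [← Nat.eq_of_mul_eq_mul_left Nat.card_pos h1,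
          ← Nat.card_congr (Additive.ofMul (α := Q ⧸ N₀)).symm,
          Module.natCard_eq_pow_finrank (K := ZMod q), Nat.card_zmod])
      comm := by
        rintro _ ⟨c, hc, rfl⟩ _ ⟨c', hc', rfl⟩
        have h1 : ρ ⁅c, c'⁆ = 1 := LinearEquiv.ext fun v => by
          obtain ⟨x, hx⟩ := QuotientGroup.mk'_surjective N₀ v.toMul
          rw [← ofMul_toMul v, ← hx, QuotientGroup.mk'_apply, hρ]
          refine congrArg Additive.ofMul (congrArg _ (Subtype.ext ?_))
          have : (x : G) * ⁅(c : G), (c' : G)⁆ = ⁅(c : G), (c' : G)⁆ * x :=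
            mem_centralizer_iff.1 (hDD (commutator_mem_commutator hc hc')) x x.2
          show (⁅c, c'⁆ : M) * (x : G) * ((⁅c, c'⁆ : M) : G)⁻¹ = x
          rw [show ((⁅c, c'⁆ : M) : G) = ⁅(c : G), (c' : G)⁆ by simp [commutatorElement_def], ← this,
            mul_inv_cancel_right]
        rw [map_commutatorElement, commutatorElement_eq_one_iff_mul_comm] at h1
        exact h1
      odd := hG.1.of_dvd_nat ((card_map_dvd _ _).trans ((card_subgroup_dvd_card _).trans
        M.card_subgroup_dvd_card))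
      pow := by
        rw [← map_pow, show k ^ Nat.card K = 1 from Subtype.ext (congrArg Subtype.val
          (pow_card_eq_one' (x := k₀)) :), map_one]
      norm := by
        rintro _ ⟨c, hc, rfl⟩
        exact ⟨k * c * k⁻¹, (mem_normalizer_iff.1 (h.invariant k₀.2) _).1 hc, by simp⟩
      fpf := by
        rintro _ ⟨c, hc, rfl⟩ e1
        -- `c⁻¹ k c k⁻¹` lies in the kernel, on which `y ↦ y⁻¹ k y k⁻¹` is bijective
        have hinj : ∀ y ∈ D, ∀ z ∈ D, y⁻¹ * ((k₀ : G) * y * (k₀ : G)⁻¹) = z⁻¹ * ((k₀ : G) * z * (k₀ : G)⁻¹) →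
            y = z := by
          intro y hy z hz e2
          have : z * y⁻¹ ∈ D ⊓ centralizer ({(k₀ : G)} : Set G) := by
            refine mem_inf.2 ⟨mul_mem hz (inv_mem hy), mem_centralizer_singleton_iff.2 ?_⟩
            calc z * y⁻¹ * k₀ = z * (y⁻¹ * (k₀ * y * (k₀ : G)⁻¹)) * (k₀ * y⁻¹) := by group
              _ = z * (z⁻¹ * (k₀ * z * (k₀ : G)⁻¹)) * (k₀ * y⁻¹) := by rw [e2]
              _ = _ := by group
          rw [Split.fpf hG hM d h k₀.2 hk₀1, mem_bot, mul_inv_eq_one] at this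
          exact this.symm
        let D₀ : Subgroup M := ρ.ker ⊓ D.subgroupOf M
        have hδ : ∀ y ∈ D₀, y⁻¹ * (k * y * k⁻¹) ∈ D₀ := fun y hy => by
          refine mem_inf.2 ⟨?_, mul_mem (inv_mem hy.2) ((mem_normalizer_iff.1 (h.invariant k₀.2) _).1 hy.2)⟩
          rw [MonoidHom.mem_ker, map_mul, map_mul, map_mul, map_inv, map_inv, MonoidHom.mem_ker.1 hy.1]
          simp
        have hci : Function.Injective fun y : D₀ => (⟨_, hδ y y.2⟩ : D₀) := fun y z e2 =>
          Subtype.ext (Subtype.ext (hinj _ y.2.2 _ z.2.2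
            (congrArg (fun w : D₀ => ((w : M) : G)) e2)))
        obtain ⟨y, hy⟩ := Finite.surjective_of_injective hci ⟨c⁻¹ * (k * c * k⁻¹), mem_inf.2 ⟨by
          rw [MonoidHom.mem_ker, map_mul, map_mul, map_mul, map_inv, map_inv, e1, inv_mul_cancel],
          mul_mem (inv_mem hc) ((mem_normalizer_iff.1 (h.invariant k₀.2) _).1 hc)⟩⟩
        have hyc : (y : M) = c := Subtype.ext (hinj _ y.2.2 _ hc
          (congrArg (fun w : D₀ => ((w : M) : G)) hy))
        exact hyc ▸ MonoidHom.mem_ker.1 y.2.1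
      irr := by
        intro X hXk hXA
        let N : Subgroup G :=
          { carrier := {x | ∃ hx : x ∈ Q, Additive.ofMul ((⟨x, hx⟩ : Q) : Q ⧸ N₀) ∈ X}
            one_mem' := ⟨one_mem _, X.zero_mem⟩
            mul_mem' := fun ⟨hx, h1⟩ ⟨hy, h2⟩ => ⟨mul_mem hx hy, X.add_mem h1 h2⟩
            inv_mem' := fun ⟨hx, h1⟩ => ⟨inv_mem hx, X.neg_mem h1⟩ }
        have hNQ₀ : Q₀ ≤ N := fun x hx => ⟨(mem_inf.1 hx).1, by
          rw [(QuotientGroup.eq_one_iff (⟨x, (mem_inf.1 hx).1⟩ : Q)).2 hx]; exact X.zero_mem⟩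
        have hNQ : N ≤ Q := fun x hx => hx.1
        have hmove : ∀ m : M, (∀ v ∈ X, ρ m v ∈ X) → (m : G) ∈ normalizer (N : Set G) := fun m hm => by
          refine mem_normalizer_fintype fun x hx => ?_
          obtain ⟨hxQ, hxX⟩ := hx
          exact ⟨(mem_normalizer_iff.1 (h.normal m.2) _).1 hxQ, hm _ hxX⟩
        have hkn : K ≤ normalizer (N : Set G) := fun y hy => by
          obtain ⟨i, hi⟩ := mem_zpowers_iff.1 (hk₀ ⟨y, hy⟩)
          rw [show y = (k₀ : G) ^ i from (congrArg Subtype.val hi).symm.trans (by simp)]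
          exact zpow_mem (hmove k hXk) i
        have hDn : D ≤ normalizer (N : Set G) := fun c hc => hmove ⟨c, hDM hc⟩ (hXA _ (hA c hc))
        have hQn : Q ≤ normalizer (N : Set G) := fun y hy => mem_normalizer_fintype fun x hx => by
          rw [show y * x * y⁻¹ = ⁅y, x⁆ * x by simp [commutatorElement_def]]
          exact mul_mem (hNQ₀ (hder hy (hNQ hx))) hx
        rcases eq_or_lt_of_le hNQ with e2 | hlt
        · refine Or.inr (eq_top_iff.2 fun v _ => ?_)
          obtain ⟨x, hx⟩ := QuotientGroup.mk'_surjective N₀ v.toMul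
          obtain ⟨_, hxX⟩ := e2.ge x.2
          rw [← ofMul_toMul v, ← hx]
          exact hxX
        · rcases eq_or_lt_of_le hNQ₀ with e2 | hgt
          · refine Or.inl ((Submodule.eq_bot_iff _).2 fun v hv => ?_)
            obtain ⟨x, hx⟩ := QuotientGroup.mk'_surjective N₀ v.toMul
            have hxN : (x : G) ∈ N := ⟨x.2, by rw [← ofMul_toMul v, ← hx] at hv; exact hv⟩
            rw [← e2] at hxN
            rw [← ofMul_toMul v, ← hx, QuotientGroup.mk'_apply, (QuotientGroup.eq_one_iff x).2 hxN]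
            rfl
          · exact absurd (Split.M_le hG hM d h hkn hQn hDn) (Split.minimal hG hM d h hgt hlt) }
  -- the commutator map
  let C₁ : Q → (Q ⧸ N₀ →* Ω) := fun y => QuotientGroup.lift N₀
    { toFun := fun x => ⟨⁅(x : G), (y : G)⁆, hΩ x.2 y.2⟩
      map_one' := Subtype.ext (commutatorElement_one_left _)
      map_mul' := fun x z => Subtype.ext (hmul x.2 z.2 y.2) } fun x hx => MonoidHom.mem_ker.2
        (Subtype.ext (commutatorElement_eq_one_iff_mul_comm.2 (hcen hx y.2)))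
  have hC₁ : ∀ x y : Q, ((C₁ y (x : Q ⧸ N₀) : Ω) : G) = ⁅(x : G), (y : G)⁆ := fun x y => rfl
  let C₂ : Q ⧸ N₀ →* (Q ⧸ N₀ →* Ω) := QuotientGroup.lift N₀
    { toFun := C₁
      map_one' := MonoidHom.ext fun u => by
        induction u using QuotientGroup.induction_on
        exact Subtype.ext (commutatorElement_one_right _)
      map_mul' := fun y z => MonoidHom.ext fun u => by
        induction u using QuotientGroup.induction_on
        rename_i x
        refine Subtype.ext ?_
        show ⁅(x : G), (y : G) * z⁆ = ⁅(x : G), (y : G)⁆ * ⁅(x : G), (z : G)⁆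
        calc ⁅(x : G), (y : G) * z⁆ = ⁅(x : G), (y : G)⁆ * ((y : G) * ⁅(x : G), (z : G)⁆ * (y : G)⁻¹) := by
              simp only [commutatorElement_def]; group
          _ = _ := by rw [← hcen (hder x.2 z.2) y.2, mul_inv_cancel_right] } fun y hy => MonoidHom.mem_ker.2
        (MonoidHom.ext fun u => by
          induction u using QuotientGroup.induction_on
          exact Subtype.ext (commutatorElement_eq_one_iff_mul_comm.2 (hcen hy (Subtype.coe_prop _)).symm))
  let bl : Additive (Q ⧸ N₀) →ₗ[ZMod q] Additive (Q ⧸ N₀) →ₗ[ZMod q] Additive Ω :=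
    (AddMonoidHom.mk' (fun v => (MonoidHom.toAdditive (C₂ v.toMul)).toZModLinearMap q)
      fun v w => LinearMap.ext fun u => congrArg Additive.ofMul
        (DFunLike.congr_fun (map_mul C₂ v.toMul w.toMul) u.toMul)).toZModLinearMap q
  have hbl : ∀ x y : Q, ((bl (Additive.ofMul (y : Q ⧸ N₀)) (Additive.ofMul (x : Q ⧸ N₀))).toMul : G) =
      ⁅(x : G), (y : G)⁆ := fun x y => rfl
  have hzero : bl = 0 := by
    refine F.alt_eq_zero bl (fun v => ?_) (fun α hα u v => ?_) fun v hv => ?_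
    · obtain ⟨x, hx⟩ := QuotientGroup.mk'_surjective N₀ v.toMul
      rw [← ofMul_toMul v, ← hx]
      exact congrArg Additive.ofMul (Subtype.ext (commutatorElement_self _))
    · obtain ⟨c, hc, rfl⟩ := hα
      obtain ⟨x, hx⟩ := QuotientGroup.mk'_surjective N₀ u.toMul
      obtain ⟨y, hy⟩ := QuotientGroup.mk'_surjective N₀ v.toMul
      rw [← ofMul_toMul u, ← ofMul_toMul v, ← hx, ← hy, QuotientGroup.mk'_apply, QuotientGroup.mk'_apply,
        hρ, hρ]
      refine congrArg Additive.ofMul (Subtype.ext ?_)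
      show ⁅(c : G) * y * (c : G)⁻¹, (c : G) * x * (c : G)⁻¹⁆ = ⁅(y : G), (x : G)⁆
      rw [← conjugate_commutatorElement]
      rw [mem_centralizer_iff.1 (hder y.2 x.2).2 c hc, mul_inv_cancel_right]
    · obtain ⟨x, hx⟩ := QuotientGroup.mk'_surjective N₀ v.toMul
      rw [← ofMul_toMul v, ← hx, QuotientGroup.mk'_apply]
      suffices hxQ₀ : (x : G) ∈ Q₀ by rw [(QuotientGroup.eq_one_iff x).2 hxQ₀]; rfl
      have hall : ∀ c ∈ D, c * x * c⁻¹ * (x : G)⁻¹ ∈ Q₀ := fun c hc => by
        have h1 := (hmk _ _).1 (Additive.ofMul.injective (((hρ ⟨c, hDM hc⟩ x).symm.trans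
          (by have := hv _ (hA c hc); rwa [← ofMul_toMul v, ← hx] at this))) :).symm
        have h2 : (x : G) * ((x : G)⁻¹ * (c * x * c⁻¹)) * (x : G)⁻¹ ∈ Q₀ :=
          (mem_normalizer_iff.1 (hn₀ (hQM x.2)) _).1 h1
        simpa [mul_assoc] using h2
      obtain ⟨n, hn, hfix⟩ := CfsgLib.Coprime.exists_fixed_in_coset (A := D) (hDM.trans hn₀)
        (h.cop.coprime_dvd_right (card_dvd_of_le inf_le_left))
        (Or.inl (CfsgLib.Coprime.isSolvable_of_isNilpotent (Split.nilpotent_D hG hM d h)))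
        (hn₀ (hQM x.2)) hall
      have hxn : (x : G) * n ∈ Q₀ := mem_inf.2 ⟨mul_mem x.2 (mem_inf.1 hn).1, hfix⟩
      exact (mul_mem_cancel_right hn).1 hxn
  have := congrArg (fun φ : Additive (Q ⧸ N₀) →ₗ[ZMod q] Additive (Q ⧸ N₀) →ₗ[ZMod q] Additive Ω =>
    ((φ (Additive.ofMul ((⟨b, hb⟩ : Q) : Q ⧸ N₀)) (Additive.ofMul ((⟨a, ha⟩ : Q) : Q ⧸ N₀))).toMul : G)) hzero
  exact commutatorElement_eq_one_iff_mul_comm.1 ((hbl ⟨a, ha⟩ ⟨b, hb⟩).symm.trans this)

end group

end CfsgLib.FT
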