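import Cfsg.Agent.Lib.FT.MeetSplitGroup
import Cfsg.Agent.Lib.FT.MeetCore
import Cfsg.Agent.Lib.FT.MeetVal
import Cfsg.Agent.Lib.Char.PPrimeDegreeSquares
import Cfsg.Agent.Lib.Block.PPrimeKernel

/-!
# Case A of §1: `ψ(x) ≡ ε e (mod p)` (`docs/FT-meet-weights.md`)

The characters of `M_σ` of degree prime to `p` are linear: they have a linear constituent on `Q S`
(`Q` abelian), so are trivial on `(Q S)'`, which contains `M_σ'`.
-/

set_option autoImplicit false
set_option linter.unusedSectionVars false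
set_option linter.style.haveILetI false

open Subgroup
open scoped commutatorElement

namespace CfsgLib.FT.Meet

open CfsgLib.CFun CfsgLib.CFun.FifteenTwo CfsgLib.Char
open Cfsg (sigmaCore IsMinSimpleOddOrder IrrCharacter IsCharacter IsIrrCharacter classInner charDegree)

universe u

variable {G : Type u} [Group G] [Fintype G] (hG : IsMinSimpleOddOrder G)

/-- A character with a linear constituent on the normal subgroup `H` is trivial on `H'`. -/
theorem trivial_on_commutator {Γ : Type u} [Group Γ] [Finite Γ] (H : Subgroup Γ) [H.Normal] [Fintype H]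
    (θ : IrrCharacter Γ) (ψ : IrrCharacter H) (hψ : (ψ : H → ℂ) 1 = 1)
    (hc : classInner (fun h : H => (θ : Γ → ℂ) h) (ψ : H → ℂ) ≠ 0) :
    ∀ d ∈ (⁅H, H⁆ : Subgroup Γ), (θ : Γ → ℂ) d = (θ : Γ → ℂ) 1 := by
  classical
  haveI := Fintype.ofFinite Γ
  haveI := Fintype.ofFinite (IrrCharacter H)
  obtain ⟨c, hc', hexp, -⟩ := PPrimeSquares.exists_mult H θ
  have hcψ : c ψ ≠ 0 := fun e => hc (by rw [hc', e, Nat.cast_zero])
  set E : Subgroup H := commutator H with hE
  haveI := Fintype.ofFinite E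
  haveI := Fintype.ofFinite ((⁅H, H⁆ : Subgroup Γ))
  by_contra hne
  push Not at hne
  haveI : (⁅H, H⁆ : Subgroup Γ).Normal := inferInstance
  have hzero := TwoNonzero.sum_subgroup_eq_zero (⁅H, H⁆ : Subgroup Γ) θ hne
  have hmap : E.map H.subtype = (⁅H, H⁆ : Subgroup Γ) := by rw [hE, map_subtype_commutator]
  have hsum : ∑ d : (⁅H, H⁆ : Subgroup Γ), (θ : Γ → ℂ) d = ∑ d : E, (θ : Γ → ℂ) (d : H) := by
    refine (Fintype.sum_equiv ((E.equivMapOfInjective _ H.subtype_injective).trans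
      (MulEquiv.subgroupCongr hmap)).toEquiv _ _ fun d => rfl).symm
  rw [hsum, Finset.sum_congr rfl fun (d : E) _ => hexp (d : H), Finset.sum_comm] at hzero
  have hterm : ∀ φ : IrrCharacter H, ∃ n : ℕ, ∑ d : E, (c φ : ℂ) * (φ : H → ℂ) d = n ∧
      (φ = ψ → n ≠ 0) := by
    intro φ
    by_cases hφ : ∀ d ∈ E, (φ : H → ℂ) d = (φ : H → ℂ) 1
    · refine ⟨Fintype.card E * (c φ * charDegree (φ : H → ℂ)), ?_, fun e => ?_⟩
      · rw [Finset.sum_congr rfl fun (d : E) _ => by rw [hφ d d.2, PPrimeSquares.deg_spec],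
          Finset.sum_const, Finset.card_univ, nsmul_eq_mul]
        push_cast
        ring
      · subst e
        exact Nat.mul_ne_zero Fintype.card_ne_zero (Nat.mul_ne_zero hcψ (PPrimeSquares.deg_ne_zero φ))
    · push Not at hφ
      refine ⟨0, by rw [← Finset.mul_sum, TwoNonzero.sum_subgroup_eq_zero E φ hφ, mul_zero, Nat.cast_zero],
        fun e => ?_⟩
      subst e
      obtain ⟨d, hd, hne'⟩ := hφ
      obtain ⟨lam, hlam⟩ := (Signed.Sg.of_irr φ).exists_hom hψ
      exact absurd (by rw [← hlam, ← hlam, map_one, Abelianization.commutator_subset_ker lam hd]) hne'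
  choose n hn hn0 using hterm
  rw [Finset.sum_congr rfl fun φ _ => hn φ, ← Nat.cast_sum, Nat.cast_eq_zero, Finset.sum_eq_zero_iff] at hzero
  exact hn0 ψ rfl (hzero ψ (Finset.mem_univ _))

namespace SplitData

variable {M N K Q D A : Subgroup G} {x : G} {p : ℕ} (h : SplitData M N K Q D A x p)
include hG h

/-- Every irreducible character of `M_σ` of degree prime to `p` is linear. -/
theorem degDiv : DegDiv M p := by
  classical
  have hM := h.coatom
  have hp := h.nbr.bad.prime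
  haveI : Fact p.Prime := ⟨hp⟩
  obtain ⟨hQM, hDM⟩ := h.le_M hG
  have hsp := h.split
  obtain ⟨S, C, P⟩ := exists_nilParts (Split.nilpotent_D hG hM h.decomp hsp) p
  obtain ⟨hnS, -⟩ := P.le_normalizer
  have hSσ : S ≤ sigmaCore M := P.leS.trans hsp.compl.2.1
  have hSQ : S ≤ normalizer (Q : Set G) := (P.leS.trans hDM).trans hsp.normal
  set H := Q ⊔ S with hHdef
  have hHσ : H ≤ sigmaCore M := sup_le hsp.compl.1 hSσ
  have hnH : sigmaCore M ≤ normalizer (H : Set G) := fun m hm => by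
    obtain ⟨a, ha, c, hc, rfl⟩ := hsp.compl.2.2.2 m hm
    exact mul_mem (le_normalizer (le_sup_left (b := S) ha))
      (le_normalizer_sup (hDM.trans hsp.normal) (le_normalizer.trans hnS) hc)
  set E := (⁅H, H⁆ : Subgroup G) with hEdef
  have hnE : sigmaCore M ≤ normalizer (E : Set G) := le_normalizer_commutator hnH hnH
  -- `M_σ' ≤ (Q S)'`
  have hQD : ∀ {a c : G}, a ∈ Q → c ∈ D → ⁅a, c⁆ ∈ E := by
    intro a c ha hc
    have hsup := CfsgLib.Coprime.commutator_sup_centralizer hSQ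
      (hsp.cop.coprime_dvd_left (card_dvd_of_le P.leS))
      (Or.inl (CfsgLib.Coprime.isSolvable_of_isNilpotent P.pGroup.isNilpotent))
    rw [h.inf_centralizer_sylow hG P] at hsup
    obtain ⟨r, hr, z, hz, e⟩ := CfsgLib.Coprime.mem_sup_exists
      (inf_le_left.trans (normalizer_commutator_ge_left Q S))
      (hsup.ge ha)
    have hzc : z * c = c * z := (mem_centralizer_iff.1 (mem_inf.1 hz).2 c hc).symm
    have hrE : r ∈ E := commutator_mono le_sup_left le_sup_right hr
    have hcE : c * r⁻¹ * c⁻¹ ∈ E := (mem_normalizer_iff.1 (hnE (hsp.compl.2.1 hc)) _).1 (inv_mem hrE)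
    have e1 : ⁅a, c⁆ = r * (c * r⁻¹ * c⁻¹) := by
      rw [commutatorElement_def, ← e]
      calc r * z * c * (r * z)⁻¹ * c⁻¹ = r * (z * c * z⁻¹) * r⁻¹ * c⁻¹ := by group
        _ = r * (c * z * z⁻¹) * r⁻¹ * c⁻¹ := by rw [hzc]
        _ = _ := by group
    rw [e1]
    exact mul_mem hrE hcE
  have hDD : ∀ {c c' : G}, c ∈ D → c' ∈ D → ⁅c, c'⁆ ∈ E := by
    intro c c' hc hc'
    obtain ⟨s, hs, b, hb, rfl⟩ := P.gen c hc
    obtain ⟨s', hs', b', hb', rfl⟩ := P.gen c' hc'
    have hbD : ∀ {b z : G}, b ∈ C → z ∈ D → b * z = z * b := fun {b z} hb hz =>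
      h.central_of_not_dvd hG (P.leC hb) (fun hd => P.cop (hd.trans (Subgroup.orderOf_dvd_natCard _ hb))) hz
    have e : ⁅s * b, s' * b'⁆ = ⁅s, s'⁆ := by
      simp only [commutatorElement_def]
      have e1 := hbD hb (mul_mem (P.leS hs') (P.leC hb'))
      have e2 := hbD hb' (inv_mem (P.leS hs))
      calc s * b * (s' * b') * (s * b)⁻¹ * (s' * b')⁻¹
          = s * (b * (s' * b')) * b⁻¹ * s⁻¹ * b'⁻¹ * s'⁻¹ := by group
        _ = s * s' * (b' * s⁻¹) * b'⁻¹ * s'⁻¹ := by rw [e1]; group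
        _ = _ := by rw [e2]; group
    rw [e]
    exact commutator_mem_commutator (mem_sup_right hs) (mem_sup_right hs')
  have hQQ : ∀ {a a' : G}, a ∈ Q → a' ∈ Q → ⁅a, a'⁆ ∈ E := fun ha ha' =>
    commutator_mem_commutator (mem_sup_left ha) (mem_sup_left ha')
  have hder : sigmaDer M ≤ E := by
    rw [sigmaDer, commutator_le]
    intro y hy w hw
    have hconj : ∀ {g v : G}, g ∈ sigmaCore M → v ∈ E → g * v * g⁻¹ ∈ E := fun hg hv =>
      (mem_normalizer_iff.1 (hnE hg) _).1 hv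
    obtain ⟨a', ha', c', hc', rfl⟩ := hsp.compl.2.2.2 w hw
    have hgen : ∀ {z : G}, (z ∈ Q ∨ z ∈ D) → ⁅z, a' * c'⁆ ∈ E := by
      intro z hz
      rw [show ⁅z, a' * c'⁆ = ⁅z, a'⁆ * (a' * ⁅z, c'⁆ * a'⁻¹) by simp only [commutatorElement_def]; group]
      refine mul_mem ?_ (hconj (hsp.compl.1 ha') ?_)
      · rcases hz with hz | hz
        · exact hQQ hz ha'
        · rw [← commutatorElement_inv]; exact inv_mem (hQD ha' hz)
      · rcases hz with hz | hz
        · exact hQD hz hc'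
        · exact hDD hz hc'
    obtain ⟨a, ha, c, hc, rfl⟩ := hsp.compl.2.2.2 y hy
    rw [show ⁅a * c, a' * c'⁆ = a * ⁅c, a' * c'⁆ * a⁻¹ * ⁅a, a' * c'⁆ by
      simp only [commutatorElement_def]; group]
    exact mul_mem (hconj (hsp.compl.1 ha) (hgen (Or.inr hc))) (hgen (Or.inl ha))
  -- the degrees
  intro θ hθ
  haveI := Fintype.ofFinite (sigmaIn M)
  by_contra hno
  have hdp : ¬ p ∣ charDegree (θ : sigmaIn M → ℂ) := fun ⟨k, hk⟩ => hno ⟨k, by
    rw [PPrimeSquares.deg_spec, hk]⟩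
  set HΓ : Subgroup (sigmaIn M) := (H.subgroupOf M).subgroupOf (sigmaIn M) with hHΓ
  haveI : HΓ.Normal := ⟨fun a ha g => (mem_normalizer_iff.1 (hnH g.2) _).1 ha⟩
  haveI := Fintype.ofFinite HΓ
  obtain ⟨ψ, hψp, hψc⟩ := CfsgLib.Block.PPrimeKernel.exists_pprime_constituent (G := HΓ) (p := p)
    (f := fun a : HΓ => (θ : sigmaIn M → ℂ) a) (isCharacter_comp (isCharacter_irr θ) HΓ.subtype)
    (n := charDegree (θ : sigmaIn M → ℂ)) (by
      show (θ : sigmaIn M → ℂ) ((1 : HΓ) : sigmaIn M) = _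
      rw [OneMemClass.coe_one, PPrimeSquares.deg_spec]) hdp
  -- `Q` is abelian of `p`-power index in `Q S`
  set QH : Subgroup HΓ := ((Q.subgroupOf M).subgroupOf (sigmaIn M)).subgroupOf HΓ with hQH
  haveI : QH.Normal := ⟨fun a ha g => (mem_normalizer_iff.1
    (hsp.normal ((g : sigmaIn M) : M).2) _).1 ha⟩
  have hQHcomm : ∀ a ∈ QH, ∀ b ∈ QH, a * b = b * a := fun a ha b hb =>
    Subtype.ext (Subtype.ext (Subtype.ext (h.comm_Q hG ha hb)))
  have hidx : ∃ s, QH.index = p ^ s := by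
    obtain ⟨s, hs⟩ := IsPGroup.iff_card.1 P.pGroup
    refine ⟨s, ?_⟩
    have hHle : H ≤ M := sup_le hQM (P.leS.trans hDM)
    have h1 : QH.index = Q.relIndex H := by
      rw [hQH, hHΓ]
      show ((Q.subgroupOf M).subgroupOf (sigmaIn M)).relIndex ((H.subgroupOf M).subgroupOf (sigmaIn M)) = _
      rw [← relIndex_map_map_of_injective _ _ (sigmaIn M).subtype_injective,
        map_subgroupOf_eq_of_le, map_subgroupOf_eq_of_le,
        ← relIndex_map_map_of_injective _ _ M.subtype_injective,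
        map_subgroupOf_eq_of_le hQM, map_subgroupOf_eq_of_le hHle]
      · exact fun a ha => hHσ ha
      · exact fun a ha => hsp.compl.1 ha
    have h2 : Nat.card ↥H = Nat.card Q * Nat.card S := by
      rw [hHdef]
      exact Kappa.card_of_compl ⟨le_sup_left, le_sup_right,
        le_bot_iff.1 ((inf_le_inf_left _ P.leS).trans hsp.compl.2.2.1.le), fun z hz => by
          obtain ⟨a, ha, s, hs, e⟩ := CfsgLib.Coprime.mem_sup_exists hSQ hz
          exact ⟨a, ha, s, hs, e.symm⟩⟩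
    rw [← CfsgLib.Coprime.card_mul_relIndex (le_sup_left : Q ≤ H), hs] at h2
    rw [h1]
    exact Nat.eq_of_mul_eq_mul_left Nat.card_pos h2
  obtain ⟨s, hs⟩ := hidx
  have hψ1 : (ψ : HΓ → ℂ) 1 = 1 := by
    obtain ⟨j, -, hj⟩ := (Nat.dvd_prime_pow hp).1
      (hs ▸ degree_dvd_index_abelian HΓ QH hQHcomm _ ψ.2 _ (PPrimeSquares.deg_spec ψ))
    rcases j with _ | j
    · rw [PPrimeSquares.deg_spec, hj, pow_zero, Nat.cast_one]
    · exact absurd (hj ▸ dvd_pow_self p j.succ_ne_zero) hψp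
  have htriv := trivial_on_commutator HΓ θ ψ hψ1 hψc
  -- hence linear
  have hdvd := PPrimeSquares.deg_dvd_index (⊤ : Subgroup (sigmaIn M)) (commutator (sigmaIn M)) θ
    (fun a _ b _ => by
      rw [← commutatorElement_def, _root_.commutator_def]
      exact commutator_mem_commutator (mem_top a) (mem_top b)) (fun a ha => htriv a ?_)
  · rw [index_top, Nat.dvd_one] at hdvd
    exact hθ (by rw [PPrimeSquares.deg_spec, hdvd, Nat.cast_one])
  · have haE : ((a : M) : G) ∈ E := hder ((mem_commutator_iff a).1 ha)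
    have hinj : Function.Injective (M.subtype.comp (sigmaIn M).subtype) :=
      fun u v e => Subtype.ext (Subtype.ext e)
    have hmap : HΓ.map (M.subtype.comp (sigmaIn M).subtype) = H := by
      ext z
      constructor
      · rintro ⟨b, hb, rfl⟩
        exact hb
      · exact fun hz => ⟨⟨⟨z, map_subtype_le _ (hHσ hz)⟩, hHσ hz⟩, hz, rfl⟩
    rw [hEdef, ← hmap, ← map_commutator] at haE
    obtain ⟨b, hb, e⟩ := haE
    rwa [← hinj e]

theorem nums : MeetNums M p := by
  have he : 2 * eIndex M ≤ p + 1 := by rw [h.eIndex_eq hG]; exact (h.e_le hG).1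
  exact ⟨h.nbr.five_le hG h.torus he, he, h.nbr.sq_le_kZero hG h.torus⟩

theorem cong (hM : FpfAb M) (F : Family M) :
    Cong p (F.psi x) ((F.ε * eIndex M : ℤ) : ℂ) := by
  have hnum := h.nums hG
  have h1 := avgR_cong hG hM F h.nbr.bad.prime (h.degDiv hG) h.nbr.bad.mem h.data.ne_one
    (k := 1) (by rw [pow_one, ← h.nbr.bad.ord, pow_orderOf_eq_one])
  rwa [avgR_x hG h.data hM F hnum, c_eq_zero' hG h.data hM F hnum, add_zero] at h1

end SplitData

end CfsgLib.FT.Meet
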