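import Cfsg.Agent.Lib.FT.MeetData
import Cfsg.Agent.Lib.FT.MeetTools
import Cfsg.Agent.Lib.Char.DadeVirtual
import Cfsg.Agent.Lib.Char.OddType.Dade

/-!
# The set `X_N` of a bad pair and the functions supported on it (`docs/FT.md`, §1 (i))

`X_N` consists of the elements of `D₁ N_σ` whose `σ(N)'`-part `d` is not `1` and has a fixed point on
`N_σ`. It is TI with normalizer `N`, and a function `f` on `N` whose sums on the cosets of `N_σ` vanish
gives a function of `G` orthogonal to the image of the Dade map of `M_σ#`.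
-/

set_option autoImplicit false
set_option linter.unusedSectionVars false
set_option linter.style.haveILetI false

open Subgroup
open CfsgLib.Coprime (conjBy conjBy_conjBy conjBy_one conj_mem_conjBy)

namespace CfsgLib.FT

open CfsgLib.CFun CfsgLib.CFun.TauTwo CfsgLib.CFun.Disjoint CfsgLib.CFun.Cosets CfsgLib.CFun.Tilde
open Cfsg CfsgLib.Char

universe u

variable {G : Type u} [Group G]

/-- `X_N` -/
def meetSet (M N : Subgroup G) : Set G :=
  {g | ∃ d ∈ sigmaCore M ⊓ N, d ≠ 1 ∧ sigmaCore N ⊓ centralizer ({d} : Set G) ≠ ⊥ ∧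
    ∃ t ∈ N, ∃ s ∈ sigmaCore N ⊓ centralizer ({d} : Set G), g = t * (d * s) * t⁻¹}

/-- `N_σ` inside `N` -/
def kerN (N : Subgroup G) : Subgroup N := (sigmaCore N).subgroupOf N

/-- `N₀ = D₁ N_σ` inside `N` -/
def zeroN (M N : Subgroup G) : Subgroup N := (sigmaCore M ⊓ N).subgroupOf N ⊔ kerN N

/-- A function of `N` carried by `N₀ ∖ N_σ` whose sums on the cosets of `N_σ` vanish. -/
structure IsTest (M N : Subgroup G) (f : N → ℂ) : Prop where
  cls : IsClassFunction N f
  off : ∀ g : N, g ∉ zeroN M N → f g = 0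
  ker : ∀ g : N, g ∈ kerN N → f g = 0
  coset : ∀ g : N, ∑ᶠ k ∈ ((kerN N : Subgroup N) : Set N), f (g * k) = 0

/-- The induction from `N` to `G` for functions carried by `X_N`. -/
noncomputable def meetMap (M N : Subgroup G) (f : N → ℂ) : G → ℂ :=
  dadeIsometry (meetSet M N) N (fun _ => ⊥) f

theorem conjFun_meetMap (M N : Subgroup G) (f : N → ℂ) :
    Cfsg.conjFun (meetMap M N f) = meetMap M N (Cfsg.conjFun f) := by
  funext g
  simp only [Cfsg.conjFun, meetMap, dadeIsometry]
  split_ifs <;> simp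

variable [Finite G] (hG : IsMinSimpleOddOrder G) {M N : Subgroup G} {x : G} {p : ℕ}
  (h : BadData M N x p)
include hG h

theorem kerN_normal : (kerN N).Normal :=
  normal_subgroupOf_of_le_normalizer (sigmaCore_normal hG N)

theorem zeroN_normal : (zeroN M N).Normal := by
  haveI := kerN_normal hG h
  refine ⟨fun g hg t => ?_⟩
  obtain ⟨d, hd, n, hn, rfl⟩ := mem_sup_of_normal_right.1 hg
  obtain ⟨a, ha, b, hb, hab⟩ := h.compl.2.2.2 (t : G) t.2
  set a' : N := ⟨a, (mem_inf.1 ha).2⟩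
  set b' : N := ⟨b, map_subtype_le _ hb⟩
  have hb' : b' ∈ kerN N := hb
  obtain rfl : t = a' * b' := Subtype.ext hab
  have hbd : b' * (d * n) * b'⁻¹ ∈ zeroN M N :=
    mul_mem (mul_mem (mem_sup_right hb') (mul_mem (mem_sup_left hd) (mem_sup_right hn)))
      (inv_mem (mem_sup_right hb'))
  obtain ⟨d₁, hd₁, n₁, hn₁, e⟩ := mem_sup_of_normal_right.1 hbd
  rw [show a' * b' * (d * n) * (a' * b')⁻¹ = a' * (d₁ * n₁) * a'⁻¹ by rw [e]; group,
    show a' * (d₁ * n₁) * a'⁻¹ = (a' * d₁ * a'⁻¹) * (a' * n₁ * a'⁻¹) by group]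
  refine mul_mem (mem_sup_left ?_) (mem_sup_right ((kerN_normal hG h).conj_mem n₁ hn₁ a'))
  exact mem_inf.2 ⟨(mem_normalizer_iff.1 (sigmaCore_normal hG M (mem_inf.1 ha).1) _).1 (mem_inf.1 hd₁).1,
    (a' * d₁ * a'⁻¹).2⟩

theorem primes_D {d : G} (hd : d ∈ sigmaCore M ⊓ N) :
    ∀ q : ℕ, q.Prime → q ∣ orderOf d → q ∈ sigma M :=
  fun _ hq hqd => sigma_of_mem hG h.bad.coatom (mem_inf.1 hd).1 hq hqd

theorem primes_K {s : G} (hs : s ∈ sigmaCore N) :
    ∀ q : ℕ, q.Prime → q ∣ orderOf s → q ∉ sigma M := fun q hq hqd hqM => by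
  haveI : Fact q.Prime := ⟨hq⟩
  exact not_sigma hG h.bad.coatom h.coatom h.notConj hqM (sigma_of_mem hG h.coatom hs hq hqd)

/-- The parts of conjugate elements of `D₁ C_{N_σ}(d)` are conjugate. -/
theorem conj_part {d d' s s' y : G} (hd : d ∈ sigmaCore M ⊓ N) (hd' : d' ∈ sigmaCore M ⊓ N)
    (hs : s ∈ sigmaCore N ⊓ centralizer ({d} : Set G))
    (hs' : s' ∈ sigmaCore N ⊓ centralizer ({d'} : Set G)) (e : y * (d * s) * y⁻¹ = d' * s') :
    y * d * y⁻¹ = d' := by
  have hc : Commute d s := (mem_centralizer_singleton_iff.1 (mem_inf.1 hs).2).symm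
  refine part_unique (π := sigma M) (r := y * s * y⁻¹) (s := s') ((Commute.conj_iff y).2 hc)
    (mem_centralizer_singleton_iff.1 (mem_inf.1 hs').2).symm ?_ ?_ (primes_D hG h hd')
    (primes_K hG h (mem_inf.1 hs').1) (by rw [← e]; group)
  · rw [show orderOf (y * d * y⁻¹) = orderOf d from (MulAut.conj y).orderOf_eq d]
    exact primes_D hG h hd
  · rw [show orderOf (y * s * y⁻¹) = orderOf s from (MulAut.conj y).orderOf_eq s]
    exact primes_K hG h (mem_inf.1 hs).1

/-- Elements of `X_N` that are conjugate in `G` are conjugate by an element of `N`. -/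
theorem mem_of_conj {a g : G} (ha : a ∈ meetSet M N) (hga : g * a * g⁻¹ ∈ meetSet M N) : g ∈ N := by
  obtain ⟨d, hd, hd1, hC, t, ht, s, hs, rfl⟩ := ha
  obtain ⟨d', hd', hd'1, hC', t', ht', s', hs', e⟩ := hga
  have e' : t'⁻¹ * g * t * (d * s) * (t'⁻¹ * g * t)⁻¹ = d' * s' :=
    calc _ = t'⁻¹ * (g * (t * (d * s) * t⁻¹) * g⁻¹) * t' := by group
      _ = _ := by rw [e]; group
  have hy := conj_part hG h hd hd' hs hs' e'
  set y := t'⁻¹ * g * t with hydef
  have hle : centralizer ({d'} : Set G) ≤ conjBy y N := by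
    rw [← hy, ← conjBy_centralizer]; exact map_mono (h.uniq d hd hd1 hC).1
  have hyN : y ∈ N := by
    rw [← ms_normalizer_self hG h.coatom]
    exact CfsgLib.Coprime.conjBy_eq_self_iff.1
      ((h.uniq d' hd' hd'1 hC').2 _ (isCoatom_conjBy y h.coatom) hle)
  rw [show g = t' * y * t⁻¹ by rw [hydef]; group]
  exact mul_mem (mul_mem ht' hyN) (inv_mem ht)

theorem meetSet_le : meetSet M N ⊆ (N : Set G) := by
  rintro _ ⟨d, hd, -, -, t, ht, s, hs, rfl⟩
  exact mul_mem (mul_mem ht (mul_mem (mem_inf.1 hd).2 (map_subtype_le _ (mem_inf.1 hs).1))) (inv_mem ht)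

/-- `X_N` is TI with normalizer `N`. -/
theorem meet_dade : DadeHypothesis (meetSet M N) N (fun _ => ⊥) where
  one_not_mem := by
    rintro ⟨d, hd, hd1, -, t, -, s, hs, e⟩
    refine hd1 (part_unique (π := sigma M) (r := s) (y := 1) (s := 1)
      (mem_centralizer_singleton_iff.1 (mem_inf.1 hs).2).symm (Commute.one_left 1) (primes_D hG h hd)
      (primes_K hG h (mem_inf.1 hs).1) ?_ ?_ ?_)
    · exact fun q hq hqd => absurd (orderOf_one (G := G) ▸ hqd) hq.not_dvd_one
    · exact fun q hq hqd => absurd (orderOf_one (G := G) ▸ hqd) hq.not_dvd_one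
    · rw [mul_one, show d * s = t⁻¹ * (t * (d * s) * t⁻¹) * t by group, ← e]
      group
  subset := meetSet_le hG h
  conj_mem := by
    rintro y hy _ ⟨d, hd, hd1, hC, t, ht, s, hs, rfl⟩
    exact ⟨d, hd, hd1, hC, y * t, mul_mem hy ht, s, hs, by group⟩
  fusion := fun a ha g hg => ⟨g, mem_of_conj hG h ha hg, rfl⟩
  le_centralizer := fun a _ => bot_le
  conj_mem_H := fun a _ c _ u hu => by
    rw [mem_bot] at hu ⊢; rw [hu]; group
  inf_eq_bot := fun a _ => bot_inf_eq _
  sup_eq := fun a ha => by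
    rw [bot_sup_eq, inf_eq_right]
    intro c hc
    refine mem_of_conj hG h ha (g := c) ?_
    rw [mem_centralizer_singleton_iff.1 hc, mul_inv_cancel_right]
    exact ha
  coprime := fun a _ b _ => by rw [card_bot]; exact Nat.coprime_one_left _

omit hG in
theorem mem_kerN {g : N} : g ∈ kerN N ↔ (g : G) ∈ sigmaCore N := Iff.rfl

/-- A test function is carried by `X_N`. -/
theorem IsTest.supp {f : N → ℂ} (hf : IsTest M N f) {g : N} (hg : (g : G) ∉ meetSet M N) : f g = 0 := by
  classical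
  haveI := kerN_normal hG h
  haveI := Fintype.ofFinite N
  haveI := Fintype.ofFinite (kerN N)
  by_cases hg0 : g ∈ zeroN M N
  swap
  · exact hf.off g hg0
  obtain ⟨d, hd, n, hn, rfl⟩ := mem_sup_of_normal_right.1 hg0
  have hd' : (d : G) ∈ sigmaCore M ⊓ N := hd
  by_cases hd1 : d = 1
  · exact hf.ker _ (by rw [hd1, one_mul]; exact hn)
  have hcop : (Nat.card (kerN N)).Coprime (orderOf d) := by
    refine Nat.coprime_of_dvd fun q hq h1 h2 => ?_
    haveI : Fact q.Prime := ⟨hq⟩
    obtain ⟨z, hz⟩ := exists_prime_orderOf_dvd_card' q h1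
    refine primes_K hG h (s := ((z : N) : G)) z.2 q hq ?_ (primes_D hG h hd' q hq ?_)
    · rw [orderOf_coe, orderOf_coe, hz]
    · rwa [orderOf_coe]
  obtain ⟨t, ht, s, hs, e⟩ := exists_conj_fixed (kerN N) hcop hn
  obtain ⟨hsK, hsd⟩ := mem_inf.1 hs
  have hsG : (s : G) ∈ sigmaCore N ⊓ centralizer ({(d : G)} : Set G) :=
    mem_inf.2 ⟨hsK, mem_centralizer_singleton_iff.2
      (congrArg Subtype.val (mem_centralizer_singleton_iff.1 hsd))⟩
  by_cases hC : sigmaCore N ⊓ centralizer ({(d : G)} : Set G) = ⊥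
  · obtain rfl : s = 1 := Subtype.ext (mem_bot.1 (hC ▸ hsG))
    rw [← hf.cls (d * n) t, e]
    have hbot : kerN N ⊓ centralizer ({d} : Set N) = ⊥ := eq_bot_iff.2 fun c hc => by
      refine mem_bot.2 (Subtype.ext (mem_bot.1 (hC.le (mem_inf.2 ⟨(mem_inf.1 hc).1, ?_⟩))))
      exact mem_centralizer_singleton_iff.2
        (congrArg Subtype.val (mem_centralizer_singleton_iff.1 (mem_inf.1 hc).2))
    have h0 := sum_fixed_coset (kerN N) hcop hf.cls (by
      rw [← hf.coset d, finsum_mem_eq_toFinset_sum,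
        Finset.sum_subtype (p := fun k => k ∈ kerN N) _ fun k => by simp])
    rwa [hbot, coe_bot, finsum_mem_singleton] at h0
  · refine absurd ⟨(d : G), hd', fun e' => hd1 (Subtype.ext e'), hC, (t : G)⁻¹, inv_mem t.2, (s : G), hsG, ?_⟩ hg
    have e' : (t : G) * ((d : G) * (n : G)) * (t : G)⁻¹ = (d : G) * (s : G) := congrArg Subtype.val e
    rw [← e']
    simp only [coe_mul]
    group

/-- A test function sums to zero on `d C_{N_σ}(d)`. -/
theorem IsTest.sum_fixed {f : N → ℂ} (hf : IsTest M N f) {d : G} (hd : d ∈ sigmaCore M ⊓ N) :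
    ∑ᶠ s ∈ ((sigmaCore N ⊓ centralizer ({d} : Set G) : Subgroup G) : Set G), valOn N f (d * s) = 0 := by
  classical
  haveI := kerN_normal hG h
  haveI := Fintype.ofFinite N
  haveI := Fintype.ofFinite (kerN N)
  set d' : N := ⟨d, (mem_inf.1 hd).2⟩
  have hcop : (Nat.card (kerN N)).Coprime (orderOf d') := by
    refine Nat.coprime_of_dvd fun q hq h1 h2 => ?_
    haveI : Fact q.Prime := ⟨hq⟩
    obtain ⟨z, hz⟩ := exists_prime_orderOf_dvd_card' q h1
    refine primes_K hG h (s := ((z : N) : G)) z.2 q hq ?_ (primes_D hG h hd q hq ?_)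
    · rw [orderOf_coe, orderOf_coe, hz]
    · rwa [show d = (d' : G) from rfl, orderOf_coe]
  have h0 := sum_fixed_coset (kerN N) hcop hf.cls (by
    rw [← hf.coset d', finsum_mem_eq_toFinset_sum,
      Finset.sum_subtype (p := fun k => k ∈ kerN N) _ fun k => by simp])
  rw [← h0]
  refine (finsum_mem_eq_of_bijOn (fun s : N => (s : G)) ⟨?_, Subtype.val_injective.injOn, ?_⟩ ?_).symm
  · intro s hs
    exact mem_inf.2 ⟨(mem_inf.1 hs).1, mem_centralizer_singleton_iff.2
      (congrArg Subtype.val (mem_centralizer_singleton_iff.1 (mem_inf.1 hs).2))⟩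
  · intro s hs
    exact ⟨⟨s, map_subtype_le _ (mem_inf.1 hs).1⟩, mem_inf.2 ⟨(mem_inf.1 hs).1,
      mem_centralizer_singleton_iff.2 (Subtype.ext (mem_centralizer_singleton_iff.1 (mem_inf.1 hs).2))⟩, rfl⟩
  · intro s _
    exact (valOn_mem f (mul_mem (mem_inf.1 hd).2 s.2)).symm

variable [Fintype G]

theorem meetMap_class {f : N → ℂ} (hf : IsTest M N f) : IsClassFunction G (meetMap M N f) :=
  isClassFunction_dadeIsometry (meet_dade hG h) hf.cls

theorem meetMap_gen [Fintype N] {f : N → ℂ} (hf : IsTest M N f) (hg : IsGeneralizedCharacter N f) :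
    IsGeneralizedCharacter G (meetMap M N f) :=
  isGeneralizedCharacter_dadeIsometry (meet_dade hG h) hg fun _ => hf.supp hG h

/-- Frobenius reciprocity. -/
theorem meetMap_inner [Fintype N] {f : N → ℂ} (hf : IsTest M N f) {χ : G → ℂ}
    (hχ : IsClassFunction G χ) :
    classInner (meetMap M N f) χ = classInner f (fun g : N => χ g) :=
  dade_adjunction (meet_dade hG h) hf.cls (fun _ => hf.supp hG h) hχ fun a _ => by
    rw [coe_bot, finsum_mem_singleton, mul_one, card_bot, Nat.cast_one, inv_one, one_mul]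

theorem meetMap_norm [Fintype N] {f : N → ℂ} (hf : IsTest M N f) :
    classInner (meetMap M N f) (meetMap M N f) = classInner f f :=
  dade_isometry (meet_dade hG h) hf.cls (fun _ => hf.supp hG h) hf.cls

theorem meetMap_one [Fintype N] {f : N → ℂ} (hf : IsTest M N f) :
    classInner (meetMap M N f) (fun _ => 1) = 0 := by
  haveI := kerN_normal hG h
  haveI := Fintype.ofFinite (kerN N)
  rw [meetMap_inner hG h hf (χ := fun _ => 1) fun _ _ => rfl]
  have key : ∑ g : N, f g = 0 := by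
    have h1 : ∑ k : kerN N, ∑ g : N, f (g * k) = 0 := by
      rw [Finset.sum_comm]
      refine Finset.sum_eq_zero fun g _ => ?_
      rw [← hf.coset g, finsum_mem_eq_toFinset_sum,
        Finset.sum_subtype (p := fun k => k ∈ kerN N) _ fun k => by simp]
    rw [Finset.sum_congr rfl (g := fun _ : kerN N => ∑ g : N, f g) fun k _ =>
      Fintype.sum_bijective (fun g => g * (k : N)) (Group.mulRight_bijective _) _ _ fun _ => rfl,
      Finset.sum_const, Finset.card_univ, nsmul_eq_mul] at h1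
    exact (mul_eq_zero.1 h1).resolve_left (by exact_mod_cast Fintype.card_ne_zero)
  simp [classInner, key]

theorem meetMap_eq {f : N → ℂ} (hf : IsTest M N f) {a y g : G} (ha : a ∈ meetSet M N)
    (e : y * g * y⁻¹ = a) : meetMap M N f g = valOn N f a :=
  dadeIsometry_eq (meet_dade hG h) hf.cls ha (one_mem _) (e.trans (mul_one a).symm)

/-- The sums of `Ind f` over the cosets `u R(u)` vanish. -/
theorem sum_support_eq_zero {f : N → ℂ} (hf : IsTest M N f) {u : G}
    (hu : u ∈ (sigmaCore M : Set G) \ {1}) :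
    ∑ᶠ r ∈ (supportR M u : Set G), meetMap M N f (u * r) = 0 := by
  classical
  obtain ⟨hu, hu1⟩ := hu
  have hu1' : u ≠ 1 := hu1
  by_cases hz : ∀ r ∈ supportR M u, meetMap M N f (u * r) = 0
  · exact finsum_mem_eq_zero_of_forall_eq_zero fun r hr => hz r hr
  push Not at hz
  obtain ⟨r, hr, hne⟩ := hz
  obtain ⟨a, ha, -, y, v, hv, e⟩ : ∃ a ∈ meetSet M N, a ∈ N ∧ ∃ y v : G, v ∈ (⊥ : Subgroup G) ∧
      y * (u * r) * y⁻¹ = a * v := by
    by_contra hh
    push Not at hh
    exact hne (dadeIsometry_eq_zero fun a ha haN y v hv => hh a ha haN y v hv)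
  rw [mem_bot] at hv
  rw [hv, mul_one] at e
  obtain ⟨d, hd, hd1, hC, t, ht, s, hs, rfl⟩ := ha
  obtain ⟨hur, hrσ⟩ := support_order hG h.bad.coatom hu hu1' hr
  -- the conjugation that carries `u` to `d`
  set z := t⁻¹ * y with hzdef
  have e' : z * (u * r) * z⁻¹ = d * s :=
    calc _ = t⁻¹ * (y * (u * r) * y⁻¹) * t := by rw [hzdef]; group
      _ = _ := by rw [e]; group
  have hzu : z * u * z⁻¹ = d := by
    refine part_unique (π := sigma M) (r := z * r * z⁻¹) (s := s) ((Commute.conj_iff z).2 hur)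
      (mem_centralizer_singleton_iff.1 (mem_inf.1 hs).2).symm ?_ ?_ (primes_D hG h hd)
      (primes_K hG h (mem_inf.1 hs).1) (by rw [← e']; group)
    · rw [show orderOf (z * u * z⁻¹) = orderOf u from (MulAut.conj z).orderOf_eq u]
      exact fun q hq hqd => sigma_of_mem hG h.bad.coatom hu hq hqd
    · rw [show orderOf (z * r * z⁻¹) = orderOf r from (MulAut.conj z).orderOf_eq r]
      exact hrσ
  obtain ⟨hdN, hdu⟩ := h.uniq d hd hd1 hC
  have hnle : ¬ centralizer ({u} : Set G) ≤ M := fun hle => by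
    refine h.notConj z (hdu _ (isCoatom_conjBy z h.bad.coatom) ?_)
    rw [← hzu, ← conjBy_centralizer]
    exact map_mono hle
  obtain ⟨L, hL, huL, -, -, -, -, hR⟩ := support_eq hG h.bad.coatom hu hu1' hnle
  have hLN : conjBy z L = N := hdu _ (isCoatom_conjBy z hL)
    (by rw [← hzu, ← conjBy_centralizer]; exact map_mono huL)
  have hLN' : conjBy z⁻¹ N = L := by rw [← hLN, conjBy_conjBy, inv_mul_cancel, conjBy_one]
  rw [← hf.sum_fixed hG h hd]
  refine finsum_mem_eq_of_bijOn (fun w : G => z * w * z⁻¹) ⟨?_, ?_, ?_⟩ ?_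
  · intro w hw
    rw [SetLike.mem_coe, hR, mem_inf] at hw
    refine mem_inf.2 ⟨hLN ▸ conj_mem_sigmaCore hG hL z hw.1, ?_⟩
    rw [← hzu, ← conjBy_centralizer]
    exact conj_mem_conjBy hw.2
  · exact (MulAut.conj z).injective.injOn
  · intro w hw
    refine ⟨z⁻¹ * w * z, ?_, by group⟩
    rw [SetLike.mem_coe, hR]
    refine mem_inf.2 ⟨?_, mem_centralizer_singleton_iff.2 ?_⟩
    · have h1 := conj_mem_sigmaCore hG h.coatom z⁻¹ (mem_inf.1 hw).1
      rwa [hLN', inv_inv] at h1
    · have h2 : w * (z * u * z⁻¹) = z * u * z⁻¹ * w := by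
        rw [hzu]; exact mem_centralizer_singleton_iff.1 (mem_inf.1 hw).2
      calc z⁻¹ * w * z * u = z⁻¹ * (w * (z * u * z⁻¹)) * z := by group
        _ = u * (z⁻¹ * w * z) := by rw [h2]; group
  · intro w hw
    have hw' : z * w * z⁻¹ ∈ sigmaCore N ⊓ centralizer ({d} : Set G) := by
      rw [SetLike.mem_coe, hR, mem_inf] at hw
      refine mem_inf.2 ⟨hLN ▸ conj_mem_sigmaCore hG hL z hw.1, ?_⟩
      rw [← hzu, ← conjBy_centralizer]
      exact conj_mem_conjBy hw.2
    exact meetMap_eq hG h hf (y := z) ⟨d, hd, hd1, hC, 1, one_mem _, _, hw', by group⟩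
      (by rw [← hzu]; group)

/-- `A₁(M) = M_σ#` satisfies the Dade hypothesis. -/
theorem sharp_dade : DadeHypothesis ((sigmaCore M : Set G) \ {1}) M (supportR M) := by
  obtain ⟨K, U, d⟩ := Chain.exists_decomposition hG h.bad.coatom
  rw [← OddType.typeA1_eq hG h.bad.coatom d]
  exact OddType.dadeHypothesis hG h.bad.coatom (OddType.typeA1_subset_typeA0 hG h.bad.coatom)
    fun _ hm _ ha => OddType.conj_mem_typeA1 hm ha

/-- `Ind f` is orthogonal to the image of the Dade map of `M_σ#`. -/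
theorem meetMap_orth [Fintype M] {f : N → ℂ} (hf : IsTest M N f) {α : M → ℂ}
    (hα : IsClassFunction M α) (hs : ∀ g : M, (g : G) ∉ (sigmaCore M : Set G) \ {1} → α g = 0) :
    classInner (dadeIsometry ((sigmaCore M : Set G) \ {1}) M (supportR M) α) (meetMap M N f) = 0 := by
  rw [dade_adjunction (sharp_dade hG h) hα hs (meetMap_class hG h hf) (ψ := 0) fun a ha => by
    rw [sum_support_eq_zero hG h hf ha, mul_zero, Pi.zero_apply], classInner_zero_right]

end CfsgLib.FT
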