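import Mathlib.Algebra.Order.Field.Basic
import Mathlib.Data.Nat.Prime.Basic
import Mathlib.Tactic

/-!
# The numbers of `docs/FT.md`, §4, types III and IV

`p = |W₂|`, `e = |W₁|` distinct odd primes, `v = |V| ≤ (e^p - 1)/(e - 1)`, `h = e^p`,
`k₀ ≥ d = (p^e - 1)/(p - 1)` unless `d` is small.
-/

set_option autoImplicit false
set_option linter.unusedSectionVars false

open Finset

namespace CfsgLib.FT.TypeIIINum

theorem full_mul_succ (b n : ℕ) (hb : 1 ≤ b) : (∑ i ∈ range n, b ^ i) * (b - 1) + 1 = b ^ n := by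
  rw [geom_sum_mul_of_one_le hb, Nat.sub_add_cancel (Nat.one_le_pow _ _ hb)]

/-- The slack bounds leave no room for `3 (p - 1)` regular orbits. -/
theorem slack_absurd {p e v d : ℕ} {M : ℝ} (hp3 : 3 ≤ p) (he3 : 3 ≤ e)
    (hp5 : p ≠ 4) (he4 : e ≠ 4) (hne : p ≠ e) (hd : 2 * e + 1 ≤ d)
    (hv : v * (e - 1) + 1 ≤ e ^ p) (hM : 3 * ((p : ℝ) - 1) ≤ M)
    (h : 2 ≤ (p : ℝ) * ((1 + 1 / (2 * (d : ℝ))) ^ 2 / M) +
      (e : ℝ) * (((v : ℝ) + 1) / (e : ℝ) ^ p)) : False := by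
  have hp3' : (3 : ℝ) ≤ p := by exact_mod_cast hp3
  have he3' : (3 : ℝ) ≤ e := by exact_mod_cast he3
  have hh : (0 : ℝ) < (e : ℝ) ^ p := by positivity
  have hd' : 2 * (e : ℝ) + 1 ≤ d := by exact_mod_cast hd
  set ρ : ℝ := (1 + 1 / (2 * (d : ℝ))) ^ 2 / M with hρ
  set Y : ℝ := (e : ℝ) * ((v : ℝ) + 1) / (e : ℝ) ^ p with hY
  have hsum : 2 ≤ (p : ℝ) * ρ + Y := by rw [hY, mul_div_assoc]; exact h
  -- `Y ≤ e / (e - 1) + e / e ^ p`
  have hY2 : Y ≤ (e : ℝ) / ((e : ℝ) - 1) + 1 / (e : ℝ) ^ (p - 1) := by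
    have hv' : (v : ℝ) * ((e : ℝ) - 1) + 1 ≤ (e : ℝ) ^ p := by
      have : ((v * (e - 1) + 1 : ℕ) : ℝ) ≤ ((e ^ p : ℕ) : ℝ) := by exact_mod_cast hv
      push_cast [Nat.cast_sub (show 1 ≤ e by omega)] at this
      exact this
    have hv2 : (v : ℝ) / (e : ℝ) ^ p ≤ 1 / ((e : ℝ) - 1) := by
      rw [div_le_div_iff₀ hh (by linarith)]
      linarith
    have h3 : (1 : ℝ) / (e : ℝ) ^ (p - 1) = e * (1 / (e : ℝ) ^ p) := by
      have : (e : ℝ) ^ p = (e : ℝ) ^ (p - 1) * e := by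
        rw [← pow_succ, Nat.sub_add_cancel (by omega : 1 ≤ p)]
      rw [this]; field_simp
    rw [h3, hY, show (e : ℝ) * ((v : ℝ) + 1) / (e : ℝ) ^ p = e * ((v : ℝ) / (e : ℝ) ^ p) + e * (1 / (e : ℝ) ^ p) by ring,
      show (e : ℝ) / ((e : ℝ) - 1) = e * (1 / ((e : ℝ) - 1)) by ring]
    have := mul_le_mul_of_nonneg_left hv2 (show (0 : ℝ) ≤ e by positivity)
    linarith
  -- `p ρ`
  have hMpos : 0 < M := by linarith
  have hd0 : (0 : ℝ) < 2 * (d : ℝ) := by linarith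
  have hρ2 : ∀ {c q : ℝ}, 1 / (2 * (d : ℝ)) ≤ c → (p : ℝ) / (3 * ((p : ℝ) - 1)) ≤ q →
      (p : ℝ) * ρ ≤ q * (1 + c) ^ 2 := by
    intro c q hc hq
    have h0 : (0 : ℝ) ≤ 1 / (2 * (d : ℝ)) := by positivity
    have hsq : (1 + 1 / (2 * (d : ℝ))) ^ 2 ≤ (1 + c) ^ 2 := pow_le_pow_left₀ (by linarith) (by linarith) 2
    have hpM : (p : ℝ) / M ≤ q := (div_le_div_of_nonneg_left (by linarith) (by linarith) hM).trans hq
    rw [hρ, show (p : ℝ) * ((1 + 1 / (2 * (d : ℝ))) ^ 2 / M) = (p : ℝ) / M * (1 + 1 / (2 * (d : ℝ))) ^ 2 by ring]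
    exact mul_le_mul hpM hsq (sq_nonneg _) ((div_nonneg (by linarith) hMpos.le).trans hpM)
  rcases Nat.lt_or_ge e 5 with he5 | he5
  · -- `e = 3`
    have he' : e = 3 := by omega
    subst he'
    have hp5' : (5 : ℝ) ≤ p := by exact_mod_cast (show 5 ≤ p by omega)
    have hc : 1 / (2 * (d : ℝ)) ≤ 1 / 14 :=
      one_div_le_one_div_of_le (by norm_num) (by
        have : (7 : ℝ) ≤ d := by exact_mod_cast (show 7 ≤ d by omega)
        linarith)
    have hq : (p : ℝ) / (3 * ((p : ℝ) - 1)) ≤ 5 / 12 := by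
      rw [div_le_div_iff₀ (by linarith) (by norm_num)]; linarith
    have h4 := hρ2 hc hq
    have h5 : (1 : ℝ) / (3 : ℝ) ^ (p - 1) ≤ 1 / 81 := by
      refine one_div_le_one_div_of_le (by norm_num) ?_
      calc (81 : ℝ) = 3 ^ 4 := by norm_num
        _ ≤ 3 ^ (p - 1) := pow_le_pow_right₀ (by norm_num) (by omega)
    norm_num at hY2 h4
    norm_num at h5
    linarith
  · have he5' : (5 : ℝ) ≤ e := by exact_mod_cast he5
    have hc : 1 / (2 * (d : ℝ)) ≤ 1 / 22 := one_div_le_one_div_of_le (by norm_num) (by linarith)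
    have hq : (p : ℝ) / (3 * ((p : ℝ) - 1)) ≤ 1 / 2 := by
      rw [div_le_div_iff₀ (by linarith) (by norm_num)]; linarith
    have h4 := hρ2 hc hq
    have h5 : (1 : ℝ) / (e : ℝ) ^ (p - 1) ≤ 1 / 25 := by
      refine one_div_le_one_div_of_le (by norm_num) ?_
      calc (25 : ℝ) = 5 ^ 2 := by norm_num
        _ ≤ (e : ℝ) ^ 2 := pow_le_pow_left₀ (by norm_num) he5' 2
        _ ≤ (e : ℝ) ^ (p - 1) := pow_le_pow_right₀ (by linarith) (by omega)
    have h6 : (e : ℝ) / ((e : ℝ) - 1) ≤ 5 / 4 := by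
      rw [div_le_div_iff₀ (by linarith) (by norm_num)]; linarith
    norm_num at h4
    linarith

/-- `1 + p + ⋯` beats `2 p e` and `(e + 1)²`. -/
theorem full_large {p e : ℕ} (hp3 : 3 ≤ p) (he3 : 3 ≤ e) (he4 : e ≠ 4) (hne : p ≠ e) (hp4 : p ≠ 4) :
    2 * p * e < ∑ i ∈ range e, p ^ i ∧ (e + 1) ^ 2 < ∑ i ∈ range e, p ^ i := by
  rcases Nat.lt_or_ge e 5 with he5 | he5
  · have : e = 3 := by omega
    subst this
    simp only [sum_range_succ, range_zero, sum_empty]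
    constructor <;> nlinarith [show 5 ≤ p by omega]
  · have hlast : p ^ (e - 1) ≤ ∑ i ∈ range e, p ^ i :=
      single_le_sum (f := fun i => p ^ i) (fun i _ => Nat.zero_le _) (mem_range.2 (by omega))
    have h1 : ∀ m, 4 ≤ m → 9 * (m + 2) ≤ 3 ^ m := by
      intro m hm
      induction m, hm using Nat.le_induction with
      | base => norm_num
      | succ m hm ih => rw [pow_succ]; omega
    have h2 : ∀ m, 4 ≤ m → (m + 2) ^ 2 < 3 ^ m := by
      intro m hm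
      induction m, hm using Nat.le_induction with
      | base => norm_num
      | succ m hm ih => rw [pow_succ 3]; nlinarith
    refine ⟨lt_of_lt_of_le ?_ hlast, lt_of_lt_of_le ?_ hlast⟩
    · obtain ⟨m, rfl⟩ : ∃ m, e = m + 2 := ⟨e - 2, by omega⟩
      rw [show m + 2 - 1 = m + 1 by omega, pow_succ']
      have h4 : 2 * (m + 2) < p ^ m := by
        rcases Nat.lt_or_ge m 4 with hm | hm
        · have : m = 3 := by omega
          subst this
          exact lt_of_lt_of_le (by norm_num) (Nat.pow_le_pow_left hp3 3)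
        · exact lt_of_lt_of_le (lt_of_lt_of_le (by omega) (h1 m hm)) (Nat.pow_le_pow_left hp3 m)
      calc 2 * p * (m + 2) = p * (2 * (m + 2)) := by ring
        _ < p * p ^ m := (Nat.mul_lt_mul_left (by omega)).2 h4
    · obtain ⟨m, rfl⟩ : ∃ m, e = m + 1 := ⟨e - 1, by omega⟩
      exact lt_of_lt_of_le (h2 m (by omega)) (Nat.pow_le_pow_left hp3 m)

/-- The identity case. -/
theorem identity_absurd {p e v k : ℕ} (he3 : 3 ≤ e) (hv : 7 ≤ v) (hk : 2 * p * e < k)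
    (h : k * (e * v) ≤ p * e * e * v + k * (v + e)) : False := by
  have h1 : 2 * (v + e) ≤ e * v := by nlinarith
  have h2 : k * (e * v) ≤ 2 * (p * e * e * v) := by nlinarith
  have h3 : 2 * p * e * (e * v) < k * (e * v) :=
    (Nat.mul_lt_mul_right (by positivity)).2 hk
  nlinarith

/-- `(k + 1) ^ j ≤ k ^ j (1 + j/k + j²/k²)` for `j ≤ k`. -/
theorem succ_pow_le (k j : ℕ) (hj : j ≤ k) :
    (k + 1) ^ j * k ^ 2 ≤ k ^ j * (k ^ 2 + j * k + j ^ 2) := by
  induction j with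
  | zero => simp
  | succ j ih =>
    have h1 := ih (by omega)
    calc (k + 1) ^ (j + 1) * k ^ 2 = (k + 1) * ((k + 1) ^ j * k ^ 2) := by ring
      _ ≤ (k + 1) * (k ^ j * (k ^ 2 + j * k + j ^ 2)) := Nat.mul_le_mul_left _ h1
      _ = k ^ j * ((k + 1) * (k ^ 2 + j * k + j ^ 2)) := by ring
      _ ≤ k ^ j * (k * (k ^ 2 + (j + 1) * k + (j + 1) ^ 2)) := Nat.mul_le_mul_left _ (by nlinarith)
      _ = k ^ (j + 1) * (k ^ 2 + (j + 1) * k + (j + 1) ^ 2) := by ring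

theorem succ_pow_le_three {k j : ℕ} (hk : 1 ≤ k) (hj : j ≤ k) : (k + 1) ^ j ≤ 3 * k ^ j := by
  have h := succ_pow_le k j hj
  have h2 : k ^ 2 + j * k + j ^ 2 ≤ 3 * k ^ 2 := by nlinarith
  have h3 : (k + 1) ^ j * k ^ 2 ≤ 3 * k ^ j * k ^ 2 := h.trans (by nlinarith [Nat.zero_le (k ^ j)])
  exact Nat.le_of_mul_le_mul_right h3 (by positivity)

/-- The case `A = 1`: too many `z`'s. -/
theorem pairing_absurd {p e v n k : ℕ} {z : ℤ} (hp3 : 3 ≤ p) (hpe : p + 2 ≤ e) (hp4 : p ≠ 4)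
    (hv : v * (e - 1) + 1 ≤ e ^ p) (hn : n * e + 1 = k) (hk : ∑ i ∈ range e, p ^ i ≤ k)
    (hz : (p : ℤ) ∣ z) (hz0 : z ≠ 0) (h : (n : ℤ) * z ^ 2 ≤ (p : ℤ) * ((v : ℤ) + 1)) : False := by
  have hz2 : (p : ℤ) ^ 2 ≤ z ^ 2 := by
    rw [← sq_abs z]
    have h1 : (p : ℤ) ≤ |z| := Int.le_of_dvd (abs_pos.2 hz0) ((dvd_abs _ _).2 hz)
    exact pow_le_pow_left₀ (by positivity) h1 2
  have h1 : n * p ≤ v + 1 := by
    have h2 : (n : ℤ) * (p : ℤ) ^ 2 ≤ (p : ℤ) * ((v : ℤ) + 1) :=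
      le_trans (mul_le_mul_of_nonneg_left hz2 (by positivity)) h
    have h3 : (p : ℤ) * ((n : ℤ) * p) ≤ (p : ℤ) * ((v : ℤ) + 1) := by nlinarith
    have := le_of_mul_le_mul_left h3 (by exact_mod_cast (show 0 < p by omega))
    exact_mod_cast this
  -- `p ^ e` against `e ^ p`
  have hpow : 2 * e ^ p ≤ p ^ e ∨ (p = 3 ∧ 3 * e ^ p ≤ 2 * p ^ e) := by
    have grow : ∀ m, p + 2 ≤ m → ∀ c : ℕ, c * (p + 2) ^ p ≤ p ^ (p + 2) → c * m ^ p ≤ p ^ m := by
      intro m hm c hc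
      induction m, hm using Nat.le_induction with
      | base => exact hc
      | succ m hm ih =>
        calc c * (m + 1) ^ p ≤ c * (3 * m ^ p) := Nat.mul_le_mul_left _ (succ_pow_le_three (by omega) (by omega))
          _ = 3 * (c * m ^ p) := by ring
          _ ≤ p * p ^ m := Nat.mul_le_mul hp3 ih
          _ = p ^ (m + 1) := by ring
    rcases Nat.lt_or_ge p 5 with hp5 | hp5
    · have : p = 3 := by omega
      subst this
      refine Or.inr ⟨rfl, ?_⟩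
      have h243 : ∀ m, 5 ≤ m → 3 * m ^ 3 ≤ 2 * 3 ^ m := by
        intro m hm
        induction m, hm using Nat.le_induction with
        | base => norm_num
        | succ m hm ih =>
          have := succ_pow_le_three (k := m) (j := 3) (by omega) (by omega)
          rw [pow_succ 3 m]
          omega
      exact h243 e (by omega)
    · refine Or.inl ?_
      have hb : (p + 2) ^ p ≤ 9 * p ^ p := by
        calc (p + 2) ^ p ≤ 3 * (p + 1) ^ p := succ_pow_le_three (k := p + 1) (by omega) (by omega)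
          _ ≤ 3 * (3 * p ^ p) := Nat.mul_le_mul_left _ (succ_pow_le_three (by omega) le_rfl)
          _ = 9 * p ^ p := by ring
      have hc : 2 * (p + 2) ^ p ≤ p ^ (p + 2) := by
        calc 2 * (p + 2) ^ p ≤ 2 * (9 * p ^ p) := Nat.mul_le_mul_left _ hb
          _ = 18 * p ^ p := by ring
          _ ≤ p ^ 2 * p ^ p := Nat.mul_le_mul_right _ (le_trans (by norm_num) (Nat.pow_le_pow_left hp5 2))
          _ = p ^ (p + 2) := by ring
      exact grow e hpe 2 hc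
  -- `p n e + p ≥ p (1 + ⋯ + p ^ (e-1)) ≥ p ^ e + p ^ (e-1) + p`
  obtain ⟨m, rfl⟩ : ∃ m, e = m + 3 := ⟨e - 3, by omega⟩
  have hfull : p ^ (m + 2) + p ^ (m + 1) + 1 ≤ ∑ i ∈ range (m + 3), p ^ i := by
    rw [sum_range_succ, sum_range_succ]
    have h0 : 1 ≤ ∑ i ∈ range (m + 1), p ^ i := by
      simpa using single_le_sum (f := fun i => p ^ i) (fun i _ => Nat.zero_le _) (mem_range.2 (Nat.succ_pos m))
    omega
  have hA : p ^ (m + 3) + p ^ (m + 2) ≤ (v + 1) * (m + 3) := by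
    have h4 : p ^ (m + 2) + p ^ (m + 1) ≤ n * (m + 3) := by omega
    calc p ^ (m + 3) + p ^ (m + 2) = p * (p ^ (m + 2) + p ^ (m + 1)) := by ring
      _ ≤ p * (n * (m + 3)) := Nat.mul_le_mul_left _ h4
      _ = n * p * (m + 3) := by ring
      _ ≤ (v + 1) * (m + 3) := Nat.mul_le_mul_right _ h1
  have hB : 4 * ((v + 1) * (m + 3)) ≤ 5 * (m + 3) ^ p + 4 * (m + 3) := by
    have h5 : v * (m + 2) + 1 ≤ (m + 3) ^ p := by simpa using hv
    have hm : 2 ≤ m := by omega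
    nlinarith
  have hbig : 4 * (m + 3) < (m + 3) ^ p := by
    calc 4 * (m + 3) < (m + 3) * (m + 3) := by nlinarith
      _ = (m + 3) ^ 2 := by ring
      _ ≤ (m + 3) ^ p := Nat.pow_le_pow_right (by omega) (by omega)
  rcases hpow with hc | ⟨hp, hc⟩
  · omega
  · subst hp
    have e1 : (3 : ℕ) ^ (m + 3) = 3 ^ (m + 2) * 3 := pow_succ _ _
    omega

end CfsgLib.FT.TypeIIINum
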