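import Cfsg.Agent.Lib.FT.NotTypeIIIGroup
import Cfsg.Agent.Lib.Char.Virtual
import Cfsg.Agent.Lib.Coprime.Action

/-!
# The characters over the regular orbits of the chief factor (types III and IV)

A linear character `l` of `P` over `C_P(D)` in a regular orbit that has no point fixed by `W` extends
to its stabiliser `T = P C_D(P)` and induces an irreducible character of `L` of degree `e * ubar`
vanishing outside `K_c`; different orbits give different characters.
-/

set_option autoImplicit false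
set_option linter.unusedSectionVars false
set_option linter.style.haveILetI false

namespace CfsgLib.FT.Regular

open Subgroup CfsgLib.Char Cfsg
open scoped ComplexConjugate

universe u

variable {L : Type u} [Group L] [Finite L] {Kc W W₂ P D : Subgroup L} {p e : ℕ}
  (h : Sect Kc W W₂ P D p e)
include h

/-- The common stabiliser in `K_c`. -/
noncomputable def Sect.stab : Subgroup L where
  carrier := {x | x ∈ Kc ∧ ∀ l ∈ secDual P D, h.act x l = l}
  one_mem' := ⟨one_mem _, fun l _ => h.act_one l⟩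
  mul_mem' := fun ⟨ha, a1⟩ ⟨hb, b1⟩ => ⟨mul_mem ha hb, fun l hl => by rw [h.act_mul, b1 l hl, a1 l hl]⟩
  inv_mem' := fun {a} ⟨ha, a1⟩ => ⟨inv_mem ha, fun l hl => by
    conv_lhs => rw [← a1 l hl]
    rw [← h.act_mul, inv_mul_cancel, h.act_one]⟩

theorem Sect.le_stab : P ≤ h.stab := fun x hx => ⟨h.le hx, fun l _ => h.act_of_mem hx l⟩

theorem Sect.stab_normal : h.stab.Normal := by
  refine ⟨fun x ⟨hx, x1⟩ g => ⟨h.like.normal.conj_mem x hx g, fun l hl => ?_⟩⟩
  rw [h.act_mul, h.act_mul, x1 _ (h.act_mem g⁻¹ hl), ← h.act_mul, mul_inv_cancel, h.act_one]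

theorem Sect.stab_decomp {x : L} (hx : x ∈ h.stab) :
    ∃ a ∈ P, ∃ b ∈ D, b ∈ centralizer (P : Set L) ∧ x = a * b := by
  obtain ⟨a, ha, b, hb, rfl⟩ := h.gen x hx.1
  exact ⟨a, ha, b, hb, (h.centralizes_dual_iff hb).1 fun l hl => by
    rw [← h.act_gen ha (b := b) l]; exact hx.2 l hl, rfl⟩

theorem Sect.relIndex_stab : h.stab.relIndex Kc = ubar P D := by
  haveI := h.stab_normal
  have hK : h.stab ⊔ D = Kc := by
    refine le_antisymm (sup_le (fun x hx => hx.1) h.leD) fun x hx => ?_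
    obtain ⟨a, ha, b, hb, rfl⟩ := h.gen x hx
    exact mul_mem (mem_sup_left (h.le_stab ha)) (mem_sup_right hb)
  have hD : h.stab ⊓ D = D ⊓ centralizer (P : Set L) := by
    ext x
    refine ⟨fun hx => ⟨hx.2, (h.centralizes_dual_iff hx.2).1 hx.1.2⟩,
      fun hx => ⟨⟨h.leD hx.1, (h.centralizes_dual_iff hx.1).2 hx.2⟩, hx.1⟩⟩
  refine (congrArg (relIndex h.stab) (hK.symm.trans (sup_comm _ _))).trans ?_
  rw [Subgroup.relIndex_sup_right, ← Subgroup.inf_relIndex_right, hD]
  rfl

theorem Sect.index_stab : h.stab.index = e * ubar P D := by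
  haveI := h.like.normal
  rw [← Subgroup.relIndex_mul_index (fun x hx => hx.1 : h.stab ≤ Kc), h.relIndex_stab,
    h.like.index_K, h.cardW, mul_comm]

theorem Sect.disj_PD {x : L} (hx : x ∈ P) (hx' : x ∈ D) : x = 1 := by
  haveI := Fact.mk h.primeP
  obtain ⟨k, hk⟩ := (IsPGroup.iff_orderOf.1 h.pgroup) ⟨x, hx⟩
  rw [Subgroup.orderOf_mk] at hk
  rcases Nat.eq_zero_or_pos k with h0 | h0
  · rwa [h0, pow_zero, orderOf_eq_one_iff] at hk
  · refine absurd ((dvd_pow_self p h0.ne').trans ?_) h.copD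
    exact hk ▸ Subgroup.orderOf_dvd_natCard D hx'

/-- A linear character of `P` extends to the common stabiliser. -/
theorem Sect.exists_ext (l : ↥P →* ℂˣ) :
    ∃ L' : ↥h.stab →* ℂˣ, (∀ y : P, L' ⟨y, h.le_stab y.2⟩ = l y) ∧
      ∀ x : h.stab, (x : L) ∈ D → L' x = 1 := by
  choose a ha b hb hbc hab using fun x : h.stab => h.stab_decomp x.2
  have huniq : ∀ (x : h.stab) (a' b' : L), a' ∈ P → b' ∈ D → (x : L) = a' * b' → a' = a x := by
    intro x a' b' ha' hb' e'
    rw [hab x] at e'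
    have e1 : (a')⁻¹ * a x = b' * (b x)⁻¹ := by
      rw [eq_mul_inv_iff_mul_eq, mul_assoc, e', inv_mul_cancel_left]
    exact inv_mul_eq_one.1 (h.disj_PD (mul_mem (inv_mem ha') (ha x))
      (e1 ▸ mul_mem hb' (inv_mem (hb x))))
  refine ⟨{ toFun := fun x => l ⟨a x, ha x⟩, map_one' := ?_, map_mul' := fun x y => ?_ }, fun y => ?_,
    fun x hx => ?_⟩
  · rw [show (⟨a 1, ha 1⟩ : P) = 1 from
      Subtype.ext (huniq 1 1 1 (one_mem _) (one_mem _) (by simp)).symm, map_one]
  · rw [← map_mul]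
    congr 1
    refine Subtype.ext (huniq (x * y) (a x * a y) (b x * b y) (mul_mem (ha x) (ha y))
      (mul_mem (hb x) (hb y)) ?_).symm
    rw [Subgroup.coe_mul, hab x, hab y]
    have := mem_centralizer_iff.1 (hbc x) (a y) (ha y)
    rw [mul_assoc (a x) (b x), ← mul_assoc (b x), ← this]
    group
  · show l ⟨a _, ha _⟩ = l y
    congr 1
    exact Subtype.ext (huniq ⟨y, h.le_stab y.2⟩ y 1 y.2 (one_mem _) (by simp)).symm
  · show l ⟨a x, ha x⟩ = 1
    rw [show (⟨a x, ha x⟩ : P) = 1 from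
      Subtype.ext (huniq x 1 x (one_mem _) hx (by simp)).symm, map_one]

/-- A regular character whose `K_c`-orbit has no point fixed by `W` has stabiliser `T` in `L`. -/
theorem Sect.mem_stab_of_fix (hu : ubar P D ≡ 1 [MOD e]) {l : ↥P →* ℂˣ} (hl : l ∈ h.regular)
    (hE : ∀ k ∈ Kc, ∃ c ∈ W, h.act (c * k) l ≠ h.act k l) {x : L} (hx : h.act x l = l) :
    x ∈ h.stab := by
  classical
  haveI := h.like.normal
  haveI := Fact.mk h.primeE
  obtain ⟨k, hk, c, hc, rfl⟩ := h.like.exists_factor x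
  rcases eq_or_ne c 1 with rfl | hc1
  · rw [mul_one] at hx ⊢
    exact ⟨hk, hl.2.2 k hk hx⟩
  exfalso
  -- `c` permutes the orbit, of size prime to `e`
  haveI : Finite (↥P →* ℂˣ) := finite_dual
  let O : Set (↥P →* ℂˣ) := (fun y => h.act y l) '' (Kc : Set L)
  have hcl : h.act c l ∈ O := by
    refine ⟨k⁻¹, inv_mem hk, ?_⟩
    show h.act k⁻¹ l = h.act c l
    rw [show h.act k⁻¹ l = h.act k⁻¹ (h.act (k * c) l) by rw [hx], ← h.act_mul, inv_mul_cancel_left]
  have hcO : ∀ m ∈ O, h.act c m ∈ O := by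
    rintro _ ⟨y, hy, rfl⟩
    obtain ⟨z, hz, hzl⟩ := hcl
    refine ⟨c * y * c⁻¹ * z, mul_mem (h.like.normal.conj_mem y hy c) hz, ?_⟩
    show h.act (c * y * c⁻¹ * z) l = _
    rw [h.act_mul, show h.act z l = h.act c l from hzl, ← h.act_mul, ← h.act_mul, inv_mul_cancel_right]
  have hcard : Nat.card O = ubar P D := by
    rw [← h.relIndex_stab, relIndex, index]
    symm
    refine Nat.card_eq_of_bijective (fun q : ↥Kc ⧸ h.stab.subgroupOf Kc =>
      Quotient.liftOn' q (fun y => (⟨h.act y l, y, y.2, rfl⟩ : O)) fun y z hyz => ?_)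
      ⟨fun q r hqr => ?_, fun ⟨m, y, hy, hm⟩ => ⟨QuotientGroup.mk ⟨y, hy⟩, Subtype.ext hm⟩⟩
    · rw [QuotientGroup.leftRel_apply, Subgroup.mem_subgroupOf, Subgroup.coe_mul, Subgroup.coe_inv] at hyz
      refine Subtype.ext ?_
      show h.act y l = h.act z l
      conv_lhs => rw [← hyz.2 l hl.1]
      rw [← h.act_mul, mul_inv_cancel_left]
    · obtain ⟨y, rfl⟩ := QuotientGroup.mk_surjective q
      obtain ⟨z, rfl⟩ := QuotientGroup.mk_surjective r
      have he : h.act y l = h.act z l := congrArg Subtype.val hqr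
      rw [QuotientGroup.eq, Subgroup.mem_subgroupOf]
      refine ⟨(y⁻¹ * z).2, fun m hm => hl.2.2 _ (y⁻¹ * z).2 ?_ m hm⟩
      rw [Subgroup.coe_mul, Subgroup.coe_inv, h.act_mul, ← he, ← h.act_mul, inv_mul_cancel, h.act_one]
  have hce : c ^ e = 1 := by
    rw [← h.cardW]
    exact congrArg Subtype.val (pow_card_eq_one' (G := W) (x := ⟨c, hc⟩))
  have hord : orderOf c = e := orderOf_eq_prime hce hc1
  let f : O → O := fun m => ⟨h.act c m, hcO m m.2⟩
  have hf : Function.Bijective f := Finite.injective_iff_bijective.1 fun a b e1 => Subtype.ext (by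
    have := congrArg (fun m : O => h.act c⁻¹ m) e1
    simpa [f, ← h.act_mul, h.act_one] using this)
  let σ : Equiv.Perm O := Equiv.ofBijective f hf
  have hpow : ∀ (n : ℕ) (m : O), (((σ ^ n) m : O) : ↥P →* ℂˣ) = h.act (c ^ n) m := by
    intro n m
    induction n with
    | zero => simp [h.act_one]
    | succ n ih =>
      rw [pow_succ', Equiv.Perm.mul_apply, pow_succ', h.act_mul, ← ih]
      rfl
  haveI : Fintype O := Fintype.ofFinite _
  have hnd : ¬ e ∣ Fintype.card O := fun hd => by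
    rw [← Nat.card_eq_fintype_card, hcard] at hd
    exact h.primeE.not_dvd_one ((Nat.ModEq.dvd_iff hu dvd_rfl).1 hd)
  obtain ⟨⟨m, y, hy, hym⟩, hfix⟩ := Equiv.Perm.exists_fixed_point_of_prime (p := e) (n := 1) hnd
    (σ := σ) (Equiv.ext fun m => Subtype.ext (by rw [pow_one, hpow, hce, h.act_one]; rfl))
  have hcm : h.act c m = m := congrArg Subtype.val hfix
  obtain ⟨d, hd, hdne⟩ := hE y hy
  refine hdne ?_
  have hW : zpowers c = W := Subgroup.eq_of_le_of_card_ge (zpowers_le.2 hc) (le_of_eq (by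
    rw [Nat.card_zpowers, hord, h.cardW]))
  obtain ⟨n, hn⟩ := (isOfFinOrder_of_finite c).mem_powers_iff_mem_zpowers.2 (hW.ge hd)
  have hn' : c ^ n = d := hn
  rw [h.act_mul, show h.act y l = m from hym, ← hn']
  clear hn hn'
  induction n with
  | zero => rw [pow_zero, h.act_one]
  | succ n ih => rw [pow_succ', h.act_mul, ih, hcm]

/-- At most `p - 1` non-trivial characters over `C_P(D)` are fixed by `W`. -/
theorem Sect.card_fixed_le :
    Nat.card {l : ↥P →* ℂˣ | l ∈ secDual P D ∧ l ≠ 1 ∧ ∀ c ∈ W, h.act c l = l} ≤ p - 1 := by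
  classical
  haveI := Fact.mk h.primeP
  haveI : Finite (↥P →* ℂˣ) := finite_dual
  haveI : Finite (↥W₂ →* ℂˣ) := finite_dual
  have key : ∀ l : ↥P →* ℂˣ, (∀ c ∈ W, h.act c l = l) →
      (∀ y : W₂, l ⟨y, h.fix y.2⟩ = 1) → l = 1 := by
    intro l hfix hres
    let N : Subgroup L := l.ker.map P.subtype
    have hNP : N ≤ P := Subgroup.map_subtype_le _
    have hmem : ∀ y (hy : y ∈ P), y ∈ N ↔ l ⟨y, hy⟩ = 1 := fun y hy =>
      ⟨fun ⟨z, hz, hzy⟩ => by rwa [show (⟨y, hy⟩ : P) = z from Subtype.ext hzy.symm],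
        fun h1 => ⟨⟨y, hy⟩, h1, rfl⟩⟩
    have hinv : ∀ c ∈ W, ∀ y (hy : y ∈ P), l ⟨c * y * c⁻¹, h.normal.conj_mem y hy c⟩ = l ⟨y, hy⟩ := by
      intro c hc y hy
      have := DFunLike.congr_fun (hfix c hc) ⟨c * y * c⁻¹, h.normal.conj_mem y hy c⟩
      rw [h.act_apply] at this
      rw [← this]
      congr 1
      exact Subtype.ext (show c⁻¹ * (c * y * c⁻¹) * c = y by group)
    have hWN : W ≤ normalizer (N : Set L) := fun c hc => mem_normalizer_iff.2 fun y => by
      constructor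
      · intro hy
        rw [hmem _ (h.normal.conj_mem y (hNP hy) c), hinv c hc y (hNP hy), ← hmem]
        exact hy
      · intro hy
        have hy' : y ∈ P := by
          simpa [mul_assoc] using h.normal.conj_mem _ (hNP hy) c⁻¹
        rw [hmem _ hy', ← hinv c hc y hy', ← hmem]
        exact hy
    refine MonoidHom.ext fun y => ?_
    have hcop : (Nat.card W).Coprime (Nat.card N) :=
      h.like.coprime_card.coprime_dvd_right (card_dvd_of_le (hNP.trans h.le))
    haveI : IsCyclic W := isCyclic_of_prime_card (p := e) h.cardW (hp := ⟨h.primeE⟩)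
    obtain ⟨n, hn, hyn⟩ := CfsgLib.Coprime.exists_fixed_in_coset hWN hcop
      (Or.inl inferInstance) (k := (y : L))
      (mem_normalizer_iff.2 fun z => by
        constructor
        · intro hz
          rw [hmem _ (mul_mem (mul_mem y.2 (hNP hz)) (inv_mem y.2))]
          rw [show (⟨(y : L) * z * (y : L)⁻¹, _⟩ : P) = y * ⟨z, hNP hz⟩ * y⁻¹ from Subtype.ext rfl,
            map_mul, map_mul, (hmem z (hNP hz)).1 hz, mul_one, map_inv, mul_inv_cancel]
        · intro hz
          have hz' : z ∈ P := by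
            simpa [mul_assoc] using mul_mem (mul_mem (inv_mem y.2) (hNP hz)) y.2
          rw [hmem z hz']
          have := (hmem _ (hNP hz)).1 hz
          rwa [show (⟨(y : L) * z * (y : L)⁻¹, _⟩ : P) = y * ⟨z, hz'⟩ * y⁻¹ from Subtype.ext rfl,
            map_mul, map_mul, map_inv, mul_right_comm, mul_inv_cancel, one_mul] at this)
      fun c hc => by
        rw [hmem _ (mul_mem (h.normal.conj_mem _ y.2 c) (inv_mem y.2)),
          show (⟨c * (y : L) * c⁻¹ * (y : L)⁻¹, _⟩ : P) =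
            ⟨c * y * c⁻¹, h.normal.conj_mem _ y.2 c⟩ * y⁻¹ from Subtype.ext rfl,
          map_mul, hinv c hc y y.2, map_inv, mul_inv_cancel]
    have hP : (y : L) * n ∈ P := mul_mem y.2 (hNP hn)
    obtain ⟨c, hc, hc1⟩ := (Subgroup.bot_or_exists_ne_one W).resolve_left h.like.ne₁
    have hW₂ : (y : L) * n ∈ W₂ := by
      rw [← h.like.cent c hc hc1]
      exact ⟨h.le hP, mem_centralizer_singleton_iff.2 (mem_centralizer_iff.1 hyn c hc).symm⟩
    have h1 := hres ⟨_, hW₂⟩
    rwa [show (⟨(y : L) * n, _⟩ : P) = y * ⟨n, hNP hn⟩ from Subtype.ext rfl, map_mul,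
      (hmem n (hNP hn)).1 hn, mul_one] at h1
  haveI : IsCyclic W₂ := isCyclic_of_prime_card (p := p) h.cardW₂
  letI : CommGroup W₂ := IsCyclic.commGroup
  have hcard : Nat.card (↥W₂ →* ℂˣ) = p :=
    (CommGroup.card_monoidHom_of_hasEnoughRootsOfUnity W₂ ℂ).trans h.cardW₂
  haveI := Fintype.ofFinite (↥W₂ →* ℂˣ)
  calc _ ≤ Nat.card {r : ↥W₂ →* ℂˣ // r ≠ 1} := ?_
    _ = p - 1 := by
      rw [Nat.card_eq_fintype_card, Fintype.card_subtype_compl, Fintype.card_subtype_eq,
        ← Nat.card_eq_fintype_card, hcard]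
  refine Nat.card_le_card_of_injective (fun l => ⟨l.1.comp (Subgroup.inclusion h.fix),
    fun e1 => l.2.2.1 (key l.1 l.2.2.2 fun y => DFunLike.congr_fun e1 y)⟩) fun l l' e1 => ?_
  have e2 := congrArg Subtype.val e1
  refine Subtype.ext (mul_inv_eq_one.1 (key _ (fun c hc => ?_) fun y => ?_))
  · refine MonoidHom.ext fun y => ?_
    have a1 := DFunLike.congr_fun (l.2.2.2 c hc) y
    have a2 := DFunLike.congr_fun (l'.2.2.2 c hc) y
    rw [h.act_apply] at a1 a2
    rw [h.act_apply]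
    simp [a1, a2]
  · show (l.1 _) * (l'.1 _)⁻¹ = 1
    rw [mul_inv_eq_one]
    exact DFunLike.congr_fun e2 y

/-- The characters over the regular orbits. -/
theorem Sect.exists_regular_chars (hu : ubar P D ≡ 1 [MOD e]) :
    ∃ (m : ℕ) (φ : Fin m → L → ℂ), Function.Injective φ ∧
      (∀ k, IsIrrCharacter L (φ k) ∧ φ k 1 = ((e * ubar P D : ℕ) : ℂ) ∧ ∀ x, x ∉ Kc → φ k x = 0) ∧
      Nat.card h.regular ≤ ubar P D * ((p - 1) + e * m) := by
  classical
  haveI : Fintype L := Fintype.ofFinite _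
  haveI : Fintype P := Fintype.ofFinite _
  haveI : Fintype h.stab := Fintype.ofFinite _
  haveI := h.like.normal
  haveI := h.stab_normal
  haveI := h.normal
  haveI : Finite (↥P →* ℂˣ) := finite_dual
  let R : Set (↥P →* ℂˣ) := {l | l ∈ h.regular ∧ ∀ k ∈ Kc, ∃ c ∈ W, h.act (c * k) l ≠ h.act k l}
  let s : Setoid R :=
    { r := fun l l' => ∃ x : L, h.act x l.1 = l'.1
      iseqv := ⟨fun l => ⟨1, h.act_one _⟩,
        fun {a b} ⟨x, hx⟩ => ⟨x⁻¹, by rw [← hx, ← h.act_mul, inv_mul_cancel, h.act_one]⟩,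
        fun {a b c} ⟨x, hx⟩ ⟨y, hy⟩ => ⟨y * x, by rw [h.act_mul, hx, hy]⟩⟩ }
  let m := Nat.card (Quotient s)
  obtain ⟨eq⟩ : Nonempty (Fin m ≃ Quotient s) := ⟨(Finite.equivFin (Quotient s)).symm⟩
  choose ext hext hextD using fun l : ↥P →* ℂˣ => h.exists_ext l
  let Φ : R → L → ℂ := fun l => indFun h.stab (lc (ext l.1))
  -- restriction to `P`
  have hres : ∀ (l : R) (y : P), Φ l (y : L) =
      (Nat.card h.stab : ℂ)⁻¹ * ∑ x : L, lc (h.act x⁻¹ l.1) y := by
    intro l y
    have := indFun_normal_mem h.stab (lc (ext l.1)) ⟨y, h.le_stab y.2⟩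
    refine this.trans (congrArg _ (Finset.sum_congr rfl fun x _ => ?_))
    have e1 := hext l.1 ⟨x * y * x⁻¹, h.normal.conj_mem y y.2 x⟩
    simp only [lc_apply]
    refine (congrArg Units.val e1).trans ?_
    rw [h.act_apply]
    simp
  have hinner : ∀ l l' : R, classInner (fun y : P => Φ l (y : L)) (lc l'.1) =
      (Nat.card h.stab : ℂ)⁻¹ * (Nat.card {x : L // h.act x⁻¹ l.1 = l'.1} : ℂ) := by
    intro l l'
    have : (fun y : P => Φ l (y : L)) = (Nat.card h.stab : ℂ)⁻¹ • ∑ x : L, lc (h.act x⁻¹ l.1) := by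
      funext y
      rw [hres]
      simp
    rw [this, classInner_smul_left, classInner_sum_left]
    simp only [classInner_lc, Finset.sum_boole]
    rw [Nat.card_eq_fintype_card (α := {x : L // h.act x⁻¹ l.1 = l'.1}), Fintype.card_subtype]
  have hirr : ∀ l : R, IsIrrCharacter L (Φ l) := by
    intro l
    have hc : IsCharacter L (Φ l) :=
      isCharacter_indFun h.stab (isCharacter_of_isIrr (isIrrCharacter_lc _))
    refine isIrr_of_isCharacter_norm_one hc ?_
    show classInner (indFun h.stab _) _ = 1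
    rw [classInner_indFun h.stab _ _ (isClassFunction_of_isCharacter hc)]
    have hval : (fun t : h.stab => Φ l (t : L)) = (Nat.card h.stab : ℂ)⁻¹ •
        ∑ x : L, lc ((ext l.1).comp (MulAut.conjNormal x : MulAut h.stab).toMonoidHom) := by
      funext t
      show indFun h.stab _ _ = _
      rw [indFun_normal_mem]
      simp only [Pi.smul_apply, Finset.sum_apply, smul_eq_mul, lc_apply]
      refine congrArg _ (Finset.sum_congr rfl fun x _ => ?_)
      show ((ext l.1) _ : ℂ) = ((ext l.1) ((MulAut.conjNormal x : MulAut h.stab) t) : ℂ)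
      exact congrArg (fun z => ((ext l.1) z : ℂ)) (Subtype.ext (MulAut.conjNormal_apply x t).symm)
    rw [hval, classInner_smul_right, classInner_sum_right]
    simp only [classInner_lc, Finset.sum_boole]
    have hset : ∀ x : L, ext l.1 = (ext l.1).comp (MulAut.conjNormal x : MulAut h.stab).toMonoidHom ↔
        x ∈ h.stab := by
      intro x
      refine ⟨fun e1 => ?_, fun hx => ?_⟩
      · have hfix : h.act x⁻¹ l.1 = l.1 := by
          refine MonoidHom.ext fun y => ?_
          have e2 := DFunLike.congr_fun e1 ⟨y, h.le_stab y.2⟩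
          rw [hext l.1 y] at e2
          rw [h.act_apply, ← hext l.1]
          refine (e2.trans ?_).symm
          show ext l.1 ((MulAut.conjNormal x : MulAut h.stab) _) = _
          congr 1
          exact Subtype.ext (by rw [MulAut.conjNormal_apply]; simp)
        have := h.mem_stab_of_fix hu l.2.1 l.2.2 hfix
        simpa using inv_mem this
      · refine MonoidHom.ext fun t => ?_
        show ext l.1 t = ext l.1 ((MulAut.conjNormal x : MulAut h.stab) t)
        rw [show (MulAut.conjNormal x : MulAut h.stab) t = ⟨x, hx⟩ * t * ⟨x, hx⟩⁻¹ from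
          Subtype.ext (MulAut.conjNormal_apply x t), map_mul, map_mul, map_inv, mul_inv_cancel_comm]
    rw [show (Finset.univ.filter fun x : L =>
        ext l.1 = (ext l.1).comp (MulAut.conjNormal x : MulAut h.stab).toMonoidHom).card = Nat.card h.stab by
      rw [Nat.card_eq_fintype_card, ← Fintype.card_subtype]
      exact Fintype.card_congr (Equiv.subtypeEquivRight hset)]
    rw [map_inv₀, map_natCast]
    exact inv_mul_cancel₀ (by exact_mod_cast Nat.card_pos.ne')
  refine ⟨m, fun k => Φ (eq k).out, fun k k' e1 => ?_, fun k => ⟨hirr _, ?_, fun x hx => ?_⟩, ?_⟩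
  · refine eq.injective ?_
    rw [← Quotient.out_eq (eq k), ← Quotient.out_eq (eq k')]
    refine Quotient.sound ?_
    have h1 := hinner (eq k).out (eq k').out
    rw [show Φ (eq k).out = Φ (eq k').out from e1, hinner] at h1
    have h2 := mul_left_cancel₀ (inv_ne_zero (by exact_mod_cast Nat.card_pos.ne')) h1
    have h3 : 0 < Nat.card {x : L // h.act x⁻¹ (eq k').out.1 = (eq k').out.1} :=
      Nat.card_pos_iff.2 ⟨⟨⟨1, by rw [inv_one, h.act_one]⟩⟩, inferInstance⟩
    rw [Nat.cast_inj] at h2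
    rw [h2] at h3
    obtain ⟨⟨x, hx⟩⟩ := (Nat.card_pos_iff.1 h3).1
    exact ⟨x⁻¹, hx⟩
  · show indFun h.stab _ 1 = _
    rw [indFun_one, h.index_stab]
    simp [lc]
  · exact indFun_normal_not_mem h.stab _ fun hx' => hx hx'.1
  · -- counting
    let F : Set (↥P →* ℂˣ) := {l | l ∈ secDual P D ∧ l ≠ 1 ∧ ∀ c ∈ W, h.act c l = l}
    have hsub : h.regular ⊆ R ∪ ⋃ f ∈ F, Set.range fun q : ↥Kc ⧸ h.stab.subgroupOf Kc => h.act (q.out : L) f := by
      intro l hl
      by_cases hR : l ∈ R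
      · exact Or.inl hR
      refine Or.inr ?_
      obtain ⟨k, hk, hfix⟩ : ∃ k ∈ Kc, ∀ c ∈ W, h.act (c * k) l = h.act k l := by
        by_contra hc
        push Not at hc
        exact hR ⟨hl, hc⟩
      have hfd : h.act k l ∈ secDual P D := h.act_mem k hl.1
      refine Set.mem_biUnion (x := h.act k l) ⟨hfd, fun e1 => hl.2.1 ?_, fun c hc => by
        rw [← h.act_mul]; exact hfix c hc⟩ ⟨QuotientGroup.mk ⟨k⁻¹, inv_mem hk⟩, ?_⟩
      · have := congrArg (h.act k⁻¹) e1
        rwa [← h.act_mul, inv_mul_cancel, h.act_one, h.act_map_one] at this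
      · set q := (QuotientGroup.mk (⟨k⁻¹, inv_mem hk⟩ : Kc) : ↥Kc ⧸ h.stab.subgroupOf Kc).out
        have hq : ((q⁻¹ * ⟨k⁻¹, inv_mem hk⟩ : Kc) : L) ∈ h.stab :=
          Subgroup.mem_subgroupOf.1 (QuotientGroup.eq.1 (QuotientGroup.out_eq' _))
        show h.act (q : L) (h.act k l) = l
        conv_lhs => rw [← hq.2 _ hfd]
        rw [← h.act_mul, ← h.act_mul, Subgroup.coe_mul, Subgroup.coe_inv, mul_inv_cancel_left,
          inv_mul_cancel, h.act_one]
    have hR : R.ncard ≤ m * (e * ubar P D) := by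
      rw [← Nat.card_coe_set_eq, ← h.index_stab, Subgroup.index, ← Nat.card_prod]
      refine Nat.card_le_card_of_surjective (fun z : Quotient s × (L ⧸ h.stab) =>
        if hz : h.act (z.2.out : L) (z.1.out).1 ∈ R then (⟨_, hz⟩ : R) else z.1.out) fun l => ?_
      obtain ⟨x, hx⟩ : ∃ x : L, h.act x (Quotient.mk s l).out.1 = l.1 := Quotient.mk_out (s := s) l
      refine ⟨(Quotient.mk s l, (x : L ⧸ h.stab)), ?_⟩
      have hfd : (Quotient.mk s l).out.1 ∈ secDual P D := (Quotient.mk s l).out.2.1.1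
      have hq : ((x : L ⧸ h.stab).out)⁻¹ * x ∈ h.stab := QuotientGroup.eq.1 (QuotientGroup.out_eq' _)
      have he : h.act ((x : L ⧸ h.stab).out) (Quotient.mk s l).out.1 = l.1 := by
        conv_lhs => rw [← hq.2 _ hfd]
        rw [← h.act_mul, mul_inv_cancel_left, hx]
      dsimp only
      rw [dif_pos (he ▸ l.2)]
      exact Subtype.ext he
    have hF : (⋃ f ∈ F, Set.range fun q : ↥Kc ⧸ h.stab.subgroupOf Kc => h.act (q.out : L) f).ncard ≤
        (p - 1) * ubar P D := by
      refine le_trans ?_ (Nat.mul_le_mul_right _ h.card_fixed_le)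
      rw [← h.relIndex_stab, relIndex, index, ← Nat.card_prod, ← Nat.card_coe_set_eq]
      refine Nat.card_le_card_of_surjective (fun z : F × (↥Kc ⧸ h.stab.subgroupOf Kc) =>
        ⟨h.act (z.2.out : L) z.1.1, Set.mem_biUnion z.1.2 ⟨z.2, rfl⟩⟩) fun ⟨l, hl⟩ => ?_
      simp only [Set.mem_iUnion, Set.mem_range] at hl
      obtain ⟨f, hf, q, hq⟩ := hl
      exact ⟨(⟨f, hf⟩, q), Subtype.ext hq⟩
    rw [Nat.card_coe_set_eq]
    refine (Set.ncard_le_ncard hsub (Set.toFinite _)).trans ((Set.ncard_union_le _ _).trans ?_)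
    refine (Nat.add_le_add hR hF).trans (le_of_eq ?_)
    ring

/-- Either `ubar` is full or there are many characters of degree `e * ubar`. -/
theorem Sect.full_or_chars :
    ubar P D = ∑ i ∈ Finset.range e, p ^ i ∨
      ∃ (m : ℕ) (φ : Fin m → L → ℂ), Function.Injective φ ∧
        (∀ k, IsIrrCharacter L (φ k) ∧ φ k 1 = ((e * ubar P D : ℕ) : ℂ) ∧ ∀ x, x ∉ Kc → φ k x = 0) ∧
        3 * (p - 1) ≤ (p - 1) + e * m := by
  obtain ⟨hodd, hmod, -, -, hcase, -⟩ := h.ubar_facts
  refine hcase.imp id fun hmany => ?_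
  obtain ⟨m, φ, hinj, hφ, hcard⟩ := h.exists_regular_chars hmod
  refine ⟨m, φ, hinj, hφ, ?_⟩
  exact Nat.le_of_mul_le_mul_left ((le_of_eq (mul_comm _ _)).trans (hmany.trans hcard)) hodd.pos

end CfsgLib.FT.Regular
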