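import Cfsg.Agent.Lib.FT.NotTypeIIIModule
import Cfsg.Agent.Lib.Char.TypePLike
import Mathlib.GroupTheory.FiniteAbelian.Duality
import Mathlib.Analysis.Complex.Polynomial.Basic
import Mathlib.RingTheory.RootsOfUnity.AlgebraicallyClosed
import Mathlib.GroupTheory.Perm.Cycle.Type
import Mathlib.Algebra.Module.ZMod

/-!
# The chief factor `P / C_P(D)` of a maximal subgroup of type III or IV

Abstract in a finite group `L = K_c ⋊ W` with `K_c = P D` (see `Sect`).  `ubar = |D : C_D(P)|` is odd,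
`≡ 1 (mod e)` and at most `|K_c : K_c'|`; it is the full `1 + p + ... + p ^ (e - 1)`, or the linear
characters of `P` over `C_P(D)` have many regular orbits.
-/

set_option autoImplicit false
set_option linter.unusedSectionVars false
set_option linter.style.haveILetI false

namespace CfsgLib.FT.Regular

open Subgroup CfsgLib.Char
open scoped commutatorElement

universe u

variable {L : Type u} [Group L] [Finite L]

/-- The data. -/
structure Sect (Kc W W₂ P D : Subgroup L) (p e : ℕ) : Prop where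
  like : TypePLike Kc W W₂
  odd : Odd (Nat.card L)
  primeP : p.Prime
  primeE : e.Prime
  cardW : Nat.card W = e
  cardW₂ : Nat.card W₂ = p
  normal : P.Normal
  pgroup : IsPGroup p P
  le : P ≤ Kc
  leD : D ≤ Kc
  gen : ∀ x ∈ Kc, ∃ a ∈ P, ∃ b ∈ D, x = a * b
  invD : W ≤ normalizer (D : Set L)
  copD : ¬ p ∣ Nat.card D
  fix : W₂ ≤ P
  normal₀ : (P ⊓ centralizer (D : Set L)).Normal
  pow : ∀ a ∈ P, a ^ p ∈ P ⊓ centralizer (D : Set L)
  comm : ∀ a ∈ P, ∀ b ∈ P, a * b * a⁻¹ * b⁻¹ ∈ P ⊓ centralizer (D : Set L)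
  card : Nat.card P = Nat.card ↥(P ⊓ centralizer (D : Set L)) * p ^ e
  inf : W₂ ⊓ (P ⊓ centralizer (D : Set L)) = ⊥
  der : ⁅D, D⁆ ≤ centralizer (P : Set L)
  ne : ¬ D ≤ centralizer (P : Set L)
  minimal : ∀ N : Subgroup L, N.Normal → P ⊓ centralizer (D : Set L) ≤ N → N ≤ P →
    N = P ⊓ centralizer (D : Set L) ∨ N = P

/-- `C_P(D)` -/
abbrev pZero (P D : Subgroup L) : Subgroup L := P ⊓ centralizer (D : Set L)

/-- The linear characters of `P` over `C_P(D)`. -/
abbrev secDual (P D : Subgroup L) : Subgroup (↥P →* ℂˣ) := trivOn P (pZero P D)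

/-- `|D : C_D(P)|` -/
noncomputable def ubar (P D : Subgroup L) : ℕ := (D ⊓ centralizer (P : Set L)).relIndex D

variable {Kc W W₂ P D : Subgroup L} {p e : ℕ} (h : Sect Kc W W₂ P D p e)
include h

/-- Conjugation of a linear character. -/
noncomputable def Sect.act (x : L) (l : ↥P →* ℂˣ) : ↥P →* ℂˣ :=
  haveI := h.normal
  l.comp (MulAut.conjNormal x⁻¹ : MulAut P).toMonoidHom

theorem Sect.act_apply (x : L) (l : ↥P →* ℂˣ) (y : P) :
    h.act x l y = l ⟨x⁻¹ * y * x, by simpa using h.normal.conj_mem _ y.2 x⁻¹⟩ := by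
  haveI := h.normal
  show l ((MulAut.conjNormal x⁻¹ : MulAut P) y) = _
  congr 1
  exact Subtype.ext (by rw [MulAut.conjNormal_apply]; simp)

theorem Sect.act_mul (x y : L) (l : ↥P →* ℂˣ) : h.act (x * y) l = h.act x (h.act y l) := by
  refine MonoidHom.ext fun z => ?_
  simp only [h.act_apply]
  congr 2
  simp [mul_assoc]

theorem Sect.act_one (l : ↥P →* ℂˣ) : h.act 1 l = l := by
  refine MonoidHom.ext fun z => ?_
  simp [h.act_apply]

theorem Sect.act_map_mul (x : L) (l l' : ↥P →* ℂˣ) : h.act x (l * l') = h.act x l * h.act x l' :=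
  MonoidHom.ext fun z => by simp [h.act_apply]

theorem Sect.act_map_one (x : L) : h.act x (1 : ↥P →* ℂˣ) = 1 :=
  MonoidHom.ext fun z => by simp [h.act_apply]

theorem Sect.act_mem (x : L) {l : ↥P →* ℂˣ} (hl : l ∈ secDual P D) : h.act x l ∈ secDual P D := by
  intro y hy
  rw [h.act_apply]
  exact hl _ (by simpa using h.normal₀.conj_mem _ hy x⁻¹)

theorem Sect.act_of_mem {x : L} (hx : x ∈ P) (l : ↥P →* ℂˣ) : h.act x l = l := by
  refine MonoidHom.ext fun y => ?_
  rw [h.act_apply, show (⟨x⁻¹ * y * x, _⟩ : P) = (⟨x, hx⟩ : P)⁻¹ * y * ⟨x, hx⟩ from Subtype.ext rfl,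
    map_mul, map_mul, map_inv, inv_mul_cancel_comm]

theorem Sect.dual_pow {l : ↥P →* ℂˣ} (hl : l ∈ secDual P D) : l ^ p = 1 := by
  refine MonoidHom.ext fun y => ?_
  rw [MonoidHom.pow_apply, ← map_pow]
  exact hl _ (by simpa using h.pow y y.2)

theorem Sect.fpf_D {c : L} (hc : c ∈ W) (hc1 : c ≠ 1) {x : L} (hx : x ∈ D) (hcx : c * x = x * c) :
    x = 1 := by
  haveI := Fact.mk h.primeP
  have hxP : x ∈ P := h.fix (by
    rw [← h.like.cent c hc hc1]
    exact ⟨h.leD hx, mem_centralizer_singleton_iff.2 hcx.symm⟩)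
  obtain ⟨k, hk⟩ := (IsPGroup.iff_orderOf.1 h.pgroup) ⟨x, hxP⟩
  rw [Subgroup.orderOf_mk] at hk
  rcases Nat.eq_zero_or_pos k with h0 | h0
  · rwa [h0, pow_zero, orderOf_eq_one_iff] at hk
  · refine absurd ((dvd_pow_self p h0.ne').trans ?_) h.copD
    exact hk ▸ Subgroup.orderOf_dvd_natCard D hx

/-- An element of `D` centralises `P` when it is trivial on `P / C_P(D)`. -/
theorem Sect.mem_centralizer_of_trivial {c : L} (hc : c ∈ D)
    (htriv : ∀ y ∈ P, c * y * c⁻¹ * y⁻¹ ∈ pZero P D) : c ∈ centralizer (P : Set L) := by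
  haveI := Fact.mk h.primeP
  refine mem_centralizer_iff.2 fun y hy => ?_
  set z := c * y * c⁻¹ * y⁻¹ with hz
  have hzc : c * z = z * c := mem_centralizer_iff.1 (htriv y hy).2 c hc
  have hn : ∀ n : ℕ, c ^ n * y * (c ^ n)⁻¹ = z ^ n * y := by
    intro n
    induction n with
    | zero => simp
    | succ n ih =>
      rw [show c ^ (n + 1) * y * (c ^ (n + 1))⁻¹ = c * (c ^ n * y * (c ^ n)⁻¹) * c⁻¹ by
        rw [pow_succ']; group, ih,
        show c * (z ^ n * y) * c⁻¹ = (c * z ^ n * c⁻¹) * (c * y * c⁻¹) by group,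
        (show Commute c z from hzc).pow_right n, mul_inv_cancel_right,
        show c * y * c⁻¹ = z * y by rw [hz]; group, ← mul_assoc, ← pow_succ]
  have h1 : z ^ orderOf c = 1 := by
    have := hn (orderOf c)
    rw [pow_orderOf_eq_one, one_mul, inv_one, mul_one] at this
    exact mul_eq_right.1 this.symm
  obtain ⟨k, hk⟩ := (IsPGroup.iff_orderOf.1 h.pgroup) ⟨z, (htriv y hy).1⟩
  rw [Subgroup.orderOf_mk] at hk
  have hz1 : z = 1 := by
    rcases Nat.eq_zero_or_pos k with h0 | h0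
    · rwa [h0, pow_zero, orderOf_eq_one_iff] at hk
    · refine absurd ((dvd_pow_self p h0.ne').trans ?_) h.copD
      rw [← hk]
      exact (orderOf_dvd_of_pow_eq_one h1).trans (Subgroup.orderOf_dvd_natCard D hc)
  have h2 : c * y * c⁻¹ * y⁻¹ = 1 := hz1
  have h3 : c * y * c⁻¹ = y := mul_inv_eq_one.1 h2
  conv_lhs => rw [← h3]
  group

/-- `P / C_P(D)` with its commutative structure. -/
theorem Sect.quot_comm :
    haveI : ((pZero P D).subgroupOf P).Normal := h.normal₀.subgroupOf P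
    ∀ a b : ↥P ⧸ (pZero P D).subgroupOf P, a * b = b * a := by
  haveI : ((pZero P D).subgroupOf P).Normal := h.normal₀.subgroupOf P
  intro a b
  obtain ⟨a, rfl⟩ := QuotientGroup.mk_surjective a
  obtain ⟨b, rfl⟩ := QuotientGroup.mk_surjective b
  rw [← QuotientGroup.mk_mul, ← QuotientGroup.mk_mul, QuotientGroup.eq, Subgroup.mem_subgroupOf]
  have := h.comm (b : L)⁻¹ (inv_mem b.2) (a : L)⁻¹ (inv_mem a.2)
  simpa [mul_assoc] using this

/-- The characters over `C_P(D)` separate `P / C_P(D)`, and there are `p ^ e` of them. -/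
theorem Sect.dual_facts : Nat.card (secDual P D) = p ^ e ∧
    ∀ y : P, (∀ l ∈ secDual P D, l y = 1) → (y : L) ∈ pZero P D := by
  haveI : ((pZero P D).subgroupOf P).Normal := h.normal₀.subgroupOf P
  letI : CommGroup (↥P ⧸ (pZero P D).subgroupOf P) :=
    { (inferInstance : Group (↥P ⧸ (pZero P D).subgroupOf P)) with mul_comm := h.quot_comm }
  have hcardQ : Nat.card (↥P ⧸ (pZero P D).subgroupOf P) = p ^ e := by
    refine Nat.eq_of_mul_eq_mul_left (Nat.card_pos (α := ↥(pZero P D))) ?_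
    rw [← h.card, ← Nat.card_congr (subgroupOfEquivOfLe (inf_le_left : pZero P D ≤ P)).toEquiv,
      mul_comm, ← card_eq_card_quotient_mul_card_subgroup]
  let π := QuotientGroup.mk' ((pZero P D).subgroupOf P)
  constructor
  · refine Eq.trans ?_ ((CommGroup.card_monoidHom_of_hasEnoughRootsOfUnity
      (↥P ⧸ (pZero P D).subgroupOf P) ℂ).trans hcardQ)
    refine (Nat.card_eq_of_bijective
      (fun f : (↥P ⧸ (pZero P D).subgroupOf P) →* ℂˣ => (⟨f.comp π, fun w hw => ?_⟩ : secDual P D))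
      ⟨fun f f' hff => ?_, fun l => ⟨QuotientGroup.lift _ l.1 fun w hw => l.2 w hw, ?_⟩⟩).symm
    · show f (π w) = 1
      rw [show π w = 1 from (QuotientGroup.eq_one_iff w).2 hw, map_one]
    · refine MonoidHom.ext fun q => ?_
      obtain ⟨w, rfl⟩ := QuotientGroup.mk_surjective q
      exact DFunLike.congr_fun (congrArg Subtype.val hff) w
    · exact Subtype.ext (MonoidHom.ext fun w => rfl)
  · intro y hy
    by_contra hne
    have hy1 : π y ≠ 1 := fun e1 => hne ((QuotientGroup.eq_one_iff y).1 e1)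
    obtain ⟨f, hf⟩ := CommGroup.exists_apply_ne_one_of_hasEnoughRootsOfUnity
      (↥P ⧸ (pZero P D).subgroupOf P) ℂ hy1
    refine hf (hy (f.comp π) fun w hw => ?_)
    show f (π w) = 1
    rw [show π w = 1 from (QuotientGroup.eq_one_iff w).2 hw, map_one]

theorem Sect.centralizes_dual_iff {c : L} (hc : c ∈ D) :
    (∀ l ∈ secDual P D, h.act c l = l) ↔ c ∈ centralizer (P : Set L) := by
  refine ⟨fun hl => h.mem_centralizer_of_trivial hc fun y hy => ?_, fun hcP l _ => ?_⟩
  · have hy' : c * y * c⁻¹ ∈ P := h.normal.conj_mem _ hy c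
    refine h.dual_facts.2 ⟨c * y * c⁻¹ * y⁻¹, mul_mem hy' (inv_mem hy)⟩ fun l hl' => ?_
    have e1 := DFunLike.congr_fun (hl l hl') ⟨c * y * c⁻¹, hy'⟩
    rw [h.act_apply] at e1
    rw [show (⟨c * y * c⁻¹ * y⁻¹, _⟩ : P) = ⟨c * y * c⁻¹, hy'⟩ * (⟨y, hy⟩ : P)⁻¹ from Subtype.ext rfl,
      map_mul, map_inv, ← e1, mul_inv_eq_one]
    congr 1
    exact Subtype.ext (show c⁻¹ * (c * y * c⁻¹) * c = y by group)
  · refine MonoidHom.ext fun y => ?_
    rw [h.act_apply]
    congr 1
    refine Subtype.ext ?_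
    show c⁻¹ * y * c = y
    rw [mul_assoc, mem_centralizer_iff.1 hcP y y.2, inv_mul_cancel_left]

/-- An element whose commutator with a non-trivial element of `W` lies in `C_D(P)` lies in `C_D(P)`. -/
theorem Sect.fpf_quot {w : L} (hw : w ∈ W) (hw1 : w ≠ 1) {c : L} (hc : c ∈ D)
    (hcw : c⁻¹ * (w * c * w⁻¹) ∈ centralizer (P : Set L)) : c ∈ centralizer (P : Set L) := by
  haveI := h.normal
  have hconjD : ∀ x ∈ D, w * x * w⁻¹ ∈ D := fun x hx => (mem_normalizer_iff.1 (h.invD hw) x).1 hx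
  have hconjC : ∀ x ∈ centralizer (P : Set L), w * x * w⁻¹ ∈ centralizer (P : Set L) := fun x hx =>
    (inferInstance : (centralizer (P : Set L)).Normal).conj_mem x hx w
  let D₀ : Subgroup L := D ⊓ centralizer (P : Set L)
  let f : D₀ → D₀ := fun x => ⟨(x : L)⁻¹ * (w * x * w⁻¹),
    mul_mem (D.inv_mem x.2.1) (hconjD _ x.2.1), mul_mem ((centralizer (P : Set L)).inv_mem x.2.2) (hconjC _ x.2.2)⟩
  have inj : ∀ x ∈ D, ∀ y ∈ D, x⁻¹ * (w * x * w⁻¹) = y⁻¹ * (w * y * w⁻¹) → x = y := by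
    intro x hx y hy hxy
    refine (mul_inv_eq_one.1 (h.fpf_D hw hw1 (mul_mem hy (inv_mem hx)) ?_)).symm
    have h2 : w * x * w⁻¹ = x * (y⁻¹ * (w * y * w⁻¹)) := by rw [← hxy]; group
    calc w * (y * x⁻¹) = (w * y * w⁻¹) * (w * x * w⁻¹)⁻¹ * w := by group
      _ = (w * y * w⁻¹) * (x * (y⁻¹ * (w * y * w⁻¹)))⁻¹ * w := by rw [h2]
      _ = y * x⁻¹ * w := by group
  have hf : Function.Injective f := fun x y e1 =>
    Subtype.ext (inj x x.2.1 y y.2.1 (congrArg Subtype.val e1))
  obtain ⟨x, hx⟩ := (Finite.injective_iff_surjective.1 hf)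
    ⟨c⁻¹ * (w * c * w⁻¹), mul_mem (D.inv_mem hc) (hconjD c hc), hcw⟩
  exact inj x x.2.1 c hc (congrArg Subtype.val hx) ▸ x.2.2

theorem Sect.exists_gen : ∃ w ∈ W, w ≠ 1 ∧ w ^ e = 1 ∧ ∀ x ∈ W, ∃ k : ℕ, w ^ k = x := by
  haveI := Fact.mk h.primeE
  obtain ⟨w, hw, hw1⟩ := (Subgroup.bot_or_exists_ne_one W).resolve_left h.like.ne₁
  have hpow : w ^ e = 1 := by
    rw [← h.cardW]
    exact congrArg Subtype.val (pow_card_eq_one' (G := W) (x := ⟨w, hw⟩))
  refine ⟨w, hw, hw1, hpow, fun x hx => ?_⟩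
  have hz : zpowers w = W := Subgroup.eq_of_le_of_card_ge (zpowers_le.2 hw) (le_of_eq (by
    rw [Nat.card_zpowers, h.cardW, orderOf_eq_prime hpow hw1]))
  obtain ⟨k, hk⟩ := (isOfFinOrder_of_finite w).mem_powers_iff_mem_zpowers.2 (hz.ge hx)
  exact ⟨k, hk⟩

theorem Sect.exists_decomp (x : L) : ∃ a ∈ P, ∃ b ∈ D, ∃ c ∈ W, x = a * b * c := by
  obtain ⟨k, hk, c, hc, rfl⟩ := h.like.exists_factor x
  obtain ⟨a, ha, b, hb, rfl⟩ := h.gen k hk
  exact ⟨a, ha, b, hb, c, hc, rfl⟩

theorem Sect.act_gen {a b : L} (ha : a ∈ P) (l : ↥P →* ℂˣ) : h.act (a * b) l = h.act b l := by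
  rw [h.act_mul, h.act_of_mem ha]

/-- The characters over `C_P(D)` have no proper subgroup invariant under `L`. -/
theorem Sect.dual_irr (X : Subgroup (secDual P D))
    (hD : ∀ c ∈ D, ∀ l : secDual P D, l ∈ X → (⟨h.act c l.1, h.act_mem c l.2⟩ : secDual P D) ∈ X)
    (hW : ∀ c ∈ W, ∀ l : secDual P D, l ∈ X → (⟨h.act c l.1, h.act_mem c l.2⟩ : secDual P D) ∈ X) :
    X = ⊥ ∨ X = ⊤ := by
  have hall : ∀ x : L, ∀ l : secDual P D, l ∈ X → (⟨h.act x l.1, h.act_mem x l.2⟩ : secDual P D) ∈ X := by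
    intro x l hl
    obtain ⟨a, ha, b, hb, c, hc, rfl⟩ := h.exists_decomp x
    have := hD b hb _ (hW c hc l hl)
    convert this using 2
    rw [mul_assoc, h.act_gen ha, h.act_mul]
  let N : Subgroup L :=
    { carrier := {y | ∃ hy : y ∈ P, ∀ l : secDual P D, l ∈ X → l.1 ⟨y, hy⟩ = 1}
      one_mem' := ⟨one_mem _, fun l _ => map_one l.1⟩
      mul_mem' := fun ⟨ha, a1⟩ ⟨hb, b1⟩ => ⟨mul_mem ha hb, fun l hl => by
        show l.1 (⟨_, ha⟩ * ⟨_, hb⟩) = 1
        rw [map_mul, a1 l hl, b1 l hl, one_mul]⟩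
      inv_mem' := fun ⟨ha, a1⟩ => ⟨inv_mem ha, fun l hl => by
        show l.1 (⟨_, ha⟩⁻¹) = 1
        rw [map_inv, a1 l hl, inv_one]⟩ }
  have hN : N.Normal := ⟨fun y ⟨hy, h1⟩ x => ⟨h.normal.conj_mem y hy x, fun l hl => by
    have := h1 _ (hall x⁻¹ l hl)
    simp only [h.act_apply, inv_inv] at this
    exact this⟩⟩
  rcases h.minimal N hN (fun y hy => ⟨hy.1, fun l _ => l.2 ⟨y, hy.1⟩ hy⟩) (fun y hy => hy.1) with e1 | e1
  · -- the characters in `X` separate `P / C_P(D)`
    refine Or.inr (Subgroup.eq_top_of_le_card _ ?_)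
    rw [h.dual_facts.1]
    letI : CommGroup X := inferInstance
    haveI : ((pZero P D).subgroupOf P).Normal := h.normal₀.subgroupOf P
    let ev : ↥P →* (X →* ℂˣ) :=
      { toFun := fun y => { toFun := fun l => l.1.1 y, map_one' := rfl, map_mul' := fun _ _ => rfl }
        map_one' := MonoidHom.ext fun l => map_one l.1.1
        map_mul' := fun y z => MonoidHom.ext fun l => map_mul l.1.1 y z }
    have hker : ev.ker = (pZero P D).subgroupOf P := by
      ext y
      rw [MonoidHom.mem_ker, Subgroup.mem_subgroupOf, pZero, ← e1]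
      exact ⟨fun hy => ⟨y.2, fun l hl => DFunLike.congr_fun hy ⟨l, hl⟩⟩,
        fun ⟨_, hy⟩ => MonoidHom.ext fun l => hy l.1 l.2⟩
    haveI : Finite (X →* ℂˣ) := finite_dual
    calc p ^ e = ev.ker.index := by
          rw [hker]
          refine (Nat.eq_of_mul_eq_mul_left (Nat.card_pos (α := ↥(pZero P D))) ?_).symm
          rw [← h.card, ← Nat.card_congr (subgroupOfEquivOfLe (inf_le_left : pZero P D ≤ P)).toEquiv,
            Subgroup.card_mul_index]
      _ = Nat.card ev.range := Subgroup.index_ker ev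
      _ ≤ Nat.card (X →* ℂˣ) := Subgroup.card_le_card_group _
      _ = Nat.card X := CommGroup.card_monoidHom_of_hasEnoughRootsOfUnity X ℂ
  · refine Or.inl ((Subgroup.eq_bot_iff_forall _).2 fun l hl => ?_)
    refine Subtype.ext (MonoidHom.ext fun y => ?_)
    obtain ⟨_, hy⟩ := e1.ge y.2
    exact hy l hl

/-- The linear characters whose stabiliser in `K_c` fixes all of them. -/
def Sect.regular : Set (↥P →* ℂˣ) :=
  {l | l ∈ secDual P D ∧ l ≠ 1 ∧ ∀ x ∈ Kc, h.act x l = l → ∀ m ∈ secDual P D, h.act x m = m}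

theorem Sect.ubar_facts_aux [Fact p.Prime] [Module (ZMod p) (Additive ↥(secDual P D))] :
    Odd (ubar P D) ∧ ubar P D ≡ 1 [MOD e] ∧ 2 * e + 1 ≤ ubar P D ∧
      ubar P D ≤ (⁅Kc, Kc⁆).relIndex Kc ∧
      (ubar P D = ∑ i ∈ Finset.range e, p ^ i ∨
        3 * (p - 1) * ubar P D ≤ Nat.card h.regular) ∧
      (∀ l ∈ secDual P D, l ≠ 1 → ∀ w ∈ W, w ≠ 1 → h.act w l = l → l ∈ h.regular) := by
  classical
  haveI : Finite (↥P →* ℂˣ) := finite_dual
  -- the action
  let aV : L → (Additive ↥(secDual P D)) →+ (Additive ↥(secDual P D)) := fun x =>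
    { toFun := fun v => Additive.ofMul ⟨h.act x v.toMul.1, h.act_mem x v.toMul.2⟩
      map_zero' := congrArg Additive.ofMul (Subtype.ext (h.act_map_one x))
      map_add' := fun v w => congrArg Additive.ofMul (Subtype.ext (h.act_map_mul x _ _)) }
  have aV1 : ∀ v, aV 1 v = v := fun v => congrArg Additive.ofMul (Subtype.ext (h.act_one _))
  have aVmul : ∀ x y v, aV (x * y) v = aV x (aV y v) := fun x y v =>
    congrArg Additive.ofMul (Subtype.ext (h.act_mul x y _))
  let ρ : L →* ((Additive ↥(secDual P D)) ≃ₗ[ZMod p] (Additive ↥(secDual P D))) :=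
    { toFun := fun x =>
        { (aV x).toZModLinearMap p with
          invFun := aV x⁻¹
          left_inv := fun v => show aV x⁻¹ (aV x v) = v by rw [← aVmul, inv_mul_cancel, aV1]
          right_inv := fun v => show aV x (aV x⁻¹ v) = v by rw [← aVmul, mul_inv_cancel, aV1] }
      map_one' := LinearEquiv.ext fun v => aV1 v
      map_mul' := fun x y => LinearEquiv.ext fun v => aVmul x y v }
  have hρ : ∀ x (v : (Additive ↥(secDual P D))), ((ρ x v).toMul : ↥P →* ℂˣ) = h.act x v.toMul := fun x v => rfl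
  have hρ1 : ∀ x, ρ x = 1 ↔ ∀ m ∈ secDual P D, h.act x m = m := fun x =>
    ⟨fun e1 m hm => congrArg (fun v : (Additive ↥(secDual P D)) => (v.toMul : ↥P →* ℂˣ))
      (LinearEquiv.congr_fun e1 (Additive.ofMul ⟨m, hm⟩)),
      fun e1 => LinearEquiv.ext fun v => congrArg Additive.ofMul (Subtype.ext (e1 _ v.toMul.2))⟩
  have hρP : ∀ a ∈ P, ρ a = 1 := fun a ha => (hρ1 a).2 fun m _ => h.act_of_mem ha m
  obtain ⟨w, hw, hw1, hwe, hwgen⟩ := h.exists_gen
  let A : Subgroup ((Additive ↥(secDual P D)) ≃ₗ[ZMod p] (Additive ↥(secDual P D))) := D.map ρ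
  have hcomm : ∀ a ∈ A, ∀ b ∈ A, a * b = b * a := by
    rintro _ ⟨c, hc, rfl⟩ _ ⟨d, hd, rfl⟩
    have hcd : ρ ⁅c, d⁆ = 1 := (hρ1 _).2
      ((h.centralizes_dual_iff ((commutator_le_self D) (commutator_mem_commutator hc hd))).2
        (h.der (commutator_mem_commutator hc hd)))
    rw [commutatorElement_def, map_mul, map_mul, map_mul, map_inv, map_inv] at hcd
    exact mul_inv_eq_iff_eq_mul.1 (mul_inv_eq_one.1 hcd)
  have hcardV : Nat.card (Additive ↥(secDual P D)) = p ^ e := h.dual_facts.1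
  haveI : Finite (Additive ↥(secDual P D)) := Finite.of_equiv _ Additive.ofMul
  have hoddp : Odd p := Odd.of_dvd_nat h.odd (h.cardW₂ ▸ Subgroup.card_subgroup_dvd_card W₂)
  have hodde : Odd e := Odd.of_dvd_nat h.odd (h.cardW ▸ Subgroup.card_subgroup_dvd_card W)
  have F : Frob e A (ρ w) :=
    { prime := h.primeE
      oddE := hodde
      oddP := hoddp
      finrank := Nat.pow_right_injective h.primeP.two_le (by
        show p ^ Module.finrank (ZMod p) (Additive ↥(secDual P D)) = p ^ e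
        rw [← hcardV, Module.natCard_eq_pow_finrank (K := ZMod p), Nat.card_zmod])
      comm := hcomm
      odd := Odd.of_dvd_nat h.odd ((Subgroup.card_map_dvd D ρ).trans (Subgroup.card_subgroup_dvd_card D))
      pow := by rw [← map_pow, hwe, map_one]
      norm := by
        rintro _ ⟨c, hc, rfl⟩
        exact ⟨w * c * w⁻¹, (mem_normalizer_iff.1 (h.invD hw) c).1 hc, by
          rw [map_mul, map_mul, map_inv]⟩
      fpf := by
        rintro _ ⟨c, hc, rfl⟩ e1
        refine (hρ1 c).2 ((h.centralizes_dual_iff hc).2 (h.fpf_quot hw hw1 hc ?_))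
        refine (h.centralizes_dual_iff (mul_mem (inv_mem hc)
          ((mem_normalizer_iff.1 (h.invD hw) c).1 hc))).1 ((hρ1 _).1 ?_)
        simp only [map_mul, map_inv]
        rw [e1, inv_mul_cancel]
      irr := by
        intro X hXg hXA
        let X' : Subgroup (secDual P D) := AddSubgroup.toSubgroup' X.toAddSubgroup
        have hXwk : ∀ (k : ℕ) (v : (Additive ↥(secDual P D))), v ∈ X → ρ (w ^ k) v ∈ X := by
          intro k
          induction k with
          | zero => intro v hv; rw [pow_zero, map_one]; exact hv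
          | succ k ih => intro v hv; rw [pow_succ', map_mul]; exact hXg _ (ih v hv)
        rcases h.dual_irr X' (fun c hc l hl => hXA (ρ c) ⟨c, hc, rfl⟩ (Additive.ofMul l) hl)
          (fun c hc l hl => by
            obtain ⟨k, rfl⟩ := hwgen c hc
            exact hXwk k (Additive.ofMul l) hl) with e1 | e1
        · refine Or.inl ((Submodule.eq_bot_iff _).2 fun v hv => ?_)
          have hv' : v.toMul ∈ X' := hv
          rw [e1, Subgroup.mem_bot] at hv'
          exact congrArg Additive.ofMul hv'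
        · refine Or.inr (eq_top_iff.2 fun v _ => ?_)
          exact (e1.ge (Subgroup.mem_top v.toMul) : v.toMul ∈ X') }
  have hkerD : ρ.ker ⊓ D = D ⊓ centralizer (P : Set L) := by
    ext c
    rw [mem_inf, mem_inf, MonoidHom.mem_ker, hρ1, and_comm]
    exact ⟨fun ⟨hc, e1⟩ => ⟨hc, (h.centralizes_dual_iff hc).1 e1⟩,
      fun ⟨hc, e1⟩ => ⟨hc, (h.centralizes_dual_iff hc).2 e1⟩⟩
  have hu : Nat.card A = ubar P D := by
    rw [ubar, ← hkerD, Subgroup.inf_relIndex_right]
    exact (Subgroup.relIndex_ker D ρ).symm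
  have hAKc : Kc.map ρ = A := by
    refine le_antisymm ?_ (Subgroup.map_mono h.leD)
    rintro _ ⟨x, hx, rfl⟩
    obtain ⟨a, ha, b, hb, rfl⟩ := h.gen x hx
    exact ⟨b, hb, by rw [map_mul, hρP a ha, one_mul]⟩
  have hk : ubar P D ≤ (⁅Kc, Kc⁆).relIndex Kc := by
    have hle : ⁅Kc, Kc⁆ ≤ ρ.ker := commutator_le.2 fun x hx y hy => by
      have hxy : ρ x * ρ y = ρ y * ρ x :=
        hcomm _ (hAKc.le (mem_map_of_mem ρ hx)) _ (hAKc.le (mem_map_of_mem ρ hy))
      rw [MonoidHom.mem_ker, commutatorElement_def, map_mul, map_mul, map_mul, map_inv, map_inv,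
        hxy, mul_inv_cancel_right, mul_inv_cancel]
    rw [← hu, ← hAKc, ← Subgroup.relIndex_ker]
    exact Nat.le_of_dvd (Nat.pos_of_ne_zero Subgroup.index_ne_zero_of_finite)
      (Subgroup.relIndex_dvd_of_le_left Kc hle)
  haveI := Fact.mk h.primeE
  have hodd : Odd (ubar P D) := hu ▸ F.odd
  have hone : ubar P D ≠ 1 := fun e1 => h.ne fun c hc =>
    ((Subgroup.relIndex_eq_one.1 e1) hc).2
  have hmod : ubar P D ≡ 1 [MOD e] := by
    rw [← hu]
    haveI : Finite ((Additive ↥(secDual P D)) ≃ₗ[ZMod p] (Additive ↥(secDual P D))) := Finite.of_injective _ DFunLike.coe_injective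
    haveI : Fintype A := Fintype.ofFinite _
    let f : Function.End A := fun a => ⟨ρ w * a * (ρ w)⁻¹, F.norm _ a.2⟩
    have hfpow : ∀ (n : ℕ) (a : A), (((f ^ n : Function.End A) a : A) : (Additive ↥(secDual P D)) ≃ₗ[ZMod p] (Additive ↥(secDual P D))) =
        ρ w ^ n * a * (ρ w ^ n)⁻¹ := by
      intro n a
      induction n with
      | zero =>
        rw [pow_zero, pow_zero, one_mul, inv_one, mul_one]
        rfl
      | succ n ih =>
        rw [pow_succ']
        show ρ w * (((f ^ n : Function.End A) a : A) : (Additive ↥(secDual P D)) ≃ₗ[ZMod p] (Additive ↥(secDual P D))) * (ρ w)⁻¹ = _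
        rw [ih]
        group
    have hf : f ^ e ^ 1 = 1 := funext fun a => Subtype.ext (by
      rw [pow_one, hfpow, F.pow, one_mul, inv_one, mul_one]
      rfl)
    haveI : DecidableEq A := Classical.decEq _
    have hfix := Equiv.Perm.card_fixedPoints_modEq hf
    have hset : Function.fixedPoints f = {1} := by
      ext a
      refine ⟨fun e1 => Subtype.ext (F.fpf _ a.2 (congrArg Subtype.val e1)), fun e1 => ?_⟩
      rw [Set.mem_singleton_iff] at e1
      exact Subtype.ext (by simp [f, e1])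
    rw [← Nat.card_eq_fintype_card, ← Nat.card_eq_fintype_card, hset,
      Nat.card_coe_set_eq, Set.ncard_singleton] at hfix
    exact hfix
  refine ⟨hodd, hmod, ?_, hk, ?_, ?_⟩
  · obtain ⟨t, ht⟩ := (Nat.modEq_iff_dvd' (by rcases hodd with ⟨r, hr⟩; omega)).1 hmod.symm
    obtain ⟨r, hr⟩ := hodd
    rcases Nat.lt_or_ge t 2 with ht2 | ht2
    · exfalso
      interval_cases t
      · omega
      · obtain ⟨s, hs⟩ := hodde
        omega
    · have := Nat.mul_le_mul_left e ht2
      omega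
  · have hreg : Nat.card (regSet A) ≤ Nat.card h.regular := by
      refine Nat.card_le_card_of_injective (fun v => (⟨(v.1.toMul : ↥P →* ℂˣ), v.1.toMul.2,
        fun e1 => v.2.1 (congrArg Additive.ofMul (Subtype.ext e1)), fun x hx hfix => ?_⟩ : h.regular))
        fun v v' e1 => ?_
      · exact (hρ1 x).1 (v.2.2 _ (hAKc ▸ mem_map_of_mem ρ hx)
          (congrArg Additive.ofMul (Subtype.ext hfix)))
      · have := congrArg Subtype.val e1
        exact Subtype.ext (congrArg Additive.ofMul (Subtype.ext this))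
    rw [← hu]
    exact F.full_or_many.imp id fun e1 => e1.trans hreg
  · intro l hl hl1 w' hw' hw'1 hfix
    refine ⟨hl, hl1, fun x hx hxl => (hρ1 x).1 ?_⟩
    obtain ⟨k, rfl⟩ := hwgen w' hw'
    have hcop : k.Coprime e := by
      refine ((h.primeE.coprime_iff_not_dvd).2 fun ⟨t, ht⟩ => hw'1 ?_).symm
      rw [ht, pow_mul, hwe, one_pow]
    set v : (Additive ↥(secDual P D)) := Additive.ofMul ⟨l, hl⟩
    have h1 : Function.IsFixedPt (ρ (w ^ k)) v := congrArg Additive.ofMul (Subtype.ext hfix)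
    have h2 : ρ w v = v := by
      obtain ⟨m, hm⟩ := exists_pow_eq_self_of_coprime
        (x := w) (by rw [orderOf_eq_prime hwe hw1]; exact hcop)
      rw [← hm, map_pow]
      exact (LinearEquiv.pow_apply (ρ (w ^ k)) m v).trans (h1.iterate m)
    exact (F.mem_regSet_of_fixed (v := v) (fun e1 => hl1 (congrArg Subtype.val (congrArg Additive.toMul e1)))
      h2).2 _ (hAKc ▸ mem_map_of_mem ρ hx) (congrArg Additive.ofMul (Subtype.ext hxl))

/-- The main facts about `ubar`. -/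
theorem Sect.ubar_facts :
    Odd (ubar P D) ∧ ubar P D ≡ 1 [MOD e] ∧ 2 * e + 1 ≤ ubar P D ∧
      ubar P D ≤ (⁅Kc, Kc⁆).relIndex Kc ∧
      (ubar P D = ∑ i ∈ Finset.range e, p ^ i ∨
        3 * (p - 1) * ubar P D ≤ Nat.card h.regular) ∧
      (∀ l ∈ secDual P D, l ≠ 1 → ∀ w ∈ W, w ≠ 1 → h.act w l = l → l ∈ h.regular) := by
  haveI := Fact.mk h.primeP
  letI : Module (ZMod p) (Additive ↥(secDual P D)) := AddCommGroup.zmodModule fun v =>
    congrArg Additive.ofMul
      (Subtype.ext (h.dual_pow (Additive.toMul v).2) : (Additive.toMul v) ^ p = 1)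
  exact h.ubar_facts_aux

end CfsgLib.FT.Regular
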