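import Cfsg.Agent.Lib.FT.NotTypeIIIChar
import Cfsg.Agent.Lib.FT.TypeVGroup
import Cfsg.Agent.Lib.FT.Rectangle
import Cfsg.Agent.Lib.CFun.OddFifteenTwo

/-!
# The chief factor data of a maximal subgroup of type III or IV

`exists_sect`: for `U = 1` and `F(S)_σ ≠ S_σ` the data `Regular.Sect` hold inside `S`, with `|W₁|`, `|W₂|`
primes; `kappa_facts` sums up what is used of it.
-/

set_option autoImplicit false
set_option linter.unusedSectionVars false
set_option linter.style.haveILetI false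

open Subgroup
open scoped commutatorElement

namespace CfsgLib.FT.TypeIII

open CfsgLib.CFun CfsgLib.CFun.Kappa
open Cfsg (sigmaCore fittingHallOf)

universe u

variable {G : Type u} [Group G] [Finite G] {S W₁ W₂ : Subgroup G}

/-- Conjugation inside a subgroup. -/
theorem subgroupOf_normal {H : Subgroup G} (hHS : H ≤ S) (hn : S ≤ normalizer (H : Set G)) :
    (H.subgroupOf S).Normal :=
  (normal_subgroupOf_iff_le_normalizer hHS).2 hn

theorem exists_sect [Fintype G] (h : Rect.Kappa S W₁ ⊥ W₂)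
    (hne : fittingHallOf S ≠ sigmaCore S) :
    (Nat.card W₁).Prime ∧ (Nat.card W₂).Prime ∧ ∃ P D : Subgroup S,
      Regular.Sect ((sigmaCore S).subgroupOf S) (W₁.subgroupOf S) (W₂.subgroupOf S) P D
        (Nat.card W₂) (Nat.card W₁) := by
  classical
  have hG := h.minSimple
  have hM := h.coatom
  have d := h.decomp
  obtain ⟨Q, D, hs⟩ := FifteenTwo.exists_split hG hM d hne
  have hp2 : (Nat.card W₂).Prime := by
    have := hs.prime
    rwa [h.eqW₂] at this
  obtain ⟨hK, hcard, hder⟩ := FifteenTwo.Split.frobenius hG hM d hs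
  rw [h.eqW₂] at hcard
  obtain ⟨hQS, hDS⟩ := FifteenTwo.Split.le_M hG hM d hs
  have hσS : sigmaCore S ≤ S := map_subtype_le _
  have hW₂σ : W₂ ≤ sigmaCore S := h.eqW₂ ▸ inf_le_left
  have hW₂S : W₂ ≤ S := hW₂σ.trans hσS
  have hW₁S : W₁ ≤ S := h.le₁
  haveI : Fact (Nat.card W₂).Prime := ⟨hp2⟩
  have hQp : IsPGroup (Nat.card W₂) Q := by
    haveI : Fact (Nat.card ↥(sigmaCore S ⊓ centralizer (W₁ : Set G))).Prime := ⟨hs.prime⟩
    have := hs.sylow.isPGroup
    rwa [h.eqW₂] at this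
  have hσ : ((sigmaCore S).subgroupOf S) = (⁅S, S⁆).subgroupOf S := by rw [TypeV.Parts.derived_eq h]
  have hcen : ∀ {A : Subgroup G}, A ≤ S → ∀ x : S,
      x ∈ centralizer ((A.subgroupOf S : Subgroup S) : Set S) ↔ (x : G) ∈ centralizer (A : Set G) := by
    intro A hA x
    rw [mem_centralizer_iff, mem_centralizer_iff]
    exact ⟨fun hx a ha => congrArg Subtype.val (hx ⟨a, hA ha⟩ ha),
      fun hx a ha => Subtype.ext (hx a ha)⟩
  have h0 : Q.subgroupOf S ⊓ centralizer ((D.subgroupOf S : Subgroup S) : Set S) =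
      (Q ⊓ centralizer (D : Set G)).subgroupOf S := by
    ext x
    simp only [mem_inf, mem_subgroupOf, hcen hDS]
  have hcardOf : ∀ {A : Subgroup G}, A ≤ S → Nat.card (A.subgroupOf S) = Nat.card A := fun hA =>
    Nat.card_congr (subgroupOfEquivOfLe hA).toEquiv
  refine ⟨hK, hp2, Q.subgroupOf S, D.subgroupOf S,
    { like := hσ ▸ h.typePLike
      odd := hG.1.of_dvd_nat (card_subgroup_dvd_card S)
      primeP := hp2
      primeE := hK
      cardW := hcardOf hW₁S
      cardW₂ := hcardOf hW₂S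
      normal := subgroupOf_normal hQS hs.normal
      pgroup := hQp.of_equiv (subgroupOfEquivOfLe hQS).symm
      le := fun x hx => hs.compl.1 hx
      leD := fun x hx => hs.compl.2.1 hx
      gen := fun x hx => by
        obtain ⟨a, ha, b, hb, e⟩ := hs.compl.2.2.2 x hx
        exact ⟨⟨a, hQS ha⟩, ha, ⟨b, hDS hb⟩, hb, Subtype.ext e⟩
      invD := fun x hx => mem_normalizer_iff.2 fun y => (mem_normalizer_iff.1 (hs.invariant hx) (y : G))
      copD := ?_
      fix := fun x hx => hs.fix_le (h.eqW₂.symm ▸ hx)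
      normal₀ := ?_
      pow := ?_
      comm := ?_
      card := ?_
      inf := ?_
      der := ?_
      ne := ?_
      minimal := ?_ }⟩
  · rw [hcardOf hDS]
    refine (hp2.coprime_iff_not_dvd).1 (hs.cop.coprime_dvd_right ?_).symm
    exact card_dvd_of_le (fun x hx => hs.fix_le (h.eqW₂.symm ▸ hx))
  · rw [h0]
    exact subgroupOf_normal (inf_le_left.trans hQS) (FifteenTwo.Split.normal_fixed hG hM d hs)
  · intro a ha
    rw [h0]
    have := (FifteenTwo.Split.pow_and_commutator_mem hG hM d hs (a := (a : G)) (b := (a : G)) ha ha).1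
    rw [h.eqW₂] at this
    exact this
  · intro a ha b hb
    rw [h0]
    exact (FifteenTwo.Split.pow_and_commutator_mem hG hM d hs (a := (a : G)) (b := (b : G)) ha hb).2
  · rw [h0, hcardOf hQS, hcardOf (inf_le_left.trans hQS)]
    exact hcard
  · rw [h0, eq_bot_iff]
    intro x hx
    have hx' : (x : G) ∈ sigmaCore S ⊓ centralizer (W₁ : Set G) ⊓ (Q ⊓ centralizer (D : Set G)) :=
      ⟨h.eqW₂.symm ▸ hx.1, hx.2⟩
    rw [FifteenTwo.Split.fixed_inf hG hM d hs, mem_bot] at hx'
    exact mem_bot.2 (Subtype.ext hx')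
  · refine commutator_le.2 fun a ha b hb => ?_
    rw [hcen hQS, commutatorElement_def, Subgroup.coe_mul, Subgroup.coe_mul, Subgroup.coe_mul,
      Subgroup.coe_inv, Subgroup.coe_inv, ← commutatorElement_def]
    exact hder (commutator_mem_commutator ha hb)
  · intro hle
    exact FifteenTwo.Split.not_centralize hG hM d hs fun c hc =>
      (hcen hQS ⟨c, hDS hc⟩).1 (hle hc)
  · intro N hN h1 h2
    rw [h0] at h1 ⊢
    by_contra hne'
    push Not at hne'
    have hNS : S ≤ normalizer ((N.map S.subtype : Subgroup G) : Set G) := fun m hm =>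
      mem_normalizer_fintype fun y ⟨z, hz, hzy⟩ =>
        ⟨⟨m, hm⟩ * z * ⟨m, hm⟩⁻¹, hN.conj_mem z hz ⟨m, hm⟩, by rw [← hzy]; rfl⟩
    refine FifteenTwo.Split.minimal hG hM d hs (N := N.map S.subtype) ?_ ?_ hNS
    · refine lt_of_le_of_ne (fun x hx => ⟨⟨x, hQS hx.1⟩, h1 hx, rfl⟩) fun e => hne'.1 ?_
      refine le_antisymm (fun x hx => ?_) h1
      exact e.ge ⟨x, hx, rfl⟩
    · refine lt_of_le_of_ne (fun y ⟨z, hz, hzy⟩ => hzy ▸ h2 hz) fun e => hne'.2 ?_
      refine le_antisymm h2 fun x hx => ?_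
      obtain ⟨z, hz, hzx⟩ := e.ge (x := (x : G)) hx
      rwa [← show z = x from Subtype.ext hzx]

/-- The facts used about type III and IV: with `d = ubar`, `e` and `p` are primes, `d` is odd, at least
`2 e + 1` and at most `k₀`, and it is full unless `S` has at least `m` irreducibles of degree `e d` vanishing
outside `S_σ` with `3 (p - 1) ≤ p - 1 + e m`. -/
theorem kappa_facts [Fintype G] (h : Rect.Kappa S W₁ ⊥ W₂)
    (hne : fittingHallOf S ≠ sigmaCore S) :
    (Nat.card W₁).Prime ∧ (Nat.card W₂).Prime ∧ FpfAb S ∧ eIndex S = Nat.card W₁ ∧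
    ∃ d : ℕ, Odd d ∧ 2 * Nat.card W₁ + 1 ≤ d ∧ d ≤ kZero S ∧
      (d = ∑ i ∈ Finset.range (Nat.card W₁), Nat.card W₂ ^ i ∨
        ∃ (m : ℕ) (φ : Fin m → S → ℂ), Function.Injective φ ∧
          (∀ k, Cfsg.IsIrrCharacter S (φ k) ∧ φ k 1 = ((Nat.card W₁ * d : ℕ) : ℂ) ∧
            ∀ x : S, (x : G) ∉ sigmaCore S → φ k x = 0) ∧
          3 * (Nat.card W₂ - 1) ≤ (Nat.card W₂ - 1) + Nat.card W₁ * m) := by
  obtain ⟨he, hp, P, D, hS⟩ := exists_sect h hne
  obtain ⟨hodd, -, h2e, hk, -, -⟩ := hS.ubar_facts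
  refine ⟨he, hp, TypeV.Parts.fpfAb h rfl he, TypeV.Parts.eIndex_eq₁ h, Regular.ubar P D, hodd, h2e, ?_,
    hS.full_or_chars⟩
  refine hk.trans (le_of_eq ?_)
  have hσS : sigmaCore S ≤ S := map_subtype_le _
  rw [← relIndex_map_map_of_injective _ _ S.subtype_injective, map_commutator,
    map_subgroupOf_eq_of_le hσS]
  rfl

end CfsgLib.FT.TypeIII
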