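import Cfsg.Agent.Lib.FT.NotTypeVIdentity
import Cfsg.Agent.Lib.FT.TypeVGroup
import Cfsg.Agent.Lib.FT.CentralCongr
import Cfsg.Agent.Lib.FT.CentralMult

/-!
# Type V with `W₂ ≤ Z(P)` (`docs/FT.md`, §4)

With `f z = Σ_{c ∈ C} η_0j(zc)` on `W₂` and the multiplicities `m_ξ` of the characters of `W₂`: the central
character congruence gives `|P| ∣ p² m_ξ m_ξ'`, the linear family gives `m_1 ≡ 1 (mod p)`, the values on
`Ẑ` give `m_j ≠ m_l`; so `|η_0j|²` has too much mass on the conjugates of `S_σ#`.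
-/

set_option autoImplicit false
set_option linter.unusedSectionVars false
set_option linter.style.haveILetI false

open Subgroup
open scoped commutatorElement

namespace CfsgLib.FT

open scoped ComplexConjugate
open Cfsg CfsgLib.Char CfsgLib.Char.Signed CfsgLib.FT.Rect CfsgLib.CFun

universe u

/-- A rational integer that is a multiple of `n` among algebraic integers is one among integers. -/
theorem int_dvd_of_integral {n : ℕ} (hn : n ≠ 0) {x : ℤ} {r : ℂ} (hr : IsIntegral ℤ r)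
    (e : (x : ℂ) = (n : ℂ) * r) : (n : ℤ) ∣ x := by
  have hq : r = algebraMap ℚ ℂ ((x : ℚ) / n) := by
    rw [map_div₀, map_intCast, map_natCast, eq_div_iff (Nat.cast_ne_zero.2 hn), e, mul_comm]
  rw [hq, isIntegral_algebraMap_iff (algebraMap ℚ ℂ).injective] at hr
  obtain ⟨z, hz⟩ := IsIntegrallyClosed.isIntegral_iff.mp hr
  rw [eq_intCast, eq_div_iff (Nat.cast_ne_zero.2 hn)] at hz
  exact ⟨z, by
    have : z * (n : ℤ) = x := by exact_mod_cast hz
    linarith⟩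

variable {G : Type u} [Group G]

/-- Sums over the coset `z B`. -/
noncomputable def cosetSum (B : Subgroup G) [Fintype B] (b : G → ℂ) (z : G) : ℂ :=
  ∑ c : B, b (z * c)

/-- Multiplicities in the fixed part of `B`. -/
theorem exists_mult {A B : Subgroup G} [Fintype A] [Fintype B]
    (hc : ∀ a ∈ A, ∀ c ∈ B, a * c = c * a) {b : G → ℂ} (hb : IsGeneralizedCharacter G b)
    {ξ : A → ℂ} (hξ : IsGeneralizedCharacter A ξ) :
    ∃ k : ℤ, ∑ a : A, cosetSum B b a * conj (ξ a) = (Nat.card A : ℂ) * Nat.card B * k := by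
  classical
  let Φ : A × B →* G := MonoidHom.noncommCoprod A.subtype B.subtype fun a c => hc a a.2 c c.2
  have h1 := isGeneralizedCharacter_comp hb Φ
  have h2 := isGeneralizedCharacter_comp hξ (MonoidHom.fst A B)
  refine ⟨iq (fun x => b (Φ x)) (fun x : A × B => ξ (MonoidHom.fst A B x)), ?_⟩
  rw [← iq_spec h1 h2, classInner, Nat.card_prod, Nat.cast_mul, ← mul_assoc,
    mul_inv_cancel₀ (mul_ne_zero (Nat.cast_ne_zero.2 Nat.card_pos.ne')
      (Nat.cast_ne_zero.2 Nat.card_pos.ne')), one_mul, Fintype.sum_prod_type]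
  refine Finset.sum_congr rfl fun a _ => ?_
  rw [cosetSum, Finset.sum_mul]
  rfl

theorem sum_hom_conj {A : Subgroup G} [Fintype A] (f g : A →* ℂˣ) [Decidable (f = g)] :
    ∑ z : A, (f z : ℂ) * conj (g z : ℂ) = if f = g then (Nat.card A : ℂ) else 0 := by
  have h := classInner_hom f g
  rw [classInner, inv_mul_eq_iff_eq_mul₀ (Nat.cast_ne_zero.2 Nat.card_pos.ne')] at h
  rw [h]
  split_ifs <;> simp

theorem sum_dual_conj {A : Subgroup G} [Fintype A] [Fintype (A →* ℂˣ)]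
    (hA : ∀ a b : A, a * b = b * a) (w z : A) [Decidable (w = z)] :
    ∑ ξ : A →* ℂˣ, (ξ w : ℂ) * conj (ξ z : ℂ) = if w = z then (Nat.card A : ℂ) else 0 := by
  classical
  have hbot : commutator A = ⊥ := by
    rw [commutator_def, eq_bot_iff, commutator_le]
    intro a _ b _
    rw [mem_bot, commutatorElement_eq_one_iff_mul_comm]
    exact hA a b
  have hc : Nat.card (Abelianization A) = Nat.card A := by
    show Nat.card (A ⧸ commutator A) = _
    rw [← index_eq_card, hbot, index_bot]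
  rw [Finset.sum_congr rfl fun ξ _ => show (ξ w : ℂ) * conj (ξ z : ℂ) = (ξ (w * z⁻¹) : ℂ) by
    rw [conj_hom, MonoidHom.inv_apply, map_mul, map_inv, Units.val_mul], sum_hom_eq, hc]
  refine if_congr ?_ rfl rfl
  rw [hbot, mem_bot, mul_inv_eq_one]

variable [Fintype G]

namespace TypeV

variable {S W₁ W₂ P Cc : Subgroup G} {p : ℕ} {χ : (↥(W₁ ⊔ W₂) →* ℂˣ) → (G → ℂ)}
variable (h : Kappa S W₁ ⊥ W₂) (Pt : Parts S P Cc p) (hp : Nat.card W₂ = p)
  (hZ : W₂ ≤ centralizer (P : Set G))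
include h Pt hp

theorem W₂_le_P : W₂ ≤ P := (Parts.W₂_le Pt h hp).trans (commutator_le_self P)

include hZ

/-- `W₂` is central in `S`. -/
theorem central_commute {z s : G} (hz : z ∈ W₂) (hs : s ∈ S) : z * s = s * z := by
  obtain ⟨-, -, -, hprod⟩ := TypeClass.derived_compl h.minSimple h.coatom h.decomp h.neW₁
  obtain ⟨x, hx, k, hk, rfl⟩ := hprod s hs
  rw [Parts.derived_eq h, ← Pt.sup] at hx
  have hCn : Cc ≤ normalizer (P : Set G) := Pt.leC.trans ((map_subtype_le _).trans Pt.normP)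
  obtain ⟨a, ha, c, hc, rfl⟩ := CfsgLib.Coprime.mem_sup_exists hCn hx
  have h1 : Commute z a := (mem_centralizer_iff.1 (hZ hz) a ha).symm
  have h2 : Commute z c := Pt.comm z (W₂_le_P h Pt hp hz) c hc
  have h3 : Commute z k :=
    congrArg Subtype.val (snc_mul_comm h.snc ⟨z, mem_sup_right hz⟩ ⟨k, mem_sup_left hk⟩)
  exact ((h1.mul_right h2).mul_right h3).eq

variable [Fintype ↥Cc] {b : G → ℂ} (hb : Sg b) (hNB : NoBad G)
include hb hNB

/-- The central character congruence on cosets of `C`. -/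
theorem central_prod_cong {z z' : G} (hz : z ∈ W₂) (hz' : z' ∈ W₂) :
    ∃ r : ℂ, IsIntegral ℤ r ∧ cosetSum Cc b z * cosetSum Cc b z' =
      b 1 * (Nat.card Cc : ℂ) * cosetSum Cc b (z * z') +
        (Nat.card (Cfsg.sigmaCore S) : ℂ) * r := by
  classical
  have hσ : ∀ {w}, w ∈ W₂ → w ∈ Cfsg.sigmaCore S := fun hw => Pt.leP (W₂_le_P h Pt hp hw)
  let O : G → Finset G := fun w => Finset.univ.image fun c : Cc => w * (c : G)
  have hinj : ∀ w : G, Function.Injective fun c : Cc => w * (c : G) := fun w c d e =>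
    Subtype.ext (mul_left_cancel e)
  have hsub : ∀ {w}, w ∈ W₂ → ∀ x ∈ O w, x ∈ Cfsg.sigmaCore S := fun {w} hw x hx => by
    obtain ⟨c, -, rfl⟩ := Finset.mem_image.1 hx
    exact mul_mem (hσ hw) (Pt.leC c.2)
  have hinv : ∀ {w}, w ∈ W₂ → ∀ x ∈ O w, ∀ s ∈ S, s * x * s⁻¹ ∈ O w := fun {w} hw x hx s hs => by
    obtain ⟨c, -, rfl⟩ := Finset.mem_image.1 hx
    refine Finset.mem_image.2
      ⟨⟨s * c * s⁻¹, (mem_normalizer_iff.1 (Pt.normC hs) _).1 c.2⟩, Finset.mem_univ _, ?_⟩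
    show w * (s * c * s⁻¹) = s * (w * c) * s⁻¹
    rw [← mul_assoc s w (c : G), ← central_commute h Pt hp hZ hw hs]
    group
  obtain ⟨X, ε, hε, rfl⟩ := hb.exists_irr
  obtain ⟨r, hr, e⟩ := sum_mul_sum_cong h.minSimple hNB h.coatom X (hsub hz) (hsub hz') (hinv hz) (hinv hz')
  rw [Finset.sum_image fun _ _ _ _ e' => hinj z e', Finset.sum_image fun _ _ _ _ e' => hinj z' e',
    Finset.sum_product, Finset.sum_image fun _ _ _ _ e' => hinj z e'] at e
  have e2 : ∀ c : Cc, ∑ y ∈ O z', (X : G → ℂ) (z * c * y) = cosetSum Cc (X : G → ℂ) (z * z') := by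
    intro c
    rw [Finset.sum_image fun _ _ _ _ e' => hinj z' e', cosetSum]
    refine Fintype.sum_equiv (Equiv.mulLeft c) _ _ fun d => congrArg _ ?_
    show z * c * (z' * d) = z * z' * ((c : G) * d)
    rw [mul_assoc z (c : G), ← mul_assoc (c : G) z' (d : G), ← Pt.comm z' (W₂_le_P h Pt hp hz') c c.2]
    group
  rw [Finset.sum_congr rfl fun c _ => e2 c, Finset.sum_const, Finset.card_univ, nsmul_eq_mul,
    ← Nat.card_eq_fintype_card] at e
  have hcs : ∀ w : G, cosetSum Cc ((ε : ℂ) • (X : G → ℂ)) w = (ε : ℂ) * cosetSum Cc (X : G → ℂ) w :=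
    fun w => by simp only [cosetSum, Pi.smul_apply, smul_eq_mul, Finset.mul_sum]
  refine ⟨(ε : ℂ) ^ 2 * r, (((isIntegral_algebraMap (x := ε)).pow 2).mul hr), ?_⟩
  rw [hcs, hcs, hcs, Pi.smul_apply, smul_eq_mul]
  simp only [cosetSum] at e ⊢
  linear_combination (ε : ℂ) ^ 2 * e

variable (he : (Nat.card W₁).Prime)
include he

omit hNB in
/-- The orbits of `W₁` on `C#` are regular. -/
theorem central_orbit_sum {z : G} (hz : z ∈ W₂) :
    ∃ r : ℂ, IsIntegral ℤ r ∧ cosetSum Cc b z = b z + (Nat.card W₁ : ℂ) * r := by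
  classical
  have hbcl : IsClassFunction G b := isClassFunction_of_isGeneralized hb.gen
  set Q : Subgroup (ConjAct G) := W₁.map ConjAct.toConjAct.toMonoidHom with hQdef
  have hQ : Nat.card Q = Nat.card W₁ :=
    (Nat.card_congr (W₁.equivMapOfInjective _ ConjAct.toConjAct.injective).toEquiv).symm
  have hQ' : ∀ u : Q, ∃ v ∈ W₁, (u ≠ 1 → v ≠ 1) ∧ ∀ w : G, u • w = v * w * v⁻¹ := by
    rintro ⟨_, v, hv, rfl⟩
    exact ⟨v, hv, fun h e => h (Subtype.ext (by simp [e])), fun w => rfl⟩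
  let F : G → ℂ := fun a => if a ∈ Cc ∧ a ≠ 1 then b (z * a) else 0
  have hinv : ∀ (u : Q) (a : G), F (u • a) = F a := by
    intro u a
    obtain ⟨v, hv, -, hva⟩ := hQ' u
    have hvS : v ∈ S := h.decomp.hall.1 hv
    rw [hva]
    refine if_congr (and_congr ((mem_normalizer_iff.1 (Pt.normC hvS) a).symm)
      (not_congr conj_eq_one_iff)) ?_ rfl
    rw [show z * (v * a * v⁻¹) = v * (z * a) * v⁻¹ by
      rw [← mul_assoc v z a, ← central_commute h Pt hp hZ hz hvS]; group, hbcl]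
  have hfree : ∀ a, F a ≠ 0 → ∀ u : Q, u • a = a → u = 1 := by
    intro a ha u hu
    obtain ⟨v, hv, hv1, hva⟩ := hQ' u
    by_contra hne
    have hcase : a ∈ Cc ∧ a ≠ 1 := by
      by_contra hc
      exact ha (if_neg hc)
    rw [hva] at hu
    have h1 : a ∈ W₂ := by
      rw [← Parts.fixed₁ h hv (hv1 hne)]
      exact mem_inf.2 ⟨Pt.leC hcase.1, mem_centralizer_singleton_iff.2 (mul_inv_eq_iff_eq_mul.1 hu).symm⟩
    have h2 : a ∈ P ⊓ Cc := mem_inf.2 ⟨W₂_le_P h Pt hp h1, hcase.1⟩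
    rw [Pt.disj, mem_bot] at h2
    exact hcase.2 h2
  obtain ⟨r, hr, e⟩ := sum_free_action (P := Q) F hinv hfree fun a => by
    simp only [F]
    split_ifs
    exacts [generalized_isIntegral hb.gen _, isIntegral_zero]
  refine ⟨r, hr, ?_⟩
  rw [← hQ, ← e]
  have e1 : cosetSum Cc b z = ∑ a : G, if a ∈ Cc then b (z * a) else 0 := by
    rw [cosetSum, ← Finset.sum_filter]
    exact (Finset.sum_subtype (p := fun a => a ∈ Cc)
      (Finset.univ.filter fun a => a ∈ Cc) (by simp) fun a => b (z * a)).symm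
  have e2 : ∀ a : G, F a = (if a ∈ Cc then b (z * a) else 0) - if a = 1 then b z else 0 := by
    intro a
    by_cases ha : a = 1
    · subst ha
      simp [F, one_mem]
    · simp [F, ha]
  rw [Finset.sum_congr rfl fun a _ => e2 a, Finset.sum_sub_distrib, ← e1, Finset.sum_ite_eq',
    if_pos (Finset.mem_univ _)]
  ring

end TypeV

namespace TypeV

variable {S W₁ W₂ P Cc : Subgroup G} {p : ℕ} {χ : (↥(W₁ ⊔ W₂) →* ℂˣ) → (G → ℂ)}
variable {mu : (↥(W₁ ⊔ W₂) →* ℂˣ) → (↥S → ℂ)} {sgn : (↥(W₁ ⊔ W₂) →* ℂˣ) → ℤ}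
variable (h : Kappa S W₁ ⊥ W₂) (hχ : IsCyclicTIFamily W₁ W₂ χ) (he : (Nat.card W₁).Prime)
  (hNB : NoBad G) (hM : FpfAb S) (C : IsCols S W₁ W₂ mu sgn) (Pt : Parts S P Cc p)
  (hp : Nat.card W₂ = p) (hZ : W₂ ≤ centralizer (P : Set G))
include h hχ he hNB hM C Pt hp hZ

/-- The multiplicity of the trivial character is `≡ 1 (mod p)`. -/
theorem central_trivial [Fintype ↥S] [Fintype ↥W₂] [Fintype ↥Cc] (φ₀ : Member S)
    {ψ : ↥(W₁ ⊔ W₂) →* ℂˣ} (hA : iq (indFun S (thetaS mu φ₀)) (χ ψ) = 1) :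
    ∃ k : ℤ, ∑ z : W₂, cosetSum Cc (χ ψ) z =
      (p : ℂ) * (Nat.card Cc : ℂ) * (1 + (p : ℂ) * k) := by
  classical
  have hG := h.minSimple
  haveI := Parts.fact_prime Pt h hp
  let _ := Fintype.ofFinite ↥P
  let _ := Fintype.ofFinite ↥(sigmaIn S)
  set b := χ ψ with hbdef
  have hb : Sg b := sg_eta hχ ψ
  have hbS : Gen (fun x : ↥S => b x) := isGeneralizedCharacter_comp hb.gen S.subtype
  have hbcl : IsClassFunction G b := isClassFunction_of_isGeneralized hb.gen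
  have hbScl : IsClassFunction ↥S (fun x : ↥S => b x) := isClassFunction_of_isGeneralized hbS
  have hcC : (Nat.card Cc : ℂ) ≠ 0 := Nat.cast_ne_zero.2 Nat.card_pos.ne'
  have hcP : (Nat.card P : ℂ) ≠ 0 := Nat.cast_ne_zero.2 Nat.card_pos.ne'
  set t : ℤ := iq (fun x : ↥S => b x) φ₀.1 with ht
  have hmemgen : ∀ φ : Member S, Gen φ.1 := fun φ =>
    isGeneralizedCharacter_of_isCharacter (isCharacter_of_isIrr (member_irr hG hM φ))
  have hφ : ∀ φ : Member S, classInner (fun x : ↥S => b x) φ.1 = t := by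
    intro φ
    have h1 : classInner b (indFun S (φ.1 - φ₀.1)) = 0 :=
      member_diff_perp h hχ hNB hM C φ φ₀ ψ
    rw [classInner_indFun_right S _ _ hbcl, classInner_sub_right, sub_eq_zero] at h1
    rw [h1, iq_spec hbS (hmemgen φ₀)]
  -- `S_σ = P × C`
  have hPC : ∀ a : P, ∀ c : Cc, Commute (a : G) c := fun a c => Pt.comm a a.2 c c.2
  let Φ₀ : P × Cc →* G := MonoidHom.noncommCoprod P.subtype Cc.subtype hPC
  have hΦσ : ∀ x, Φ₀ x ∈ Cfsg.sigmaCore S := fun x => mul_mem (Pt.leP x.1.2) (Pt.leC x.2.2)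
  let Φ : P × Cc →* ↥(sigmaIn S) :=
    (Φ₀.codRestrict S fun x => map_subtype_le _ (hΦσ x)).codRestrict (sigmaIn S)
      fun x => mem_subgroupOf.2 (hΦσ x)
  have hinj : Function.Injective Φ := fun x y e => by
    have e0 : (x.1 : G) * x.2 = y.1 * y.2 :=
      congrArg (fun w : ↥(sigmaIn S) => ((w : ↥S) : G)) e
    have e1 : (y.1 : G)⁻¹ * x.1 = y.2 * (x.2 : G)⁻¹ := by
      calc (y.1 : G)⁻¹ * x.1 = (y.1 : G)⁻¹ * (x.1 * x.2) * (x.2 : G)⁻¹ := by group
        _ = _ := by rw [e0]; group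
    have hmem : (y.1 : G)⁻¹ * x.1 ∈ P ⊓ Cc :=
      mem_inf.2 ⟨mul_mem (inv_mem y.1.2) x.1.2, e1 ▸ mul_mem y.2.2 (inv_mem x.2.2)⟩
    rw [Pt.disj, mem_bot, inv_mul_eq_one] at hmem
    rw [← hmem] at e0
    exact Prod.ext (Subtype.ext hmem.symm) (Subtype.ext (mul_left_cancel e0))
  have hbij : Function.Bijective Φ := by
    refine (Fintype.bijective_iff_injective_and_card Φ).2 ⟨hinj, ?_⟩
    have e : Nat.card ↥(sigmaIn S) = Nat.card (Cfsg.sigmaCore S) :=
      Nat.card_congr (subgroupOfEquivOfLe (map_subtype_le _ : Cfsg.sigmaCore S ≤ S)).toEquiv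
    rw [← Nat.card_eq_fintype_card, ← Nat.card_eq_fintype_card, Nat.card_prod, e, ← Pt.sup,
      card_sup_of_comm Pt.comm Pt.disj]
  let Ψ := MulEquiv.ofBijective Φ hbij
  have hcardσ : Nat.card ↥(sigmaIn S) = Nat.card P * Nat.card Cc := by
    rw [← Nat.card_prod]
    exact (Nat.card_congr Ψ.toEquiv).symm
  let β : P → ℂ := fun a => (Nat.card Cc : ℂ)⁻¹ * cosetSum Cc b a
  have hinner : ∀ f : P → ℂ, classInner β f = (Nat.card P : ℂ)⁻¹ * (Nat.card Cc : ℂ)⁻¹ *
      ∑ a : P, cosetSum Cc b a * conj (f a) := fun f => by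
    rw [classInner, mul_assoc, Finset.mul_sum (a := (Nat.card Cc : ℂ)⁻¹)]
    exact congrArg _ (Finset.sum_congr rfl fun a _ => mul_assoc _ _ _)
  have hint : ∀ X : IrrCharacter P, ∃ k : ℤ, classInner β (X : P → ℂ) = k := by
    intro X
    obtain ⟨k, hk⟩ := exists_mult (A := P) (B := Cc) Pt.comm hb.gen
      (isGeneralizedCharacter_of_isCharacter (isCharacter_irr X))
    refine ⟨k, ?_⟩
    rw [hinner, hk]
    field_simp
  have hβ : IsClassFunction P β := by
    intro a y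
    show (Nat.card Cc : ℂ)⁻¹ * cosetSum Cc b ((y * a * y⁻¹ : P) : G) = (Nat.card Cc : ℂ)⁻¹ * _
    refine congrArg _ (Finset.sum_congr rfl fun c _ => ?_)
    rw [← hbcl ((a : G) * c) y]
    congr 1
    have hc : (y : G) * c * (y : G)⁻¹ = c := by rw [(hPC y c).eq]; group
    calc ((y * a * y⁻¹ : P) : G) * c = (y : G) * a * (y : G)⁻¹ * ((y : G) * c * (y : G)⁻¹) := by
          rw [hc]; push_cast; rfl
      _ = _ := by group
  have hlam : ∀ f : ↥P →* ℂˣ, classInner β (fun a => (f a : ℂ)) =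
      classInner (fun x : ↥(sigmaIn S) => b x)
        (fun x => ((f.comp ((MonoidHom.fst P Cc).comp Ψ.symm.toMonoidHom)) x : ℂ)) := by
    intro f
    rw [hinner, classInner, hcardσ, Nat.cast_mul, mul_inv, ← Fintype.sum_equiv Ψ.toEquiv
      (fun x : P × Cc => b ((x.1 : G) * x.2) * conj (f x.1 : ℂ)) _ fun x => by
        have e : Ψ.symm (Ψ.toEquiv x) = x := Ψ.symm_apply_apply x
        simp only [MonoidHom.comp_apply, MulEquiv.coe_toMonoidHom, e]
        rfl, Fintype.sum_prod_type]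
    exact congrArg _ (Finset.sum_congr rfl fun a _ => by rw [cosetSum, Finset.sum_mul])
  have hlin : ∀ f : ↥P →* ℂˣ, f ≠ 1 → classInner β (fun a => (f a : ℂ)) = t := by
    intro f hf
    rw [hlam f]
    set lam := f.comp ((MonoidHom.fst P Cc).comp Ψ.symm.toMonoidHom) with hlamdef
    have hl : lam ≠ 1 := fun e => hf (MonoidHom.ext fun a => by
      have := DFunLike.congr_fun e (Ψ (a, 1))
      simpa [hlamdef] using this)
    refine Eq.trans ?_ (hφ ⟨indSigma S (fun x => (lam x : ℂ)), lam, hl, rfl⟩)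
    show _ = classInner _ (indSigma S (fun x => (lam x : ℂ)))
    rw [indSigma_eq, classInner_indFun_right _ _ _ hbScl]
  have hone : classInner β (fun _ => (1 : ℂ)) = t + 1 := by
    have e1 := hlam 1
    simp only [MonoidHom.one_comp, MonoidHom.one_apply, Units.val_one] at e1
    rw [e1, ← classInner_indFun_right (sigmaIn S) (fun _ => (1 : ℂ)) _ hbScl, ← indSigma_eq]
    have hcol : indSigma S (fun _ => 1) = thetaS mu φ₀ + φ₀.1 := by
      funext x
      rw [indOne_eq hG, thetaS, Pi.add_apply, Pi.sub_apply, sub_add_cancel, col_one_apply h C,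
        eIndex_eq_card h]
    rw [hcol, classInner_add_right, hφ φ₀, ← classInner_indFun_right S _ _ hbcl,
      ← classInner_conj (indFun S (thetaS mu φ₀)) b,
      iq_spec (isGeneralizedCharacter_indFun S (thetaS_gen h C hM φ₀)) hb.gen, hA, map_intCast,
      add_comm]
    simp
  obtain ⟨m, hm2, hm, -⟩ := Parts.exists_m Pt h rfl he hp
  have hcomm : ⁅P, P⁆.subgroupOf P = commutator P := by
    rw [← map_subtype_commutator, subgroupOf, comap_map_eq_self_of_injective P.subtype_injective]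
  have hne : commutator ↥P ≠ ⊤ := fun e => by
    have h1 : (commutator ↥P).index = p ^ m := by rw [← hcomm]; exact hm
    rw [e, index_top] at h1
    exact (Nat.one_lt_pow (by omega) (Fact.out : p.Prime).one_lt).ne h1
  have hW₂P : W₂ ≤ P := W₂_le_P h Pt hp
  let _ := Fintype.ofFinite ↥(W₂.subgroupOf P)
  obtain ⟨k, hk⟩ := trivial_mult_cong Pt.pGroup (W₂.subgroupOf P)
    (fun z hz => mem_center_iff.2 fun g =>
      Subtype.ext (mem_centralizer_iff.1 (hZ (mem_subgroupOf.1 hz)) g g.2))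
    (fun z hz => by rw [← hcomm]; exact mem_subgroupOf.2 (Parts.W₂_le Pt h hp (mem_subgroupOf.1 hz)))
    hne hβ hint hlin hone
  refine ⟨k, ?_⟩
  rw [Nat.card_congr (subgroupOfEquivOfLe hW₂P).toEquiv, hp,
    Fintype.sum_equiv (subgroupOfEquivOfLe hW₂P).toEquiv (fun z => β z)
      (fun z : W₂ => (Nat.card Cc : ℂ)⁻¹ * cosetSum Cc b z) fun z => rfl,
    ← Finset.mul_sum, inv_mul_eq_iff_eq_mul₀ hcC] at hk
  rw [hk]
  ring

/-- The inequality of the central case. -/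
theorem central_ineq [Fintype ↥S] (φ₀ : Member S) {ψ : ↥(W₁ ⊔ W₂) →* ℂˣ}
    (hψ : ψ ∈ trivOn (W₁ ⊔ W₂) W₁) (hψ1 : ψ ≠ 1)
    (hA : iq (indFun S (thetaS mu φ₀)) (χ ψ) = 1) :
    (p - 2) * Nat.card P ≤ (p - 1) * p ^ 2 * (p + Nat.card W₁ - 1) := by
  classical
  haveI := Parts.fact_prime Pt h hp
  have hpp : p.Prime := Fact.out
  have hG := h.minSimple
  let _ := Fintype.ofFinite ↥W₂
  let _ := Fintype.ofFinite ↥Cc
  haveI := finite_dual (K := ↥W₂)
  let _ := Fintype.ofFinite (↥W₂ →* ℂˣ)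
  set b := χ ψ with hbdef
  have hb : Sg b := sg_eta hχ ψ
  have hW₂comm : ∀ a c : W₂, a * c = c * a := fun a c => Subtype.ext
    (congrArg Subtype.val (snc_mul_comm h.snc ⟨(a : G), mem_sup_right a.2⟩ ⟨(c : G), mem_sup_right c.2⟩) :)
  have hcW : Nat.card (↥W₂ →* ℂˣ) = p := by
    letI : CommGroup ↥W₂ := { (inferInstance : Group ↥W₂) with mul_comm := hW₂comm }
    rw [CommGroup.card_monoidHom_of_hasEnoughRootsOfUnity, hp]
  have hW₂σ : W₂ ≤ Cfsg.sigmaCore S := (W₂_le_P h Pt hp).trans Pt.leP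
  have hep : Nat.Coprime (Nat.card W₁) p :=
    (Parts.coprime₁ h).coprime_dvd_right (hp ▸ card_dvd_of_le hW₂σ)
  -- multiplicities
  set f : W₂ → ℂ := fun z => cosetSum Cc b z with hf
  choose m hm using fun ξ : ↥W₂ →* ℂˣ => exists_mult (A := W₂) (B := Cc)
    (fun a ha c hc => Pt.comm a (W₂_le_P h Pt hp ha) c hc) hb.gen
    (isGeneralizedCharacter_of_isCharacter (isCharacter_of_isIrr (isIrrCharacter_lin ξ)))
  have hm' : ∀ ξ : ↥W₂ →* ℂˣ, ∑ z : W₂, f z * conj (ξ z : ℂ) = (p : ℂ) * Nat.card Cc * m ξ :=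
    fun ξ => by rw [← hp]; exact hm ξ
  have hcC : (Nat.card Cc : ℂ) ≠ 0 := Nat.cast_ne_zero.2 Nat.card_pos.ne'
  have hp0 : (p : ℂ) ≠ 0 := Nat.cast_ne_zero.2 hpp.ne_zero
  -- the trivial character
  obtain ⟨k, hk⟩ := central_trivial h hχ he hNB hM C Pt hp hZ φ₀ hA
  have hm1 : m 1 = 1 + (p : ℤ) * k := by
    have e := hm' 1
    simp only [MonoidHom.one_apply, Units.val_one, map_one, mul_one, hf] at e
    rw [hk] at e
    have := mul_left_cancel₀ (mul_ne_zero hp0 hcC) e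
    exact_mod_cast this.symm
  -- the congruence
  obtain ⟨mm, hmm2, hmm, -⟩ := Parts.exists_m Pt h rfl he hp
  obtain ⟨s, hs, hsm⟩ := Parts.exists_s Pt h rfl he hp hmm
  have hs3 : 3 ≤ s := by omega
  have hdvd : ∀ ξ ξ' : ↥W₂ →* ℂˣ, ξ ≠ ξ' → ((p ^ s : ℕ) : ℤ) ∣ (p : ℤ) ^ 2 * (m ξ * m ξ') := by
    intro ξ ξ' hne
    choose r hr e using fun q : W₂ × W₂ =>
      central_prod_cong h Pt hp hZ hb hNB q.1.2 q.2.2
    set R : ℂ := ∑ q : W₂ × W₂, r q * (conj (ξ q.1 : ℂ) * conj (ξ' q.2 : ℂ)) with hR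
    have hcint : ∀ (ζ : ↥W₂ →* ℂˣ) (z : W₂), IsIntegral ℤ (conj (ζ z : ℂ)) := fun ζ z => by
      rw [conj_hom]
      exact isCharacter_isIntegral (isCharacter_of_isIrr (isIrrCharacter_lin ζ⁻¹)) z
    have hRint : IsIntegral ℤ R :=
      IsIntegral.sum _ fun q _ => (hr q).mul ((hcint _ _).mul (hcint _ _))
    have horth : ∑ q : W₂ × W₂,
        cosetSum Cc b ((q.1 : G) * q.2) * (conj (ξ q.1 : ℂ) * conj (ξ' q.2 : ℂ)) = 0 := by
      rw [Fintype.sum_prod_type]
      have e2 : ∀ z : W₂, ∑ w : W₂, cosetSum Cc b ((z : G) * w) *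
          (conj (ξ z : ℂ) * conj (ξ' w : ℂ)) =
          ((ξ' z : ℂ) * conj (ξ z : ℂ)) * ∑ w : W₂, f w * conj (ξ' w : ℂ) := by
        intro z
        rw [Finset.mul_sum]
        refine Fintype.sum_equiv (Equiv.mulLeft z) _ _ fun w => ?_
        have h1 : (ξ' z : ℂ) * conj (ξ' z : ℂ) = 1 := by
          rw [conj_hom, MonoidHom.inv_apply, ← Units.val_mul, mul_inv_cancel, Units.val_one]
        show cosetSum Cc b ((z : G) * w) * _ =
          _ * (f (z * w) * conj (ξ' (z * w) : ℂ))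
        rw [map_mul, Units.val_mul, map_mul, show f (z * w) = cosetSum Cc b ((z : G) * w) from rfl]
        linear_combination -(cosetSum Cc b ((z : G) * w) * conj (ξ z : ℂ) * conj (ξ' w : ℂ)) * h1
      rw [Finset.sum_congr rfl fun z _ => e2 z, ← Finset.sum_mul, sum_hom_conj, if_neg hne.symm,
        zero_mul]
    have hprod : (p : ℂ) * Nat.card Cc * m ξ * ((p : ℂ) * Nat.card Cc * m ξ') =
        (Nat.card (Cfsg.sigmaCore S) : ℂ) * R := by
      rw [← hm', ← hm', Fintype.sum_mul_sum, ← Fintype.sum_prod_type', hR, Finset.mul_sum,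
        Finset.sum_congr rfl fun q _ => show f q.1 * conj (ξ q.1 : ℂ) * (f q.2 * conj (ξ' q.2 : ℂ)) =
          b 1 * (Nat.card Cc : ℂ) *
              (cosetSum Cc b ((q.1 : G) * q.2) * (conj (ξ q.1 : ℂ) * conj (ξ' q.2 : ℂ))) +
            (Nat.card (Cfsg.sigmaCore S) : ℂ) * (r q * (conj (ξ q.1 : ℂ) * conj (ξ' q.2 : ℂ))) by
          linear_combination (conj (ξ q.1 : ℂ) * conj (ξ' q.2 : ℂ)) * e q,
        Finset.sum_add_distrib, ← Finset.mul_sum, horth, mul_zero, zero_add]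
    have hdiv := int_dvd_of_integral (n := Nat.card (Cfsg.sigmaCore S)) Nat.card_pos.ne'
      (x := (p : ℤ) ^ 2 * (Nat.card Cc : ℤ) ^ 2 * (m ξ * m ξ')) hRint (by
        push_cast; linear_combination hprod)
    rw [← Pt.sup, card_sup_of_comm Pt.comm Pt.disj, hs] at hdiv
    have hcop : IsCoprime ((p ^ s : ℕ) : ℤ) ((Nat.card Cc : ℤ)) := by
      rw [Int.isCoprime_iff_nat_coprime, Int.natAbs_natCast, Int.natAbs_natCast]
      exact (hpp.coprime_iff_not_dvd.2 Pt.cop).pow_left s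
    have h1 : ((p ^ s : ℕ) : ℤ) * (Nat.card Cc : ℤ) ∣
        ((p : ℤ) ^ 2 * (m ξ * m ξ') * Nat.card Cc) * Nat.card Cc := by
      rw [show ((p : ℤ) ^ 2 * (m ξ * m ξ') * Nat.card Cc) * (Nat.card Cc : ℤ) =
        (p : ℤ) ^ 2 * (Nat.card Cc : ℤ) ^ 2 * (m ξ * m ξ') by ring]
      exact_mod_cast hdiv
    exact hcop.dvd_of_dvd_mul_right
      (Int.dvd_of_mul_dvd_mul_right (Int.natCast_ne_zero.2 Nat.card_pos.ne') h1)
  set q : ℕ := p ^ (s - 2) with hq
  have hqs : p ^ s = p ^ 2 * q := by rw [hq, ← pow_add]; congr 1; omega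
  have hql : ∀ l : ↥W₂ →* ℂˣ, l ≠ 1 → (q : ℤ) ∣ m l := by
    intro l hl
    have h1 := hdvd 1 l hl.symm
    rw [hqs, Nat.cast_mul, Nat.cast_pow] at h1
    have h2 := Int.dvd_of_mul_dvd_mul_left (pow_ne_zero 2 (Int.natCast_ne_zero.2 hpp.ne_zero)) h1
    have hcop : IsCoprime (q : ℤ) (m 1) := by
      rw [hq, Nat.cast_pow, hm1]
      exact IsCoprime.pow_left ⟨-k, 1, by ring⟩
    exact hcop.dvd_of_dvd_mul_left h2
  -- the distinguished character
  set η : ↥W₂ →* ℂˣ := ψ.comp (Subgroup.inclusion le_sup_right) with hη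
  have hη1 : η ≠ 1 := fun e => hψ1 (trivOn_mul_inj (snc_disj h.snc) (snc_comm h.snc) (one_mem _)
    (fun w hw => DFunLike.congr_fun e ⟨(w : G), hw⟩) hψ (one_mem _)
    ((one_mul _).trans (mul_one _).symm)).2
  have hne : ∀ l : ↥W₂ →* ℂˣ, l ≠ η → m η ≠ m l := by
    intro l hl hml
    obtain ⟨k₁, hk₁, hk₁1, hk₁e⟩ := Parts.exists_k (e := Nat.card W₁) h rfl he
    set d : W₂ → ℂ := fun z => conj (η z : ℂ) - conj (l z : ℂ) with hd
    have hdint : ∀ z, IsIntegral ℤ (d z) := fun z => by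
      rw [hd]
      simp only [conj_hom]
      exact (isCharacter_isIntegral (isCharacter_of_isIrr (isIrrCharacter_lin η⁻¹)) z).sub
        (isCharacter_isIntegral (isCharacter_of_isIrr (isIrrCharacter_lin l⁻¹)) z)
    have hηint : ∀ z, IsIntegral ℤ (η z : ℂ) := fun z =>
      isCharacter_isIntegral (isCharacter_of_isIrr (isIrrCharacter_lin η)) z
    have hfint : ∀ z, IsIntegral ℤ (f z) := fun z =>
      IsIntegral.sum _ fun c _ => generalized_isIntegral hb.gen _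
    have hterm : ∀ z : W₂, Cong (Nat.card W₁) (f z * d z) ((η z : ℂ) * d z) := by
      intro z
      rcases eq_or_ne z 1 with rfl | hz1
      · simp only [hd, map_one, Units.val_one, sub_self, mul_zero]
        exact cong_refl _ _
      obtain ⟨r, hr, er⟩ := central_orbit_sum h Pt hp hZ hb he z.2
      have h1 : Cong (Nat.card W₁) (f z) (b z) := ⟨0, r, hr, by
        show (cosetSum Cc b z - b z) ^ (0 + 1) = _
        rw [er]; ring⟩
      have hcomm : Commute k₁ (z : G) := (central_commute h Pt hp hZ z.2 (h.decomp.hall.1 hk₁)).symm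
      have hzW : (z : G) ∉ W₁ := fun hzw => hz1 (by
        have h0 : (z : G) ∈ W₁ ⊓ W₂ := ⟨hzw, z.2⟩
        rw [snc_disj h.snc, mem_bot] at h0
        exact Subtype.ext h0)
      have hkW : k₁ ∉ W₂ := fun hkw => hk₁1 (by
        have h0 : k₁ ∈ W₁ ⊓ W₂ := ⟨hk₁, hkw⟩
        rwa [snc_disj h.snc, mem_bot] at h0)
      have hmem : k₁ * z ∈ W₁ ⊔ W₂ := mul_mem (mem_sup_left hk₁) (mem_sup_right z.2)
      have hval : b (k₁ * z) = (η z : ℂ) := by
        rw [hbdef, show k₁ * (z : G) = ((⟨_, hmem⟩ : ↥(W₁ ⊔ W₂)) : G) from rfl,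
          hχ.eq_on ψ _ (fun hc => hzW ((Subgroup.mul_mem_cancel_left W₁ hk₁).1 hc))
            (fun hc => hkW ((Subgroup.mul_mem_cancel_right W₂ z.2).1 hc)),
          show (⟨k₁ * z, hmem⟩ : ↥(W₁ ⊔ W₂)) = ⟨k₁, mem_sup_left hk₁⟩ * ⟨z, mem_sup_right z.2⟩ from rfl,
          map_mul, hψ ⟨k₁, mem_sup_left hk₁⟩ hk₁, one_mul]
        rfl
      have h2 : Cong (Nat.card W₁) (η z : ℂ) (b z) := by
        rw [← hval]
        exact cong_mul_of_pow_prime he hb.gen (k := 1) (by rw [pow_one]; exact hk₁e) hcomm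
      have h3 := Cong.trans (hfint z) (generalized_isIntegral hb.gen _) (hηint z) h1 h2.symm
      have := h3.mul_left (hdint z)
      rwa [mul_comm (d z), mul_comm (d z)] at this
    have hsum : ∀ T : Finset W₂, Cong (Nat.card W₁) (∑ z ∈ T, f z * d z) (∑ z ∈ T, (η z : ℂ) * d z) := by
      intro T
      induction T using Finset.induction_on with
      | empty => simp [cong_refl]
      | insert a T ha ih =>
        rw [Finset.sum_insert ha, Finset.sum_insert ha]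
        exact Cong.add ((hfint a).mul (hdint a)) ((hηint a).mul (hdint a))
          (IsIntegral.sum _ fun z _ => (hfint z).mul (hdint z))
          (IsIntegral.sum _ fun z _ => (hηint z).mul (hdint z)) (hterm a) ih
    have h0 := hsum Finset.univ
    simp only [hd, mul_sub, Finset.sum_sub_distrib] at h0
    rw [hm', hm', hml, sub_self, sum_hom_conj, sum_hom_conj, if_pos rfl, if_neg hl.symm, sub_zero,
      hp] at h0
    have h0' : Cong (Nat.card W₁) ((0 : ℤ) : ℂ) (((p : ℤ)) : ℂ) := by exact_mod_cast h0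
    have hdp := h0'.dvd he
    rw [zero_sub, dvd_neg, Int.natCast_dvd_natCast, Nat.prime_dvd_prime_iff_eq he hpp] at hdp
    rw [hdp, Nat.coprime_self] at hep
    exact hpp.one_lt.ne' hep
  -- the variance
  set ι : Finset (↥W₂ →* ℂˣ) := Finset.univ.erase 1 with hι
  have hιc : (ι.card : ℤ) = p - 1 := by
    rw [hι, Finset.card_erase_of_mem (Finset.mem_univ _), Finset.card_univ, ← Nat.card_eq_fintype_card,
      hcW, Nat.cast_sub hpp.one_lt.le, Nat.cast_one]
  have hvar := variance_lower ι m (m 1) (q : ℤ) (j := η)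
    (Finset.mem_erase.2 ⟨hη1, Finset.mem_univ _⟩) fun l hl hlj => by
      obtain ⟨a, ha⟩ := hql η hη1
      obtain ⟨c, hc⟩ := hql l (Finset.ne_of_mem_erase hl)
      have hca : c - a ≠ 0 := sub_ne_zero.2 fun e => hne l hlj (by rw [ha, hc, e])
      rw [ha, hc, ← mul_sub, mul_pow]
      have : 0 < (c - a) ^ 2 := by positivity
      exact le_mul_of_one_le_right (sq_nonneg _) this
  rw [hι, Finset.add_sum_erase _ (fun l => m l ^ 2) (Finset.mem_univ _),
    Finset.add_sum_erase _ m (Finset.mem_univ _), ← hι, hιc] at hvar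
  -- the norm
  set Q : ℤ := ∑ ξ, m ξ ^ 2 with hQ
  set M : ℤ := ∑ ξ, m ξ with hMdef
  have hf1 : f 1 = (Nat.card Cc : ℂ) * M := by
    refine mul_left_cancel₀ hp0 ?_
    rw [← mul_assoc, hMdef, Int.cast_sum, Finset.mul_sum, ← Finset.sum_congr rfl fun ξ _ => hm' ξ,
      Finset.sum_comm]
    rw [Finset.sum_congr rfl fun z _ => show ∑ ξ : ↥W₂ →* ℂˣ, f z * conj (ξ z : ℂ) =
        f z * if (1 : W₂) = z then (Nat.card W₂ : ℂ) else 0 by
      rw [← Finset.mul_sum, ← sum_dual_conj hW₂comm]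
      exact congrArg _ (Finset.sum_congr rfl fun ξ _ => by rw [map_one, Units.val_one, one_mul])]
    simp only [mul_ite, mul_zero, Finset.sum_ite_eq, Finset.mem_univ, if_true, hp]
    ring
  have hsq : ∑ z : W₂, f z * conj (f z) = (p : ℂ) * (Nat.card Cc : ℂ) ^ 2 * Q := by
    refine mul_left_cancel₀ hp0 ?_
    have e1 : ∀ ξ : ↥W₂ →* ℂˣ, (p : ℂ) ^ 2 * (Nat.card Cc : ℂ) ^ 2 * (m ξ : ℂ) ^ 2 =
        ∑ z : W₂, ∑ w : W₂, f z * conj (f w) * ((ξ w : ℂ) * conj (ξ z : ℂ)) := by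
      intro ξ
      have e := hm' ξ
      have e' := congrArg (starRingEnd ℂ) e
      simp only [map_mul, map_natCast, map_intCast, map_sum, Complex.conj_conj] at e'
      rw [show (p : ℂ) ^ 2 * (Nat.card Cc : ℂ) ^ 2 * (m ξ : ℂ) ^ 2 =
        (p : ℂ) * Nat.card Cc * m ξ * ((p : ℂ) * Nat.card Cc * m ξ) by ring]
      nth_rewrite 1 [← e]
      rw [← e', Finset.sum_mul_sum]
      exact Finset.sum_congr rfl fun z _ => Finset.sum_congr rfl fun w _ => by ring
    have e0 : (p : ℂ) * ((p : ℂ) * (Nat.card Cc : ℂ) ^ 2 * (Q : ℂ)) =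
        ∑ ξ : ↥W₂ →* ℂˣ, (p : ℂ) ^ 2 * (Nat.card Cc : ℂ) ^ 2 * (m ξ : ℂ) ^ 2 := by
      rw [hQ, ← Finset.mul_sum]
      push_cast
      ring
    rw [e0, Finset.sum_congr rfl fun ξ _ => e1 ξ, Finset.mul_sum]
    refine (Finset.sum_congr rfl fun z _ => ?_).trans Finset.sum_comm
    rw [Finset.sum_comm, Finset.sum_congr rfl fun w _ => (Finset.mul_sum _ _ _).symm]
    rw [Finset.sum_congr rfl fun w _ => show f z * conj (f w) *
        ∑ ξ : ↥W₂ →* ℂˣ, (ξ w : ℂ) * conj (ξ z : ℂ) =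
        f z * conj (f w) * (if w = z then (Nat.card W₂ : ℂ) else 0) by rw [sum_dual_conj hW₂comm]]
    simp only [mul_ite, mul_zero, Finset.sum_ite_eq', Finset.mem_univ, if_true, hp]
    ring
  set V : ℤ := (p : ℤ) * Q - M ^ 2 with hV
  have hrest : ∑ z ∈ Finset.univ.erase (1 : W₂), ‖f z‖ ^ 2 = (Nat.card Cc : ℝ) ^ 2 * (V : ℝ) := by
    have e1 : ∑ z : W₂, ‖f z‖ ^ 2 = (p : ℝ) * (Nat.card Cc : ℝ) ^ 2 * (Q : ℝ) := by
      apply Complex.ofReal_injective
      push_cast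
      rw [← hsq]
      exact Finset.sum_congr rfl fun z _ => by rw [Complex.mul_conj']
    have e2 : ‖f 1‖ ^ 2 = (Nat.card Cc : ℝ) ^ 2 * (M : ℝ) ^ 2 := by
      rw [hf1, norm_mul, Complex.norm_natCast, Complex.norm_intCast, mul_pow, sq_abs]
    have e3 := Finset.add_sum_erase Finset.univ (fun z : W₂ => ‖f z‖ ^ 2) (Finset.mem_univ (1 : W₂))
    rw [e1, e2] at e3
    simp only [hV]
    push_cast
    linarith
  -- the mass on the conjugates of `S_σ#`
  let g : G → ℝ := fun x => ‖b x‖ ^ 2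
  have hbcl : IsClassFunction G b := isClassFunction_of_isGeneralized hb.gen
  have hgcl : ∀ x y : G, g (y * x * y⁻¹) = g x := fun x y => by simp only [g, hbcl x y]
  set AS := conjSet ((Cfsg.sigmaCore S : Set G) \ {1}) with hAS
  set AZ := conjSet (zSet W₁ W₂) with hAZ
  have htot : mass AS g + mass AZ g ≤ 1 := by
    rw [← mass_union (h.disjoint_sigma_zSet h.coatom)]
    refine (mass_sq_le b _).trans (le_of_eq ?_)
    rw [hb.2, Complex.one_re]
  have hZ' : mass AZ g = mass AZ (fun _ => (1 : ℝ)) := by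
    refine mass_le_mass_of_le fun x hx => ?_
    obtain ⟨y, z, ⟨hz1, hz2, hz3⟩, rfl⟩ := hx
    rw [hgcl z y]
    show ‖χ ψ ((⟨z, hz1⟩ : ↥(W₁ ⊔ W₂)) : G)‖ ^ 2 = 1
    rw [hχ.eq_on ψ _ hz2 hz3, norm_val, one_pow]
  have hS' : (Nat.card Cc : ℝ) * (V : ℝ) / Nat.card S ≤ mass AS g := by
    rw [hAS, mass_conjSet (L := S) (A := (Cfsg.sigmaCore S : Set G) \ {1}) (fun a ha => map_subtype_le _ ha.1)
      (fun l hl a ha => ⟨(mem_normalizer_iff.1 (TauTwo.sigmaCore_normal hG S hl) a).1 ha.1, fun e =>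
        ha.2 (conj_eq_one_iff.1 (Set.mem_singleton_iff.1 e))⟩)
      (fun y a ha hga => mem_of_conj_mem hG hNB h.coatom ha.1 ha.2 (map_subtype_le _ hga.1))
      hgcl, mass, div_eq_inv_mul]
    refine mul_le_mul_of_nonneg_left ?_ (by positivity)
    have hCpos : (0 : ℝ) < Nat.card Cc := Nat.cast_pos.2 Nat.card_pos
    have hmem : ∀ zc : W₂ × Cc, (zc.1 : G) * zc.2 ∈ S := fun zc =>
      map_subtype_le _ (mul_mem (hW₂σ zc.1.2) (Pt.leC zc.2.2))
    let ι' : W₂ × Cc → ↥S := fun zc => ⟨(zc.1 : G) * zc.2, hmem zc⟩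
    have hinjι : Function.Injective ι' := fun x y e => by
      have e0 : (x.1 : G) * x.2 = y.1 * y.2 := congrArg Subtype.val e
      have e1 : (y.1 : G)⁻¹ * x.1 = y.2 * (x.2 : G)⁻¹ := by
        calc (y.1 : G)⁻¹ * x.1 = (y.1 : G)⁻¹ * (x.1 * x.2) * (x.2 : G)⁻¹ := by group
          _ = _ := by rw [e0]; group
      have hm0 : (y.1 : G)⁻¹ * x.1 ∈ P ⊓ Cc := mem_inf.2
        ⟨W₂_le_P h Pt hp (mul_mem (inv_mem y.1.2) x.1.2), e1 ▸ mul_mem y.2.2 (inv_mem x.2.2)⟩
      rw [Pt.disj, mem_bot, inv_mul_eq_one] at hm0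
      rw [← hm0] at e0
      exact Prod.ext (Subtype.ext hm0.symm) (Subtype.ext (mul_left_cancel e0))
    have hin : ∀ z : W₂, z ≠ 1 → ∀ c : Cc,
        ι' (z, c) ∈ {x : ↥S | (x : G) ∈ (Cfsg.sigmaCore S : Set G) \ {1}} := fun z hz c =>
      ⟨mul_mem (hW₂σ z.2) (Pt.leC c.2), fun e => hz (by
        have e' : ι' (z, c) = ι' (1, 1) := Subtype.ext (by simpa [ι'] using (Set.mem_singleton_iff.1 e))
        exact congrArg Prod.fst (hinjι e'))⟩
    refine le_trans ?_ (Finset.sum_le_sum_of_subset_of_nonneg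
      (Finset.subset_univ (((Finset.univ.erase (1 : W₂)) ×ˢ (Finset.univ : Finset Cc)).image ι'))
      fun x _ _ => by split_ifs <;> positivity)
    rw [Finset.sum_image fun _ _ _ _ e => hinjι e, Finset.sum_product]
    refine le_of_mul_le_mul_left ?_ hCpos
    rw [← mul_assoc, ← sq, ← hrest, Finset.mul_sum]
    refine Finset.sum_le_sum fun z hz => ?_
    refine le_of_le_of_eq ?_ (congrArg _
      (Finset.sum_congr rfl fun c _ => (if_pos (hin z (Finset.ne_of_mem_erase hz) c)).symm))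
    calc ‖f z‖ ^ 2 ≤ (∑ c : Cc, ‖b ((z : G) * c)‖) ^ 2 :=
          pow_le_pow_left₀ (norm_nonneg _) (norm_sum_le _ _) 2
      _ ≤ ((Finset.univ : Finset Cc).card : ℝ) * ∑ c : Cc, ‖b ((z : G) * c)‖ ^ 2 :=
          sq_sum_le_card_mul_sum_sq
      _ = _ := by rw [Finset.card_univ, ← Nat.card_eq_fintype_card]
  rw [hZ', hAZ, mass_conj_zSet_one h] at htot
  have hcS : Nat.card S = Nat.card W₁ * (p ^ s * Nat.card Cc) := by
    rw [Decomp.card_eq hG h.coatom h.decomp, card_bot, one_mul, ← Pt.sup,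
      card_sup_of_comm Pt.comm Pt.disj, hs]
  rw [hcS, hqs] at hS'
  rw [hp] at htot
  have h3 := h.three_le
  have hp2 := hpp.two_le
  have he0 : (0 : ℝ) < Nat.card W₁ := Nat.cast_pos.2 Nat.card_pos
  have hp0' : (0 : ℝ) < p := Nat.cast_pos.2 hpp.pos
  have hC0 : (0 : ℝ) < Nat.card Cc := Nat.cast_pos.2 Nat.card_pos
  have hq0 : (0 : ℝ) < q := Nat.cast_pos.2 (pow_pos hpp.pos _)
  have h1 : (p : ℝ) * V ≤ (p : ℝ) ^ 2 * q * ((Nat.card W₁ : ℝ) + p - 1) := by
    have h2 : (Nat.card Cc : ℝ) * V / ((Nat.card W₁ * (p ^ 2 * q * Nat.card Cc) : ℕ) : ℝ) +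
        ((Nat.card W₁ : ℝ) * p)⁻¹ * ((Nat.card W₁ : ℝ) * p - Nat.card W₁ - p + 1) ≤ 1 := by linarith
    push_cast at h2
    have h4 := mul_le_mul_of_nonneg_right h2
      (by positivity : (0 : ℝ) ≤ (Nat.card W₁ : ℝ) * p * (p ^ 2 * q))
    have e : ((Nat.card Cc : ℝ) * V / ((Nat.card W₁ : ℝ) * ((p : ℝ) ^ 2 * q * Nat.card Cc)) +
        ((Nat.card W₁ : ℝ) * p)⁻¹ * ((Nat.card W₁ : ℝ) * p - Nat.card W₁ - p + 1)) *
          ((Nat.card W₁ : ℝ) * p * (p ^ 2 * q)) =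
        p * V + p ^ 2 * q * ((Nat.card W₁ : ℝ) * p - Nat.card W₁ - p + 1) := by
      field_simp
    rw [e, one_mul] at h4
    nlinarith
  have h1' : (p : ℤ) * V ≤ (p : ℤ) ^ 2 * q * ((Nat.card W₁ : ℤ) + p - 1) := by exact_mod_cast h1
  rw [show ((p : ℤ) - 1) + 1 = p by ring, show ((p : ℤ) - 1) - 1 = (p : ℤ) - 2 by ring] at hvar
  have hvar' : (p : ℤ) * ((p : ℤ) - 2) * (q : ℤ) ^ 2 ≤ ((p : ℤ) - 1) * V := hvar
  have h5 : (p : ℤ) * (p : ℤ) * (((p : ℤ) - 2) * q) * q ≤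
      (p : ℤ) * (p : ℤ) * (((p : ℤ) - 1) * ((Nat.card W₁ : ℤ) + p - 1)) * q := by
    have h6 := mul_le_mul_of_nonneg_left hvar' (Int.natCast_nonneg p)
    have h7 := mul_le_mul_of_nonneg_left h1' (by omega : (0 : ℤ) ≤ (p : ℤ) - 1)
    linarith
  have h8 : ((p : ℤ) - 2) * q ≤ ((p : ℤ) - 1) * ((Nat.card W₁ : ℤ) + p - 1) :=
    le_of_mul_le_mul_left (le_of_mul_le_mul_right h5 (by exact_mod_cast pow_pos hpp.pos _))
      (by exact_mod_cast Nat.mul_pos hpp.pos hpp.pos)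
  rw [hs, hqs]
  have h9 := mul_le_mul_of_nonneg_left h8 (sq_nonneg (p : ℤ))
  zify [hp2, (by omega : 1 ≤ p), (by omega : 1 ≤ p + Nat.card W₁)]
  linarith

end TypeV

end CfsgLib.FT
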