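import Cfsg.Agent.Lib.FT.TypeTwoDual
import Cfsg.Agent.Lib.FT.RectFamily

/-!
# The type II side of a pair: coefficients of the induced differences on the cyclic TI family

Modulo `p` the coefficient of `η_ij` in `Ind_Q^G (λ - μ)`, for invariant `λ`, `μ`, is read off on `W₁`;
norms and the rectangle rule then fix all coefficients.
-/

set_option autoImplicit false
set_option linter.unusedSectionVars false
set_option linter.style.haveILetI false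

open Subgroup

namespace CfsgLib.FT.TwoSide

open scoped ComplexConjugate
open Cfsg CfsgLib.Char CfsgLib.Char.Signed CfsgLib.FT.Rect

universe u

variable {G : Type u} [Group G] [Fintype G]

/-- The sum over the row of `φ`. -/
noncomputable def rowSum {W₁ W₂ : Subgroup G} (χ : (↥(W₁ ⊔ W₂) →* ℂˣ) → (G → ℂ))
    (φ : ↥(W₁ ⊔ W₂) →* ℂˣ) : G → ℂ :=
  ∑ ψ ∈ dualFin (W₁ ⊔ W₂) W₁, χ (φ * ψ)

theorem cong_sum {p : ℕ} {ι : Type*} (s : Finset ι) (f g : ι → ℂ) (hf : ∀ i, IsIntegral ℤ (f i))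
    (hg : ∀ i, IsIntegral ℤ (g i)) (h : ∀ i ∈ s, Cong p (f i) (g i)) :
    Cong p (∑ i ∈ s, f i) (∑ i ∈ s, g i) := by
  classical
  induction s using Finset.induction_on with
  | empty => exact cong_refl p _
  | insert a s ha ih =>
    rw [Finset.sum_insert ha, Finset.sum_insert ha]
    exact Cong.add (hf a) (hg a) (IsIntegral.sum _ fun i _ => hf i) (IsIntegral.sum _ fun i _ => hg i)
      (h a (Finset.mem_insert_self a s)) (ih fun i hi => h i (Finset.mem_insert_of_mem hi))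

theorem lc_isIntegral {K : Type u} [Group K] [Finite K] (ω : K →* ℂˣ) (x : K) :
    IsIntegral ℤ (lc ω x) :=
  isCharacter_isIntegral (isCharacter_of_isIrr (isIrrCharacter_lc ω)) x

/-- A small multiple of `p` is zero. -/
theorem eq_zero_of_dvd_sq {p : ℕ} (hp : 3 ≤ p) {b : ℤ} (hd : (p : ℤ) ∣ b) (hs : b ^ 2 ≤ 2 * p) :
    b = 0 := by
  by_contra hb
  obtain ⟨c, rfl⟩ := hd
  have hc : c ≠ 0 := fun h => hb (by rw [h, mul_zero])
  have h1 : 1 ≤ c ^ 2 := by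
    have : 0 < c ^ 2 := by positivity
    omega
  have h3 : (3 : ℤ) ≤ p := by exact_mod_cast hp
  have h2 : (p : ℤ) ^ 2 ≤ (p * c) ^ 2 := by rw [mul_pow]; nlinarith
  nlinarith

namespace Data

variable {T Q W₁ W₂ V : Subgroup G} {p : ℕ} (D : Data T Q W₁ W₂ V p)
variable {χ : (↥(W₁ ⊔ W₂) →* ℂˣ) → (G → ℂ)} (hχ : IsCyclicTIFamily W₁ W₂ χ)
include D

theorem odd_sup : Odd (Nat.card ↥(W₁ ⊔ W₂)) := D.odd.of_dvd_nat (card_subgroup_dvd_card _)

theorem three_le₁ : 3 ≤ Nat.card W₁ := three_le_card D.odd_sup le_sup_left D.snc.1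

/-- `Ind_Q^G` vanishes at the elements of `W` outside `W₁ ∪ W₂`. -/
theorem Df_vanishV (lam mu : ↥Q →* ℂˣ) {w : ↥(W₁ ⊔ W₂)} (h2 : (w : G) ∉ W₁) :
    Df lam mu (w : G) = 0 := by
  refine Df_vanish lam mu fun t => D.not_conj_mem ?_ t
  obtain ⟨a, b, ha, hb, rfl⟩ := exists_decomp (snc_disj D.snc) (snc_comm D.snc) w
  refine D.dvd_orderOf ha hb fun e => h2 ?_
  rw [Subgroup.coe_mul, e, mul_one]
  exact ha

theorem iq_Df_Df [Fintype Q] (hQ : ∀ a ∈ Q, ∀ b ∈ Q, a * b = b * a) (lam mu al be : ↥Q →* ℂˣ) :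
    iq (Df lam mu) (Df al be) =
      (D.num lam al : ℤ) - D.num lam be - D.num mu al + D.num mu be :=
  iq_eq _ (D.inner_Df_Df hQ lam mu al be)

include hχ

omit D in
theorem iq_Df_add (lam mu nu : ↥Q →* ℂˣ) (ω : ↥(W₁ ⊔ W₂) →* ℂˣ) :
    iq (Df lam nu) (χ ω) = iq (Df lam mu) (χ ω) + iq (Df mu nu) (χ ω) := by
  rw [Df_add lam mu nu, iq_add_left (Df_gen _ _) (Df_gen _ _) (sg_eta hχ ω).gen]

omit D in
theorem iq_Df_self (lam : ↥Q →* ℂˣ) (ω : ↥(W₁ ⊔ W₂) →* ℂˣ) : iq (Df lam lam) (χ ω) = 0 := by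
  have := iq_Df_add hχ lam lam lam ω
  omega

omit D in
theorem iq_Df_swap (lam mu : ↥Q →* ℂˣ) (ω : ↥(W₁ ⊔ W₂) →* ℂˣ) :
    iq (Df mu lam) (χ ω) = -iq (Df lam mu) (χ ω) := by
  have := iq_Df_add hχ lam mu lam ω
  rw [iq_Df_self hχ lam ω] at this
  omega

omit D in
theorem iq_Df_one {lam mu : ↥Q →* ℂˣ} (hl : lam ≠ 1) (hm : mu ≠ 1) : iq (Df lam mu) (χ 1) = 0 := by
  classical
  let _ := Fintype.ofFinite Q
  refine iq_eq _ ?_
  rw [hχ.map_one, Df_inner_one hl hm, Int.cast_zero]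

theorem iq_rule_Df (lam mu : ↥Q →* ℂˣ) {α ψ : ↥(W₁ ⊔ W₂) →* ℂˣ} (hα : α ∈ trivOn _ W₂)
    (hψ : ψ ∈ trivOn _ W₁) :
    iq (Df lam mu) (χ (α * ψ)) =
      iq (Df lam mu) (χ α) + iq (Df lam mu) (χ ψ) - iq (Df lam mu) (χ 1) :=
  Rect.iq_rule D.snc hχ (Df_gen lam mu) (fun _ h1 _ => D.Df_vanishV lam mu h1) hα hψ

/-- The complex conjugate of `η_ω` is `η_ω⁻¹`. -/
theorem conj_eta (ω : ↥(W₁ ⊔ W₂) →* ℂˣ) : Cfsg.conjFun (χ ω) = χ ω⁻¹ := by
  classical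
  have hW := D.snc
  have hc : ∀ w : ↥(W₁ ⊔ W₂), (w : G) ∉ W₁ → (w : G) ∉ W₂ →
      Cfsg.conjFun (χ ω) (w : G) = lc ω⁻¹ w ∧ χ ω⁻¹ (w : G) = lc ω⁻¹ w := fun w h1 h2 => by
    refine ⟨?_, hχ.eq_on ω⁻¹ w h1 h2⟩
    show conj (χ ω (w : G)) = _
    rw [hχ.eq_on ω w h1 h2, ← lc_apply, lc_conj]
  have hs : Sg (Cfsg.conjFun (χ ω)) := by
    rcases hχ.irr_or_neg ω with h | h
    · exact Sg.of_irr ⟨_, isIrrCharacter_starFun ⟨_, h⟩⟩
    · have e : Cfsg.conjFun (χ ω) = -(Cfsg.conjFun (-χ ω)) := by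
        funext g; simp [Cfsg.conjFun]
      rw [e]
      exact (Sg.of_irr ⟨_, isIrrCharacter_starFun ⟨_, h⟩⟩).neg
  have ht := sg_eta hχ ω⁻¹
  have hd : ∀ g : G → ℂ, g = Cfsg.conjFun (χ ω) - χ ω⁻¹ →
      ∀ w : ↥(W₁ ⊔ W₂), (w : G) ∉ W₁ → (w : G) ∉ W₂ → g w = 0 := fun g hg w h1 h2 => by
    rw [hg, Pi.sub_apply, (hc w h1 h2).1, (hc w h1 h2).2, sub_self]
  set θ := Cfsg.conjFun (χ ω) - χ ω⁻¹ with hθ
  have hθg : Gen θ := isGeneralizedCharacter_sub hs.gen ht.gen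
  have hnorm : iq θ θ = 2 - 2 * iq (Cfsg.conjFun (χ ω)) (χ ω⁻¹) := by
    rw [hθ, iq_sub_left hs.gen ht.gen hθg, iq_sub_right hs.gen hs.gen ht.gen,
      iq_sub_right ht.gen hs.gen ht.gen, hs.iq_self, ht.iq_self, iq_comm ht.gen hs.gen]
    ring
  rcases Sg.iq_cases hs ht with h | ⟨-, h⟩ | ⟨-, h⟩
  · exfalso
    have hz := perp_of_norm_two hW D.odd_sup hχ hθg (by omega) (hd θ rfl) ω⁻¹
    rw [iq_spec hθg ht.gen, Int.cast_eq_zero, hθ, iq_sub_left hs.gen ht.gen ht.gen, ht.iq_self] at hz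
    omega
  · exact h
  · exfalso
    obtain ⟨a, ha, ha1⟩ := (bot_or_exists_ne_one W₁).resolve_left hW.1
    obtain ⟨b, hb, hb1⟩ := (bot_or_exists_ne_one W₂).resolve_left hW.2.1
    have h1 : ((⟨a * b, mul_mem_sup ha hb⟩ : ↥(W₁ ⊔ W₂)) : G) ∉ W₁ := fun hm => hb1 (by
      have : b ∈ W₁ ⊓ W₂ := ⟨by simpa using mul_mem (inv_mem ha) hm, hb⟩
      rwa [snc_disj hW, mem_bot] at this)
    have h2 : ((⟨a * b, mul_mem_sup ha hb⟩ : ↥(W₁ ⊔ W₂)) : G) ∉ W₂ := fun hm => ha1 (by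
      have : a ∈ W₁ ⊓ W₂ := ⟨ha, by simpa using mul_mem hm (inv_mem hb)⟩
      rwa [snc_disj hW, mem_bot] at this)
    have e := congrFun h ((⟨a * b, mul_mem_sup ha hb⟩ : ↥(W₁ ⊔ W₂)) : G)
    rw [Pi.neg_apply, (hc _ h1 h2).1, (hc _ h1 h2).2, lc_apply] at e
    exact Units.ne_zero (ω⁻¹ (⟨a * b, mul_mem_sup ha hb⟩ : ↥(W₁ ⊔ W₂))) (by linear_combination e / 2)

variable (hQ : ∀ a ∈ Q, ∀ b ∈ Q, a * b = b * a)
include hQ

/-- KEY: the coefficients modulo `p`. -/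
theorem dvd_coeff {φ φ' α ψ : ↥(W₁ ⊔ W₂) →* ℂˣ} (hφ : φ ∈ trivOn _ W₂) (hφ' : φ' ∈ trivOn _ W₂)
    (hα : α ∈ trivOn _ W₂) (hψ : ψ ∈ trivOn _ W₁) [Decidable (α = φ)] [Decidable (α = φ')] :
    (p : ℤ) ∣ iq (Df (D.lift hQ φ) (D.lift hQ φ')) (χ (α * ψ)) -
      ((if α = φ then 1 else 0) - if α = φ' then 1 else 0) := by
  classical
  let _ := Fintype.ofFinite Q
  let _ := Fintype.ofFinite W₁
  set η := χ (α * ψ) with hη
  set F := Df (D.lift hQ φ) (D.lift hQ φ') with hF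
  set N : ℤ := (if α = φ then 1 else 0) - if α = φ' then 1 else 0 with hN
  have hηg : IsGeneralizedCharacter G η := (sg_eta hχ _).gen
  have hηc : IsClassFunction G η := isClassFunction_of_isGeneralized hηg
  set d : Q → ℂ := fun x => conj (lc (D.lift hQ φ) x - lc (D.lift hQ φ') x) with hd
  have hdi : ∀ x, IsIntegral ℤ (d x) := fun x => by
    rw [hd]
    simp only [map_sub, lc_conj]
    exact (lc_isIntegral _ x).sub (lc_isIntegral _ x)
  set g : G → ℂ := extendByZero Q (fun x => η x * d x) with hg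
  have hgx : ∀ x : Q, g x = η x * d x := fun x => extendByZero_mem Q _ x.2
  -- the sum over `Q`
  have hsumQ : ∑ x : Q, g x = ((Nat.card Q : ℤ) * iq F η : ℤ) := by
    have h1 : classInner η F = (iq F η : ℂ) := by
      rw [← classInner_conj, iq_spec (Df_gen _ _) hηg, map_intCast]
    rw [hF, inner_Df _ _ hηc, ← classInner_sub_right] at h1
    simp only [classInner, Pi.sub_apply] at h1
    rw [Finset.sum_congr rfl fun x _ => hgx x, Int.cast_mul, Int.cast_natCast, ← h1, ← mul_assoc,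
      mul_inv_cancel₀ (Nat.cast_ne_zero.2 Nat.card_pos.ne'), one_mul]
  -- the fixed points
  obtain ⟨w, hw, hw1, -⟩ := D.exists_gen
  obtain ⟨z, hz, he⟩ := cong_sum_fixed D.prime (D.pow_p hw) Q (fun x hx => D.norm₂ hw hx) g
    (fun x hx => by
      rw [hgx ⟨x, hx⟩]
      exact (generalized_isIntegral hηg _).mul (hdi _))
    (fun x hx => by
      have hx' := D.norm₂ hw hx
      rw [hgx ⟨x, hx⟩, hgx ⟨_, hx'⟩]
      have e : (⟨w * x * w⁻¹, hx'⟩ : Q) = D.conjQ ⟨w⁻¹, D.mem_H₂ (inv_mem hw)⟩ ⟨x, hx⟩ :=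
        Subtype.ext (by simp [conjQ_apply])
      have e1 : ∀ β, lc (D.lift hQ β) (⟨w * x * w⁻¹, hx'⟩ : Q) = lc (D.lift hQ β) ⟨x, hx⟩ := fun β => by
        rw [e, lc_apply, lc_apply, ← tw_apply, D.lift_fixed hQ β _ (inv_mem hw)]
      congr 1
      · exact hηc x w
      · simp only [hd, e1])
    W₁ (D.fix w hw hw1)
  -- the sum over `W₁`
  obtain ⟨b, hb, hb1, -⟩ := D.exists_gen
  let j : W₁ → ↥(W₁ ⊔ W₂) := fun x => ⟨x, mem_sup_left x.2⟩
  have hω : ∀ x : W₁, Cong p (g x * 1) (lc (α * ψ) (j x) *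
      conj (lc φ (j x) - lc φ' (j x))) := by
    intro x
    rw [mul_one, hgx ⟨x, D.leW₁ x.2⟩, hd]
    simp only [lc_apply, D.lift_apply hQ (x := ⟨x, D.leW₁ x.2⟩) x.2]
    by_cases hx : (x : G) = 1
    · have : j x = 1 := Subtype.ext hx
      simp only [show (⟨(x : G), mem_sup_left x.2⟩ : ↥(W₁ ⊔ W₂)) = j x from rfl, this, map_one]
      simp [cong_refl]
    let b' : ↥(W₁ ⊔ W₂) := ⟨b, mem_sup_right hb⟩
    have hcom : Commute b (x : G) := (D.comm₁ x.2 hb).symm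
    have hv1 : ((b' * j x : ↥(W₁ ⊔ W₂)) : G) ∉ W₁ := fun hm => hb1 (by
      have : b ∈ W₁ ⊓ W₂ := ⟨by simpa [b', j] using mul_mem hm (inv_mem x.2), hb⟩
      rwa [snc_disj D.snc, mem_bot] at this)
    have hv2 : ((b' * j x : ↥(W₁ ⊔ W₂)) : G) ∉ W₂ := fun hm => hx (by
      have : (x : G) ∈ W₁ ⊓ W₂ := ⟨x.2, by simpa [b', j] using mul_mem (inv_mem hb) hm⟩
      rwa [snc_disj D.snc, mem_bot] at this)
    have c1 := cong_mul_of_pow_prime D.prime hηg (k := 1) (by rw [pow_one]; exact D.pow_p hb) hcom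
    have c2 := cong_mul_of_pow_prime D.prime
      (isGeneralizedCharacter_of_isCharacter (isCharacter_of_isIrr (isIrrCharacter_lc (α * ψ))))
      (k := 1) (x := b') (y := j x) (by rw [pow_one]; exact Subtype.ext (D.pow_p hb))
      (Subtype.ext hcom.eq)
    rw [show η (b * (x : G)) = lc (α * ψ) (b' * j x) from hχ.eq_on _ _ hv1 hv2] at c1
    have c3 := Cong.trans (generalized_isIntegral hηg _) (lc_isIntegral _ _) (lc_isIntegral _ _) c1.symm c2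
    have hint : IsIntegral ℤ (conj ((φ (j x) : ℂ) - (φ' (j x) : ℂ))) := by
      rw [map_sub, ← lc_apply, ← lc_apply, lc_conj, lc_conj]
      exact (lc_isIntegral _ _).sub (lc_isIntegral _ _)
    have c4 := c3.mul_left hint
    simpa [mul_comm, lc_apply, j] using c4
  have hrhs : ∑ x : W₁, lc (α * ψ) (j x) * conj (lc φ (j x) - lc φ' (j x)) =
      ((Nat.card W₁ : ℤ) * N : ℤ) := by
    let r : (↥(W₁ ⊔ W₂) →* ℂˣ) → (↥W₁ →* ℂˣ) := fun β => β.comp (Subgroup.inclusion le_sup_left)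
    have hr : ∀ β ∈ trivOn (W₁ ⊔ W₂) W₂, (r α = r β ↔ α = β) := fun β hβ => by
      refine ⟨fun h => MonoidHom.ext fun v => ?_, fun h => by rw [h]⟩
      obtain ⟨a, c, ha, hc, rfl⟩ := exists_decomp (snc_disj D.snc) (snc_comm D.snc) v
      rw [map_mul, map_mul, hα c hc, hβ c hc, mul_one, mul_one]
      exact DFunLike.congr_fun h ⟨a, ha⟩
    have hαψ : r (α * ψ) = r α := MonoidHom.ext fun x => by
      show (α * ψ) (j x) = α (j x)
      rw [MonoidHom.mul_apply, hψ (j x) x.2, mul_one]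
    have h := congrArg (fun z => (Nat.card W₁ : ℂ) * z)
      (show classInner (lc (r (α * ψ))) (lc (r φ) - lc (r φ')) = (N : ℂ) by
        rw [classInner_sub_right, classInner_lc, classInner_lc, hαψ, hN]
        simp only [hr φ hφ, hr φ' hφ']
        push_cast
        rfl)
    simp only [classInner, ← mul_assoc,
      mul_inv_cancel₀ (a := (Nat.card W₁ : ℂ)) (Nat.cast_ne_zero.2 Nat.card_pos.ne'), one_mul] at h
    rw [Int.cast_mul, Int.cast_natCast, ← h]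
    rfl
  have hcong : Cong p ((((Nat.card Q : ℤ) * iq F η : ℤ)) : ℂ) (((Nat.card W₁ : ℤ) * N : ℤ) : ℂ) := by
    have h1 : Cong p (∑ x : W₁, g x * 1) (((Nat.card W₁ : ℤ) * N : ℤ) : ℂ) := by
      rw [← hrhs]
      refine cong_sum _ _ _ (fun x => ?_) (fun x => ?_) fun x _ => hω x
      · rw [mul_one, hgx ⟨x, D.leW₁ x.2⟩]
        exact (generalized_isIntegral hηg _).mul (hdi _)
      · rw [map_sub, lc_conj, lc_conj]
        exact (lc_isIntegral _ _).mul ((lc_isIntegral _ _).sub (lc_isIntegral _ _))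
    simp only [mul_one] at h1
    rw [← hsumQ]
    have hgi : IsIntegral ℤ (∑ x : W₁, g x) := IsIntegral.sum _ fun x _ => by
      rw [hgx ⟨x, D.leW₁ x.2⟩]
      exact (generalized_isIntegral hηg _).mul (hdi _)
    have hQi : IsIntegral ℤ (∑ x : Q, g x) := by
      rw [he]; exact hgi.add (IsIntegral.mul (by simpa using isIntegral_algebraMap (R := ℤ) (A := ℂ) (x := (p : ℤ))) hz)
    exact (cong_of_eq hz he).trans hQi hgi (isIntegral_intCast (R := ℤ) _) h1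
  have hdiv := hcong.dvd D.prime
  have hp : Prime (p : ℤ) := Nat.prime_iff_prime_int.1 D.prime
  have h3 : (p : ℤ) ∣ (Nat.card W₁ : ℤ) * (iq F η - N) := by
    have h4 := dvd_sub hdiv (D.card_Q_mod.mul_right (iq F η))
    rwa [show (Nat.card Q : ℤ) * iq F η - (Nat.card W₁ : ℤ) * N -
      ((Nat.card Q : ℤ) - Nat.card W₁) * iq F η = (Nat.card W₁ : ℤ) * (iq F η - N) by ring] at h4
  exact (hp.dvd_or_dvd h3).resolve_left fun hd' =>
    D.not_dvd_Q ((Int.natCast_dvd_natCast.1 hd').trans (card_dvd_of_le D.leW₁))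

/-- Two characters in no invariant orbit: orthogonal to the whole family. -/
theorem free_free [Fintype Q] {lam mu : ↥Q →* ℂˣ} (hl : ¬ D.OrbFixed lam) (hm : ¬ D.OrbFixed mu)
    (ω : ↥(W₁ ⊔ W₂) →* ℂˣ) : iq (Df lam mu) (χ ω) = 0 := by
  refine iq_eq _ ?_
  rw [Int.cast_zero]
  refine perp_of_norm_two D.snc D.odd_sup hχ (Df_gen _ _) ?_ (fun _ h1 _ => D.Df_vanishV lam mu h1) ω
  rw [D.iq_Df_Df hQ, D.num_free_self hl, D.num_free_self hm]
  omega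

omit hχ in
theorem norm_fixed_fixed [Fintype Q] {φ φ' : ↥(W₁ ⊔ W₂) →* ℂˣ} (hφ : φ ∈ trivOn _ W₂)
    (hφ' : φ' ∈ trivOn _ W₂) (h1 : φ ≠ 1) (h1' : φ' ≠ 1) (hne : φ ≠ φ') :
    iq (Df (D.lift hQ φ) (D.lift hQ φ')) (Df (D.lift hQ φ) (D.lift hQ φ')) = 2 * p := by
  have hl : D.lift hQ φ ≠ D.lift hQ φ' := fun e => hne (D.lift_inj hQ hφ hφ' e)
  rw [D.iq_Df_Df hQ, D.num_fixed_self (D.lift_fixed hQ φ) (D.lift_ne_one hQ hφ h1),
    D.num_fixed_self (D.lift_fixed hQ φ') (D.lift_ne_one hQ hφ' h1'),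
    D.num_fixed_fixed (D.lift_fixed hQ φ) (D.lift_fixed hQ φ') (D.lift_ne_one hQ hφ' h1') hl,
    D.num_fixed_fixed (D.lift_fixed hQ φ') (D.lift_fixed hQ φ) (D.lift_ne_one hQ hφ h1) hl.symm]
  ring

omit hχ in
theorem norm_fixed_free [Fintype Q] {φ : ↥(W₁ ⊔ W₂) →* ℂˣ} (hφ : φ ∈ trivOn _ W₂) (h1 : φ ≠ 1)
    {mu : ↥Q →* ℂˣ} (hm : ¬ D.OrbFixed mu) :
    iq (Df (D.lift hQ φ) mu) (Df (D.lift hQ φ) mu) = p + 1 := by
  rw [D.iq_Df_Df hQ, D.num_fixed_self (D.lift_fixed hQ φ) (D.lift_ne_one hQ hφ h1),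
    D.num_free_self hm, D.num_free_fixed hm (D.lift_fixed hQ φ), D.num_fixed_free (D.lift_fixed hQ φ) hm]
  push_cast
  ring

/-- The coefficients for two invariant characters. -/
theorem pair_coeff [Fintype Q] {φ φ' α ψ : ↥(W₁ ⊔ W₂) →* ℂˣ} (hφ : φ ∈ trivOn _ W₂)
    (hφ' : φ' ∈ trivOn _ W₂) (h1 : φ ≠ 1) (h1' : φ' ≠ 1) (hne : φ ≠ φ')
    (hα : α ∈ trivOn _ W₂) (hψ : ψ ∈ trivOn _ W₁) [Decidable (α = φ)] [Decidable (α = φ')] :
    iq (Df (D.lift hQ φ) (D.lift hQ φ')) (χ (α * ψ)) =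
      (if α = φ then 1 else 0) - if α = φ' then 1 else 0 := by
  classical
  set F := Df (D.lift hQ φ) (D.lift hQ φ') with hF
  have hn := D.norm_fixed_fixed hQ hφ hφ' h1 h1' hne
  have hsum : ∀ S : Finset (↥(W₁ ⊔ W₂) →* ℂˣ), ∑ ω ∈ S, iq F (χ ω) ^ 2 ≤ 2 * p := fun S =>
    hn ▸ sum_sq_le_norm S χ (fun i _ => sg_eta hχ i) (fun i _ j _ h => iq_eta_ne hχ h) (Df_gen _ _)
  have hc1 : iq F (χ 1) = 0 := iq_Df_one hχ (D.lift_ne_one hQ hφ h1) (D.lift_ne_one hQ hφ' h1')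
  have hb : ∀ β ∈ trivOn (W₁ ⊔ W₂) W₁, iq F (χ β) = 0 := fun β hβ => by
    have hd := D.dvd_coeff hχ hQ hφ hφ' (one_mem (trivOn (W₁ ⊔ W₂) W₂)) hβ
    rw [if_neg h1.symm, if_neg h1'.symm, sub_zero, sub_zero,
      show (1 : ↥(W₁ ⊔ W₂) →* ℂˣ) * β = β from one_mul β] at hd
    have hs := hsum {β}
    rw [Finset.sum_singleton] at hs
    exact eq_zero_of_dvd_sq D.three_le hd hs
  have hrow : ∀ β ∈ trivOn (W₁ ⊔ W₂) W₁, iq F (χ (α * β)) = iq F (χ α) := fun β hβ => by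
    rw [D.iq_rule_Df hχ _ _ hα hβ, hb β hβ, hc1]
    ring
  have hs := hsum ((dualFin (W₁ ⊔ W₂) W₁).image (α * ·))
  rw [Finset.sum_image (fun x _ y _ e => mul_left_cancel e),
    Finset.sum_congr rfl (fun β hβ => by rw [hrow β (mem_dualFin.1 hβ)]),
    Finset.sum_const, nsmul_eq_mul, card_dual₁ D] at hs
  have hd := D.dvd_coeff hχ hQ hφ hφ' hα hψ
  rw [hrow ψ hψ] at hd ⊢
  set a := iq F (χ α)
  set N : ℤ := (if α = φ then 1 else 0) - if α = φ' then 1 else 0 with hN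
  have hNb : -1 ≤ N ∧ N ≤ 1 := by rw [hN]; split_ifs <;> omega
  have hp3 : (3 : ℤ) ≤ p := by exact_mod_cast D.three_le
  have ha2 : a ^ 2 ≤ 2 := le_of_mul_le_mul_left (a := (p : ℤ)) (by linarith) (by omega)
  have ha : -1 ≤ a ∧ a ≤ 1 := by constructor <;> nlinarith
  have := Int.eq_zero_of_abs_lt_dvd hd (abs_lt.2 ⟨by omega, by omega⟩)
  omega
where
  card_dual₁ (D : Data T Q W₁ W₂ V p) : (dualFin (W₁ ⊔ W₂) W₁).card = p := by
    rw [← D.card₂, ← card_trivOn_fst (snc_disj D.snc) (snc_comm D.snc) (snc_mul_comm_snd D.snc),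
      ← Nat.card_eq_finsetCard]
    exact Nat.card_congr (Equiv.subtypeEquivRight fun _ => mem_dualFin)

end Data

end CfsgLib.FT.TwoSide
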