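import Cfsg.Agent.Lib.FT.NotTypeVMult
import Cfsg.Agent.Lib.FT.TypeTwoRows
import Cfsg.Agent.Lib.Char.CoherenceDescend

/-!
# Type V, `W₂ ≰ Z(P)`: the columns (`docs/FT.md`, §4)

* `col_congr`: `(η_0l|S, μ'_j) ≡ δ ((η_0l|S, φ₀) + 1) (mod e)` for `l ≠ j`, both non-trivial;
* `col_deg`: the degree `d` of `μ_0j` has `d² ≤ |P : N|`.
-/

set_option autoImplicit false
set_option linter.unusedSectionVars false
set_option linter.style.haveILetI false

open Subgroup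

namespace CfsgLib.FT.TypeV

open scoped ComplexConjugate commutatorElement
open Cfsg CfsgLib.Char CfsgLib.Char.Signed CfsgLib.FT.Rect CfsgLib.CFun

universe u

variable {G : Type u} [Group G] [Fintype G] {S W₁ W₂ P Cc : Subgroup G} {p e : ℕ}
  (h : Rect.Kappa S W₁ ⊥ W₂)
include h

/-- The orbits of `W₁` outside `W₂` are regular. -/
theorem orbit_sum {K : Subgroup G} [Fintype ↥K] [Fintype ↥(K ⊓ W₂)] (hKσ : K ≤ Cfsg.sigmaCore S)
    (hSK : S ≤ normalizer (K : Set G)) {g : G → ℂ}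
    (hinv : ∀ v ∈ W₁, ∀ a, g (v * a * v⁻¹) = g a) (hint : ∀ a, IsIntegral ℤ (g a)) :
    ∃ r : ℂ, IsIntegral ℤ r ∧
      ∑ a : K, g a = ∑ z : (K ⊓ W₂ : Subgroup G), g z + (Nat.card W₁ : ℂ) * r := by
  classical
  set Q : Subgroup (ConjAct G) := W₁.map ConjAct.toConjAct.toMonoidHom with hQdef
  have hQ : Nat.card Q = Nat.card W₁ :=
    (Nat.card_congr (W₁.equivMapOfInjective _ ConjAct.toConjAct.injective).toEquiv).symm
  have hQ' : ∀ u : Q, ∃ v ∈ W₁, (u ≠ 1 → v ≠ 1) ∧ ∀ w : G, u • w = v * w * v⁻¹ := by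
    rintro ⟨_, v, hv, rfl⟩
    exact ⟨v, hv, fun h e => h (Subtype.ext (by simp [e])), fun w => rfl⟩
  let F : G → ℂ := fun a => if a ∈ K ∧ a ∉ W₂ then g a else 0
  have hW : ∀ v ∈ W₁, ∀ a : G, (v * a * v⁻¹ ∈ W₂ ↔ a ∈ W₂) := fun v hv a => by
    have hc : ∀ z ∈ W₂, v * z * v⁻¹ = z := fun z hz => by
      have h1 : v * z = z * v :=
        congrArg Subtype.val (snc_mul_comm h.snc ⟨v, mem_sup_left hv⟩ ⟨z, mem_sup_right hz⟩)
      rw [h1, mul_inv_cancel_right]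
    refine ⟨fun hm => ?_, fun ha => by rw [hc a ha]; exact ha⟩
    have h1 : v * (v * a * v⁻¹) * v⁻¹ = v * a * v⁻¹ := hc _ hm
    rwa [mul_left_cancel (mul_right_cancel h1)] at hm
  have hinv' : ∀ (u : Q) (a : G), F (u • a) = F a := by
    intro u a
    obtain ⟨v, hv, -, hva⟩ := hQ' u
    rw [hva]
    exact if_congr (and_congr ((mem_normalizer_iff.1 (hSK (h.le₁ hv)) a).symm) (not_congr (hW v hv a)))
      (hinv v hv a) rfl
  have hfree : ∀ a, F a ≠ 0 → ∀ u : Q, u • a = a → u = 1 := by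
    intro a ha u hu
    obtain ⟨v, hv, hv1, hva⟩ := hQ' u
    by_contra hne
    have hcase : a ∈ K ∧ a ∉ W₂ := by
      by_contra hc
      exact ha (if_neg hc)
    rw [hva] at hu
    exact hcase.2 (by
      rw [← Parts.fixed₁ h hv (hv1 hne)]
      exact mem_inf.2
        ⟨hKσ hcase.1, mem_centralizer_singleton_iff.2 (mul_inv_eq_iff_eq_mul.1 hu).symm⟩)
  obtain ⟨r, hr, e'⟩ := sum_free_action (P := Q) F hinv' hfree fun a => by
    simp only [F]
    split_ifs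
    exacts [hint a, isIntegral_zero]
  refine ⟨r, hr, ?_⟩
  rw [← hQ, ← e']
  have h1 : ∑ a : K, g a = ∑ a : G, if a ∈ K then g a else 0 := by
    rw [← Finset.sum_filter]
    exact (Finset.sum_subtype (p := fun a => a ∈ K) (Finset.univ.filter fun a => a ∈ K) (by simp) g).symm
  have h2 : ∑ a : (K ⊓ W₂ : Subgroup G), g a = ∑ a : G, if a ∈ K ⊓ W₂ then g a else 0 := by
    rw [← Finset.sum_filter]
    exact (Finset.sum_subtype (p := fun a => a ∈ K ⊓ W₂)
      (Finset.univ.filter fun a => a ∈ K ⊓ W₂) (by simp) g).symm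
  rw [h1, h2, ← Finset.sum_add_distrib]
  refine Finset.sum_congr rfl fun a _ => ?_
  simp only [F, mem_inf]
  split_ifs <;> first | simp_all | ring

/-- An inner product with a function that is `|W₁| g` on `S_σ` and zero outside. -/
theorem inner_on_sigma [Fintype ↥S] [Fintype ↥(Cfsg.sigmaCore S)] (b : G → ℂ) {f : ↥S → ℂ}
    {g : G → ℂ} (h0 : ∀ x : ↥S, (x : G) ∉ Cfsg.sigmaCore S → f x = 0)
    (h1 : ∀ x : ↥S, (x : G) ∈ Cfsg.sigmaCore S → f x = (Nat.card W₁ : ℂ) * g x) :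
    (Nat.card (Cfsg.sigmaCore S) : ℂ) * classInner (fun x : ↥S => b x) f =
      ∑ a : Cfsg.sigmaCore S, b a * conj (g a) := by
  classical
  have hS : Nat.card S = Nat.card W₁ * Nat.card (Cfsg.sigmaCore S) := by
    rw [Decomp.card_eq h.minSimple h.coatom h.decomp, card_bot, one_mul]
  have hσ : (Nat.card (Cfsg.sigmaCore S) : ℂ) ≠ 0 := Nat.cast_ne_zero.2 Nat.card_pos.ne'
  have hW : (Nat.card W₁ : ℂ) ≠ 0 := Nat.cast_ne_zero.2 Nat.card_pos.ne'
  have key : ∑ x : ↥S, b x * conj (f x) =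
      (Nat.card W₁ : ℂ) * ∑ a : Cfsg.sigmaCore S, b a * conj (g a) := by
    rw [← Finset.sum_filter_add_sum_filter_not Finset.univ (fun x : ↥S => (x : G) ∈ Cfsg.sigmaCore S),
      Finset.sum_eq_zero (s := Finset.univ.filter fun x : ↥S => ¬ (x : G) ∈ Cfsg.sigmaCore S)
        fun x hx => by rw [h0 x (Finset.mem_filter.1 hx).2, map_zero, mul_zero], add_zero,
      Finset.mul_sum]
    refine Finset.sum_bij' (fun x hx => ⟨(x : G), (Finset.mem_filter.1 hx).2⟩)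
      (fun a _ => ⟨(a : G), map_subtype_le _ a.2⟩) (fun _ _ => Finset.mem_univ _)
      (fun a _ => Finset.mem_filter.2 ⟨Finset.mem_univ _, a.2⟩) (fun _ _ => rfl) (fun _ _ => rfl)
      fun x hx => ?_
    rw [h1 x (Finset.mem_filter.1 hx).2, map_mul, map_natCast]
    show b x * _ = (Nat.card W₁ : ℂ) * (b x * conj (g x))
    ring
  rw [classInner, hS, Nat.cast_mul, key, mul_inv]
  field_simp

variable (Pt : Parts S P Cc p) (he : Nat.card W₁ = e) (hep : e.Prime) (hp : Nat.card W₂ = p)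
  {mu : (↥(W₁ ⊔ W₂) →* ℂˣ) → (↥S → ℂ)} {sgn : (↥(W₁ ⊔ W₂) →* ℂˣ) → ℤ} (C : IsCols S W₁ W₂ mu sgn)
  (hNB : NoBad G)
include C hNB

/-- A column on `S_σ`. -/
theorem col_on_sigma {ψ : ↥(W₁ ⊔ W₂) →* ℂˣ} {x : ↥S} (hx : (x : G) ∈ Cfsg.sigmaCore S) :
    colSum mu ψ x = (Nat.card W₁ : ℂ) * mu ψ x := by
  have hx' : (x : G) ∈ ⁅S, S⁆ := by rw [derived_eq h]; exact hx
  rw [colSum, Finset.sum_apply, Finset.sum_congr rfl fun φ hφ =>
    C.res_congr h (mem_dualFin.1 hφ) ψ hx', Finset.sum_const, card_dualFin h.snc, nsmul_eq_mul]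

omit hNB in
/-- The values of `μ_0j` on `W₂`. -/
theorem mu_W₂ [Fintype ↥S] (hep' : (Nat.card W₁).Prime) {ψ : ↥(W₁ ⊔ W₂) →* ℂˣ} (hψ : ψ ∈ trivOn (W₁ ⊔ W₂) W₁)
    {z : G} (hz : z ∈ W₂) (hzS : z ∈ S) :
    Cong (Nat.card W₁) (mu ψ ⟨z, hzS⟩) ((sgn ψ : ℂ) * (ψ ⟨z, mem_sup_right hz⟩ : ℂ)) := by
  obtain ⟨k, hk, hk1, hke⟩ := Parts.exists_k (e := Nat.card W₁) h rfl hep'
  have hkW : k ∉ W₂ := fun hkw => hk1 (by
    have h0 : k ∈ W₁ ⊓ W₂ := ⟨hk, hkw⟩
    rwa [snc_disj h.snc, mem_bot] at h0)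
  have hcomm : k * z = z * k :=
    congrArg Subtype.val (snc_mul_comm h.snc ⟨k, mem_sup_left hk⟩ ⟨z, mem_sup_right hz⟩)
  set w : ↥(W₁ ⊔ W₂) := ⟨k, mem_sup_left hk⟩ * ⟨z, mem_sup_right hz⟩ with hw
  have hv := C.value ψ w (⟨k, h.le₁ hk⟩ * ⟨z, hzS⟩) rfl
    fun hc => hkW ((Subgroup.mul_mem_cancel_right W₂ hz).1 hc)
  rw [hw, map_mul, hψ ⟨k, mem_sup_left hk⟩ hk, one_mul] at hv
  rw [← hv]
  exact (cong_mul_of_pow_prime (k := 1) hep'
    (C.mu_gen (U := ⊥) (h := h) ψ) (x := (⟨k, h.le₁ hk⟩ : ↥S)) (y := ⟨z, hzS⟩)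
    (Subtype.ext (by rw [pow_one]; exact hke)) (Subtype.ext hcomm)).symm

variable {χ : (↥(W₁ ⊔ W₂) →* ℂˣ) → (G → ℂ)} (hχ : IsCyclicTIFamily W₁ W₂ χ) (hM : FpfAb S)
include Pt he hep hp hχ hM

/-- The congruence of the coefficients of `η_0l` at the column of `ψ`. -/
theorem col_congr [Fintype ↥S] (φ₀ : Member S) {ψ l : ↥(W₁ ⊔ W₂) →* ℂˣ}
    (hψ : ψ ∈ trivOn (W₁ ⊔ W₂) W₁) (hψ1 : ψ ≠ 1) (hl : l ∈ trivOn (W₁ ⊔ W₂) W₁) (hl1 : l ≠ 1)
    (hne : l ≠ ψ) (hA : iq (indFun S (thetaS mu φ₀)) (χ l) = 1) :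
    (e : ℤ) ∣ iq (fun x : ↥S => χ l x) (colSum mu ψ) -
      sgn ψ * (iq (fun x : ↥S => χ l x) φ₀.1 + 1) := by
  classical
  subst he
  have hG := h.minSimple
  let _ := Fintype.ofFinite ↥(Cfsg.sigmaCore S)
  let _ := Fintype.ofFinite ↥(Cfsg.sigmaCore S ⊓ W₂)
  set b := χ l with hbdef
  have hb : Sg b := sg_eta hχ l
  have hbS : Gen (fun x : ↥S => b x) := isGeneralizedCharacter_comp hb.gen S.subtype
  have hφg : Gen φ₀.1 :=
    isGeneralizedCharacter_of_isCharacter (isCharacter_of_isIrr (member_irr hG hM φ₀))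
  set v : ℤ := iq (fun x : ↥S => b x) (colSum mu ψ) with hv
  set t : ℤ := iq (fun x : ↥S => b x) φ₀.1 with ht
  set m : G → ℂ := extendByZero S (mu ψ) with hmdef
  have e1 := inner_on_sigma h b (f := colSum mu ψ) (g := m)
    (fun x hx => C.col_supp h hNB hψ hψ1 hx)
    (fun x hx => by rw [col_on_sigma h C hNB hx, hmdef, extendByZero_mem S _ x.2])
  rw [iq_spec hbS (C.col_gen h ψ), ← hv] at e1
  have e2 := inner_on_sigma h b (f := colSum mu 1) (g := fun _ => (1 : ℂ))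
    (fun x hx => by rw [col_one_apply h C, if_neg hx])
    (fun x hx => by rw [col_one_apply h C, if_pos hx, mul_one])
  have hsplit : classInner (fun x : ↥S => b x) (colSum mu 1) = (t : ℂ) + 1 := by
    rw [show colSum mu 1 = thetaS mu φ₀ + φ₀.1 by rw [thetaS, sub_add_cancel], classInner_add_right,
      iq_spec hbS hφg, ← classInner_indFun_right S _ _ (isClassFunction_of_isGeneralized hb.gen),
      ← classInner_conj (indFun S (thetaS mu φ₀)) b,
      iq_spec (isGeneralizedCharacter_indFun S (thetaS_gen h C hM φ₀)) hb.gen, hA, map_intCast,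
      Int.cast_one, add_comm, ← ht]
  rw [hsplit] at e2
  have hσS : Cfsg.sigmaCore S ≤ S := map_subtype_le _
  have hmint : ∀ a, IsIntegral ℤ (m a) := fun a => by
    by_cases ha : a ∈ S
    · rw [hmdef, extendByZero_mem S _ ha]
      exact generalized_isIntegral (C.mu_gen h ψ) _
    · rw [hmdef, extendByZero_not_mem S _ ha]
      exact isIntegral_zero
  have hbcl : IsClassFunction G b := isClassFunction_of_isGeneralized hb.gen
  have hminv : ∀ w ∈ W₁, ∀ a, m (w * a * w⁻¹) = m a := fun w hw a => by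
    by_cases ha : a ∈ S
    · have ha' : w * a * w⁻¹ ∈ S := mul_mem (mul_mem (h.le₁ hw) ha) (inv_mem (h.le₁ hw))
      rw [hmdef, extendByZero_mem S _ ha, extendByZero_mem S _ ha']
      exact isClassFunction_of_isGeneralized (C.mu_gen h ψ) ⟨a, ha⟩ ⟨w, h.le₁ hw⟩
    · rw [hmdef, extendByZero_not_mem S _ ha, extendByZero_not_mem S _ fun hc => ha (by
        simpa [mul_assoc] using mul_mem (mul_mem (inv_mem (h.le₁ hw)) hc) (h.le₁ hw))]
  set F : G → ℂ := fun a => b a * conj (m a) - (sgn ψ : ℂ) * b a with hFdef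
  have hbint : ∀ a, IsIntegral ℤ (b a) := fun a => generalized_isIntegral hb.gen a
  have hFint : ∀ a, IsIntegral ℤ (F a) := fun a =>
    ((hbint a).mul ((hmint a).map (starRingEnd ℂ).toIntAlgHom)).sub ((isIntegral_intCast _).mul (hbint a))
  obtain ⟨r, hr, er⟩ := orbit_sum h (K := Cfsg.sigmaCore S) le_rfl
    (TauTwo.sigmaCore_normal hG S) (g := F)
    (fun w hw a => by simp only [hFdef, hminv w hw a, hbcl a w]) hFint
  have hsum : ∑ a : Cfsg.sigmaCore S, F a =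
      (((Nat.card (Cfsg.sigmaCore S) : ℤ) * (v - sgn ψ * (t + 1)) : ℤ) : ℂ) := by
    simp only [hFdef, Finset.sum_sub_distrib, ← Finset.mul_sum]
    simp only [map_one, mul_one] at e2
    rw [← e1, ← e2]
    push_cast
    ring
  -- the values on `W₂`
  let toW : ↥(Cfsg.sigmaCore S ⊓ W₂) →* ↥(W₁ ⊔ W₂) :=
    Subgroup.inclusion (inf_le_right.trans le_sup_right)
  set f₁ : ↥(Cfsg.sigmaCore S ⊓ W₂) →* ℂˣ := (l * ψ⁻¹).comp toW with hf₁
  set f₂ : ↥(Cfsg.sigmaCore S ⊓ W₂) →* ℂˣ := l.comp toW with hf₂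
  set T : ↥(Cfsg.sigmaCore S ⊓ W₂) → ℂ := fun z => (sgn ψ : ℂ) * ((f₁ z : ℂ) - (f₂ z : ℂ)) with hTdef
  have hlin : ∀ f : ↥(Cfsg.sigmaCore S ⊓ W₂) →* ℂˣ, ∀ z, IsIntegral ℤ (f z : ℂ) := fun f z =>
    isCharacter_isIntegral (isCharacter_of_isIrr (isIrrCharacter_lin f)) z
  have hTint : ∀ z, IsIntegral ℤ (T z) := fun z =>
    (isIntegral_intCast _).mul ((hlin _ z).sub (hlin _ z))
  have hterm : ∀ z : ↥(Cfsg.sigmaCore S ⊓ W₂), Cong (Nat.card W₁) (F z) (T z) := by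
    intro z
    have hzS : (z : G) ∈ S := hσS z.2.1
    have hμ : Cong (Nat.card W₁) (m z) ((sgn ψ : ℂ) * (ψ (toW z) : ℂ)) := by
      rw [hmdef, extendByZero_mem S _ hzS]
      exact mu_W₂ h C hep hψ z.2.2 hzS
    have hμc : Cong (Nat.card W₁) (conj (m z)) ((sgn ψ : ℂ) * ((ψ⁻¹) (toW z) : ℂ)) := by
      obtain ⟨n, w, hw, q⟩ := hμ
      refine ⟨n, conj w, hw.map (starRingEnd ℂ).toIntAlgHom, ?_⟩
      rw [← conj_hom]
      have q' := congrArg (starRingEnd ℂ) q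
      simp only [map_pow, map_sub, map_mul, map_intCast, map_natCast] at q'
      exact q'
    rcases eq_or_ne z 1 with rfl | hz1
    · obtain ⟨k, hk⟩ := C.deg_mod ψ
      have hd : m ((1 : ↥(Cfsg.sigmaCore S ⊓ W₂)) : G) = mu ψ 1 := by
        rw [OneMemClass.coe_one, hmdef, extendByZero_mem S _ (one_mem S)]
        rfl
      refine ⟨0, b 1 * (k : ℂ), (hbint 1).mul (isIntegral_intCast k), ?_⟩
      show (b _ * conj (m _) - _ * b _ - _ * (_ - _)) ^ (0 + 1) = _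
      rw [hd, OneMemClass.coe_one, map_one, map_one, sub_self, mul_zero, sub_zero, pow_one]
      obtain ⟨d, -, hd'⟩ := C.deg_nat h ψ
      rw [hd'] at hk ⊢
      rw [Complex.conj_natCast]
      linear_combination (b 1) * hk
    obtain ⟨k, hk, hk1, hke⟩ := Parts.exists_k (e := Nat.card W₁) h rfl hep
    have hzW : (z : G) ∉ W₁ := fun hzw => hz1 (by
      have h0 : (z : G) ∈ W₁ ⊓ W₂ := ⟨hzw, z.2.2⟩
      rw [snc_disj h.snc, mem_bot] at h0
      exact Subtype.ext h0)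
    have hkW : k ∉ W₂ := fun hkw => hk1 (by
      have h0 : k ∈ W₁ ⊓ W₂ := ⟨hk, hkw⟩
      rwa [snc_disj h.snc, mem_bot] at h0)
    have hval : b (k * z) = (l (toW z) : ℂ) := by
      rw [hbdef, show k * (z : G) = ((⟨k, mem_sup_left hk⟩ * toW z : ↥(W₁ ⊔ W₂)) : G) from rfl,
        hχ.eq_on l _ (fun hc => hzW ((Subgroup.mul_mem_cancel_left W₁ hk).1 hc))
          (fun hc => hkW ((Subgroup.mul_mem_cancel_right W₂ z.2.2).1 hc)),
        map_mul, hl ⟨k, mem_sup_left hk⟩ hk, one_mul]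
    have hcomm : Commute k (z : G) :=
      congrArg Subtype.val (snc_mul_comm h.snc ⟨k, mem_sup_left hk⟩ ⟨(z : G), mem_sup_right z.2.2⟩)
    have hbz : Cong (Nat.card W₁) (b z) (f₂ z : ℂ) := by
      show Cong _ _ (l (toW z) : ℂ)
      rw [← hval]
      exact (cong_mul_of_pow_prime hep hb.gen (k := 1) (by rw [pow_one]; exact hke) hcomm).symm
    have hmc : IsIntegral ℤ (conj (m z)) := (hmint z).map (starRingEnd ℂ).toIntAlgHom
    have hψi : IsIntegral ℤ ((sgn ψ : ℂ) * ((ψ⁻¹) (toW z) : ℂ)) :=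
      (isIntegral_intCast _).mul (hlin ((ψ⁻¹).comp toW) z)
    have c1 := hμc.mul_left (hbint z)
    have c2 := hbz.mul_left hψi
    rw [mul_comm _ (b z)] at c2
    have c3 := Cong.trans ((hbint z).mul hmc) ((hbint z).mul hψi) (hψi.mul (hlin f₂ z)) c1 c2
    have c4 := hbz.mul_left (c := -(sgn ψ : ℂ)) (isIntegral_intCast _).neg
    have c5 := Cong.add ((hbint z).mul hmc) (hψi.mul (hlin f₂ z))
      ((isIntegral_intCast _).neg.mul (hbint z)) ((isIntegral_intCast _).neg.mul (hlin f₂ z)) c3 c4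
    convert c5 using 1
    · simp only [hFdef]; ring
    · simp only [hTdef, hf₁, hf₂, MonoidHom.comp_apply, MonoidHom.mul_apply, Units.val_mul]; ring
  have hf0 : ∀ f : ↥(W₁ ⊔ W₂) →* ℂˣ, f ∈ trivOn (W₁ ⊔ W₂) W₁ → f ≠ 1 →
      ∑ z, ((f.comp toW) z : ℂ) = 0 := by
    intro f hf hf1
    have hne : f.comp toW ≠ 1 := fun q => hf1 (trivOn_mul_inj (snc_disj h.snc) (snc_comm h.snc)
      (one_mem _) (fun w hw => DFunLike.congr_fun q ⟨(w : G), mem_inf.2 ⟨h.le₂ hw, hw⟩⟩) hf (one_mem _)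
      ((one_mul _).trans (mul_one _).symm)).2
    have h0 := sum_hom_units ((Units.coeHom ℂ).comp (f.comp toW))
    rw [if_neg fun q => hne (MonoidHom.ext fun z => Units.ext (DFunLike.congr_fun q z))] at h0
    exact h0.trans Nat.cast_zero
  have hT0 : ∑ z, T z = 0 := by
    simp only [hTdef, ← Finset.mul_sum, Finset.sum_sub_distrib, hf₁, hf₂,
      hf0 l hl hl1, hf0 (l * ψ⁻¹) (mul_mem hl (inv_mem hψ)) fun q => hne (mul_inv_eq_one.1 q),
      sub_self, mul_zero]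
  have hc := TwoSide.cong_sum (p := Nat.card W₁) Finset.univ (fun z => F ((z : ↥(Cfsg.sigmaCore S ⊓ W₂)) : G)) T
    (fun z => hFint z) hTint (fun z _ => hterm z)
  rw [hT0] at hc
  have hc' : Cong (Nat.card W₁) (∑ a : Cfsg.sigmaCore S, F a)
      (∑ z : ↥(Cfsg.sigmaCore S ⊓ W₂), F z) := ⟨0, r, hr, by rw [er]; ring⟩
  have hc'' := Cong.trans (IsIntegral.sum _ fun (a : ↥(Cfsg.sigmaCore S)) _ => hFint a)
    (IsIntegral.sum _ fun (a : ↥(Cfsg.sigmaCore S ⊓ W₂)) _ => hFint a) isIntegral_zero hc' hc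
  rw [hsum, ← Int.cast_zero] at hc''
  have hd := hc''.dvd hep
  rw [sub_zero] at hd
  exact IsCoprime.dvd_of_dvd_mul_left (Int.isCoprime_iff_nat_coprime.2 (by
    simpa using Parts.coprime₁ h)) hd

omit hχ hM in
/-- The degree of a column entry. -/
theorem col_deg [Fintype ↥S] {ψ : ↥(W₁ ⊔ W₂) →* ℂˣ} (hψ : ψ ∈ trivOn (W₁ ⊔ W₂) W₁) (hψ1 : ψ ≠ 1)
    {d : ℕ} (hd : mu ψ 1 = (d : ℂ)) :
    d ^ 2 ≤ (centralizer (P : Set G) ⊓ ⁅P, P⁆ : Subgroup G).relIndex P := by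
  classical
  subst he
  haveI := Parts.fact_prime Pt h hp
  have hG := h.minSimple
  haveI := sigmaIn_normal hG (M := S)
  haveI := normalC Pt h
  let _ := Fintype.ofFinite ↥(sigmaIn S)
  let _ := Fintype.ofFinite ↥Cc
  let _ := Fintype.ofFinite ↥(Cc ⊓ W₂)
  let _ := Fintype.ofFinite ↥(Cc.subgroupOf S)
  let _ := Fintype.ofFinite ↥(Cfsg.sigmaCore S)
  set μ : IrrCharacter ↥S := ⟨_, C.irr ψ⟩ with hμdef
  -- trivial on `C`
  set m : G → ℂ := extendByZero S (mu ψ) with hmdef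
  have hCS : Cc ≤ S := Pt.leC.trans (map_subtype_le _)
  obtain ⟨r, hr, er⟩ := orbit_sum h (K := Cc) Pt.leC Pt.normC (g := m)
    (fun w hw a => by
      by_cases ha : a ∈ S
      · rw [hmdef, extendByZero_mem S _ ha,
          extendByZero_mem S _ (mul_mem (mul_mem (h.le₁ hw) ha) (inv_mem (h.le₁ hw)))]
        exact isClassFunction_of_isGeneralized (C.mu_gen h ψ) ⟨a, ha⟩ ⟨w, h.le₁ hw⟩
      · rw [hmdef, extendByZero_not_mem S _ ha, extendByZero_not_mem S _ fun hc => ha (by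
          simpa [mul_assoc] using mul_mem (mul_mem (inv_mem (h.le₁ hw)) hc) (h.le₁ hw))])
    (fun a => by
      by_cases ha : a ∈ S
      · rw [hmdef, extendByZero_mem S _ ha]; exact generalized_isIntegral (C.mu_gen h ψ) _
      · rw [hmdef, extendByZero_not_mem S _ ha]; exact isIntegral_zero)
  have hCW : Cc ⊓ W₂ = ⊥ := eq_bot_iff.2 fun x hx => by
    rw [← Pt.disj]
    exact mem_inf.2 ⟨(Parts.W₂_le Pt h hp).trans (commutator_le_self P) hx.2, hx.1⟩
  have hone : ∑ z : ↥(Cc ⊓ W₂), m z = (d : ℂ) := by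
    rw [Finset.sum_eq_single_of_mem (1 : ↥(Cc ⊓ W₂)) (Finset.mem_univ _) fun z _ hz =>
      absurd (Subtype.ext (mem_bot.1 (hCW.le z.2))) hz, OneMemClass.coe_one,
      hmdef, extendByZero_mem S _ (one_mem S)]
    exact hd
  have hres : classInner (fun c : Cc.subgroupOf S => (μ : ↥S → ℂ) c) (fun _ => 1) ≠ 0 := by
    rw [classInner]
    refine mul_ne_zero (inv_ne_zero (Nat.cast_ne_zero.2 Nat.card_pos.ne')) fun h0 => ?_
    simp only [map_one, mul_one] at h0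
    have h1 : ∑ a : Cc, m a = ∑ c : Cc.subgroupOf S, (μ : ↥S → ℂ) c :=
      (Fintype.sum_equiv (subgroupOfEquivOfLe hCS).toEquiv _ _ fun c => by
        show (μ : ↥S → ℂ) c = m ((c : ↥S) : G)
        rw [hmdef, extendByZero_mem S _ (c : ↥S).2]).symm
    rw [h1, h0, hone] at er
    have h2 := int_dvd_of_integral (n := Nat.card W₁) Nat.card_pos.ne' (x := (d : ℤ)) (r := -r) hr.neg
      (by push_cast; linear_combination er.symm)
    obtain ⟨k, hk⟩ := C.deg_mod ψ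
    rw [hd] at hk
    have hk' : (d : ℤ) - sgn ψ = k * (Nat.card W₁ : ℤ) := by exact_mod_cast hk
    have h3 : (Nat.card W₁ : ℤ) ∣ sgn ψ := by
      have := dvd_sub h2 (Dvd.intro_left k hk'.symm)
      rwa [sub_sub_cancel] at this
    have := h.three_le
    rcases C.sgn_cases ψ with q | q <;> rw [q] at h3
    · have := Int.le_of_dvd one_pos h3; omega
    · have := Int.le_of_dvd one_pos ((dvd_neg).1 h3); omega
  have htriv : ∀ c : ↥S, (c : G) ∈ Cc → (μ : ↥S → ℂ) c = (μ : ↥S → ℂ) 1 := by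
    intro c hc
    refine constituent_kernel (χ := indFun (Cc.subgroupOf S) fun _ => (1 : ℂ))
      (isCharacter_indFun _ (isCharacter_of_isIrr isIrrCharacter_one)) μ ?_ ?_
    · rw [classInner_indFun (Cc.subgroupOf S) _ _ (isClassFunction_irr μ), ← classInner_conj]
      exact fun q => hres (by simpa using q)
    · simp only [indFun]
      congr 1
      refine Finset.sum_congr rfl fun y _ => ?_
      rw [extendByZero_mem _ _ (show y⁻¹ * c * y ∈ Cc.subgroupOf S by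
          simpa using (normalC Pt h).conj_mem c (mem_subgroupOf.2 hc) y⁻¹),
        extendByZero_mem _ _ (show y⁻¹ * 1 * y ∈ Cc.subgroupOf S by simp [one_mem])]
  -- irreducible on `S_σ`
  set θ : ↥(sigmaIn S) → ℂ := fun x => (μ : ↥S → ℂ) x with hθdef
  have hθc : IsCharacter ↥(sigmaIn S) θ := isCharacter_comp (isCharacter_irr μ) (sigmaIn S).subtype
  have hnorm : classInner θ θ = 1 := by
    have e1 := inner_on_sigma h (fun a => (Nat.card W₁ : ℂ) * m a) (f := colSum mu ψ) (g := m)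
      (fun x hx => C.col_supp h hNB hψ hψ1 hx)
      (fun x hx => by rw [col_on_sigma h C hNB hx, hmdef, extendByZero_mem S _ x.2])
    have e2 : classInner (fun x : ↥S => (Nat.card W₁ : ℂ) * m x) (colSum mu ψ) =
        classInner ((Nat.card W₁ : ℂ) • mu ψ) (colSum mu ψ) := by
      congr 1
      funext x
      rw [Pi.smul_apply, smul_eq_mul, hmdef, extendByZero_mem S _ x.2]
    have e3 : classInner (mu ψ) (colSum mu ψ) = 1 := by
      have := colSum_inner_single h.snc (fun ω ω' => C.mu_inner h ω ω') (one_mem (trivOn _ W₂)) hψ hψ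
      rwa [one_mul, if_pos rfl] at this
    rw [e2, classInner_smul_left, e3, mul_one] at e1
    have e4 : ∑ x : ↥(sigmaIn S), θ x * conj (θ x) =
        (Nat.card (Cfsg.sigmaCore S) : ℂ) := by
      have hW : (Nat.card W₁ : ℂ) ≠ 0 := Nat.cast_ne_zero.2 Nat.card_pos.ne'
      refine mul_left_cancel₀ hW ?_
      rw [mul_comm (Nat.card W₁ : ℂ) (Nat.card (Cfsg.sigmaCore S) : ℂ), e1, Finset.mul_sum]
      let E : ↥(sigmaIn S) ≃ ↥(Cfsg.sigmaCore S) :=
        (subgroupOfEquivOfLe (map_subtype_le _ : Cfsg.sigmaCore S ≤ S)).toEquiv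
      refine Fintype.sum_equiv E _ _ fun x => ?_
      show _ = (Nat.card W₁ : ℂ) * m ((x : ↥S) : G) * conj (m ((x : ↥S) : G))
      rw [hmdef, extendByZero_mem S _ (x : ↥S).2, mul_assoc]
    rw [classInner, e4, show Nat.card ↥(sigmaIn S) = Nat.card (Cfsg.sigmaCore S) from
      Nat.card_congr (subgroupOfEquivOfLe (map_subtype_le _ : Cfsg.sigmaCore S ≤ S)).toEquiv,
      inv_mul_cancel₀ (Nat.cast_ne_zero.2 Nat.card_pos.ne')]
  have hb := degree_sq_le_of_central_section (K := sigmaIn S) (B := Cc.subgroupOf S)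
    (C := sigmaIn S) (D := (Cc ⊔ (centralizer (P : Set G) ⊓ ⁅P, P⁆)).subgroupOf S)
    ⟨θ, isIrr_of_isCharacter_norm_one hθc hnorm⟩
    (fun a ha => by
      show (μ : ↥S → ℂ) a = (μ : ↥S → ℂ) ((1 : ↥(sigmaIn S)) : ↥S)
      rw [OneMemClass.coe_one]
      exact htriv a (mem_subgroupOf.1 ha))
    (fun x hx => mem_subgroupOf.2 (cn_le Pt h (mem_subgroupOf.1 hx))) le_rfl (cn_commutator Pt h)
    (b := d) (by simpa [hθdef, hμdef] using hd)
  rwa [relIndex_self, one_pow, one_mul, relIndex_CN Pt h] at hb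

end CfsgLib.FT.TypeV
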