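import Cfsg.Agent.Lib.FT.NotTypeVIdentity
import Cfsg.Agent.Lib.FT.CentralFamilyInst

/-!
# Type V, `W₂ ≰ Z(P)`: the images of the characters non-trivial on `N` (`docs/FT.md`, §4)

`central_images`: the coherent extension gives signed irreducibles `R χ` that are orthogonal to every
`η` of the cyclic TI family, so `(η|S, χ) / χ 1` is the same for every member.
-/

set_option autoImplicit false
set_option linter.unusedSectionVars false
set_option linter.style.haveILetI false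

open Subgroup

namespace CfsgLib.FT.TypeV

open scoped ComplexConjugate commutatorElement
open Cfsg CfsgLib.Char CfsgLib.Char.Signed CfsgLib.FT.Rect CfsgLib.CFun

universe u

variable {G : Type u} [Group G] [Fintype G]

/-- The coherent images of the members. -/
structure Images (S W₁ W₂ P C : Subgroup G) [Fintype ↥S] (χ : (↥(W₁ ⊔ W₂) →* ℂˣ) → (G → ℂ))
    (R : (↥S → ℂ) → (G → ℂ)) : Prop where
  sg : ∀ φ ∈ centralSet S C (centralizer (P : Set G) ⊓ ⁅P, P⁆), Sg (R φ)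
  orth : ∀ φ ∈ centralSet S C (centralizer (P : Set G) ⊓ ⁅P, P⁆),
    ∀ φ' ∈ centralSet S C (centralizer (P : Set G) ⊓ ⁅P, P⁆), φ ≠ φ' → iq (R φ) (R φ') = 0
  diff : ∀ φ ∈ centralSet S C (centralizer (P : Set G) ⊓ ⁅P, P⁆),
    ∀ φ' ∈ centralSet S C (centralizer (P : Set G) ⊓ ⁅P, P⁆), ∀ a b : ℤ,
      (a : ℂ) * φ 1 = (b : ℂ) * φ' 1 →
      indFun S ((a : ℂ) • φ - (b : ℂ) • φ') = (a : ℂ) • R φ - (b : ℂ) • R φ'
  perp : ∀ φ ∈ centralSet S C (centralizer (P : Set G) ⊓ ⁅P, P⁆), ∀ ω, iq (R φ) (χ ω) = 0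

variable {S W₁ W₂ P C : Subgroup G} [Fintype ↥S] {p e : ℕ} (Pt : Parts S P C p)
  (h : Rect.Kappa S W₁ ⊥ W₂) (he : Nat.card W₁ = e) (hep : e.Prime) (hp : Nat.card W₂ = p)
  (hZ : ¬ W₂ ≤ centralizer (P : Set G)) (hNB : NoBad G)
  {χ : (↥(W₁ ⊔ W₂) →* ℂˣ) → (G → ℂ)} (hχ : IsCyclicTIFamily W₁ W₂ χ)
include Pt h he hep hp hZ

local notation "N₀" => (centralizer (P : Set G) ⊓ ⁅P, P⁆ : Subgroup G)

theorem central_gen {φ : ↥S → ℂ} (hφ : φ ∈ centralSet S C N₀) : Gen φ :=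
  isGeneralizedCharacter_of_isCharacter (isCharacter_of_isIrr (central_irr Pt h he hep hp hZ hφ))

theorem central_inner {φ φ' : ↥S → ℂ} (hφ : φ ∈ centralSet S C N₀) (hφ' : φ' ∈ centralSet S C N₀)
    [Decidable (φ = φ')] : classInner φ φ' = if φ = φ' then 1 else 0 := by
  split_ifs with e'
  · subst e'
    exact classInner_irr_self ⟨_, central_irr Pt h he hep hp hZ hφ⟩
  · exact classInner_irr_ne (χ := ⟨_, central_irr Pt h he hep hp hZ hφ⟩)
      (ψ := ⟨_, central_irr Pt h he hep hp hZ hφ'⟩) fun q => e' (congrArg Subtype.val q)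

theorem central_one_ne {φ : ↥S → ℂ} (hφ : φ ∈ centralSet S C N₀) : φ 1 ≠ 0 :=
  irr_one_ne_zero ⟨_, central_irr Pt h he hep hp hZ hφ⟩

include hNB hχ

theorem central_images : ∃ R, Images S W₁ W₂ P C χ R := by
  classical
  obtain ⟨-, τ₁, ⟨hadd, hsmul, hiso, hgen⟩, hagree⟩ := central_coherent Pt h he hep hp hZ hNB
  have hmem : ∀ φ ∈ centralSet S C N₀, φ ∈ zspan (centralSet S C N₀) := fun φ hφ =>
    Submodule.subset_span hφ
  have hsg : ∀ φ ∈ centralSet S C N₀, Sg (τ₁ φ) := fun φ hφ =>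
    ⟨hgen φ (hmem φ hφ), by
      rw [hiso φ (hmem φ hφ) φ (hmem φ hφ), central_inner Pt h he hep hp hZ hφ hφ, if_pos rfl]⟩
  have horth : ∀ φ ∈ centralSet S C N₀, ∀ φ' ∈ centralSet S C N₀, φ ≠ φ' →
      iq (τ₁ φ) (τ₁ φ') = 0 := fun φ hφ φ' hφ' hne =>
    iq_eq 0 (by
      rw [hiso φ (hmem φ hφ) φ' (hmem φ' hφ'), central_inner Pt h he hep hp hZ hφ hφ', if_neg hne,
        Int.cast_zero])
  have hdiff : ∀ φ ∈ centralSet S C N₀, ∀ φ' ∈ centralSet S C N₀, ∀ a b : ℤ,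
      (a : ℂ) * φ 1 = (b : ℂ) * φ' 1 →
      indFun S ((a : ℂ) • φ - (b : ℂ) • φ') = (a : ℂ) • τ₁ φ - (b : ℂ) • τ₁ φ' := by
    intro φ hφ φ' hφ' a b hab
    have e1 : (a : ℂ) • φ - (b : ℂ) • φ' = a • φ + (-b) • φ' := by
      rw [neg_smul, ← sub_eq_add_neg, ← Int.cast_smul_eq_zsmul ℂ a, ← Int.cast_smul_eq_zsmul ℂ b]
    have h1 : a • φ ∈ zspan (centralSet S C N₀) := Submodule.smul_mem _ _ (hmem φ hφ)
    have h2 : (-b) • φ' ∈ zspan (centralSet S C N₀) := Submodule.smul_mem _ _ (hmem φ' hφ')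
    have h3 : a • φ + (-b) • φ' ∈ zspanOn (centralSet S C N₀) {1}ᶜ :=
      mem_zspanOn_one_iff.2 ⟨Submodule.add_mem _ h1 h2, by
        rw [← e1, Pi.sub_apply, Pi.smul_apply, Pi.smul_apply, smul_eq_mul, smul_eq_mul, hab, sub_self]⟩
    rw [e1, ← hagree _ h3, hadd _ h1 _ h2, hsmul _ (hmem φ hφ), hsmul _ (hmem φ' hφ'), neg_smul,
      ← sub_eq_add_neg, ← Int.cast_smul_eq_zsmul ℂ a, ← Int.cast_smul_eq_zsmul ℂ b]
  refine ⟨τ₁, hsg, horth, hdiff, fun φ hφ ω => ?_⟩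
  obtain ⟨hφ', hne⟩ := central_conj Pt h he hep hp hZ hφ
  obtain ⟨d, -, hd⟩ := isIrrCharacter_degree (central_irr Pt h he hep hp hZ hφ)
  have hd' : Cfsg.conjFun φ 1 = φ 1 := by simp [Cfsg.conjFun, hd]
  set g : ↥S → ℂ := ((1 : ℤ) : ℂ) • φ - ((1 : ℤ) : ℂ) • Cfsg.conjFun φ with hg
  have hF := hdiff φ hφ _ hφ' 1 1 (by rw [hd'])
  rw [← hg, Int.cast_one, one_smul, one_smul] at hF
  have hg1 : g = φ - Cfsg.conjFun φ := by rw [hg, Int.cast_one, one_smul, one_smul]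
  have hgg : Gen g := hg1 ▸ isGeneralizedCharacter_sub (central_gen Pt h he hep hp hZ hφ)
    (central_gen Pt h he hep hp hZ hφ')
  have hg0 : ∀ x : ↥S, (x : G) ∉ Cfsg.sigmaCore S → g x = 0 := fun x hx => by
    rw [hg1, Pi.sub_apply, central_vanish Pt h hφ hx, central_vanish Pt h hφ' hx, sub_self]
  have hS : SuppOn S W₁ W₂ g := suppOn_of_sigma (by rw [hg1, Pi.sub_apply, hd', sub_self]) hg0
  have hperp := perp_of_norm_two h.snc h.odd_sup hχ (isGeneralizedCharacter_indFun S hgg)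
    (le_of_eq (iq_eq 2 (by
      rw [h.ind_isometry hNB hS (isClassFunction_of_isGeneralized hgg) hS, hg1, classInner_sub_left,
        classInner_sub_right, classInner_sub_right, central_inner Pt h he hep hp hZ hφ hφ,
        central_inner Pt h he hep hp hZ hφ hφ', central_inner Pt h he hep hp hZ hφ' hφ,
        central_inner Pt h he hep hp hZ hφ' hφ', if_pos rfl, if_pos rfl, if_neg hne, if_neg hne.symm]
      norm_num)))
    (fun w h1 h2 => by
      rw [h.ind_zhat hNB (isClassFunction_of_isGeneralized hgg) hS w h1 h2]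
      exact hg0 _ fun hσ => h2 (h.sigma_sup w.2 hσ)) ω
  rw [hF, classInner_sub_left, iq_spec (hsg φ hφ).gen (sg_eta hχ ω).gen,
    iq_spec (hsg _ hφ').gen (sg_eta hχ ω).gen, sub_eq_zero, Int.cast_inj] at hperp
  rcases (hsg φ hφ).iq_cases (sg_eta hχ ω) with q | ⟨q, qe⟩ | ⟨q, qe⟩
  · exact q
  · exfalso
    have := horth _ hφ' φ hφ hne
    rw [qe, ← hperp, q] at this
    exact one_ne_zero this
  · exfalso
    have := horth _ hφ' φ hφ hne
    rw [qe, iq_neg_right (hsg _ hφ').gen (sg_eta hχ ω).gen, ← hperp, q, neg_neg] at this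
    exact one_ne_zero this

/-- `(η|S, χ)` is proportional to the degree. -/
theorem central_prop {R : (↥S → ℂ) → (G → ℂ)} (I : Images S W₁ W₂ P C χ R) {φ φ' : ↥S → ℂ}
    (hφ : φ ∈ centralSet S C N₀) (hφ' : φ' ∈ centralSet S C N₀) (ω : ↥(W₁ ⊔ W₂) →* ℂˣ) :
    classInner (fun x : ↥S => χ ω x) φ * φ' 1 = classInner (fun x : ↥S => χ ω x) φ' * φ 1 := by
  obtain ⟨a, -, ha⟩ := isIrrCharacter_degree (central_irr Pt h he hep hp hZ hφ)
  obtain ⟨b, -, hb⟩ := isIrrCharacter_degree (central_irr Pt h he hep hp hZ hφ')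
  have hd := I.diff φ hφ φ' hφ' (b : ℤ) (a : ℤ) (by rw [ha, hb]; push_cast; ring)
  have hcl : IsClassFunction G (χ ω) := isClassFunction_of_isGeneralized (sg_eta hχ ω).gen
  have h1 : classInner (χ ω) (indFun S ((((b : ℤ)) : ℂ) • φ - (((a : ℤ)) : ℂ) • φ')) = 0 := by
    rw [hd, classInner_sub_right, classInner_smul_right, classInner_smul_right,
      iq_spec (sg_eta hχ ω).gen (I.sg φ hφ).gen, iq_spec (sg_eta hχ ω).gen (I.sg φ' hφ').gen,
      iq_comm (sg_eta hχ ω).gen (I.sg φ hφ).gen, iq_comm (sg_eta hχ ω).gen (I.sg φ' hφ').gen,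
      I.perp φ hφ ω, I.perp φ' hφ' ω]
    simp
  rw [classInner_indFun_right S _ _ hcl, classInner_sub_right, classInner_smul_right,
    classInner_smul_right, map_intCast, map_intCast] at h1
  rw [ha, hb]
  push_cast at h1
  linear_combination h1

end CfsgLib.FT.TypeV
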