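import Cfsg.Agent.Lib.FT.NotTypeVCentral
import Cfsg.Agent.Lib.FT.NotTypeVFamily

/-!
# Type V, `W₂ ≰ Z(P)`: multiplicities of the characters non-trivial on `N` (`docs/FT.md`, §4)

With `β a = (Σ_{c ∈ C} η(a c)) / |C|` on `P` for `η = η_0j` with `(τθ_S, η) = 1`: `β` is constant on `N#`,
`β 1 ≡ 1 (mod p)`, and the central character congruence makes `(η|S, φ) / (φ 1 / e)` a rational integer.
-/

set_option autoImplicit false
set_option linter.unusedSectionVars false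
set_option linter.style.haveILetI false

open Subgroup

namespace CfsgLib.FT.TypeV

open scoped ComplexConjugate commutatorElement
open Cfsg CfsgLib.Char CfsgLib.Char.Signed CfsgLib.FT.Rect CfsgLib.CFun

universe u

variable {G : Type u} [Group G] [Fintype G]

/-- The average over the cosets of `B` as a function on `A`. -/
noncomputable def avgFun (A B : Subgroup G) [Fintype B] (b : G → ℂ) : A → ℂ :=
  fun a => (Nat.card B : ℂ)⁻¹ * cosetSum B b a

/-- The central character congruence for a signed irreducible. -/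
theorem sg_sum_mul_sum_cong (hG : Cfsg.IsMinSimpleOddOrder G) (hNB : NoBad G) {M : Subgroup G}
    (hM : IsCoatom M) {b : G → ℂ} (hb : Sg b) {O O' : Finset G}
    (hO : ∀ x ∈ O, x ∈ Cfsg.sigmaCore M) (hO' : ∀ x ∈ O', x ∈ Cfsg.sigmaCore M)
    (hOn : ∀ x ∈ O, ∀ s ∈ M, s * x * s⁻¹ ∈ O) (hOn' : ∀ x ∈ O', ∀ s ∈ M, s * x * s⁻¹ ∈ O') :
    ∃ r : ℂ, IsIntegral ℤ r ∧ (∑ x ∈ O, b x) * ∑ x ∈ O', b x =
      b 1 * ∑ q ∈ O ×ˢ O', b (q.1 * q.2) + (Nat.card (Cfsg.sigmaCore M) : ℂ) * r := by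
  obtain ⟨X, ε, -, rfl⟩ := hb.exists_irr
  obtain ⟨r, hr, e⟩ := sum_mul_sum_cong hG hNB hM X hO hO' hOn hOn'
  refine ⟨(ε : ℂ) ^ 2 * r, ((isIntegral_algebraMap (x := ε)).pow 2).mul hr, ?_⟩
  simp only [Pi.smul_apply, smul_eq_mul, ← Finset.mul_sum]
  linear_combination (ε : ℂ) ^ 2 * e

/-- Cancelling the part prime to `p`. -/
theorem dvd_of_mul_sq_dvd {P C x : ℤ} (hC : C ≠ 0) (hco : IsCoprime P C) (h : P * C ∣ C ^ 2 * x) :
    P ∣ x := by
  rw [mul_comm P C, pow_two, mul_assoc] at h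
  exact hco.dvd_of_dvd_mul_left (Int.dvd_of_mul_dvd_mul_left hC h)

variable {S W₁ W₂ P Cc : Subgroup G} {p e : ℕ} (Pt : Parts S P Cc p) (h : Rect.Kappa S W₁ ⊥ W₂)
include Pt h

/-- The projection of `S_σ` on `P`. -/
theorem exists_proj [Fintype ↥Cc] [Fintype ↥P] [Fintype ↥(sigmaIn S)] :
    ∃ π : ↥(sigmaIn S) →* ↥P,
      (∀ a : P, ∀ x : ↥(sigmaIn S), ((x : ↥S) : G) = a → π x = a) ∧
      (∀ x : ↥(sigmaIn S), ((x : ↥S) : G) ∈ Cc → π x = 1) ∧
      ∀ (b : G → ℂ) (g : P → ℂ), classInner (fun x : ↥(sigmaIn S) => b x) (fun x => g (π x)) =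
        classInner (avgFun P Cc b) g := by
  classical
  have hPC : ∀ a : P, ∀ c : Cc, Commute (a : G) c := fun a c => Pt.comm a a.2 c c.2
  let Φ₀ : P × Cc →* G := MonoidHom.noncommCoprod P.subtype Cc.subtype hPC
  have hΦσ : ∀ x, Φ₀ x ∈ Cfsg.sigmaCore S := fun x => mul_mem (Pt.leP x.1.2) (Pt.leC x.2.2)
  let Φ : P × Cc →* ↥(sigmaIn S) :=
    (Φ₀.codRestrict S fun x => map_subtype_le _ (hΦσ x)).codRestrict (sigmaIn S)
      fun x => mem_subgroupOf.2 (hΦσ x)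
  have hinj : Function.Injective Φ := fun x y e' => by
    have e0 : (x.1 : G) * x.2 = y.1 * y.2 :=
      congrArg (fun w : ↥(sigmaIn S) => ((w : ↥S) : G)) e'
    have e1 : (y.1 : G)⁻¹ * x.1 = y.2 * (x.2 : G)⁻¹ := by
      calc (y.1 : G)⁻¹ * x.1 = (y.1 : G)⁻¹ * (x.1 * x.2) * (x.2 : G)⁻¹ := by group
        _ = _ := by rw [e0]; group
    have hmem : (y.1 : G)⁻¹ * x.1 ∈ P ⊓ Cc :=
      mem_inf.2 ⟨mul_mem (inv_mem y.1.2) x.1.2, e1 ▸ mul_mem y.2.2 (inv_mem x.2.2)⟩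
    rw [Pt.disj, mem_bot, inv_mul_eq_one] at hmem
    rw [← hmem] at e0
    exact Prod.ext (Subtype.ext hmem.symm) (Subtype.ext (mul_left_cancel e0))
  have ecard : Nat.card ↥(sigmaIn S) = Nat.card P * Nat.card Cc := by
    have e1 : Nat.card ↥(sigmaIn S) = Nat.card (Cfsg.sigmaCore S) :=
      Nat.card_congr (subgroupOfEquivOfLe (map_subtype_le _ : Cfsg.sigmaCore S ≤ S)).toEquiv
    rw [e1, ← Pt.sup, card_sup_of_comm Pt.comm Pt.disj]
  have hbij : Function.Bijective Φ := by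
    refine (Fintype.bijective_iff_injective_and_card Φ).2 ⟨hinj, ?_⟩
    rw [← Nat.card_eq_fintype_card, ← Nat.card_eq_fintype_card, Nat.card_prod, ecard]
  let Ψ := MulEquiv.ofBijective Φ hbij
  let π : ↥(sigmaIn S) →* ↥P := (MonoidHom.fst P Cc).comp Ψ.symm.toMonoidHom
  have hπ : ∀ z : P × Cc, π (Ψ z) = z.1 := fun z => congrArg Prod.fst (Ψ.symm_apply_apply z)
  refine ⟨π, fun a x hx => ?_, fun x hx => ?_, fun b g => ?_⟩
  · rw [show x = Ψ (a, 1) from Subtype.ext (Subtype.ext (hx.trans (mul_one (a : G)).symm)), hπ]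
  · rw [show x = Ψ (1, ⟨_, hx⟩) from Subtype.ext (Subtype.ext (one_mul ((x : ↥S) : G)).symm), hπ]
  · rw [classInner, classInner, ecard, Nat.cast_mul, mul_inv, ← Fintype.sum_equiv Ψ.toEquiv
      (fun x : P × Cc => b ((x.1 : G) * x.2) * conj (g x.1)) _ fun x => by
        show b ((x.1 : G) * x.2) * _ = b ((x.1 : G) * x.2) * conj (g (π (Ψ x)))
        rw [hπ], Fintype.sum_prod_type, mul_assoc, Finset.mul_sum (a := (Nat.card Cc : ℂ)⁻¹)]
    refine congrArg _ (Finset.sum_congr rfl fun a _ => ?_)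
    show _ = (Nat.card Cc : ℂ)⁻¹ * cosetSum Cc b a * _
    rw [cosetSum, mul_assoc, Finset.sum_mul]

theorem avgFun_class [Fintype ↥Cc] [Fintype ↥P] {b : G → ℂ} (hb : IsClassFunction G b) :
    IsClassFunction ↥P (avgFun P Cc b) := by
  intro a y
  show (Nat.card Cc : ℂ)⁻¹ * cosetSum Cc b ((y * a * y⁻¹ : P) : G) = (Nat.card Cc : ℂ)⁻¹ * _
  refine congrArg _ (Finset.sum_congr rfl fun c _ => ?_)
  rw [← hb ((a : G) * c) y]
  congr 1
  have hc : (y : G) * c * (y : G)⁻¹ = c := by rw [Pt.comm y y.2 c c.2]; group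
  calc ((y * a * y⁻¹ : P) : G) * c = (y : G) * a * (y : G)⁻¹ * ((y : G) * c * (y : G)⁻¹) := by
        rw [hc]; push_cast; rfl
    _ = _ := by group

section Main

variable (he : Nat.card W₁ = e) (hep : e.Prime) (hp : Nat.card W₂ = p)
  (hZ : ¬ W₂ ≤ centralizer (P : Set G)) (hNB : NoBad G) (hM : FpfAb S)
  {χ : (↥(W₁ ⊔ W₂) →* ℂˣ) → (G → ℂ)} (hχ : IsCyclicTIFamily W₁ W₂ χ)
  {mu : (↥(W₁ ⊔ W₂) →* ℂˣ) → (↥S → ℂ)} {sgn : (↥(W₁ ⊔ W₂) →* ℂˣ) → ℤ} (C : IsCols S W₁ W₂ mu sgn)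
include he hep hp

local notation "N₀" => (centralizer (P : Set G) ⊓ ⁅P, P⁆ : Subgroup G)

include hZ in
/-- An irreducible character of `P` non-trivial on `N` gives a member. -/
theorem central_of_irr [Fintype ↥S] [Fintype ↥Cc] [Fintype ↥P] [Fintype ↥(sigmaIn S)]
    {b : G → ℂ} (hb : Gen b) (X : IrrCharacter P) {n : P} (hn : (n : G) ∈ N₀)
    (hX : (X : P → ℂ) n ≠ (X : P → ℂ) 1) :
    ∃ φ ∈ centralSet S Cc N₀, φ 1 = (e : ℂ) * (X : P → ℂ) 1 ∧
      classInner (avgFun P Cc b) (X : P → ℂ) = classInner (fun x : ↥S => b x) φ := by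
  haveI := sigmaIn_normal h.minSimple (M := S)
  haveI := normalC Pt h
  haveI := normalCN Pt h
  obtain ⟨π, hπP, hπC, hπi⟩ := exists_proj Pt h
  have hsur : Function.Surjective π := fun a =>
    ⟨⟨⟨a, map_subtype_le _ (Pt.leP a.2)⟩, mem_subgroupOf.2 (Pt.leP a.2)⟩, hπP a _ rfl⟩
  set θ : ↥(sigmaIn S) → ℂ := fun x => (X : P → ℂ) (π x) with hθdef
  have hθ : IsIrrCharacter ↥(sigmaIn S) θ := isIrrCharacter_comp_surjective X.2 π hsur
  let nS : ↥S := ⟨n, map_subtype_le _ (Pt.leP n.2)⟩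
  let nK : ↥(sigmaIn S) := ⟨nS, mem_subgroupOf.2 (Pt.leP n.2)⟩
  have hne : θ nK ≠ θ 1 := by
    simp only [hθdef, hπP n nK rfl, map_one]
    exact hX
  refine ⟨indFun (sigmaIn S) θ, ⟨⟨θ, hθ, fun q => hne (by rw [q]), fun x hx => ?_, rfl⟩, fun hin => ?_⟩,
    ?_, ?_⟩
  · simp only [hθdef, hπC x (mem_subgroupOf.1 hx), map_one]
  · refine hne (constituent_kernel
      (isCharacter_comp (isCharacter_indFun _ (isCharacter_of_isIrr hθ)) (sigmaIn S).subtype)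
      ⟨θ, hθ⟩ (classInner_restrict_indFun_self_ne_zero _ hθ) (g := nK) ?_)
    show indFun (sigmaIn S) θ nS = indFun (sigmaIn S) θ ((1 : ↥(sigmaIn S)) : ↥S)
    rw [OneMemClass.coe_one]
    exact trivial_of_mem_inducedIrrAbove (sigmaIn S)
      (fun x hx => mem_subgroupOf.2 (cn_le Pt h (mem_subgroupOf.1 hx))) hin
      (mem_subgroupOf.2 (mem_sup_right hn))
  · rw [indFun_one, central_index Pt h he hep hp]
    simp only [hθdef, map_one]
  · have hcl : IsClassFunction ↥S (fun x : ↥S => b x) :=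
      isClassFunction_of_isGeneralized (isGeneralizedCharacter_comp hb S.subtype)
    rw [classInner_indFun_right _ _ _ hcl]
    exact (hπi b (X : P → ℂ)).symm

include hNB hM hχ C

/-- The average at `1` is `≡ 1 (mod p)`. -/
theorem avg_one [Fintype ↥S] [Fintype ↥Cc] [Fintype ↥P] (φ₀ : Member S)
    {ψ : ↥(W₁ ⊔ W₂) →* ℂˣ} (hA : iq (indFun S (thetaS mu φ₀)) (χ ψ) = 1) :
    ∃ k : ℤ, avgFun P Cc (χ ψ) 1 = 1 + (p : ℂ) * k := by
  classical
  have hG := h.minSimple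
  haveI := Parts.fact_prime Pt h hp
  let _ := Fintype.ofFinite ↥(sigmaIn S)
  obtain ⟨π, hπP, -, hπi⟩ := exists_proj Pt h
  set b := χ ψ with hbdef
  have hb : Sg b := sg_eta hχ ψ
  have hbS : Gen (fun x : ↥S => b x) := isGeneralizedCharacter_comp hb.gen S.subtype
  have hbScl : IsClassFunction ↥S (fun x : ↥S => b x) := isClassFunction_of_isGeneralized hbS
  have hbcl : IsClassFunction G b := isClassFunction_of_isGeneralized hb.gen
  set t : ℤ := iq (fun x : ↥S => b x) φ₀.1 with ht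
  have hφ : ∀ φ : Member S, classInner (fun x : ↥S => b x) φ.1 = t := by
    intro φ
    have h1 : classInner b (indFun S (φ.1 - φ₀.1)) = 0 :=
      member_diff_perp h hχ hNB hM C φ φ₀ ψ
    rw [classInner_indFun_right S _ _ hbcl, classInner_sub_right, sub_eq_zero] at h1
    rw [h1, iq_spec hbS (isGeneralizedCharacter_of_isCharacter
      (isCharacter_of_isIrr (member_irr hG hM φ₀)))]
  have hlin : ∀ f : ↥P →* ℂˣ, f ≠ 1 → classInner (avgFun P Cc b) (fun a => (f a : ℂ)) = t := by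
    intro f hf
    rw [← hπi b fun a => (f a : ℂ)]
    set lam := f.comp π with hlamdef
    have hl : lam ≠ 1 := fun e' => hf (MonoidHom.ext fun a => by
      have := DFunLike.congr_fun e'
        (⟨⟨a, map_subtype_le _ (Pt.leP a.2)⟩, mem_subgroupOf.2 (Pt.leP a.2)⟩ : ↥(sigmaIn S))
      rwa [hlamdef, MonoidHom.comp_apply, hπP a _ rfl] at this)
    refine Eq.trans ?_ (hφ ⟨indSigma S (fun x => (lam x : ℂ)), lam, hl, rfl⟩)
    show _ = classInner _ (indSigma S (fun x => (lam x : ℂ)))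
    rw [indSigma_eq, classInner_indFun_right _ _ _ hbScl]
    rfl
  have hone : classInner (avgFun P Cc b) (fun _ => (1 : ℂ)) = t + 1 := by
    rw [← hπi b fun _ => (1 : ℂ), ← classInner_indFun_right (sigmaIn S) (fun _ => (1 : ℂ)) _ hbScl,
      ← indSigma_eq]
    have hcol : indSigma S (fun _ => 1) = thetaS mu φ₀ + φ₀.1 := by
      funext x
      rw [indOne_eq hG, thetaS, Pi.add_apply, Pi.sub_apply, sub_add_cancel, col_one_apply h C,
        eIndex_eq_card h]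
    rw [hcol, classInner_add_right, hφ φ₀, ← classInner_indFun_right S _ _ hbcl,
      ← classInner_conj (indFun S (thetaS mu φ₀)) b,
      iq_spec (isGeneralizedCharacter_indFun S (thetaS_gen h C hM φ₀)) hb.gen, hA, map_intCast,
      add_comm]
    simp
  have hint : ∀ X : IrrCharacter P, ∃ k : ℤ, classInner (avgFun P Cc b) (X : P → ℂ) = k := by
    intro X
    refine ⟨iq (fun x : ↥(sigmaIn S) => b x) (fun x => (X : P → ℂ) (π x)), ?_⟩
    rw [← hπi b (X : P → ℂ)]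
    exact iq_spec (isGeneralizedCharacter_comp hb.gen ((S.subtype).comp (sigmaIn S).subtype))
      (isGeneralizedCharacter_of_isCharacter (isCharacter_comp (isCharacter_irr X) π))
  obtain ⟨m, hm2, hm, -⟩ := Parts.exists_m Pt h he hep hp
  have hcomm : ⁅P, P⁆.subgroupOf P = commutator P := by
    rw [← map_subtype_commutator, subgroupOf, comap_map_eq_self_of_injective P.subtype_injective]
  have hne : commutator ↥P ≠ ⊤ := fun e' => by
    have h1 : (commutator ↥P).index = p ^ m := by rw [← hcomm]; exact hm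
    rw [e', index_top] at h1
    exact (Nat.one_lt_pow (by omega) (Fact.out : p.Prime).one_lt).ne h1
  let _ := Fintype.ofFinite ↥(⊥ : Subgroup ↥P)
  obtain ⟨k, hk⟩ := trivial_mult_cong Pt.pGroup (⊥ : Subgroup ↥P) bot_le bot_le hne
    (avgFun_class Pt h hbcl) hint hlin hone
  refine ⟨k, ?_⟩
  rw [Fintype.sum_unique, Subgroup.card_bot, Nat.cast_one, one_mul] at hk
  rw [← hk]
  rfl

/-- The coefficients at the members are integral multiples of their degrees. -/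
theorem central_mult [Fintype ↥S] (φ₀ : Member S) (hZ' : ¬ W₂ ≤ centralizer (P : Set G))
    {R : (↥S → ℂ) → (G → ℂ)} (I : Images S W₁ W₂ P Cc χ R)
    {ψ : ↥(W₁ ⊔ W₂) →* ℂˣ} (hA : iq (indFun S (thetaS mu φ₀)) (χ ψ) = 1) :
    ∃ K : ℤ, ∀ φ ∈ centralSet S Cc N₀,
      classInner (fun x : ↥S => χ ψ x) φ * (e : ℂ) = (K : ℂ) * φ 1 := by
  classical
  have hG := h.minSimple
  haveI := Parts.fact_prime Pt h hp
  have hpp : p.Prime := Fact.out
  let _ := Fintype.ofFinite ↥Cc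
  let _ := Fintype.ofFinite ↥P
  let _ := Fintype.ofFinite ↥(sigmaIn S)
  haveI := Fintype.ofFinite (IrrCharacter P)
  obtain ⟨π, hπP, -, hπi⟩ := exists_proj Pt h
  set b := χ ψ with hbdef
  have hb : Sg b := sg_eta hχ ψ
  have hbcl : IsClassFunction G b := isClassFunction_of_isGeneralized hb.gen
  have hbS : Gen (fun x : ↥S => b x) := isGeneralizedCharacter_comp hb.gen S.subtype
  set β := avgFun P Cc b with hβdef
  obtain ⟨k, hk⟩ := avg_one Pt h he hep hp hNB hM hχ C φ₀ hA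
  obtain ⟨hN, hSN, hfix, -⟩ := Parts.noncentral_case Pt h he hep hp hZ'
  obtain ⟨n₀, hn₀, hn₀1⟩ := (bot_or_exists_ne_one N₀).resolve_left hN
  let n₀P : P := ⟨n₀, zN_le Pt h hn₀⟩
  have hn₀P : n₀P ≠ 1 := fun q => hn₀1 (congrArg Subtype.val q)
  obtain ⟨X₁, hX₁⟩ : ∃ X : IrrCharacter P, (X : P → ℂ) n₀P ≠ (X : P → ℂ) 1 := by
    by_contra! hall
    obtain ⟨y, hy⟩ := isConj_iff.1 (isConj_of_irr_agree hall)
    exact hn₀P (conj_eq_one_iff.1 hy)
  obtain ⟨φ₁, hφ₁, hφ₁1, hφ₁c⟩ := central_of_irr Pt h he hep hp hZ' hb.gen X₁ (n := n₀P) hn₀ hX₁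
  obtain ⟨D, hD0, hD⟩ := isIrrCharacter_degree X₁.2
  set c₁ : ℤ := iq (fun x : ↥S => b x) φ₁ with hc₁def
  have hc₁ : classInner (fun x : ↥S => b x) φ₁ = c₁ :=
    iq_spec hbS (central_gen Pt h he hep hp hZ' hφ₁)
  have he0 : (e : ℂ) ≠ 0 := Nat.cast_ne_zero.2 hep.ne_zero
  have hD0' : (D : ℂ) ≠ 0 := Nat.cast_ne_zero.2 hD0.ne'
  have hprop : ∀ φ ∈ centralSet S Cc N₀,
      classInner (fun x : ↥S => b x) φ * ((e : ℂ) * D) = (c₁ : ℂ) * φ 1 := fun φ hφ => by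
    rw [← hD, ← hφ₁1, ← hc₁]
    exact central_prop Pt h he hep hp hZ' hNB hχ I hφ hφ₁ ψ
  have hcoef : ∀ X : IrrCharacter P, ∀ n : P, (n : G) ∈ N₀ → (X : P → ℂ) n ≠ (X : P → ℂ) 1 →
      classInner β (X : P → ℂ) * D = (c₁ : ℂ) * (X : P → ℂ) 1 := by
    intro X n hn hX
    obtain ⟨φ, hφ, hφ1, hφc⟩ := central_of_irr Pt h he hep hp hZ' hb.gen X hn hX
    have := hprop φ hφ
    rw [hφ1, ← hφc] at this
    exact mul_left_cancel₀ he0 (by linear_combination this)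
  obtain ⟨s, hs⟩ := IsPGroup.iff_card.1 Pt.pGroup
  obtain ⟨i, -, hi⟩ := (Nat.dvd_prime_pow hpp).1 (hs ▸ degree_dvd_card X₁ hD)
  have hDs : i < s := by
    by_contra hcon
    have h1 : (p : ℂ) ^ (2 * i) ≠ 0 := pow_ne_zero _ (Nat.cast_ne_zero.2 hpp.ne_zero)
    have hsum := sum_degree_sq (G := P)
    rw [hs, ← Finset.add_sum_erase _ _ (Finset.mem_univ X₁), hD, hi] at hsum
    choose d hd using fun X : IrrCharacter P => (isIrrCharacter_degree X.2).imp fun _ h => h.2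
    have hone : ∑ X ∈ Finset.univ.erase X₁, (X : P → ℂ) 1 ^ 2 =
        ((∑ X ∈ Finset.univ.erase X₁, d X ^ 2 : ℕ) : ℂ) := by
      push_cast
      exact Finset.sum_congr rfl fun X _ => by rw [hd]
    rw [hone, ← Nat.cast_pow, ← Nat.cast_add, Nat.cast_inj] at hsum
    have h2 : p ^ s ≤ p ^ i := Nat.pow_le_pow_right hpp.pos (by omega)
    have h3 : 1 ≤ ∑ X ∈ Finset.univ.erase X₁, d X ^ 2 := by
      let T : IrrCharacter P := ⟨_, isIrrCharacter_one⟩
      have hT : T ≠ X₁ := fun q => hX₁ (by rw [← q])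
      refine le_trans ?_ (Finset.single_le_sum (fun X _ => Nat.zero_le (d X ^ 2))
        (Finset.mem_erase.2 ⟨hT, Finset.mem_univ _⟩))
      have h4 : (1 : ℂ) = (d T : ℂ) := hd T
      rw [show d T = 1 by exact_mod_cast h4.symm, one_pow]
    have h5 : p ^ i ≤ (p ^ i) ^ 2 := Nat.le_self_pow two_ne_zero _
    omega
  set K₀ : ℤ := c₁ * ((p ^ (s - i) : ℕ) : ℤ) with hK₀
  have hK₀D : (K₀ : ℂ) * D = (c₁ : ℂ) * (Nat.card P : ℂ) := by
    rw [hK₀, hi, hs, show p ^ s = p ^ (s - i) * p ^ i by rw [← pow_add]; congr 1; omega]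
    push_cast
    ring
  obtain ⟨fz, -, hfz⟩ := hb.apply_one_int
  set d₁ : ℤ := 1 + (p : ℤ) * k with hd₁
  have hβ1 : β 1 = (d₁ : ℂ) := by rw [hβdef, hk, hd₁]; push_cast; rfl
  have hval : ∀ n : P, (n : G) ∈ N₀ → n ≠ 1 → β n = ((d₁ - K₀ : ℤ) : ℂ) := by
    intro n hn hn1
    have hexp := classFun_expand (avgFun_class Pt h hbcl)
    have e1 := congrFun hexp n
    have e2 := congrFun hexp 1
    simp only [Finset.sum_apply, Pi.smul_apply, smul_eq_mul] at e1 e2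
    have h1 : (β n - β 1) * D =
        (c₁ : ℂ) * ∑ X : IrrCharacter P, ((X : P → ℂ) n - (X : P → ℂ) 1) * (X : P → ℂ) 1 := by
      rw [hβdef, e1, e2, ← Finset.sum_sub_distrib, Finset.sum_mul, Finset.mul_sum]
      refine Finset.sum_congr rfl fun X _ => ?_
      rcases eq_or_ne ((X : P → ℂ) n) ((X : P → ℂ) 1) with q | q
      · rw [q]; ring
      · linear_combination ((X : P → ℂ) n - (X : P → ℂ) 1) * hcoef X n hn q
    have h2 : ∑ X : IrrCharacter P, ((X : P → ℂ) n - (X : P → ℂ) 1) * (X : P → ℂ) 1 =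
        -(Nat.card P : ℂ) := by
      have h3 := sum_irr_mul_conj (G := P) n 1
      simp only [conj_irr_one] at h3
      rw [if_neg fun q => hn1 (by
        obtain ⟨y, hy⟩ := isConj_iff.1 q
        exact conj_eq_one_iff.1 hy)] at h3
      simp only [sub_mul, ← sq]
      rw [Finset.sum_sub_distrib, h3, sum_degree_sq, zero_sub]
    rw [h2, ← neg_mul_comm, neg_mul, ← hK₀D, ← neg_mul] at h1
    have h4 := mul_right_cancel₀ hD0' h1
    rw [hβ1] at h4
    push_cast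
    linear_combination h4
  have hcC : (Nat.card Cc : ℂ) ≠ 0 := Nat.cast_ne_zero.2 Nat.card_pos.ne'
  have hcs : ∀ a : P, cosetSum Cc b a = (Nat.card Cc : ℂ) * β a := fun a =>
    (mul_inv_cancel_left₀ hcC _).symm
  set n₁ : ℤ := d₁ - K₀ with hn₁
  have hcsN : ∀ m ∈ N₀, m ≠ 1 → cosetSum Cc b m = (Nat.card Cc : ℂ) * n₁ := fun m hm hm1 => by
    rw [show m = ((⟨m, zN_le Pt h hm⟩ : P) : G) from rfl, hcs,
      hval _ hm fun q => hm1 (congrArg Subtype.val q)]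
  -- the orbit
  set O : Finset G := (Finset.univ.filter fun w : G => w ∈ W₁).image fun w => w * n₀ * w⁻¹ with hOdef
  have hOmem : ∀ m, m ∈ O ↔ ∃ w ∈ W₁, w * n₀ * w⁻¹ = m := fun m => by simp [hOdef]
  have hOinj : Set.InjOn (fun w => w * n₀ * w⁻¹) (W₁ : Set G) := by
    intro w hw v hv q
    by_contra hne
    have h1 : v⁻¹ * w ∈ W₁ := mul_mem (inv_mem hv) hw
    have h2 : n₀ ∈ N₀ ⊓ centralizer ({v⁻¹ * w} : Set G) := by
      refine mem_inf.2 ⟨hn₀, mem_centralizer_singleton_iff.2 ?_⟩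
      calc n₀ * (v⁻¹ * w) = v⁻¹ * (v * n₀ * v⁻¹) * w := by group
        _ = v⁻¹ * (w * n₀ * w⁻¹) * w := by rw [show v * n₀ * v⁻¹ = w * n₀ * w⁻¹ from q.symm]
        _ = v⁻¹ * w * n₀ := by group
    rw [hfix _ h1 fun q' => hne (inv_mul_eq_one.1 q').symm, mem_bot] at h2
    exact hn₀1 h2
  have hOcard : O.card = e := by
    rw [hOdef, Finset.card_image_of_injOn (fun x hx y hy => hOinj (by simpa using hx) (by simpa using hy)),
      ← he, Nat.card_eq_fintype_card, Fintype.card_subtype]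
  have hON : ∀ m ∈ O, m ∈ N₀ ∧ m ≠ 1 := fun m hm => by
    obtain ⟨w, hw, rfl⟩ := (hOmem m).1 hm
    exact ⟨(mem_normalizer_iff.1 (hSN (h.le₁ hw)) n₀).1 hn₀, fun q => hn₀1 (conj_eq_one_iff.1 q)⟩
  have hOS : ∀ m ∈ O, ∀ s' ∈ S, s' * m * s'⁻¹ ∈ O := fun m hm s' hs' => by
    obtain ⟨-, -, -, hprod⟩ := TypeClass.derived_compl hG h.coatom h.decomp h.neW₁
    obtain ⟨a, ha, w, hw, rfl⟩ := hprod s' hs'
    rw [Parts.derived_eq h] at ha
    obtain ⟨v, hv, rfl⟩ := (hOmem m).1 hm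
    refine (hOmem _).2 ⟨w * v, mul_mem hw hv, ?_⟩
    have hm' : (w * v) * n₀ * (w * v)⁻¹ ∈ N₀ :=
      (mem_normalizer_iff.1 (hSN (h.le₁ (mul_mem hw hv))) n₀).1 hn₀
    have h1 := zN_central Pt h hm' ha
    calc (w * v) * n₀ * (w * v)⁻¹ = (w * v) * n₀ * (w * v)⁻¹ * a * a⁻¹ := (mul_inv_cancel_right _ _).symm
      _ = a * ((w * v) * n₀ * (w * v)⁻¹) * a⁻¹ := by rw [h1]
      _ = _ := by group
  have hOO : ∀ m ∈ O, ∀ m' ∈ O, m * m' ≠ 1 := fun m hm m' hm' q => by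
    obtain ⟨w, hw, rfl⟩ := (hOmem m).1 hm
    obtain ⟨v, hv, rfl⟩ := (hOmem m').1 hm'
    set u := w⁻¹ * v with hu
    have h1 : u * n₀ * u⁻¹ = n₀⁻¹ := by
      rw [hu, eq_inv_iff_mul_eq_one]
      calc w⁻¹ * v * n₀ * (w⁻¹ * v)⁻¹ * n₀ = w⁻¹ * ((v * n₀ * v⁻¹) * (w * n₀ * w⁻¹)) * w := by group
        _ = 1 := by
          rw [show (v * n₀ * v⁻¹) * (w * n₀ * w⁻¹) = 1 from mul_eq_one_comm.1 q]; group
    have h2 : (fun x => x * n₀ * x⁻¹) (u * u) = (fun x => x * n₀ * x⁻¹) 1 := by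
      show u * u * n₀ * (u * u)⁻¹ = 1 * n₀ * 1⁻¹
      calc u * u * n₀ * (u * u)⁻¹ = u * (u * n₀ * u⁻¹) * u⁻¹ := by group
        _ = u * n₀⁻¹ * u⁻¹ := by rw [h1]
        _ = (u * n₀ * u⁻¹)⁻¹ := by group
        _ = _ := by rw [h1]; group
    have hu1 : u ∈ W₁ := mul_mem (inv_mem hw) hv
    have h3 : u * u = 1 := hOinj (mul_mem hu1 hu1) (one_mem W₁) h2
    have h4 : u = 1 := by
      obtain ⟨j, hj⟩ := hG.1
      have hn : u ^ Nat.card G = 1 := pow_card_eq_one'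
      rwa [hj, pow_succ, pow_mul, pow_two, h3, one_pow, one_mul] at hn
    rw [h4, one_mul, inv_one, mul_one, eq_inv_iff_mul_eq_one] at h1
    obtain ⟨j, hj⟩ := hG.1
    have hn : n₀ ^ Nat.card G = 1 := pow_card_eq_one'
    rw [hj, pow_succ, pow_mul, pow_two, h1, one_pow, one_mul] at hn
    exact hn₀1 hn
  -- the congruences
  set OC : Finset G := (O ×ˢ (Finset.univ.filter fun c : G => c ∈ Cc)).image fun q => q.1 * q.2 with hOC
  set C₁ : Finset G := Finset.univ.filter fun c : G => c ∈ Cc with hC₁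
  have hC₁sum : ∀ f : G → ℂ, ∑ c ∈ C₁, f c = ∑ c : Cc, f c := fun f =>
    Finset.sum_subtype (p := fun c => c ∈ Cc) C₁ (by simp [hC₁]) f
  have hC₁σ : ∀ x ∈ C₁, x ∈ Cfsg.sigmaCore S := fun x hx => Pt.leC (by simpa [hC₁] using hx)
  have hC₁n : ∀ x ∈ C₁, ∀ s' ∈ S, s' * x * s'⁻¹ ∈ C₁ := fun x hx s' hs' => by
    simp only [hC₁, Finset.mem_filter, Finset.mem_univ, true_and] at hx ⊢
    exact (mem_normalizer_iff.1 (Pt.normC hs') x).1 hx
  have hOCσ : ∀ x ∈ OC, x ∈ Cfsg.sigmaCore S := fun x hx => by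
    obtain ⟨⟨m, c⟩, hmc, rfl⟩ := Finset.mem_image.1 hx
    obtain ⟨hm, hc⟩ := Finset.mem_product.1 hmc
    exact mul_mem (Pt.leP (zN_le Pt h (hON m hm).1)) (hC₁σ c hc)
  have hOCn : ∀ x ∈ OC, ∀ s' ∈ S, s' * x * s'⁻¹ ∈ OC := fun x hx s' hs' => by
    obtain ⟨⟨m, c⟩, hmc, rfl⟩ := Finset.mem_image.1 hx
    obtain ⟨hm, hc⟩ := Finset.mem_product.1 hmc
    refine Finset.mem_image.2 ⟨(s' * m * s'⁻¹, s' * c * s'⁻¹),
      Finset.mem_product.2 ⟨hOS m hm s' hs', hC₁n c hc s' hs'⟩, ?_⟩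
    show s' * m * s'⁻¹ * (s' * c * s'⁻¹) = s' * (m * c) * s'⁻¹
    group
  have hOCinj : Set.InjOn (fun q : G × G => q.1 * q.2) ↑(O ×ˢ C₁) := by
    rintro ⟨m, c⟩ hq ⟨m', c'⟩ hq' e0
    obtain ⟨hm, hc⟩ := Finset.mem_product.1 (Finset.mem_coe.1 hq)
    obtain ⟨hm', hc'⟩ := Finset.mem_product.1 (Finset.mem_coe.1 hq')
    simp only [hC₁, Finset.mem_filter, Finset.mem_univ, true_and] at hc hc'
    have e1 : m'⁻¹ * m = c' * c⁻¹ := by
      calc m'⁻¹ * m = m'⁻¹ * (m * c) * c⁻¹ := by group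
        _ = _ := by rw [show m * c = m' * c' from e0]; group
    have h1 : m'⁻¹ * m ∈ P ⊓ Cc := mem_inf.2 ⟨mul_mem (inv_mem (zN_le Pt h (hON m' hm').1))
      (zN_le Pt h (hON m hm).1), e1 ▸ mul_mem hc' (inv_mem hc)⟩
    rw [Pt.disj, mem_bot, inv_mul_eq_one] at h1
    have e0' : m * c = m' * c' := e0
    rw [h1] at e0'
    exact Prod.ext h1.symm (mul_left_cancel e0')
  have hOCsum : ∀ f : G → ℂ, ∑ x ∈ OC, f x = ∑ m ∈ O, cosetSum Cc f m := fun f => by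
    rw [hOC, Finset.sum_image hOCinj, Finset.sum_product]
    exact Finset.sum_congr rfl fun m _ => hC₁sum fun c => f (m * c)
  have hshift : ∀ (m : G) (d : Cc), cosetSum Cc b (m * d) = cosetSum Cc b m := fun m d =>
    Fintype.sum_equiv (Equiv.mulLeft d) _ _ fun c => congrArg b (mul_assoc m (d : G) c)
  have hb1 : ∑ c ∈ C₁, b c = (Nat.card Cc : ℂ) * d₁ := by
    rw [hC₁sum, ← hβ1, ← hcs 1, cosetSum]
    simp
  have hbO : ∑ x ∈ OC, b x = (e : ℂ) * ((Nat.card Cc : ℂ) * n₁) := by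
    rw [hOCsum, Finset.sum_congr rfl fun m hm => hcsN m (hON m hm).1 (hON m hm).2, Finset.sum_const,
      hOcard, nsmul_eq_mul]
  obtain ⟨r₁, hr₁, e₁⟩ := sg_sum_mul_sum_cong hG hNB h.coatom hb hC₁σ hC₁σ hC₁n hC₁n
  obtain ⟨r₂, hr₂, e₂⟩ := sg_sum_mul_sum_cong hG hNB h.coatom hb hOCσ hOCσ hOCn hOCn
  have hp1 : ∑ q ∈ C₁ ×ˢ C₁, b (q.1 * q.2) = (Nat.card Cc : ℂ) * ((Nat.card Cc : ℂ) * d₁) := by
    rw [Finset.sum_product]
    refine (hC₁sum fun c => ∑ y ∈ C₁, b (c * y)).trans ?_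
    have hinner : ∀ c : Cc, ∑ y ∈ C₁, b ((c : G) * y) = (Nat.card Cc : ℂ) * d₁ := fun c => by
      rw [← hb1, hC₁sum, hC₁sum]
      exact Fintype.sum_equiv (Equiv.mulLeft c) (fun y : Cc => b ((c : G) * y)) (fun y : Cc => b y)
        fun y => rfl
    rw [Finset.sum_congr rfl fun c _ => hinner c, Finset.sum_const, Finset.card_univ, nsmul_eq_mul,
      ← Nat.card_eq_fintype_card]
  have hp2 : ∑ q ∈ OC ×ˢ OC, b (q.1 * q.2) =
      (e : ℂ) * ((Nat.card Cc : ℂ) * ((e : ℂ) * ((Nat.card Cc : ℂ) * n₁))) := by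
    rw [Finset.sum_product, hOCsum fun x => ∑ y ∈ OC, b (x * y)]
    have hin : ∀ m ∈ O, ∀ c : Cc, ∑ y ∈ OC, b (m * c * y) = (e : ℂ) * ((Nat.card Cc : ℂ) * n₁) := by
      intro m hm c
      rw [hOCsum fun y => b (m * c * y)]
      have h1 : ∀ m' ∈ O, cosetSum Cc (fun y => b (m * c * y)) m' = (Nat.card Cc : ℂ) * n₁ := by
        intro m' hm'
        rw [← hcsN (m * m') (mul_mem (hON m hm).1 (hON m' hm').1) (hOO m hm m' hm'), ← hshift (m * m') c]
        refine Finset.sum_congr rfl fun d _ => congrArg b ?_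
        rw [show m * (c : G) * (m' * d) = m * ((c : G) * m') * d by group,
          ← Pt.comm m' (zN_le Pt h (hON m' hm').1) c c.2]
        group
      rw [Finset.sum_congr rfl h1, Finset.sum_const, hOcard, nsmul_eq_mul]
    rw [Finset.sum_congr rfl fun m hm => show cosetSum Cc (fun x => ∑ y ∈ OC, b (x * y)) m =
        (Nat.card Cc : ℂ) * ((e : ℂ) * ((Nat.card Cc : ℂ) * n₁)) by
      rw [cosetSum, Finset.sum_congr rfl fun c _ => hin m hm c, Finset.sum_const, Finset.card_univ,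
        nsmul_eq_mul, ← Nat.card_eq_fintype_card],
      Finset.sum_const, hOcard, nsmul_eq_mul]
  rw [hb1, hp1, hfz] at e₁
  rw [hbO, hp2, hfz] at e₂
  have hcσ : (Nat.card (Cfsg.sigmaCore S) : ℕ) = Nat.card P * Nat.card Cc := by
    rw [← Pt.sup, card_sup_of_comm Pt.comm Pt.disj]
  have hσ0 : Nat.card (Cfsg.sigmaCore S) ≠ 0 := Nat.card_pos.ne'
  have hdv₁ := int_dvd_of_integral hσ0 (x := (Nat.card Cc : ℤ) ^ 2 * (d₁ * (d₁ - fz))) hr₁ (by
    push_cast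
    linear_combination e₁)
  have hdv₂ := int_dvd_of_integral hσ0 (x := (Nat.card Cc : ℤ) ^ 2 * ((e : ℤ) ^ 2 * (n₁ * (n₁ - fz))))
    hr₂ (by
    push_cast
    linear_combination e₂)
  rw [hcσ, Nat.cast_mul] at hdv₁ hdv₂
  have hC0 : (Nat.card Cc : ℤ) ≠ 0 := Int.natCast_ne_zero.2 Nat.card_pos.ne'
  have hco : IsCoprime (Nat.card P : ℤ) (Nat.card Cc : ℤ) := by
    rw [Int.isCoprime_iff_nat_coprime, Int.natAbs_natCast, Int.natAbs_natCast, hs]
    exact (hpp.coprime_iff_not_dvd.2 Pt.cop).pow_left s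
  have hcod : IsCoprime (Nat.card P : ℤ) d₁ := by
    rw [hs, Nat.cast_pow, hd₁]
    exact IsCoprime.pow_left ⟨-k, 1, by ring⟩
  have hcon : IsCoprime (Nat.card P : ℤ) n₁ := by
    rw [hs, Nat.cast_pow, hn₁, hd₁, hK₀]
    refine IsCoprime.pow_left ⟨-(k - c₁ * ((p ^ (s - i - 1) : ℕ) : ℤ)), 1, ?_⟩
    rw [show p ^ (s - i) = p * p ^ (s - i - 1) by rw [← pow_succ']; congr 1; omega]
    push_cast
    ring
  have hcoe : IsCoprime (Nat.card P : ℤ) ((e : ℤ) ^ 2) := by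
    refine IsCoprime.pow_right ?_
    rw [Int.isCoprime_iff_nat_coprime, Int.natAbs_natCast, Int.natAbs_natCast, hs]
    exact ((coprime_ep Pt h he hep hp).symm).pow_left s
  have h1 := hcod.dvd_of_dvd_mul_left (dvd_of_mul_sq_dvd hC0 hco hdv₁)
  have h2 := hcon.dvd_of_dvd_mul_left (hcoe.dvd_of_dvd_mul_left (dvd_of_mul_sq_dvd hC0 hco hdv₂))
  obtain ⟨K, hK⟩ : (Nat.card P : ℤ) ∣ K₀ := by
    have := dvd_sub h1 h2
    rwa [show (d₁ - fz) - (n₁ - fz) = K₀ by rw [hn₁]; ring] at this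
  refine ⟨K, fun φ hφ => ?_⟩
  have hK' : (K₀ : ℂ) = (Nat.card P : ℂ) * (K : ℂ) := by exact_mod_cast hK
  have hP0 : (Nat.card P : ℂ) ≠ 0 := Nat.cast_ne_zero.2 Nat.card_pos.ne'
  have hc₁K : (c₁ : ℂ) = (K : ℂ) * D := mul_right_cancel₀ hP0 (by
    rw [hK'] at hK₀D
    linear_combination -hK₀D)
  exact mul_right_cancel₀ hD0' (by
    have := hprop φ hφ
    rw [hc₁K] at this
    linear_combination this)

end Main

end CfsgLib.FT.TypeV
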