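import Cfsg.Agent.Lib.FT.NotTypeVCol

/-!
# Type V with `W₂ ≰ Z(P)` (`docs/FT.md`, §4)

`noncentral_false`: `(τθ_S, η_0j) = 1` is impossible.  With `(η_0l|S, χ) = t_l χ(1)/e` for the members `χ`
non-trivial on `N`, the image of `D μ'_j - d χ` costs too much on the family and on the coherent images.
-/

set_option autoImplicit false
set_option linter.unusedSectionVars false
set_option linter.style.haveILetI false

open Subgroup

namespace CfsgLib.FT.TypeV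

open scoped ComplexConjugate commutatorElement
open Cfsg CfsgLib.Char CfsgLib.Char.Signed CfsgLib.FT.Rect CfsgLib.CFun

universe u

/-- The cost of a row. -/
theorem num_row {p e a δ : ℤ} (hp : 3 ≤ p) (he : 3 ≤ e) (hδ : δ = 1 ∨ δ = -1) (ha : e ∣ a - δ) :
    p ≤ p * ((a + δ) ^ 2 + (p - 2) * a ^ 2) - ((p - 1) * a + δ) ^ 2 ∧
      3 ≤ (a + δ) ^ 2 + (p - 2) * a ^ 2 := by
  have hid : p * ((a + δ) ^ 2 + (p - 2) * a ^ 2) - ((p - 1) * a + δ) ^ 2 =
      (p - 1) * a ^ 2 + 2 * (a * δ) + (p - 1) * (δ * δ) := by ring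
  have hδ2 : δ * δ = 1 := by rcases hδ with q | q <;> rw [q] <;> norm_num
  obtain ⟨k, hk⟩ := ha
  have hcase : 1 ≤ a * δ ∨ 2 ≤ -(a * δ) := by
    rcases le_or_gt 0 (k * δ) with hk0 | hk0
    · left
      have : a * δ = e * (k * δ) + 1 := by linear_combination δ * hk + hδ2
      nlinarith
    · right
      have : a * δ = e * (k * δ) + 1 := by linear_combination δ * hk + hδ2
      nlinarith
  have haδ : (a * δ) ^ 2 = a ^ 2 := by linear_combination a ^ 2 * hδ2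
  rw [hid, hδ2]
  have hexp : (a + δ) ^ 2 + (p - 2) * a ^ 2 = (p - 1) * a ^ 2 + 2 * (a * δ) + 1 := by
    linear_combination hδ2
  rw [hexp, ← haδ]
  rcases hcase with q | q
  · constructor <;> nlinarith
  · constructor <;> nlinarith [mul_le_mul q q (by norm_num) (by linarith)]

variable {G : Type u} [Group G] [Fintype G] {S W₁ W₂ P Cc : Subgroup G} [Fintype ↥S] {p e : ℕ}
  (Pt : Parts S P Cc p) (h : Rect.Kappa S W₁ ⊥ W₂) (he : Nat.card W₁ = e) (hep : e.Prime)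
  (hp : Nat.card W₂ = p) (hZ : ¬ W₂ ≤ centralizer (P : Set G)) (hNB : NoBad G) (hM : FpfAb S)
  {χ : (↥(W₁ ⊔ W₂) →* ℂˣ) → (G → ℂ)} (hχ : IsCyclicTIFamily W₁ W₂ χ)
  {mu : (↥(W₁ ⊔ W₂) →* ℂˣ) → (↥S → ℂ)} {sgn : (↥(W₁ ⊔ W₂) →* ℂˣ) → ℤ} (C : IsCols S W₁ W₂ mu sgn)
include Pt h he hep hp hZ

local notation "N₀" => (centralizer (P : Set G) ⊓ ⁅P, P⁆ : Subgroup G)

/-- The members non-trivial on `N` are not induced from linear characters. -/
theorem central_not_linear {φ : ↥S → ℂ} (hφ : φ ∈ centralSet S Cc N₀) : φ 1 ≠ (e : ℂ) := by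
  intro h1
  have hG := h.minSimple
  haveI := sigmaIn_normal hG (M := S)
  let _ := Fintype.ofFinite ↥(sigmaIn S)
  obtain ⟨n, hn, hne⟩ := central_ne_on_N Pt h hφ
  obtain ⟨⟨θ, hθ, hθ1, -, hφe⟩, -⟩ := hφ
  have h2 : θ 1 = 1 := by
    rw [hφe, indFun_one, central_index Pt h he hep hp] at h1
    exact mul_left_cancel₀ (Nat.cast_ne_zero.2 hep.ne_zero) (h1.trans (mul_one _).symm)
  obtain ⟨lam, hlam⟩ := Signed.Sg.exists_hom (Signed.Sg.of_irr ⟨θ, hθ⟩) h2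
  have hl1 : lam ≠ 1 := fun q => hθ1 (funext fun x => ((hlam x).symm : θ x = _).trans (by rw [q]; simp))
  have hθl : (fun x => (lam x : ℂ)) = θ := funext hlam
  have hmem : IsMember S φ := ⟨lam, hl1, by rw [hθl, indSigma_eq, hφe]⟩
  refine hne ((member_der hG (⟨φ, hmem⟩ : Member S) (x := n) ?_).trans (member_one ⟨φ, hmem⟩).symm)
  rw [Pt.sigmaDer_eq]
  exact mem_sup_left (mem_inf.1 hn).2

include hNB hM hχ C

/-- Type V with `W₂ ≰ Z(P)` and `(τθ_S, η_0j) = 1` is impossible. -/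
theorem noncentral_false (φ₀ : Member S) {ψ : ↥(W₁ ⊔ W₂) →* ℂˣ}
    (hψ : ψ ∈ trivOn (W₁ ⊔ W₂) W₁) (hψ1 : ψ ≠ 1)
    (hA : iq (indFun S (thetaS mu φ₀)) (χ ψ) = 1) : False := by
  classical
  subst he
  have hG := h.minSimple
  haveI := Parts.fact_prime Pt h hp
  have hpp : p.Prime := Fact.out
  have hpW : (Nat.card W₂).Prime := hp.symm ▸ hpp
  have hp3 : 3 ≤ p := hp ▸ three_le_card h.odd_sup le_sup_right
    (fun q => hpp.ne_one (by rw [← hp, q, card_bot]))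
  have he3 : 3 ≤ Nat.card W₁ := h.three_le
  have heC : ((Nat.card W₁ : ℕ) : ℂ) ≠ 0 := Nat.cast_ne_zero.2 Nat.card_pos.ne'
  -- the non-trivial columns
  set L : Finset (↥(W₁ ⊔ W₂) →* ℂˣ) := dualFin (W₁ ⊔ W₂) W₁ with hL
  have hLcard : L.card = p := by
    rw [hL, ← hp, ← card_trivOn_fst (snc_disj h.snc) (snc_comm h.snc) (snc_mul_comm_snd h.snc),
      ← Nat.card_eq_finsetCard]
    exact Nat.card_congr (Equiv.subtypeEquivRight fun _ => mem_dualFin)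
  have hdeg : ∀ l ∈ trivOn (W₁ ⊔ W₂) W₁, l ≠ 1 → mu l 1 = mu ψ 1 := fun l hl hl1 =>
    C.deg_eq_of_prime h hpW hψ hψ1 hl hl1
  have hone : (1 : ↥(W₁ ⊔ W₂) →* ℂˣ) ∈ trivOn (W₁ ⊔ W₂) W₂ := one_mem _
  have h1mul : ∀ w : ↥(W₁ ⊔ W₂) →* ℂˣ, (1 : ↥(W₁ ⊔ W₂) →* ℂˣ) * w = w := fun w => one_mul w
  have hmul1 : ∀ w : ↥(W₁ ⊔ W₂) →* ℂˣ, w * (1 : ↥(W₁ ⊔ W₂) →* ℂˣ) = w := fun w => mul_one w
  have hall : ∀ l ∈ trivOn (W₁ ⊔ W₂) W₁, l ≠ 1 → iq (indFun S (thetaS mu φ₀)) (χ l) = 1 := by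
    intro l hl hl1
    have := thetaS_eta_congr h C hNB hM hχ φ₀ (φ := 1) hone hl hl1 hψ hψ1 (hdeg l hl hl1)
    simp only [h1mul] at this
    exact this.trans hA
  -- the coherent images
  obtain ⟨R, I⟩ := central_images Pt h rfl hep hp hZ hNB hχ
  have hd' : ∀ φ : ↥S → ℂ, ∃ D : ℕ, φ ∈ centralSet S Cc N₀ →
      φ 1 = ((Nat.card W₁ * D : ℕ) : ℂ) := fun φ => by
    by_cases hφ : φ ∈ centralSet S Cc N₀
    · obtain ⟨i, hi, -⟩ := central_degree Pt h rfl hep hp hZ hφ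
      exact ⟨p ^ i, fun _ => hi⟩
    · exact ⟨0, fun h' => absurd h' hφ⟩
  choose Dg hDg using hd'
  obtain ⟨φ₁, hφ₁⟩ := central_nonempty Pt h rfl hep hp hZ
  set D := Dg φ₁ with hDdef
  have hD2 : 2 ≤ D := by
    have h0 := central_one_ne Pt h rfl hep hp hZ hφ₁
    have h1 := central_not_linear Pt h rfl hep hp hZ hφ₁
    rw [hDg φ₁ hφ₁] at h0 h1
    rcases Nat.lt_or_ge D 2 with q | q
    · interval_cases hq : D
      · simp [← hDdef, hq] at h0
      · simp [← hDdef, hq] at h1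
    · exact q
  obtain ⟨d, hd0, hd⟩ := C.deg_nat h ψ
  have hd2 : d ^ 2 ≤ (N₀).relIndex P := col_deg h Pt rfl hep hp C hNB hψ hψ1 hd
  have hbS : ∀ ω, Gen (fun x : ↥S => χ ω x) := fun ω =>
    isGeneralizedCharacter_comp (sg_eta hχ ω).gen S.subtype
  have hφ₀g : Gen φ₀.1 :=
    isGeneralizedCharacter_of_isCharacter (isCharacter_of_isIrr (member_irr hG hM φ₀))
  have hφ₁g : Gen φ₁ := central_gen Pt h rfl hep hp hZ hφ₁
  have hφ₁0 : ∀ x : ↥S, (x : G) ∉ Cfsg.sigmaCore S → φ₁ x = 0 := fun x hx => central_vanish Pt h hφ₁ hx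
  have hφ₀0 : ∀ x : ↥S, (x : G) ∉ Cfsg.sigmaCore S → φ₀.1 x = 0 := fun x hx => member_vanish hG φ₀ hx
  have hφ₁i := central_irr Pt h rfl hep hp hZ hφ₁
  have hφ₀i := member_irr hG hM φ₀
  have hpair : ∀ (f : ↥S → ℂ), Gen f → ∀ ω, iq (indFun S f) (χ ω) = iq (fun x : ↥S => χ ω x) f := by
    intro f hf ω
    refine iq_eq _ ?_
    rw [← classInner_conj, classInner_indFun_right S _ _
      (isClassFunction_of_isGeneralized (sg_eta hχ ω).gen), iq_spec (hbS ω) hf, map_intCast]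
  -- `(η_0l|S, φ) = t_l φ(1) / e`
  set t : (↥(W₁ ⊔ W₂) →* ℂˣ) → ℤ := fun l => iq (fun x : ↥S => χ l x) φ₀.1 with htdef
  have horth01 : classInner φ₁ φ₀.1 = 0 := by
    refine classInner_irr_ne (χ := ⟨_, hφ₁i⟩) (ψ := ⟨_, hφ₀i⟩) fun q => ?_
    have q' : φ₁ = φ₀.1 := congrArg Subtype.val q
    refine central_not_linear Pt h rfl hep hp hZ hφ₁ ?_
    rw [q', member_one φ₀, eIndex_eq_card h]
  have hc : ∀ l ∈ trivOn (W₁ ⊔ W₂) W₁, l ≠ 1 → iq (fun x : ↥S => χ l x) φ₁ = (D : ℤ) * t l := by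
    set f : ↥S → ℂ := φ₁ - ((D : ℤ) : ℂ) • φ₀.1 with hfdef
    have hfg : Gen f := isGeneralizedCharacter_sub hφ₁g (Gen.zsmul hφ₀g _)
    have hf0 : ∀ x : ↥S, (x : G) ∉ Cfsg.sigmaCore S → f x = 0 := fun x hx => by
      rw [hfdef, Pi.sub_apply, Pi.smul_apply, hφ₁0 x hx, hφ₀0 x hx, smul_zero, sub_zero]
    have hfS : SuppOn S W₁ W₂ f := suppOn_of_sigma (by
      rw [hfdef, Pi.sub_apply, Pi.smul_apply, hDg φ₁ hφ₁, member_one φ₀, eIndex_eq_card h, smul_eq_mul,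
        ← hDdef]
      push_cast
      ring) hf0
    have hcoef : ∀ l, iq (indFun S f) (χ l) = iq (fun x : ↥S => χ l x) φ₁ - (D : ℤ) * t l := fun l => by
      rw [hpair f hfg, hfdef, iq_sub_right (hbS l) hφ₁g (Gen.zsmul hφ₀g _),
        iq_smul_right (hbS l) hφ₀g, htdef]
    have hnorm : iq (indFun S f) (indFun S f) = 1 + (D : ℤ) ^ 2 := by
      refine iq_eq _ ?_
      rw [h.ind_isometry hNB hfS (isClassFunction_of_isGeneralized hfg) hfS, hfdef, classInner_sub_left,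
        classInner_sub_right, classInner_sub_right, classInner_smul_left, classInner_smul_left,
        classInner_smul_right, classInner_smul_right, member_self hG hM φ₀,
        central_inner Pt h rfl hep hp hZ hφ₁ hφ₁, if_pos rfl, ← classInner_conj φ₁ φ₀.1, horth01,
        map_intCast]
      push_cast
      simp
      ring
    intro l hl hl1
    obtain ⟨K, hK⟩ := central_mult Pt h rfl hep hp hNB hM hχ C φ₀ hZ I (hall l hl hl1)
    have hK1 := hK φ₁ hφ₁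
    rw [iq_spec (hbS l) hφ₁g, hDg φ₁ hφ₁, ← hDdef, Nat.cast_mul] at hK1
    have hcl : iq (fun x : ↥S => χ l x) φ₁ = K * (D : ℤ) := by
      have : ((iq (fun x : ↥S => χ l x) φ₁ : ℤ) : ℂ) = ((K * (D : ℤ) : ℤ) : ℂ) := by
        push_cast
        exact mul_right_cancel₀ heC (by linear_combination hK1)
      exact_mod_cast this
    have hconst : ∀ l' ∈ L.erase 1, iq (indFun S f) (χ l') = iq (indFun S f) (χ l) := by
      intro l' hl'
      obtain ⟨hl'1, hl'm⟩ := Finset.mem_erase.1 hl'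
      rw [hL, mem_dualFin] at hl'm
      rcases eq_or_ne l' l with rfl | hne
      · rfl
      have e0 := C.coeff_diff h hNB hχ hfS (φ := 1) hone hl'm hl'1 hl hl1 hne
        (by rw [hdeg l' hl'm hl'1, hdeg l hl hl1])
      have hz : ∀ ω, classInner f (mu ω) = 0 := fun ω => by
        rw [hfdef, classInner_sub_left, classInner_smul_left, ← classInner_conj (mu ω) φ₁,
          ← classInner_conj (mu ω) φ₀.1, C.mu_inner_irr h hφ₁i hφ₁0, C.mu_inner_irr h hφ₀i hφ₀0]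
        simp
      rw [classInner_sub_right, hz, hz, sub_self, mul_zero, sub_eq_zero, h1mul, h1mul,
        iq_spec (isGeneralizedCharacter_indFun S hfg) (sg_eta hχ _).gen,
        iq_spec (isGeneralizedCharacter_indFun S hfg) (sg_eta hχ _).gen] at e0
      exact_mod_cast e0
    have hbes := sum_sq_le_norm (L.erase 1) χ (fun i _ => sg_eta hχ i)
      (fun i _ j _ hij => iq_eta_ne hχ hij) (isGeneralizedCharacter_indFun S hfg)
    rw [Finset.sum_congr rfl fun i hi => by rw [hconst i hi], Finset.sum_const, hnorm,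
      Finset.card_erase_of_mem (by rw [hL]; exact mem_dualFin.2 (one_mem _)), hLcard, nsmul_eq_mul,
      hcoef, hcl, Nat.cast_sub (by omega), Nat.cast_one] at hbes
    rw [hcl, mul_comm]
    by_contra hne
    have hy : 1 ≤ (K - t l) ^ 2 := by
      have hne' : K - t l ≠ 0 := fun q => hne (by rw [sub_eq_zero.1 q])
      have : 0 < (K - t l) ^ 2 := by positivity
      omega
    have hD2' : (2 : ℤ) ≤ D := by exact_mod_cast hD2
    have hp3' : (3 : ℤ) ≤ p := by exact_mod_cast hp3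
    nlinarith [mul_le_mul_of_nonneg_left hy (by positivity : (0 : ℤ) ≤ (D : ℤ) ^ 2),
      mul_le_mul_of_nonneg_right (by linarith : (2 : ℤ) ≤ (p : ℤ) - 1)
        (by positivity : (0 : ℤ) ≤ (K * (D : ℤ) - D * t l) ^ 2)]
  -- the coefficients of `τ(μ'_j - d φ₀)`
  set δ : ℤ := sgn ψ with hδ
  set v : (↥(W₁ ⊔ W₂) →* ℂˣ) → ℤ := fun l => iq (fun x : ↥S => χ l x) (colSum mu ψ) with hvdef
  have hdegd : ((Nat.card W₁ : ℕ) : ℂ) * mu ψ 1 = (d : ℂ) * φ₀.1 1 := by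
    rw [hd, member_one φ₀, eIndex_eq_card h, mul_comm]
  have hdd : ((d : ℕ) : ℂ) = (((d : ℕ) : ℤ) : ℂ) := (Int.cast_natCast d).symm
  have hcolg : Gen (colSum mu ψ) := C.col_gen h ψ
  have hjdiff : ∀ l ∈ trivOn (W₁ ⊔ W₂) W₁, l ≠ 1 → l ≠ ψ →
      (v ψ - (d : ℤ) * t ψ) - (v l - (d : ℤ) * t l) = δ := by
    intro l hl hl1 hlne
    have e0 := C.coeff_col_diff h hNB hχ hψ hψ1 hφ₀i hφ₀0 hdegd (φ := 1) hone (l := l)
      (mem_sameDeg.2 ⟨hl, hl1, hlne, hdeg l hl hl1⟩)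
    rw [h1mul, h1mul, hdd] at e0
    have hg : Gen (colSum mu ψ - (((d : ℕ) : ℤ) : ℂ) • φ₀.1) :=
      isGeneralizedCharacter_sub hcolg (Gen.zsmul hφ₀g _)
    rw [hpair _ hg, hpair _ hg, iq_sub_right (hbS ψ) hcolg (Gen.zsmul hφ₀g _),
      iq_sub_right (hbS l) hcolg (Gen.zsmul hφ₀g _), iq_smul_right (hbS ψ) hφ₀g,
      iq_smul_right (hbS l) hφ₀g] at e0
    exact e0
  set a : ℤ := v ψ - (d : ℤ) * t ψ - δ with hadef
  have hψinv : ψ⁻¹ ∈ trivOn (W₁ ⊔ W₂) W₁ ∧ ψ⁻¹ ≠ 1 ∧ ψ⁻¹ ≠ ψ ∧ mu ψ⁻¹ 1 = mu ψ 1 :=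
    mem_sameDeg.1 (C.inv_mem_sameDeg h hψ hψ1)
  have hacong : (Nat.card W₁ : ℤ) ∣ a - δ := by
    obtain ⟨hl, hl1, hlne, -⟩ := hψinv
    have h1 := col_congr h Pt rfl hep hp C hNB hχ hM φ₀ hψ hψ1 hl hl1 hlne (hall _ hl hl1)
    obtain ⟨m, hm⟩ := C.deg_mod ψ
    rw [hd] at hm
    have hm' : (d : ℤ) - δ = m * (Nat.card W₁ : ℤ) := by exact_mod_cast hm
    have h2 : a = v ψ⁻¹ - (d : ℤ) * t ψ⁻¹ := by
      rw [hadef]
      linarith [hjdiff _ hl hl1 hlne]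
    obtain ⟨r, hr⟩ := h1
    refine ⟨r - m * t ψ⁻¹, ?_⟩
    rw [h2]
    simp only [hvdef, htdef]
    linear_combination hr - iq (fun x : ↥S => χ ψ⁻¹ x) φ₀.1 * hm'
  -- `Γ = τ(D μ'_j - d χ)`
  set f : ↥S → ℂ := ((D : ℤ) : ℂ) • colSum mu ψ - ((d : ℤ) : ℂ) • φ₁ with hfdef
  have hfg : Gen f := isGeneralizedCharacter_sub (Gen.zsmul hcolg _) (Gen.zsmul hφ₁g _)
  have hf0 : ∀ x : ↥S, (x : G) ∉ Cfsg.sigmaCore S → f x = 0 := fun x hx => by
    rw [hfdef, Pi.sub_apply, Pi.smul_apply, Pi.smul_apply, C.col_supp h hNB hψ hψ1 hx, hφ₁0 x hx,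
      smul_zero, smul_zero, sub_zero]
  have hfS : SuppOn S W₁ W₂ f := suppOn_of_sigma (by
    rw [hfdef, Pi.sub_apply, Pi.smul_apply, Pi.smul_apply, C.col_one h, hd, hDg φ₁ hφ₁, smul_eq_mul,
      smul_eq_mul, ← hDdef]
    push_cast
    ring) hf0
  set F := indFun S f with hFdef
  have hFg : Gen F := isGeneralizedCharacter_indFun S hfg
  have hzero : ∀ w : ↥(W₁ ⊔ W₂), (w : G) ∉ W₁ → (w : G) ∉ W₂ → F w = 0 := fun w h1 h2 => by
    rw [hFdef, h.ind_zhat hNB (isClassFunction_of_isGeneralized hfg) hfS w h1 h2]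
    exact hf0 _ fun hσ => h2 (h.sigma_sup w.2 hσ)
  have hcolφ : classInner (colSum mu ψ) φ₁ = 0 := C.col_inner_irr h hφ₁i hφ₁0 ψ
  have hcoef : ∀ l ∈ trivOn (W₁ ⊔ W₂) W₁, l ≠ 1 →
      iq F (χ l) = (D : ℤ) * if l = ψ then a + δ else a := by
    intro l hl hl1
    rw [hFdef, hpair f hfg, hfdef, iq_sub_right (hbS l) (Gen.zsmul hcolg _) (Gen.zsmul hφ₁g _),
      iq_smul_right (hbS l) hcolg, iq_smul_right (hbS l) hφ₁g, hc l hl hl1]
    split_ifs with q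
    · subst q
      rw [hadef]
      simp only [hvdef]
      ring
    · have := hjdiff l hl hl1 q
      simp only [hvdef] at this ⊢
      rw [hadef]
      simp only [hvdef]
      linear_combination -(D : ℤ) * this
  have hcoef1 : iq F (χ 1) = 0 := by
    rw [hFdef, hpair f hfg]
    refine iq_eq 0 ?_
    rw [hχ.map_one, show (fun _ : ↥S => (1 : ℂ)) = mu 1 from (C.mu_one h).1.symm, hfdef,
      classInner_sub_right, classInner_smul_right, classInner_smul_right,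
      C.mu_inner_irr h hφ₁i hφ₁0, show classInner (mu 1) (colSum mu ψ) =
        classInner (mu (1 * 1)) (colSum mu ψ) from congrArg (fun w => classInner (mu w) _) (hmul1 1).symm,
      colSum_inner_single h.snc (fun ω ω' => C.mu_inner h ω ω') hone (one_mem _) hψ, if_neg (Ne.symm hψ1)]
    simp
  -- Bessel
  set Xf := (central_finite Pt h).toFinset with hXf
  have hXmem : ∀ φ, φ ∈ Xf ↔ φ ∈ centralSet S Cc N₀ := fun φ => Set.Finite.mem_toFinset _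
  set Φ := dualFin (W₁ ⊔ W₂) W₂ with hΦ
  let u : ((↥(W₁ ⊔ W₂) →* ℂˣ) × (↥(W₁ ⊔ W₂) →* ℂˣ)) ⊕ (↥S → ℂ) → G → ℂ :=
    Sum.elim (fun q => χ (q.1 * q.2)) R
  have hbes := sum_sq_le_norm ((Φ ×ˢ L).disjSum Xf) u
    (fun i hi => by
      rcases i with q | φ
      · exact sg_eta hχ _
      · exact I.sg φ ((hXmem φ).1 (Finset.inr_mem_disjSum.1 hi)))
    (fun i hi j hj hij => by
      rcases i with q | φ <;> rcases j with q' | φ'
      · obtain ⟨hq1, hq2⟩ := Finset.mem_product.1 (Finset.inl_mem_disjSum.1 hi)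
        obtain ⟨hq1', hq2'⟩ := Finset.mem_product.1 (Finset.inl_mem_disjSum.1 hj)
        refine iq_eta_ne hχ fun e0 => hij ?_
        obtain ⟨r1, r2⟩ := trivOn_mul_inj (snc_disj h.snc) (snc_comm h.snc) (mem_dualFin.1 hq1)
          (mem_dualFin.1 hq1') (mem_dualFin.1 hq2) (mem_dualFin.1 hq2') e0
        exact congrArg Sum.inl (Prod.ext r1 r2)
      · have hm := (hXmem φ').1 (Finset.inr_mem_disjSum.1 hj)
        show iq (χ _) (R φ') = 0
        rw [iq_comm (sg_eta hχ _).gen (I.sg φ' hm).gen]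
        exact I.perp φ' hm _
      · exact I.perp φ ((hXmem φ).1 (Finset.inr_mem_disjSum.1 hi)) _
      · exact I.orth φ ((hXmem φ).1 (Finset.inr_mem_disjSum.1 hi)) φ'
          ((hXmem φ').1 (Finset.inr_mem_disjSum.1 hj)) fun q => hij (congrArg Sum.inr q))
    hFg
  have hnorm : iq F F = (D : ℤ) ^ 2 * (Nat.card W₁ : ℤ) + (d : ℤ) ^ 2 := by
    refine iq_eq _ ?_
    rw [hFdef, h.ind_isometry hNB hfS (isClassFunction_of_isGeneralized hfg) hfS, hfdef,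
      classInner_sub_left, classInner_sub_right, classInner_sub_right, classInner_smul_left,
      classInner_smul_left, classInner_smul_left, classInner_smul_left, classInner_smul_right,
      classInner_smul_right, classInner_smul_right, classInner_smul_right, C.col_inner h hψ hψ,
      if_pos rfl, hcolφ, ← classInner_conj (colSum mu ψ) φ₁, hcolφ,
      central_inner Pt h rfl hep hp hZ hφ₁ hφ₁, if_pos rfl, map_intCast, map_intCast]
    push_cast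
    simp
    ring
  rw [Finset.sum_disjSum, Finset.sum_product, hnorm] at hbes
  simp only [u, Sum.elim_inl, Sum.elim_inr] at hbes
  -- the rows
  obtain ⟨hrow, hQ3⟩ := num_row (p := (p : ℤ)) (e := (Nat.card W₁ : ℤ)) (a := a) (δ := δ)
    (by exact_mod_cast hp3) (by exact_mod_cast he3) (C.sgn_cases ψ) hacong
  set Q : ℤ := (a + δ) ^ 2 + ((p : ℤ) - 2) * a ^ 2 with hQdef
  have hrowval : ∀ φ ∈ Φ, ∑ l ∈ L, iq F (χ (φ * l)) ^ 2 =
      iq F (χ φ) ^ 2 + (iq F (χ φ) + (D : ℤ) * (a + δ)) ^ 2 +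
        ((p : ℤ) - 2) * (iq F (χ φ) + (D : ℤ) * a) ^ 2 := by
    intro φ hφ
    rw [hΦ, mem_dualFin] at hφ
    have hrule : ∀ l ∈ trivOn (W₁ ⊔ W₂) W₁, iq F (χ (φ * l)) = iq F (χ φ) + iq F (χ l) := fun l hl => by
      rw [iq_rule h.snc hχ hFg hzero hφ hl, hcoef1, sub_zero]
    have h1L : (1 : ↥(W₁ ⊔ W₂) →* ℂˣ) ∈ L := by rw [hL]; exact mem_dualFin.2 (one_mem _)
    have hψL : ψ ∈ L.erase 1 := Finset.mem_erase.2 ⟨hψ1, by rw [hL]; exact mem_dualFin.2 hψ⟩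
    rw [← Finset.add_sum_erase L _ h1L, ← Finset.add_sum_erase _ _ hψL,
      Finset.sum_congr rfl fun l hl => show iq F (χ (φ * l)) ^ 2 = (iq F (χ φ) + (D : ℤ) * a) ^ 2 by
        obtain ⟨hlψ, hl'⟩ := Finset.mem_erase.1 hl
        obtain ⟨hl1, hlm⟩ := Finset.mem_erase.1 hl'
        rw [hL, mem_dualFin] at hlm
        rw [hrule l hlm, hcoef l hlm hl1, if_neg hlψ],
      Finset.sum_const, Finset.card_erase_of_mem hψL, Finset.card_erase_of_mem h1L, hLcard, hmul1,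
      hrule ψ hψ, hcoef ψ hψ hψ1, if_pos rfl, nsmul_eq_mul, Nat.cast_sub (by omega),
      Nat.cast_sub (by omega)]
    push_cast
    ring
  have hp0 : (0 : ℤ) < p := by exact_mod_cast hpp.pos
  have hrows : ((Nat.card W₁ : ℤ) - 1) * (D : ℤ) ^ 2 + (D : ℤ) ^ 2 * Q ≤
      ∑ φ ∈ Φ, ∑ l ∈ L, iq F (χ (φ * l)) ^ 2 := by
    have h1Φ : (1 : ↥(W₁ ⊔ W₂) →* ℂˣ) ∈ Φ := by rw [hΦ]; exact mem_dualFin.2 hone
    have hlow : ∀ φ ∈ Φ.erase 1, (D : ℤ) ^ 2 ≤ ∑ l ∈ L, iq F (χ (φ * l)) ^ 2 := by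
      intro φ hφ
      rw [hrowval φ (Finset.mem_erase.1 hφ).2]
      set X := iq F (χ φ)
      refine le_of_mul_le_mul_left ?_ hp0
      have hid : (p : ℤ) * (X ^ 2 + (X + (D : ℤ) * (a + δ)) ^ 2 +
          ((p : ℤ) - 2) * (X + (D : ℤ) * a) ^ 2) =
          ((p : ℤ) * X + (D : ℤ) * (((p : ℤ) - 1) * a + δ)) ^ 2 +
            (D : ℤ) ^ 2 * ((p : ℤ) * Q - (((p : ℤ) - 1) * a + δ) ^ 2) := by rw [hQdef]; ring
      rw [hid]
      nlinarith [sq_nonneg ((p : ℤ) * X + (D : ℤ) * (((p : ℤ) - 1) * a + δ)),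
        mul_le_mul_of_nonneg_left hrow (sq_nonneg (D : ℤ))]
    have hfirst : ∑ l ∈ L, iq F (χ ((1 : ↥(W₁ ⊔ W₂) →* ℂˣ) * l)) ^ 2 = (D : ℤ) ^ 2 * Q := by
      rw [hrowval 1 h1Φ, hcoef1, hQdef]
      ring
    rw [← Finset.add_sum_erase Φ _ h1Φ, hfirst, add_comm]
    refine add_le_add le_rfl ?_
    have := Finset.card_nsmul_le_sum (Φ.erase 1) (fun φ => ∑ l ∈ L, iq F (χ (φ * l)) ^ 2) _ hlow
    rwa [Finset.card_erase_of_mem h1Φ, hΦ, card_dualFin h.snc, nsmul_eq_mul,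
      Nat.cast_sub (by omega), Nat.cast_one] at this
  -- the coherent images
  set g := fun φ => iq F (R φ) with hgdef
  set G₁ : ℤ := g φ₁ + (d : ℤ) with hG₁
  have hgrel : ∀ φ ∈ Xf, (D : ℤ) * g φ = (Dg φ : ℤ) * G₁ - (d : ℤ) * D * if φ = φ₁ then 1 else 0 := by
    intro φ hφ'
    have hφ := (hXmem φ).1 hφ'
    set k : ↥S → ℂ := ((Dg φ : ℤ) : ℂ) • φ₁ - ((D : ℤ) : ℂ) • φ with hkdef
    have hab : ((Dg φ : ℤ) : ℂ) * φ₁ 1 = ((D : ℤ) : ℂ) * φ 1 := by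
      rw [hDg φ₁ hφ₁, hDg φ hφ, ← hDdef]
      push_cast
      ring
    have hkg : Gen k := isGeneralizedCharacter_sub (Gen.zsmul hφ₁g _)
      (Gen.zsmul (central_gen Pt h rfl hep hp hZ hφ) _)
    have hkS : SuppOn S W₁ W₂ k := suppOn_of_sigma (by
      rw [hkdef, Pi.sub_apply, Pi.smul_apply, Pi.smul_apply, smul_eq_mul, smul_eq_mul, hab, sub_self])
      fun x hx => by
        rw [hkdef, Pi.sub_apply, Pi.smul_apply, Pi.smul_apply, hφ₁0 x hx, central_vanish Pt h hφ hx,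
          smul_zero, smul_zero, sub_zero]
    have e1 : classInner F (indFun S k) = ((-(d : ℤ) * ((Dg φ : ℤ) -
        (D : ℤ) * if φ₁ = φ then 1 else 0) : ℤ) : ℂ) := by
      rw [hFdef, h.ind_isometry hNB hfS (isClassFunction_of_isGeneralized hkg) hkS, hfdef, hkdef,
        classInner_sub_left, classInner_sub_right, classInner_sub_right, classInner_smul_left,
        classInner_smul_left, classInner_smul_left, classInner_smul_left, classInner_smul_right,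
        classInner_smul_right, classInner_smul_right, classInner_smul_right, hcolφ,
        C.col_inner_irr h (central_irr Pt h rfl hep hp hZ hφ) (fun x hx => central_vanish Pt h hφ hx),
        central_inner Pt h rfl hep hp hZ hφ₁ hφ₁, if_pos rfl,
        central_inner Pt h rfl hep hp hZ hφ₁ hφ, map_intCast, map_intCast]
      split_ifs <;> push_cast <;> ring
    have e2 : classInner F (indFun S k) = (((Dg φ : ℤ) * g φ₁ - (D : ℤ) * g φ : ℤ) : ℂ) := by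
      rw [hkdef, I.diff φ₁ hφ₁ φ hφ _ _ hab, classInner_sub_right, classInner_smul_right,
        classInner_smul_right, iq_spec hFg (I.sg φ₁ hφ₁).gen, iq_spec hFg (I.sg φ hφ).gen, map_intCast,
        map_intCast]
      push_cast
      rfl
    have e3 := e1.symm.trans e2
    rw [Int.cast_inj] at e3
    rw [hG₁]
    simp only [eq_comm (a := φ₁) (b := φ)] at e3
    linear_combination e3
  set W : ℤ := ∑ φ ∈ Xf, (Dg φ : ℤ) ^ 2 with hWdef
  have hφ₁f : φ₁ ∈ Xf := (hXmem φ₁).2 hφ₁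
  have hgsum : (D : ℤ) ^ 2 * ∑ φ ∈ Xf, g φ ^ 2 =
      G₁ ^ 2 * W - 2 * G₁ * (d : ℤ) * (D : ℤ) ^ 2 + (d : ℤ) ^ 2 * (D : ℤ) ^ 2 := by
    rw [Finset.mul_sum, Finset.sum_congr rfl fun φ hφ => show (D : ℤ) ^ 2 * g φ ^ 2 =
      G₁ ^ 2 * (Dg φ : ℤ) ^ 2 + if φ = φ₁ then
        -(2 * G₁ * (d : ℤ) * (D : ℤ) ^ 2) + (d : ℤ) ^ 2 * (D : ℤ) ^ 2 else 0 by
      rw [← mul_pow, hgrel φ hφ]
      split_ifs with q
      · rw [q, ← hDdef]; ring
      · ring,
      Finset.sum_add_distrib, ← Finset.mul_sum, Finset.sum_ite_eq', if_pos hφ₁f, hWdef]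
    ring
  have hW : (d : ℤ) ^ 2 ≤ W := by
    have hs := central_sum Pt h rfl hep hp hZ Xf (Set.Finite.coe_toFinset _)
    rw [Finset.sum_congr rfl fun φ hφ => by rw [hDg φ ((hXmem φ).1 hφ)]] at hs
    have hcard := CfsgLib.Coprime.card_mul_relIndex (zN_le Pt h)
    obtain ⟨hN, -, -, hdvd⟩ := Parts.noncentral_case Pt h rfl hep hp hZ
    have hNe : (Nat.card W₁ : ℤ) ≤ (Nat.card ↥(N₀) : ℤ) - 1 := by
      have h2 : 1 < Nat.card ↥(N₀) := (Subgroup.one_lt_card_iff_ne_bot _).2 hN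
      have := Nat.le_of_dvd (by omega) hdvd
      omega
    rw [← hcard] at hs
    set r := (N₀).relIndex P
    have hs' : (Nat.card W₁ : ℤ) * ((Nat.card W₁ : ℤ) * W) =
        (Nat.card W₁ : ℤ) * (((Nat.card ↥(N₀) : ℤ) - 1) * (r : ℤ)) := by
      have : (((Nat.card W₁ : ℤ) * ((Nat.card W₁ : ℤ) * W) : ℤ) : ℂ) =
          (((Nat.card W₁ : ℤ) * (((Nat.card ↥(N₀) : ℤ) - 1) * (r : ℤ)) : ℤ) : ℂ) := by
        rw [hWdef]
        push_cast at hs ⊢
        rw [Finset.mul_sum, Finset.mul_sum]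
        calc _ = ∑ φ ∈ Xf, ((Nat.card W₁ : ℂ) * (Dg φ : ℂ)) ^ 2 :=
              Finset.sum_congr rfl fun φ _ => by ring
          _ = _ := by rw [hs]; ring
      exact_mod_cast this
    have he0 : (0 : ℤ) < (Nat.card W₁ : ℤ) := by exact_mod_cast Nat.card_pos
    have h3 := mul_left_cancel₀ he0.ne' hs'
    have h4 : (Nat.card W₁ : ℤ) * (r : ℤ) ≤ (Nat.card W₁ : ℤ) * W := by
      rw [h3]
      exact mul_le_mul_of_nonneg_right hNe (Int.natCast_nonneg _)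
    exact le_trans (by exact_mod_cast hd2) (le_of_mul_le_mul_left h4 he0)
  have htot : (D : ℤ) ^ 2 * (Q - 1) + ∑ φ ∈ Xf, g φ ^ 2 ≤ (d : ℤ) ^ 2 := by
    simp only [hgdef]
    linarith
  have hD2' : (2 : ℤ) ≤ D := by exact_mod_cast hD2
  have h5 : (D : ℤ) ^ 4 * (Q - 1) + G₁ ^ 2 * W - 2 * G₁ * (d : ℤ) * (D : ℤ) ^ 2 ≤ 0 := by
    have := mul_le_mul_of_nonneg_left htot (sq_nonneg (D : ℤ))
    rw [mul_add, hgsum] at this
    linarith
  nlinarith [mul_le_mul_of_nonneg_left hW (sq_nonneg G₁), sq_nonneg (G₁ * (d : ℤ) - (D : ℤ) ^ 2),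
    mul_le_mul_of_nonneg_left hQ3 (by positivity : (0 : ℤ) ≤ (D : ℤ) ^ 4),
    pow_pos (by linarith : (0 : ℤ) < D) 4]

end CfsgLib.FT.TypeV
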