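import Cfsg.Agent.Lib.FT.Rectangle
import Cfsg.Agent.Lib.FT.FamilyBasic
import Cfsg.Agent.Lib.CFun.OddKappaDerived

/-!
# The coefficients of `τθ_S` for `S` with `U = 1` (`docs/FT.md`, §4)

`theta_dichotomy`: with `A = (τθ_S, η_0j)` either `τθ_S = Σ_i η_i0 + X` with `X` a signed irreducible
orthogonal to every `η`, or `A = 1` and `|W₂| ≤ |W₁|`.
-/

set_option autoImplicit false
set_option linter.unusedSectionVars false
set_option linter.style.haveILetI false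

open Subgroup
open scoped commutatorElement

namespace CfsgLib.FT

open scoped ComplexConjugate
open Cfsg CfsgLib.Char CfsgLib.Char.Signed CfsgLib.FT.Rect

universe u

variable {G : Type u} [Group G] [Fintype G]

namespace Rect

variable {W₁ W₂ : Subgroup G}

/-- The family commutes with the power maps. -/
theorem eta_powMap (hW : IsSelfNormalizingCyclic W₁ W₂) (hodd : Odd (Nat.card ↥(W₁ ⊔ W₂)))
    {χ : (↥(W₁ ⊔ W₂) →* ℂˣ) → (G → ℂ)} (hχ : IsCyclicTIFamily W₁ W₂ χ)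
    (ω : ↥(W₁ ⊔ W₂) →* ℂˣ) {k : ℕ} (hk : Nat.Coprime (Nat.card G) k) (g : G) :
    χ (ω ^ k) g = χ ω (g ^ k) := by
  classical
  let X : G → ℂ := fun g => χ ω (g ^ k)
  have hX : Sg X := ⟨signed_irr_generalized (signed_irr_powMap hk (hχ.irr_or_neg ω)), by
    rw [show X = fun g => χ ω (g ^ k) from rfl, classInner_powMap hk, hχ.orthonormal, if_pos rfl]⟩
  have hval : ∀ w : ↥(W₁ ⊔ W₂), (w : G) ∉ W₁ → (w : G) ∉ W₂ → X w = χ (ω ^ k) w := by
    intro w h1 h2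
    have hback : ∀ K : Subgroup G, (w : G) ^ k ∈ K → (w : G) ∈ K := fun K h => by
      have h3 : (powCoprime hk).symm ((w : G) ^ k) = w := (powCoprime hk).symm_apply_apply _
      rw [← h3, powCoprime_symm_apply]
      exact K.zpow_mem h _
    show χ ω ((w : G) ^ k) = _
    rw [show (w : G) ^ k = ((w ^ k : ↥(W₁ ⊔ W₂)) : G) from rfl,
      hχ.eq_on ω (w ^ k) (fun h => h1 (hback _ h)) fun h => h2 (hback _ h), hχ.eq_on _ w h1 h2,
      map_pow, MonoidHom.pow_apply]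
  suffices h : X = χ (ω ^ k) from (congrFun h g).symm
  rcases hX.iq_cases (sg_eta hχ (ω ^ k)) with q | ⟨-, qe⟩ | ⟨-, qe⟩
  · exfalso
    have hd : Gen (X - χ (ω ^ k)) := isGeneralizedCharacter_sub hX.gen (sg_eta hχ _).gen
    have hn : iq (X - χ (ω ^ k)) (X - χ (ω ^ k)) ≤ 2 := by
      rw [iq_sub_left hX.gen (sg_eta hχ _).gen hd, iq_sub_right hX.gen hX.gen (sg_eta hχ _).gen,
        iq_sub_right (sg_eta hχ _).gen hX.gen (sg_eta hχ _).gen, hX.iq_self, q,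
        iq_comm (sg_eta hχ _).gen hX.gen, q, (sg_eta hχ _).iq_self]
      norm_num
    have h := perp_of_norm_two hW hodd hχ hd hn (fun w h1 h2 => by
      rw [Pi.sub_apply, hval w h1 h2, sub_self]) (ω ^ k)
    rw [classInner_sub_left, iq_spec hX.gen (sg_eta hχ _).gen, q, hχ.orthonormal, if_pos rfl] at h
    norm_num at h
  · exact qe
  · exfalso
    obtain ⟨a, ha, ha1⟩ := (bot_or_exists_ne_one W₁).resolve_left hW.1
    obtain ⟨b, hb, hb1⟩ := (bot_or_exists_ne_one W₂).resolve_left hW.2.1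
    have hab : ∀ x, x ∈ W₁ → x ∈ W₂ → x = 1 := fun x hx hy => by
      have : x ∈ W₁ ⊓ W₂ := ⟨hx, hy⟩
      rwa [snc_disj hW, mem_bot] at this
    let w : ↥(W₁ ⊔ W₂) := ⟨a * b, mul_mem_sup ha hb⟩
    have h1 : (w : G) ∉ W₁ := fun h => hb1 (hab b ((mul_mem_cancel_left ha).1 h) hb)
    have h2 : (w : G) ∉ W₂ := fun h => ha1 (hab a ha ((mul_mem_cancel_right hb).1 h))
    have h := hval w h1 h2
    rw [qe, Pi.neg_apply, hχ.eq_on _ w h1 h2] at h
    exact (Units.ne_zero ((ω ^ k) w)) (by linear_combination (-(1 : ℂ) / 2) * h)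

end Rect

namespace TypeV

variable {S W₁ W₂ : Subgroup G} {mu : (↥(W₁ ⊔ W₂) →* ℂˣ) → (↥S → ℂ)}
  {sgn : (↥(W₁ ⊔ W₂) →* ℂˣ) → ℤ} {χ : (↥(W₁ ⊔ W₂) →* ℂˣ) → (G → ℂ)}

/-- `θ_S = Ind_{S_σ} 1 - φ₀`, with `Ind_{S_σ} 1` written as the first column. -/
noncomputable def thetaS (mu : (↥(W₁ ⊔ W₂) →* ℂˣ) → (↥S → ℂ)) (φ₀ : Member S) : ↥S → ℂ :=
  colSum mu 1 - φ₀.1

variable (h : Kappa S W₁ ⊥ W₂) (C : IsCols S W₁ W₂ mu sgn) (hNB : NoBad G) (hM : FpfAb S)
include h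

omit hNB hM C in
theorem derived_eq : ⁅S, S⁆ = Cfsg.sigmaCore S := by
  rw [CfsgLib.CFun.KappaDerived.derived_eq h.minSimple h.coatom h.decomp h.neW₁, bot_sup_eq]

omit hNB hM C in
theorem eIndex_eq_card : eIndex S = Nat.card W₁ := by
  have e1 := CfsgLib.CFun.Decomp.card_eq h.minSimple h.coatom h.decomp
  rw [card_bot, one_mul] at e1
  have e2 := CfsgLib.Coprime.card_mul_relIndex
    (show Cfsg.sigmaCore S ≤ S from map_subtype_le _)
  rw [e1, mul_comm] at e2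
  exact Nat.eq_of_mul_eq_mul_right Nat.card_pos e2

include C

omit hNB hM in
/-- The first column is `|W₁|` on `S_σ` and zero elsewhere. -/
theorem col_one_apply [DecidablePred (· ∈ Cfsg.sigmaCore S)] (x : ↥S) :
    colSum mu 1 x = if (x : G) ∈ Cfsg.sigmaCore S then (Nat.card W₁ : ℂ) else 0 := by
  split_ifs with hx <;> rw [← derived_eq h] at hx
  · rw [colSum, Finset.sum_apply, Finset.sum_congr rfl fun φ hφ => by
      rw [C.res_congr h (mem_dualFin.1 hφ) 1 hx, (C.mu_one h).1], Finset.sum_const,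
      card_dualFin h.snc, nsmul_eq_mul, mul_one]
  · exact C.col_eq_zero h hx

include hM

omit hNB in
theorem member_col_inner [Fintype ↥S] (φ₀ : Member S) (ψ : ↥(W₁ ⊔ W₂) →* ℂˣ) :
    classInner (colSum mu ψ) φ₀.1 = 0 :=
  C.col_inner_irr h (member_irr h.minSimple hM φ₀) (fun _ hx => member_vanish h.minSimple φ₀ hx) ψ

omit hNB in
theorem member_mu_inner [Fintype ↥S] (φ₀ : Member S) (ω : ↥(W₁ ⊔ W₂) →* ℂˣ) :
    classInner φ₀.1 (mu ω) = 0 := by
  rw [← classInner_conj, C.mu_inner_irr h (member_irr h.minSimple hM φ₀)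
    (fun _ hx => member_vanish h.minSimple φ₀ hx), map_zero]

omit hNB in
/-- `θ_S` vanishes outside `S_σ#`. -/
theorem thetaS_zero (φ₀ : Member S) (x : ↥S)
    (hx : (x : G) ∉ Cfsg.sigmaCore S ∨ (x : G) = 1) : thetaS mu φ₀ x = 0 := by
  classical
  rw [thetaS, Pi.sub_apply, col_one_apply h C]
  rcases hx with hx | hx
  · rw [if_neg hx, member_vanish h.minSimple φ₀ hx, sub_self]
  · rw [if_pos (hx ▸ one_mem _), show x = 1 from Subtype.ext hx, member_one φ₀, eIndex_eq_card h,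
      sub_self]

omit hNB in
theorem thetaS_gen (φ₀ : Member S) : Gen (thetaS mu φ₀) :=
  haveI := Fintype.ofFinite ↥S
  isGeneralizedCharacter_sub (C.col_gen h 1)
    (isGeneralizedCharacter_of_isCharacter (isCharacter_of_isIrr (member_irr h.minSimple hM φ₀)))

omit hNB in
theorem thetaS_supp (φ₀ : Member S) : SuppOn S W₁ W₂ (thetaS mu φ₀) :=
  suppOn_of_sigma (thetaS_zero h C hM φ₀ 1 (Or.inr rfl))
    fun x hx => thetaS_zero h C hM φ₀ x (Or.inl hx)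

include hNB

theorem thetaS_norm [Fintype ↥S] (φ₀ : Member S) :
    iq (indFun S (thetaS mu φ₀)) (indFun S (thetaS mu φ₀)) = (Nat.card W₁ : ℤ) + 1 := by
  classical
  refine iq_eq _ ?_
  have hS := thetaS_supp h C hM φ₀
  rw [h.ind_isometry hNB hS (isClassFunction_of_isGeneralized (thetaS_gen h C hM φ₀)) hS, thetaS,
    classInner_sub_left, classInner_sub_right, classInner_sub_right,
    C.col_inner h (one_mem _) (one_mem _), if_pos rfl, member_col_inner h C hM φ₀,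
    ← classInner_conj (colSum mu 1) φ₀.1, member_col_inner h C hM φ₀,
    member_self h.minSimple hM φ₀]
  push_cast
  simp

variable (hχ : IsCyclicTIFamily W₁ W₂ χ)
include hχ

theorem thetaS_zhat (φ₀ : Member S) (w : ↥(W₁ ⊔ W₂)) (h1 : (w : G) ∉ W₁) (h2 : (w : G) ∉ W₂) :
    indFun S (thetaS mu φ₀) w = 0 := by
  rw [h.ind_zhat hNB (isClassFunction_of_isGeneralized (thetaS_gen h C hM φ₀))
    (thetaS_supp h C hM φ₀) w h1 h2]
  exact thetaS_zero h C hM φ₀ _ (Or.inl fun hσ => h2 (h.sigma_sup w.2 hσ))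

theorem thetaS_eta_one [Fintype ↥S] (φ₀ : Member S) :
    iq (indFun S (thetaS mu φ₀)) (χ 1) = 1 := by
  classical
  refine iq_eq _ ?_
  rw [hχ.map_one, classInner_indFun S _ _ fun _ _ => rfl,
    show (fun _ : ↥S => (1 : ℂ)) = mu 1 from (C.mu_one h).1.symm, thetaS, classInner_sub_left,
    member_mu_inner h C hM φ₀, sub_zero, ← classInner_conj,
    show classInner (mu 1) (colSum mu 1) = classInner (mu (1 * 1)) (colSum mu 1) from
      congrArg (fun t => classInner (mu t) (colSum mu 1))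
        (mul_one (1 : ↥(W₁ ⊔ W₂) →* ℂˣ)).symm,
    colSum_inner_single h.snc (fun ω ω' => C.mu_inner h ω ω') (one_mem _) (one_mem _) (one_mem _),
    if_pos rfl]
  simp

/-- `(τθ_S, η_ij)` does not depend on `j ≠ 0` when the degrees agree. -/
theorem thetaS_eta_congr [Fintype ↥S] (φ₀ : Member S) {φ ψ ψ' : ↥(W₁ ⊔ W₂) →* ℂˣ}
    (hφ : φ ∈ trivOn _ W₂) (hψ : ψ ∈ trivOn _ W₁) (hψ1 : ψ ≠ 1) (hψ' : ψ' ∈ trivOn _ W₁)
    (hψ'1 : ψ' ≠ 1) (hdeg : mu ψ 1 = mu ψ' 1) :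
    iq (indFun S (thetaS mu φ₀)) (χ (φ * ψ)) = iq (indFun S (thetaS mu φ₀)) (χ (φ * ψ')) := by
  classical
  rcases eq_or_ne ψ ψ' with rfl | hne
  · rfl
  have hF : Gen (indFun S (thetaS mu φ₀)) :=
    isGeneralizedCharacter_indFun S (thetaS_gen h C hM φ₀)
  have e := C.coeff_diff h hNB hχ (thetaS_supp h C hM φ₀) hφ hψ hψ1 hψ' hψ'1 hne hdeg
  have h0 : ∀ {ψ : ↥(W₁ ⊔ W₂) →* ℂˣ}, ψ ∈ trivOn _ W₁ → ψ ≠ 1 →
      classInner (thetaS mu φ₀) (mu (φ * ψ)) = 0 := fun {ψ} hψ hψ1 => by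
    rw [thetaS, classInner_sub_left, member_mu_inner h C hM φ₀, sub_zero,
      ← classInner_conj, colSum_inner_single h.snc (fun ω ω' => C.mu_inner h ω ω') hφ hψ (one_mem _),
      if_neg hψ1, map_zero]
  rw [classInner_sub_right, h0 hψ hψ1, h0 hψ' hψ'1, sub_zero, mul_zero, sub_eq_zero,
    iq_spec hF (sg_eta hχ _).gen, iq_spec hF (sg_eta hχ _).gen] at e
  exact_mod_cast e

/-- The dichotomy of `docs/FT.md`, §4. -/
theorem theta_dichotomy [Fintype ↥S] (φ₀ : Member S) (hp : (Nat.card W₂).Prime) :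
    (∃ X, Sg X ∧ (∀ ω, classInner X (χ ω) = 0) ∧
      indFun S (thetaS mu φ₀) = colSum χ 1 + X) ∨
    (Nat.card W₂ ≤ Nat.card W₁ ∧ ∀ ψ ∈ trivOn (W₁ ⊔ W₂) W₁, ψ ≠ 1 →
      iq (indFun S (thetaS mu φ₀)) (χ ψ) = 1) := by
  classical
  haveI := finite_dual (K := ↥(W₁ ⊔ W₂))
  set F := indFun S (thetaS mu φ₀) with hFdef
  have hF : Gen F := isGeneralizedCharacter_indFun S (thetaS_gen h C hM φ₀)
  set P := dualFin (W₁ ⊔ W₂) W₂ with hP
  set Q := dualFin (W₁ ⊔ W₂) W₁ with hQ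
  have hQcard : Q.card = Nat.card W₂ := by
    rw [← card_trivOn_fst (snc_disj h.snc) (snc_comm h.snc) (snc_mul_comm_snd h.snc),
      ← Nat.card_eq_finsetCard]
    exact Nat.card_congr (Equiv.subtypeEquivRight fun _ => mem_dualFin)
  have h1Q : (1 : ↥(W₁ ⊔ W₂) →* ℂˣ) ∈ Q := mem_dualFin.2 (one_mem _)
  have h1P : (1 : ↥(W₁ ⊔ W₂) →* ℂˣ) ∈ P := mem_dualFin.2 (one_mem _)
  obtain ⟨ψ₀, hψ₀Q, hψ₀1⟩ := Finset.exists_mem_ne (by rw [hQcard]; exact hp.one_lt : 1 < Q.card)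
    (1 : ↥(W₁ ⊔ W₂) →* ℂˣ)
  set A := iq F (χ ψ₀) with hA
  have hA' : ∀ ψ ∈ trivOn (W₁ ⊔ W₂) W₁, ψ ≠ 1 → iq F (χ ψ) = A := fun ψ hψ hψ1 => by
    have e := thetaS_eta_congr h C hNB hM hχ φ₀ (one_mem _) hψ hψ1 (mem_dualFin.1 hψ₀Q) hψ₀1
      (C.deg_eq_of_prime h hp (mem_dualFin.1 hψ₀Q) hψ₀1 hψ hψ1)
    rwa [show (1 : ↥(W₁ ⊔ W₂) →* ℂˣ) * ψ = ψ from one_mul ψ,
      show (1 : ↥(W₁ ⊔ W₂) →* ℂˣ) * ψ₀ = ψ₀ from one_mul ψ₀] at e
  have hone : iq F (χ 1) = 1 := thetaS_eta_one h C hNB hM hχ φ₀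
  set B := fun φ : ↥(W₁ ⊔ W₂) →* ℂˣ => iq F (χ φ) with hB
  have hcoef : ∀ φ ∈ P, ∀ ψ ∈ Q, ψ ≠ 1 → iq F (χ (φ * ψ)) = B φ + A - 1 := by
    intro φ hφ ψ hψ hψ1
    rw [iq_rule h.snc hχ hF (thetaS_zhat h C hNB hM hχ φ₀) (mem_dualFin.1 hφ) (mem_dualFin.1 hψ),
      hA' ψ (mem_dualFin.1 hψ) hψ1, hone]
  -- every coefficient, with one unit left for the rest
  set S₀ := (P ×ˢ Q).image fun x => x.1 * x.2 with hS₀
  have hall : ∀ ω, ω ∈ S₀ := fun ω => by
    obtain ⟨φ, hφ, ψ, hψ, rfl⟩ := exists_trivOn_mul (snc_disj h.snc) (snc_comm h.snc) ω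
    exact Finset.mem_image.2
      ⟨(φ, ψ), Finset.mem_product.2 ⟨mem_dualFin.2 hφ, mem_dualFin.2 hψ⟩, rfl⟩
  have hinj : Set.InjOn (fun x : (↥(W₁ ⊔ W₂) →* ℂˣ) × (↥(W₁ ⊔ W₂) →* ℂˣ) => x.1 * x.2)
      ((P ×ˢ Q : Finset _) : Set _) := by
    rintro ⟨x, y⟩ hxy ⟨x', y'⟩ hxy' e
    simp only [Finset.coe_product, Set.mem_prod, Finset.mem_coe, hP, hQ, mem_dualFin] at hxy hxy'
    obtain ⟨e1, e2⟩ := trivOn_mul_inj (snc_disj h.snc) (snc_comm h.snc) hxy.1 hxy'.1 hxy.2 hxy'.2 e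
    rw [e1, e2]
  obtain ⟨hR, hRperp, hRn⟩ :=
    proj_remainder S₀ χ (fun i _ => sg_eta hχ i) (fun i _ j _ e => iq_eta_ne hχ e) hF
  rw [thetaS_norm h C hNB hM φ₀] at hRn
  -- the conjugate pair `φ₀ - φ̄₀` is not seen by the family
  have hG := h.minSimple
  have hne : φ₀.1 ≠ Cfsg.conjFun φ₀.1 := fun e => by
    have hodd : Odd (Nat.card ↥S) := hG.1.of_dvd_nat (card_subgroup_dvd_card S)
    have h1 : φ₀.1 = fun _ => 1 :=
      irr_eq_one_of_real hodd ⟨_, member_irr hG hM φ₀⟩ fun g => (congrFun e g).symm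
    exact C.ne_mu h (fun _ hx => member_vanish hG φ₀ hx) 1 (h1.trans (C.mu_one h).1.symm)
  let φ₁ : Member S := ⟨_, isMember_conj hG φ₀.2⟩
  set d := φ₀.1 - φ₁.1 with hd
  have hd0 : ∀ x : ↥S, (x : G) ∉ Cfsg.sigmaCore S → d x = 0 := fun x hx => by
    rw [hd, Pi.sub_apply, member_vanish hG φ₀ hx, member_vanish hG φ₁ hx, sub_self]
  have hdS : SuppOn S W₁ W₂ d := suppOn_of_sigma
    (by rw [hd, Pi.sub_apply, member_one φ₀, member_one φ₁, sub_self]) hd0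
  have hdg : Gen d := isGeneralizedCharacter_sub
    (isGeneralizedCharacter_of_isCharacter (isCharacter_of_isIrr (member_irr hG hM φ₀)))
    (isGeneralizedCharacter_of_isCharacter (isCharacter_of_isIrr (member_irr hG hM φ₁)))
  have hdcl := isClassFunction_of_isGeneralized hdg
  have h01 : φ₀ ≠ φ₁ := fun e => hne (congrArg Subtype.val e)
  have hg : Gen (indFun S d) := isGeneralizedCharacter_indFun S hdg
  have hg2 : iq (indFun S d) (indFun S d) ≤ 2 := le_of_eq (iq_eq 2 (by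
    rw [h.ind_isometry hNB hdS hdcl hdS, hd, classInner_sub_left, classInner_sub_right,
      classInner_sub_right, member_self hG hM φ₀, member_self hG hM φ₁, member_orth hG hM h01,
      member_orth hG hM h01.symm]
    norm_num))
  have hgV : ∀ w : ↥(W₁ ⊔ W₂), (w : G) ∉ W₁ → (w : G) ∉ W₂ → indFun S d w = 0 := fun w h1 h2 => by
    rw [h.ind_zhat hNB hdcl hdS w h1 h2]
    exact hd0 _ fun hσ => h2 (h.sigma_sup w.2 hσ)
  have hFd : iq F (indFun S d) = -1 := iq_eq _ (by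
    rw [hFdef, h.ind_isometry hNB (thetaS_supp h C hM φ₀) hdcl hdS, thetaS, hd, classInner_sub_left,
      classInner_sub_right, classInner_sub_right, member_col_inner h C hM φ₀,
      member_col_inner h C hM φ₁, member_self hG hM φ₀, member_orth hG hM h01]
    norm_num)
  have hsum : ∑ φ ∈ P, ∑ ψ ∈ Q, iq F (χ (φ * ψ)) ^ 2 ≤ (Nat.card W₁ : ℤ) := by
    rw [← Finset.sum_product', ← Finset.sum_image hinj (f := fun ω => iq F (χ ω) ^ 2), ← hS₀]
    by_contra hc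
    have h0 := iq_self_nonneg hR
    have he := eq_zero_of_iq_self hR (by omega)
    rw [sub_eq_zero] at he
    have h1 : iq F (indFun S d) = 0 := by
      rw [he, iq_sum_smul_left S₀ χ (fun i _ => sg_eta hχ i) _ hg]
      refine Finset.sum_eq_zero fun i _ => ?_
      have hz : iq (indFun S d) (χ i) = 0 :=
        iq_eq 0 (by rw [perp_of_norm_two h.snc h.odd_sup hχ hg hg2 hgV i, Int.cast_zero])
      rw [iq_comm (sg_eta hχ i).gen hg, hz, mul_zero]
    omega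
  have hrow : ∀ φ ∈ P, ∑ ψ ∈ Q, iq F (χ (φ * ψ)) ^ 2 =
      B φ ^ 2 + ((Nat.card W₂ : ℤ) - 1) * (B φ + A - 1) ^ 2 := by
    intro φ hφ
    rw [← Finset.add_sum_erase Q _ h1Q, show φ * 1 = φ from mul_one φ,
      Finset.sum_congr rfl fun ψ hψ => by
        rw [hcoef φ hφ ψ (Finset.mem_of_mem_erase hψ) (Finset.ne_of_mem_erase hψ)],
      Finset.sum_const, Finset.card_erase_of_mem h1Q, hQcard, nsmul_eq_mul,
      Nat.cast_sub hp.pos]
    rfl
  rw [Finset.sum_congr rfl hrow, ← Finset.add_sum_erase P _ h1P,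
    show B 1 = 1 from hone] at hsum
  have hp2 : (2 : ℤ) ≤ Nat.card W₂ := by exact_mod_cast hp.two_le
  have hPcard : (P.erase 1).card = Nat.card W₁ - 1 := by
    rw [Finset.card_erase_of_mem h1P, card_dualFin h.snc]
  have he1 : 1 ≤ Nat.card W₁ := Nat.card_pos
  by_cases hA1 : A = 1
  · refine Or.inr ⟨?_, fun ψ hψ hψ1 => (hA' ψ hψ hψ1).trans hA1⟩
    have h2 : (0 : ℤ) ≤ ∑ φ ∈ P.erase 1, (B φ ^ 2 + ((Nat.card W₂ : ℤ) - 1) * (B φ + A - 1) ^ 2) :=
      Finset.sum_nonneg fun φ _ => by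
        have := sq_nonneg (B φ + A - 1)
        have := sq_nonneg (B φ)
        nlinarith
    rw [hA1] at hsum h2
    norm_num [-Nat.card_eq_fintype_card] at hsum h2
    have h4 : (Nat.card W₂ : ℤ) ≤ (Nat.card W₁ : ℤ) := by linarith
    exact_mod_cast h4
  refine Or.inl ?_
  have hge : ∀ φ : ↥(W₁ ⊔ W₂) →* ℂˣ,
      1 ≤ B φ ^ 2 + ((Nat.card W₂ : ℤ) - 1) * (B φ + A - 1) ^ 2 := by
    intro φ
    have := mul_nonneg (by omega : (0 : ℤ) ≤ (Nat.card W₂ : ℤ) - 1) (sq_nonneg (B φ + A - 1))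
    rcases eq_or_ne (B φ) 0 with hb | hb
    · rw [hb] at this ⊢
      have h3 : 0 < (0 + A - 1) ^ 2 := by
        have : A - 1 ≠ 0 := sub_ne_zero.2 hA1
        rw [zero_add]; positivity
      nlinarith
    · have : 0 < B φ ^ 2 := by positivity
      omega
  have h3 := Finset.card_nsmul_le_sum (P.erase 1) _ (1 : ℤ) fun φ _ => hge φ
  rw [hPcard, nsmul_one, Nat.cast_sub he1] at h3
  have hA0 : A = 0 := by
    by_contra hA0
    have h4 : 0 < A ^ 2 := by positivity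
    have h5 := mul_pos (by omega : (0 : ℤ) < (Nat.card W₂ : ℤ) - 1) h4
    rw [add_sub_cancel_left, one_pow, Nat.cast_one] at *
    linarith
  have hrows : ∀ φ ∈ P.erase 1, B φ = 1 := by
    intro φ hφ
    have h5 := Finset.add_sum_erase (P.erase 1)
      (fun φ => B φ ^ 2 + ((Nat.card W₂ : ℤ) - 1) * (B φ + A - 1) ^ 2) hφ
    have h6 := Finset.card_nsmul_le_sum ((P.erase 1).erase φ) _ (1 : ℤ) fun φ' _ => hge φ'
    rw [Finset.card_erase_of_mem hφ, hPcard, nsmul_one] at h6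
    have he2 : 1 ≤ Nat.card W₁ - 1 := hPcard ▸ Finset.card_pos.2 ⟨φ, hφ⟩
    rw [Nat.cast_sub he2, Nat.cast_sub he1] at h6
    rw [hA0] at hsum h5 h6
    norm_num [-Nat.card_eq_fintype_card] at hsum h5 h6
    have h7 : B φ ^ 2 + ((Nat.card W₂ : ℤ) - 1) * (B φ - 1) ^ 2 ≤ 1 := by
      linarith
    by_contra hb
    have h8 : 0 < (B φ - 1) ^ 2 := by
      have : B φ - 1 ≠ 0 := sub_ne_zero.2 hb
      positivity
    have hp3 : (3 : ℤ) ≤ Nat.card W₂ := by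
      exact_mod_cast three_le_card h.odd_sup le_sup_right h.snc.2.1
    have h9 := mul_le_mul (by omega : (2 : ℤ) ≤ (Nat.card W₂ : ℤ) - 1)
      (by omega : (1 : ℤ) ≤ (B φ - 1) ^ 2) zero_le_one (by omega)
    linarith [sq_nonneg (B φ)]
  have hcols : ∀ φ ∈ P, B φ = 1 := fun φ hφ => by
    rcases eq_or_ne φ 1 with rfl | hne'
    · exact hone
    · exact hrows φ (Finset.mem_erase.2 ⟨hne', hφ⟩)
  have hval : ∀ ω ∈ S₀, iq F (χ ω) = if ω ∈ P then 1 else 0 := by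
    intro ω hω
    obtain ⟨⟨φ, ψ⟩, hxy, rfl⟩ := Finset.mem_image.1 hω
    obtain ⟨hφ, hψ⟩ := Finset.mem_product.1 hxy
    rcases eq_or_ne ψ 1 with rfl | hψ1
    · rw [show φ * 1 = φ from mul_one φ, if_pos hφ]
      exact hcols φ hφ
    · rw [if_neg fun hc => hψ1 (trivOn_mul_inj (snc_disj h.snc) (snc_comm h.snc) (mem_dualFin.1 hφ)
        (mem_dualFin.1 hc) (mem_dualFin.1 hψ) (one_mem _) (mul_one (φ * ψ)).symm).2,
        hcoef φ hφ ψ hψ hψ1, hcols φ hφ, hA0]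
      norm_num
  have hsub : P ⊆ S₀ := fun ω _ => hall ω
  have hproj : ∑ i ∈ S₀, (iq F (χ i) : ℂ) • χ i = colSum χ 1 := by
    rw [Finset.sum_congr rfl fun i hi => by rw [hval i hi], colSum]
    simp only [apply_ite (Int.cast : ℤ → ℂ), Int.cast_one, Int.cast_zero, ite_smul, one_smul,
      zero_smul, Finset.sum_ite_mem, Finset.inter_eq_right.2 hsub]
    exact Finset.sum_congr rfl fun φ _ => by rw [show φ * 1 = φ from mul_one φ]
  have hsq : ∑ i ∈ S₀, iq F (χ i) ^ 2 = (Nat.card W₁ : ℤ) := by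
    rw [Finset.sum_congr rfl fun i hi => by rw [hval i hi]]
    simp only [ite_pow, one_pow, ne_eq, OfNat.ofNat_ne_zero, not_false_eq_true, zero_pow,
      Finset.sum_ite_mem, Finset.inter_eq_right.2 hsub, Finset.sum_const, nsmul_one]
    rw [hP, card_dualFin h.snc]
  rw [hproj] at hR hRperp hRn
  refine ⟨F - colSum χ 1, Sg.of_iq hR (by omega), fun ω => ?_, by abel⟩
  rw [iq_spec hR (sg_eta hχ ω).gen, hRperp ω (hall ω), Int.cast_zero]

end TypeV

end CfsgLib.FT
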