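import Cfsg.Agent.Lib.FT.Kernels
import Cfsg.Agent.S1526

/-!
# Some maximal subgroup has `K ≠ 1`

Otherwise the group would be partitioned by Frobenius kernels (`docs/FT.md`, §2).
-/

set_option autoImplicit false
set_option linter.style.haveILetI false
set_option linter.unusedSectionVars false

open Subgroup
open CfsgLib.Coprime (conjBy conjBy_conjBy conjBy_one conj_mem_conjBy)

namespace CfsgLib.FT

open CfsgLib.CFun CfsgLib.CFun.TauTwo CfsgLib.CFun.Lines CfsgLib.CFun.Kappa CfsgLib.CFun.Partner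

universe u

variable {G : Type u} [Group G] [Finite G]

/-- Conjugacy of maximal subgroups. -/
def coatomSetoid (G : Type u) [Group G] : Setoid {M : Subgroup G // IsCoatom M} where
  r M N := ∃ g : G, conjBy g M.1 = N.1
  iseqv :=
    ⟨fun M => ⟨1, conjBy_one _⟩,
      fun ⟨g, hg⟩ => ⟨g⁻¹, by rw [← hg, conjBy_conjBy, inv_mul_cancel, conjBy_one]⟩,
      fun ⟨g, hg⟩ ⟨k, hk⟩ => ⟨k * g, by rw [← conjBy_conjBy, hg, hk]⟩⟩

/-- Some maximal subgroup has `K ≠ 1`. -/
theorem exists_kappa_ne_bot (hG : Cfsg.IsMinSimpleOddOrder G) (hNB : NoBad G) :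
    ∃ M K : Subgroup G, IsCoatom M ∧ Cfsg.IsPiHallOf (Cfsg.kappa M) K M ∧ K ≠ ⊥ := by
  classical
  by_contra hnone
  simp only [not_exists, not_and, not_not] at hnone
  haveI : Nontrivial G := by
    haveI : IsSimpleGroup G := hG.2.1
    infer_instance
  -- every maximal subgroup is a Frobenius group with kernel `M_σ`
  have hfrob : ∀ M : Subgroup G, IsCoatom M → ∀ h ∈ Cfsg.sigmaCore M, h ≠ 1 →
      M ⊓ centralizer ({h} : Set G) ≤ Cfsg.sigmaCore M := fun M hM => by
    obtain ⟨K, hKM, h1, h2⟩ :=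
      CfsgLib.Coprime.exists_hallIn (Cfsg.kappa M) (ms_solvable hG hM.1)
    have hK : Cfsg.IsPiHallOf (Cfsg.kappa M) K M :=
      ⟨hKM, h1, fun s hs hsκ hd => h2 s hs hd hsκ⟩
    obtain ⟨U, d⟩ := Decomp.exists_decomp hG hM hK
    exact fun h hh hh1 => centralizer_le_of_bot hG hNB hM d (hnone M K hM hK) hh hh1
  let s := coatomSetoid G
  haveI : Fintype (Quotient s) := Fintype.ofFinite _
  let L : Quotient s → Subgroup G := fun i => i.out.1
  have hL : ∀ i, IsCoatom (L i) := fun i => i.out.2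
  have hclass : ∀ M : Subgroup G, IsCoatom M → ∃ i, ∃ g : G, conjBy g M = L i := fun M hM =>
    ⟨Quotient.mk s ⟨M, hM⟩, Setoid.symm (Quotient.mk_out (s := s) ⟨M, hM⟩)⟩
  have hconj : ∀ i j, (∃ g : G, conjBy g (L i) = L j) → i = j := fun i j h => by
    rw [← Quotient.out_eq i, ← Quotient.out_eq j]
    exact Quotient.sound h
  have hlt : ∀ M : Subgroup G, IsCoatom M → Cfsg.sigmaCore M < M := fun M hM =>
    lt_of_le_of_lt (sigmaCore_le_derived hG hM) (FifteenTwo.derived_lt hG hM)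
  -- two classes at least
  have hι : 2 ≤ Fintype.card (Quotient s) := by
    obtain ⟨M₀, hM₀⟩ : ∃ M : Subgroup G, IsCoatom M :=
      (IsCoatomic.eq_top_or_exists_le_coatom (⊥ : Subgroup G)).resolve_left bot_ne_top |>.imp
        fun _ h => h.1
    obtain ⟨i, -⟩ := hclass M₀ hM₀
    by_contra hcard
    haveI : Subsingleton (Quotient s) := Fintype.card_le_one_iff_subsingleton.1 (by omega)
    obtain ⟨x, hxM, hxσ⟩ := SetLike.exists_of_lt (hlt (L i) (hL i))
    have hnpi : ¬ ∀ p : ℕ, p.Prime → p ∣ Nat.card (zpowers x) → p ∈ Cfsg.sigma (L i) := fun h =>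
      hxσ (le_sigmaCore_of_isPiNum hG (hL i) (zpowers_le.2 hxM) h (mem_zpowers x))
    simp only [not_forall] at hnpi
    obtain ⟨p, hp, hpd, hpσ⟩ := hnpi
    haveI : Fact p.Prime := ⟨hp⟩
    obtain ⟨N, hN, hpN⟩ := Cover.exists_sigma hG (t := p)
      (hpd.trans (card_subgroup_dvd_card _))
    obtain ⟨j, g, hg⟩ := hclass N hN
    have hpj : p ∈ Cfsg.sigma (L j) := by
      have hp' : p ∈ Cfsg.sigma (conjBy g⁻¹ (conjBy g N)) := by
        rwa [conjBy_conjBy, inv_mul_cancel, conjBy_one]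
      exact hg ▸ ElemCent.mem_sigma_conjBy hG (isCoatom_conjBy g hN) hp'
    exact hpσ (Subsingleton.elim j i ▸ hpj)
  refine Cfsg.Agent.S1526.result hG.1 hι L (fun i => Cfsg.sigmaCore (L i))
    (fun i => hlt _ (hL i)) (fun i => sigmaCore_ne_bot hG (hL i))
    (fun i x hx h hh => (mem_normalizer_iff.1 (sigmaCore_normal hG _ hx) h).1 hh)
    (fun i => hfrob _ (hL i)) (fun i j hij => ?_)
    (fun i => ⟨isTISubset_sigmaCore hG hNB (hL i), normalizer_sigmaCore hG hNB (hL i)⟩)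
    fun g hg => ?_
  · refine Nat.coprime_of_dvd fun p hp h1 h2 => ?_
    haveI : Fact p.Prime := ⟨hp⟩
    exact hij (hconj i j (Disjoint.exists_conj_of_sigma hG (hL i) (hL j)
      ((sigmaCore_hall hG (hL i)).1.2.1 p hp h1) ((sigmaCore_hall hG (hL j)).1.2.1 p hp h2)))
  · rcases cover hG hNB hg with ⟨N, hN, y, hy⟩ | ⟨N, K, hN, hK, hK1, -⟩
    · obtain ⟨i, k, hk⟩ := hclass N hN
      refine ⟨i, k * y, ?_⟩
      show k * y * g * (k * y)⁻¹ ∈ Cfsg.sigmaCore (L i)
      rw [← hk, show k * y * g * (k * y)⁻¹ = k * (y * g * y⁻¹) * k⁻¹ by group]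
      exact Tilde.conj_mem_sigmaCore hG hN k hy
    · exact absurd (hnone N K hN hK) hK1

end CfsgLib.FT
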