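import Cfsg.Agent.Lib.CFun.OddTildeCover
import Cfsg.Agent.Lib.CFun.OddKappaPartner

/-!
# The standing data of the short route to the odd order theorem (see `docs/FT.md`)
-/

set_option autoImplicit false

open Subgroup

namespace CfsgLib.FT

universe u

variable {G : Type u} [Group G]

/-- `(M, x)` is a bad pair: an element of prime order `p` of `M_σ` whose centralizer leaves `M`. -/
structure BadPair (M : Subgroup G) (x : G) (p : ℕ) : Prop where
  coatom : IsCoatom M
  prime : p.Prime
  mem : x ∈ Cfsg.sigmaCore M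
  ord : orderOf x = p
  notLe : ¬ centralizer ({x} : Set G) ≤ M

/-- No neighbours: every non-identity element of every `M_σ` has its centralizer inside `M`. -/
def NoBad (G : Type u) [Group G] : Prop :=
  ∀ M : Subgroup G, IsCoatom M → ∀ x ∈ Cfsg.sigmaCore M, x ≠ 1 →
    centralizer ({x} : Set G) ≤ M

/-- A pair of partners `S`, `T` with `T` of type II: `W₁` (the kappa Hall subgroup of `S`) lies in `T_σ`,
`W₂` (that of `T`, of prime order) in `S_σ`, and `V ≠ ⊥` is the complement in the derived subgroup of `T`. -/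
structure Pair (S T W₁ W₂ U V : Subgroup G) : Prop where
  coatomS : IsCoatom S
  coatomT : IsCoatom T
  decompS : Cfsg.IsSigmaDecomposition S W₁ U
  decompT : Cfsg.IsSigmaDecomposition T W₂ V
  eqW₁ : Cfsg.sigmaCore T ⊓ centralizer (W₂ : Set G) = W₁
  eqW₂ : Cfsg.sigmaCore S ⊓ centralizer (W₁ : Set G) = W₂
  neW₁ : W₁ ≠ ⊥
  neW₂ : W₂ ≠ ⊥
  neV : V ≠ ⊥
  notConj : CfsgLib.CFun.TauTwo.NotConj S T

end CfsgLib.FT
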