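import Cfsg.Agent.Lib.Char.NormTwo
import Cfsg.Agent.Lib.Char.Virtual
import Cfsg.Agent.Lib.Char.Orthogonality

/-!
# Images of the differences of equal degree characters under an isometry (Feit)
-/

set_option autoImplicit false
set_option linter.unusedSectionVars false

namespace CfsgLib.FT

open CfsgLib.Char
open Cfsg (IsGeneralizedCharacter IrrCharacter classInner)

universe u v

variable {G : Type u} [Group G] [Fintype G]

/-- A difference of two distinct irreducible characters determines them. -/
theorem irr_sub_eq {a b c d : IrrCharacter G} (hab : a ≠ b)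
    (h : (a : G → ℂ) - (b : G → ℂ) = (c : G → ℂ) - (d : G → ℂ)) : a = c ∧ b = d := by
  classical
  have h1 := congrArg (fun f : G → ℂ => classInner f (a : G → ℂ)) h
  simp only [classInner_sub_left, classInner_irr, if_neg hab.symm, if_true] at h1
  have hac : a = c := by
    by_contra hac
    rw [if_neg (fun e => hac e.symm)] at h1
    split_ifs at h1 <;> norm_num at h1
  subst hac
  exact ⟨rfl, Subtype.ext (sub_right_injective h)⟩

variable {ι : Type v} [Finite ι]

/-- Feit: norm two differences with inner product one come from a family of irreducibles. -/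
theorem exists_signed_images (hι : Nontrivial ι) (D : ι → ι → G → ℂ)
    (hgen : ∀ i j, IsGeneralizedCharacter G (D i j)) (hone : ∀ i j, D i j 1 = 0)
    (hco : ∀ i j l, D i j + D j l = D i l) (hnorm : ∀ i j, i ≠ j → classInner (D i j) (D i j) = 2)
    (hinner : ∀ i j l, i ≠ j → i ≠ l → j ≠ l → classInner (D i j) (D i l) = 1) :
    ∃ (ε : ℤ) (μ : ι → IrrCharacter G), (ε = 1 ∨ ε = -1) ∧ Function.Injective μ ∧
      ∀ i l, D i l = (ε : ℂ) • ((μ i : G → ℂ) - (μ l : G → ℂ)) := by
  classical
  obtain ⟨o, i₁, hoi⟩ := exists_pair_ne ι
  have hoo : D o o = 0 := add_eq_left.1 (hco o o o)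
  have hD : ∀ i l, D i l = D o l - D o i := fun i l => by rw [← hco o i l]; abel
  have hex : ∀ i, o ≠ i → ∃ μ ν : IrrCharacter G, μ ≠ ν ∧ D o i = (μ : G → ℂ) - (ν : G → ℂ) :=
    fun i hi => exists_sub_of_norm_two (hgen o i) (hnorm o i hi) (hone o i)
  choose a b hab heq using hex
  have hcase : ∀ i j (hi : o ≠ i) (hj : o ≠ j), i ≠ j →
      (a i hi = a j hj ∧ b i hi ≠ b j hj) ∨ (a i hi ≠ a j hj ∧ b i hi = b j hj) := by
    intro i j hi hj hij
    have h := hinner o i j hi hj hij
    rw [heq i hi, heq j hj] at h
    simp only [classInner_sub_left, classInner_sub_right, classInner_irr] at h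
    by_cases h1 : a i hi = a j hj <;> by_cases h2 : b i hi = b j hj
    · exfalso
      have n1 : a i hi ≠ b j hj := fun e => hab i hi (e.trans h2.symm)
      have n2 : b i hi ≠ a j hj := fun e => hab i hi (h1.trans e.symm)
      rw [if_pos h1, if_pos h2, if_neg n1, if_neg n2] at h
      norm_num at h
    · exact Or.inl ⟨h1, h2⟩
    · exact Or.inr ⟨h1, h2⟩
    · exfalso
      rw [if_neg h1, if_neg h2] at h
      split_ifs at h <;> norm_num at h
  by_cases hA : ∀ j (hj : o ≠ j), a j hj = a i₁ hoi
  · refine ⟨1, fun i => if hi : o = i then a i₁ hoi else b i hi, Or.inl rfl, ?_, ?_⟩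
    · intro i j h
      dsimp only at h
      split_ifs at h with hi hj hj
      · exact hi ▸ hj
      · exact absurd ((hA j hj).trans h) (hab j hj)
      · exact absurd ((hA i hi).trans h.symm) (hab i hi)
      · by_contra hij
        rcases hcase i j hi hj hij with h' | h'
        · exact h'.2 h
        · exact h'.1 ((hA i hi).trans (hA j hj).symm)
    · have key : ∀ l, D o l = (a i₁ hoi : G → ℂ) -
          ((if hl : o = l then a i₁ hoi else b l hl : IrrCharacter G) : G → ℂ) := by
        intro l
        split_ifs with hl
        · subst hl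
          rw [hoo, sub_self]
        · rw [heq l hl, hA l hl]
      intro i l
      rw [hD i l, key i, key l, Int.cast_one, one_smul]
      abel
  · push Not at hA
    obtain ⟨j₀, hj₀, hne⟩ := hA
    have hB : ∀ j (hj : o ≠ j), b j hj = b i₁ hoi := by
      have hj1 : j₀ ≠ i₁ := fun e => hne (by subst e; rfl)
      have hb0 : b j₀ hj₀ = b i₁ hoi :=
        ((hcase j₀ i₁ hj₀ hoi hj1).resolve_left fun h => hne h.1).2
      intro j hj
      by_cases e1 : j = i₁
      · subst e1; rfl
      by_cases e0 : j = j₀
      · subst e0; exact hb0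
      rcases hcase j i₁ hj hoi e1 with h | h
      · rcases hcase j j₀ hj hj₀ e0 with h' | h'
        · exact absurd (h'.1.symm.trans h.1) hne
        · exact h'.2.trans hb0
      · exact h.2
    refine ⟨-1, fun i => if hi : o = i then b i₁ hoi else a i hi, Or.inr rfl, ?_, ?_⟩
    · intro i j h
      dsimp only at h
      split_ifs at h with hi hj hj
      · exact hi ▸ hj
      · exact absurd (h.symm.trans (hB j hj).symm) (hab j hj)
      · exact absurd (h.trans (hB i hi).symm) (hab i hi)
      · by_contra hij
        rcases hcase i j hi hj hij with h' | h'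
        · exact h'.2 ((hB i hi).trans (hB j hj).symm)
        · exact h'.1 h
    · have key : ∀ l, D o l =
          ((if hl : o = l then b i₁ hoi else a l hl : IrrCharacter G) : G → ℂ) - (b i₁ hoi : G → ℂ) := by
        intro l
        split_ifs with hl
        · subst hl
          rw [hoo, sub_self]
        · rw [heq l hl, hB l hl]
      intro i l
      rw [hD i l, key i, key l, Int.cast_neg, Int.cast_one, neg_one_smul]
      abel

end CfsgLib.FT
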