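import Cfsg.Agent.Lib.FT.Mass

/-!
# The projection bound of `docs/FT.md`, §3 S SIDE

`slack_family_bound`: let `X` be a part of a group `L`, `ψ j` (degree `e d`, norm `w j`), `φ i` (degree
`e`, norm `1`) and `ν` (degree `e`, norm `e`, equal to `e` on `X`) pairwise orthogonal functions vanishing
outside `X ∪ {1}`.  If `(b, ψ j - d φ i₀) = δ [j = j₀] + c`, `(b, φ i - φ i₀) = 0` and
`(b, ν - φ i₀) = c₁` with integers `c`, `c₁`, then with `M = Σ_j e / w j` and `k₀ = 1 + n e`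

  `e ∫_X (|b|² - Re b) ≥ 1 - 1/M - 1/(4 k₀)`, and `≥ 1 - (1 + 1/(2d))²/M` if `2 ≤ d ≤ k₀`.

The proof compares `b - 1/2` with the best combination of the given functions supported on `X`.
-/

set_option autoImplicit false
set_option linter.unusedSectionVars false

namespace CfsgLib.FT

open scoped ComplexConjugate
open Cfsg CfsgLib.Char

universe u

/-- The minimum over a real shift: the general bound. -/
theorem slack_quad_general {M k c t δ A : ℝ} (hM : 0 < M) (hk : 1 ≤ k) (hδ : δ ^ 2 = 1)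
    (hc : 1 / 2 ≤ |c|) :
    1 - 1 / M - 1 / (4 * k) ≤ (δ + t) ^ 2 + (M - 1) * t ^ 2 + k * A ^ 2 + 2 * c * A + c ^ 2 - 1 / 4 := by
  have hk0 : 0 < k := by linarith
  have h1 : 1 - 1 / M ≤ (δ + t) ^ 2 + (M - 1) * t ^ 2 := by
    have e : (δ + t) ^ 2 + (M - 1) * t ^ 2 = 1 - 1 / M + M * (t + δ / M) ^ 2 := by
      field_simp
      linear_combination (M - 1) * hδ
    nlinarith [sq_nonneg (t + δ / M)]
  have h2 : -(1 / (4 * k)) ≤ k * A ^ 2 + 2 * c * A + c ^ 2 - 1 / 4 := by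
    have e : k * A ^ 2 + 2 * c * A + c ^ 2 - 1 / 4 + 1 / (4 * k) =
        k * (A + c / k) ^ 2 + (c ^ 2 - 1 / 4) * (1 - 1 / k) := by
      field_simp
      ring
    have h3 : 0 ≤ 1 - 1 / k := by
      rw [sub_nonneg, div_le_one hk0]
      exact hk
    have h4 : 0 ≤ c ^ 2 - 1 / 4 := by nlinarith [sq_abs c, abs_nonneg c]
    nlinarith [mul_nonneg h4 h3, mul_nonneg hk0.le (sq_nonneg (A + c / k))]
  linarith

/-- The minimum over an integer shift: the bound that does not see `k`. -/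
theorem slack_quad_degree {M k d c A δ : ℝ} (z : ℤ) (hM : 0 < M) (hd : 2 ≤ d) (hk : d ≤ k)
    (hδ : δ ^ 2 = 1) (hc : 1 / 2 ≤ |c|) :
    1 - (1 + 1 / (2 * d)) ^ 2 / M ≤ (δ + (z + d * A)) ^ 2 + (M - 1) * (z + d * A) ^ 2 + k * A ^ 2 +
      2 * c * A + c ^ 2 - 1 / 4 := by
  have hd0 : 0 < d := by linarith
  set t : ℝ := z + d * A with ht
  set a : ℝ := |A| with ha
  have ha0 : 0 ≤ a := abs_nonneg A
  have hC : (1 / 2 : ℝ) ≤ |c| := hc
  have hg : d * a ^ 2 - 2 * |c| * a + c ^ 2 - 1 / 4 ≤ k * A ^ 2 + 2 * c * A + c ^ 2 - 1 / 4 := by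
    have h1 : |c * A| = |c| * a := abs_mul c A
    have h2 := neg_abs_le (c * A)
    have h3 : a ^ 2 = A ^ 2 := sq_abs A
    nlinarith [sq_nonneg A]
  have hlow : -|t| / d ≤ d * a ^ 2 - 2 * |c| * a + c ^ 2 - 1 / 4 := by
    rw [← sq_abs c]
    have htd : -|t| / d ≤ 0 := div_nonpos_of_nonpos_of_nonneg (neg_nonpos.2 (abs_nonneg t)) hd0.le
    rcases le_or_gt (1 / 2) a with h | h
    · have : (0 : ℝ) ≤ (d - 1) * a ^ 2 - 1 / 4 := by nlinarith
      nlinarith [sq_nonneg (a - |c|)]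
    · have h1 : d * a ^ 2 - a ≤ d * a ^ 2 - 2 * |c| * a + |c| ^ 2 - 1 / 4 := by nlinarith
      refine le_trans ?_ h1
      rcases le_or_gt 1 (d * a) with h2 | h2
      · nlinarith
      · have hda : |d * A| = d * a := by rw [abs_mul, abs_of_pos hd0]
        have h3 : d * a * (1 - d * a) ≤ |t| := by
          by_cases hz : z = 0
          · have : |t| = d * a := by rw [ht, hz, Int.cast_zero, zero_add, hda]
            nlinarith [mul_nonneg hd0.le ha0]
          · have h4 : (1 : ℝ) ≤ |(z : ℝ)| := by exact_mod_cast Int.one_le_abs hz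
            have h5 : |(z : ℝ)| ≤ |t| + |d * A| := by
              have := abs_sub t (d * A)
              rwa [ht, add_sub_cancel_right, ← ht] at this
            rw [hda] at h5
            nlinarith [mul_nonneg hd0.le ha0]
        rw [div_le_iff₀ hd0]
        nlinarith
  have hmain : 1 - (1 + 1 / (2 * d)) ^ 2 / M ≤ (δ + t) ^ 2 + (M - 1) * t ^ 2 - |t| / d := by
    have h1 : -|t| ≤ δ * t := by
      have : |δ| = 1 := by
        rw [← pow_left_inj₀ (abs_nonneg δ) zero_le_one two_ne_zero, sq_abs, hδ, one_pow]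
      have h2 := neg_abs_le (δ * t)
      rw [abs_mul, this, one_mul] at h2
      exact h2
    have h2 : 1 + M * |t| ^ 2 - (2 + 1 / d) * |t| =
        1 - (1 + 1 / (2 * d)) ^ 2 / M + M * (|t| - (1 + 1 / (2 * d)) / M) ^ 2 := by
      field_simp
      ring
    have h3 : |t| / d = (1 / d) * |t| := by ring
    nlinarith [mul_nonneg hM.le (sq_nonneg (|t| - (1 + 1 / (2 * d)) / M)), sq_abs t]
  have : -|t| / d = -(|t| / d) := neg_div d |t|
  linarith

theorem half_le_abs_sub (n : ℤ) : (1 / 2 : ℝ) ≤ |(n : ℝ) - 1 / 2| := by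
  rcases le_or_gt n 0 with h | h
  · have : (n : ℝ) ≤ 0 := by exact_mod_cast h
    rw [abs_of_nonpos (by linarith)]
    linarith
  · have : (1 : ℝ) ≤ n := by exact_mod_cast h
    rw [abs_of_nonneg (by linarith)]
    linarith

variable {L : Type u} [Group L] [Fintype L]

theorem classInner_eq_sum_of_vanish {X : Finset L} {f g : L → ℂ} (hg : ∀ x, x ∉ X → g x = 0) :
    classInner f g = (Nat.card L : ℂ)⁻¹ * ∑ x ∈ X, f x * conj (g x) := by
  classical
  rw [classInner]
  congr 1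
  exact (Finset.sum_subset (Finset.subset_univ X) fun x _ hx => by rw [hg x hx]; simp).symm

variable {I J : Type*} [Fintype I] [Fintype J] [DecidableEq I] [DecidableEq J]

/-- The data of the projection. -/
structure SlackData (X : Finset L) (b : L → ℂ) (ψ : J → L → ℂ) (w : J → ℕ) (φ : I → L → ℂ)
    (ν : L → ℂ) (e d : ℕ) (j₀ : J) (i₀ : I) (δ : ℝ) (c c₁ : ℤ) : Prop where
  one_notMem : (1 : L) ∉ X
  card_le : X.card * e ≤ Nat.card L
  e_pos : 0 < e
  w_pos : ∀ j, 0 < w j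
  w_zero : w j₀ = e
  sign : δ ^ 2 = 1
  suppψ : ∀ j, ∀ x ∉ X, x ≠ 1 → ψ j x = 0
  suppφ : ∀ i, ∀ x ∉ X, x ≠ 1 → φ i x = 0
  suppν : ∀ x ∉ X, x ≠ 1 → ν x = 0
  valν : ∀ x ∈ X, ν x = (e : ℂ)
  degψ : ∀ j, ψ j 1 = (e * d : ℕ)
  degφ : ∀ i, φ i 1 = (e : ℂ)
  degν : ν 1 = (e : ℂ)
  normψ : ∀ j l, classInner (ψ j) (ψ l) = if j = l then (w j : ℂ) else 0
  normφ : ∀ i l, classInner (φ i) (φ l) = if i = l then 1 else 0
  normν : classInner ν ν = (e : ℂ)
  orthψφ : ∀ j i, classInner (ψ j) (φ i) = 0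
  orthψν : ∀ j, classInner (ψ j) ν = 0
  orthφν : ∀ i, classInner (φ i) ν = 0
  pairψ : ∀ j, classInner b (ψ j - (d : ℂ) • φ i₀) = ((if j = j₀ then δ else 0) + c : ℝ)
  pairφ : ∀ i, classInner b (φ i - φ i₀) = 0
  pairν : classInner b (ν - φ i₀) = (c₁ : ℂ)

variable {X : Finset L} {b : L → ℂ} {ψ : J → L → ℂ} {w : J → ℕ} {φ : I → L → ℂ} {ν : L → ℂ}
  {e d : ℕ} {j₀ : J} {i₀ : I} {δ : ℝ} {c c₁ : ℤ}

/-- The projection bound: `e ∫_X (|b|² - Re b)` is at least the best value of the quadratic form. -/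
theorem slack_family_core (h : SlackData X b ψ w φ ν e d j₀ i₀ δ c c₁) :
    ∃ A : ℝ, (δ + (c + d * A)) ^ 2 + ((∑ j, (e : ℝ) / w j) - 1) * (c + d * A) ^ 2 +
        ((Fintype.card I * e + 1 : ℕ) : ℝ) * A ^ 2 + 2 * (c₁ - 1 / 2 : ℝ) * A + (c₁ - 1 / 2 : ℝ) ^ 2
        - 1 / 4 ≤ (e : ℝ) * mass (X : Set L) (slack b) := by
  classical
  set M : ℝ := ∑ j, (e : ℝ) / w j with hM
  set k : ℝ := ((Fintype.card I * e + 1 : ℕ) : ℝ) with hk
  set c' : ℝ := (c₁ : ℝ) - 1 / 2 with hc'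
  have he0 : (e : ℝ) ≠ 0 := Nat.cast_ne_zero.2 h.e_pos.ne'
  have hw0 : ∀ j, (w j : ℝ) ≠ 0 := fun j => Nat.cast_ne_zero.2 (h.w_pos j).ne'
  have hM0 : 0 ≤ M := Finset.sum_nonneg fun j _ => by positivity
  have hkpos : 0 < M * (d : ℝ) ^ 2 + k := by positivity
  set A : ℝ := -((d : ℝ) * (δ + M * c) + c') / (M * (d : ℝ) ^ 2 + k) with hA
  have hAeq : (d : ℝ) * (δ + M * (c + d * A)) + (k * A + c') = 0 := by
    have h1 : A * (M * (d : ℝ) ^ 2 + k) = -((d : ℝ) * (δ + M * c) + c') := by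
      rw [hA, div_mul_cancel₀ _ hkpos.ne']
    linear_combination h1
  refine ⟨A, ?_⟩
  set γ : J → ℝ := fun j => ((if j = j₀ then δ else 0) + (c + d * A)) with hγ
  set g : J → ℝ := fun j => γ j * (e / w j) with hg
  set α : L → ℂ := (∑ j, (g j : ℂ) • ψ j) + ((e * A : ℝ) : ℂ) • (∑ i, φ i) + ((A + c' : ℝ) : ℂ) • ν
    with hα
  have hej : (e : ℝ) / w j₀ = 1 := by rw [h.w_zero, div_self he0]
  have hgsum : ∑ j, g j = δ + M * (c + d * A) := by
    simp only [hg, hγ, add_mul, Finset.sum_add_distrib, ite_mul, zero_mul, Finset.sum_ite_eq',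
      Finset.mem_univ, if_true, hej, mul_one, ← Finset.mul_sum, ← hM]
    ring
  have hgsq : ∑ j, g j * γ j = (δ + (c + d * A)) ^ 2 + (M - 1) * (c + d * A) ^ 2 := by
    have h1 : ∀ j, g j * γ j =
        (if j = j₀ then δ ^ 2 + 2 * δ * (c + d * A) else 0) + (c + d * A) ^ 2 * (e / w j) := by
      intro j
      simp only [hg, hγ]
      split_ifs with hj
      · subst hj; rw [hej]; ring
      · ring
    rw [Finset.sum_congr rfl fun j _ => h1 j, Finset.sum_add_distrib, Finset.sum_ite_eq',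
      if_pos (Finset.mem_univ _), ← Finset.mul_sum, ← hM]
    ring
  have hkI : k = (Fintype.card I : ℝ) * e + 1 := by rw [hk]; push_cast; ring
  have hα1 : α 1 = 0 := by
    have h1 : ((e : ℝ) * ((d : ℝ) * (∑ j, g j) + (k * A + c')) : ℝ) = 0 := by
      rw [hgsum, hAeq, mul_zero]
    have h2 : ((((e : ℝ) * ((d : ℝ) * (∑ j, g j) + (k * A + c'))) : ℝ) : ℂ) = 0 := by
      rw [h1, Complex.ofReal_zero]
    rw [← h2, hα]
    simp only [Pi.add_apply, Finset.sum_apply, Pi.smul_apply, smul_eq_mul, h.degψ, h.degφ, h.degν,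
      Finset.sum_const, Finset.card_univ, nsmul_eq_mul, hkI]
    push_cast
    rw [← Finset.sum_mul]
    ring
  have hαX : ∀ x ∉ X, α x = 0 := by
    intro x hx
    by_cases hx1 : x = 1
    · rw [hx1, hα1]
    · simp [hα, h.suppν x hx hx1, h.suppψ _ x hx hx1, h.suppφ _ x hx hx1]
  -- the pairings
  have hbψ : ∀ j, classInner b (ψ j) =
      (((if j = j₀ then δ else 0) + c : ℝ) : ℂ) + (d : ℂ) * classInner b (φ i₀) := fun j => by
    have := h.pairψ j
    rw [classInner_sub_right, classInner_smul_right, map_natCast, sub_eq_iff_eq_add] at this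
    exact this
  have hbφ : ∀ i, classInner b (φ i) = classInner b (φ i₀) := fun i => by
    have := h.pairφ i
    rwa [classInner_sub_right, sub_eq_zero] at this
  have hbν : classInner b ν = (c₁ : ℂ) + classInner b (φ i₀) := by
    have := h.pairν
    rwa [classInner_sub_right, sub_eq_iff_eq_add] at this
  have hbα : classInner b α = ((∑ j, g j * ((if j = j₀ then δ else 0) + c) + (A + c') * c₁ : ℝ) : ℂ) := by
    have h1 : ((((d : ℝ) * (∑ j, g j) + (k * A + c')) : ℝ) : ℂ) * classInner b (φ i₀) = 0 := by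
      rw [hgsum, hAeq, Complex.ofReal_zero, zero_mul]
    rw [hα, classInner_add_right, classInner_add_right, classInner_sum_right, classInner_smul_right,
      classInner_smul_right, classInner_sum_right]
    simp only [classInner_smul_right, Complex.conj_ofReal, hbψ, hbφ, hbν, Finset.sum_const,
      Finset.card_univ, nsmul_eq_mul]
    rw [← add_zero ((((∑ j, g j * ((if j = j₀ then δ else 0) + c) + (A + c') * c₁) : ℝ)) : ℂ), ← h1,
      hkI]
    push_cast
    simp only [mul_add, Finset.sum_add_distrib, ← Finset.sum_mul]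
    ring
  have hνα : classInner ν α = (((A + c') * e : ℝ) : ℂ) := by
    have hνψ : ∀ j, classInner ν (ψ j) = 0 := fun j => by
      rw [← classInner_conj, h.orthψν, map_zero]
    have hνφ : ∀ i, classInner ν (φ i) = 0 := fun i => by
      rw [← classInner_conj, h.orthφν, map_zero]
    rw [hα, classInner_add_right, classInner_add_right, classInner_sum_right, classInner_smul_right,
      classInner_smul_right, classInner_sum_right]
    simp only [classInner_smul_right, Complex.conj_ofReal, hνψ, hνφ, h.normν, mul_zero,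
      Finset.sum_const_zero, zero_add]
    push_cast
    ring
  have hαα : classInner α α =
      ((∑ j, g j * g j * w j + (e * A) * (e * A) * Fintype.card I + (A + c') * (A + c') * e : ℝ) : ℂ) := by
    have hψα : ∀ j, classInner (ψ j) α = ((g j * w j : ℝ) : ℂ) := fun j => by
      rw [hα, classInner_add_right, classInner_add_right, classInner_sum_right, classInner_smul_right,
        classInner_smul_right, classInner_sum_right]
      simp only [classInner_smul_right, Complex.conj_ofReal, h.normψ, h.orthψφ, h.orthψν, mul_zero,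
        Finset.sum_const_zero, add_zero, mul_ite, Finset.sum_ite_eq, Finset.mem_univ, if_true]
      push_cast
      ring
    have hφψ : ∀ i j, classInner (φ i) (ψ j) = 0 := fun i j => by
      rw [← classInner_conj, h.orthψφ, map_zero]
    have hφα : ∀ i, classInner (φ i) α = ((e * A : ℝ) : ℂ) := fun i => by
      rw [hα, classInner_add_right, classInner_add_right, classInner_sum_right, classInner_smul_right,
        classInner_smul_right, classInner_sum_right]
      simp only [classInner_smul_right, Complex.conj_ofReal, hφψ, h.normφ, h.orthφν, mul_zero,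
        Finset.sum_const_zero, zero_add, add_zero, Finset.sum_ite_eq, Finset.mem_univ, if_true, mul_one]
    conv_lhs => arg 1; rw [hα]
    rw [classInner_add_left, classInner_add_left, classInner_sum_left, classInner_smul_left,
      classInner_smul_left, classInner_sum_left]
    simp only [classInner_smul_left, hψα, hφα, hνα, Finset.sum_const, Finset.card_univ, nsmul_eq_mul]
    push_cast
    simp only [mul_assoc]
    ring
  -- sums over `X`
  set N : ℝ := (Nat.card L : ℝ) with hN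
  have hNpos : 0 < N := Nat.cast_pos.2 Nat.card_pos
  have hb : (N⁻¹ * ∑ x ∈ X, (b x * conj (α x)).re) =
      ∑ j, g j * ((if j = j₀ then δ else 0) + c) + (A + c') * c₁ := by
    have := congrArg Complex.re ((classInner_eq_sum_of_vanish (f := b) hαX).symm.trans hbα)
    rw [Complex.ofReal_re, show ((Nat.card L : ℂ))⁻¹ = ((N⁻¹ : ℝ) : ℂ) by rw [hN]; push_cast; rfl,
      Complex.re_ofReal_mul, Complex.re_sum] at this
    exact this
  have hone : (N⁻¹ * ∑ x ∈ X, (α x).re) = A + c' := by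
    have := congrArg Complex.re ((classInner_eq_sum_of_vanish (f := ν) hαX).symm.trans hνα)
    rw [Finset.sum_congr rfl (fun x hx => by rw [h.valν x hx]), ← Finset.mul_sum, Complex.ofReal_re,
      show ((Nat.card L : ℂ))⁻¹ * ((e : ℂ) * ∑ x ∈ X, conj (α x)) =
        ((N⁻¹ * e : ℝ) : ℂ) * ∑ x ∈ X, conj (α x) by rw [hN]; push_cast; ring,
      Complex.re_ofReal_mul, Complex.re_sum] at this
    simp only [Complex.conj_re] at this
    exact mul_right_cancel₀ he0 (by linear_combination this)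
  have hsq : (N⁻¹ * ∑ x ∈ X, ‖α x‖ ^ 2) =
      ∑ j, g j * g j * w j + (e * A) * (e * A) * Fintype.card I + (A + c') * (A + c') * e := by
    have hcomp := hαα
    rw [classInner_self] at hcomp
    rw [← Complex.ofReal_inj.1 hcomp]
    congr 1
    exact Finset.sum_subset (Finset.subset_univ X) fun x _ hx => by rw [hαX x hx]; simp
  have hpos : 0 ≤ N⁻¹ * ∑ x ∈ X, ‖b x - 1 / 2 - ((e : ℝ)⁻¹ : ℝ) • α x‖ ^ 2 := by positivity
  have hexp : ∀ x : L, ‖b x - 1 / 2 - ((e : ℝ)⁻¹ : ℝ) • α x‖ ^ 2 = slack b x + 1 / 4 -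
      2 * (e : ℝ)⁻¹ * ((b x * conj (α x)).re - 1 / 2 * (α x).re) +
      ((e : ℝ)⁻¹) ^ 2 * ‖α x‖ ^ 2 := by
    intro x
    simp only [slack, ← Complex.normSq_eq_norm_sq, Complex.normSq_apply, Complex.sub_re, Complex.sub_im,
      Complex.smul_re, Complex.smul_im, smul_eq_mul, Complex.mul_re, Complex.conj_re, Complex.conj_im]
    norm_num
    ring
  rw [Finset.sum_congr rfl fun x _ => hexp x, Finset.sum_add_distrib, Finset.sum_sub_distrib,
    Finset.sum_add_distrib, ← Finset.mul_sum, ← Finset.mul_sum, Finset.sum_sub_distrib,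
    ← Finset.mul_sum, Finset.sum_const, nsmul_eq_mul] at hpos
  have hmass : mass (X : Set L) (slack b) = N⁻¹ * ∑ x ∈ X, slack b x := by
    rw [mass, hN]
    congr 1
    simp [Finset.sum_ite_mem]
  have hcard : N⁻¹ * (X.card : ℝ) * e ≤ 1 := by
    rw [mul_assoc, inv_mul_le_iff₀ hNpos, mul_one, hN]
    exact_mod_cast h.card_le
  have hmain : 0 ≤ (N⁻¹ * ∑ x ∈ X, slack b x) + N⁻¹ * (X.card : ℝ) * (1 / 4) -
      2 * (e : ℝ)⁻¹ * ((N⁻¹ * ∑ x ∈ X, (b x * conj (α x)).re) - 1 / 2 * (N⁻¹ * ∑ x ∈ X, (α x).re)) +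
      ((e : ℝ)⁻¹) ^ 2 * (N⁻¹ * ∑ x ∈ X, ‖α x‖ ^ 2) := by
    linarith [show N⁻¹ * ((∑ x ∈ X, slack b x) + (X.card : ℝ) * (1 / 4) -
      2 * (e : ℝ)⁻¹ * ((∑ x ∈ X, (b x * conj (α x)).re) - 1 / 2 * ∑ x ∈ X, (α x).re) +
      ((e : ℝ)⁻¹) ^ 2 * ∑ x ∈ X, ‖α x‖ ^ 2) = (N⁻¹ * ∑ x ∈ X, slack b x) +
      N⁻¹ * (X.card : ℝ) * (1 / 4) - 2 * (e : ℝ)⁻¹ * ((N⁻¹ * ∑ x ∈ X, (b x * conj (α x)).re) -
      1 / 2 * (N⁻¹ * ∑ x ∈ X, (α x).re)) + ((e : ℝ)⁻¹) ^ 2 * (N⁻¹ * ∑ x ∈ X, ‖α x‖ ^ 2) by ring]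
  rw [hb, hone, hsq, ← hmass] at hmain
  set m : ℝ := (δ + (c + d * A)) ^ 2 + (M - 1) * (c + d * A) ^ 2 + k * A ^ 2 + 2 * c' * A + c' ^ 2
    with hm
  have hgg : ∑ j, g j * g j * w j = e * ∑ j, g j * γ j := by
    rw [Finset.mul_sum]
    refine Finset.sum_congr rfl fun j _ => ?_
    simp only [hg]
    field_simp [hw0 j]
  have hgb : ∑ j, g j * ((if j = j₀ then δ else 0) + (c : ℝ)) = ∑ j, g j * γ j - d * A * ∑ j, g j := by
    rw [Finset.mul_sum, ← Finset.sum_sub_distrib]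
    exact Finset.sum_congr rfl fun j _ => by simp only [hγ]; ring
  have hc₁ : (c₁ : ℝ) = c' + 1 / 2 := by rw [hc']; ring
  have hα2 : (∑ j, g j * g j * w j + (e * A) * (e * A) * Fintype.card I + (A + c') * (A + c') * e) =
      e * m := by
    rw [hgg, hgsq, hm, hkI]; ring
  have hβ : ∑ j, g j * ((if j = j₀ then δ else 0) + (c : ℝ)) + (A + c') * c₁ - 1 / 2 * (A + c') = m := by
    rw [hgb, hgsq, hgsum, hc₁, hm]
    linear_combination (-A) * hAeq
  rw [hα2, hβ, show ((e : ℝ)⁻¹) ^ 2 * (e * m) = (e : ℝ)⁻¹ * m by field_simp] at hmain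
  have hee : (e : ℝ) * (e : ℝ)⁻¹ = 1 := mul_inv_cancel₀ he0
  have h5 := mul_nonneg (Nat.cast_nonneg (α := ℝ) e) hmain
  rw [show (e : ℝ) * (mass (X : Set L) (slack b) + N⁻¹ * (X.card : ℝ) * (1 / 4) - 2 * (e : ℝ)⁻¹ * m +
      (e : ℝ)⁻¹ * m) = (e : ℝ) * mass (X : Set L) (slack b) + N⁻¹ * (X.card : ℝ) * e / 4 -
      ((e : ℝ) * (e : ℝ)⁻¹) * m by ring, hee, one_mul] at h5
  linarith

/-- `e ∫_X (|b|² - Re b) ≥ 1 - 1/M - 1/(4 k₀)`. -/
theorem slack_family_bound (h : SlackData X b ψ w φ ν e d j₀ i₀ δ c c₁) :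
    1 - 1 / (∑ j, (e : ℝ) / w j) - 1 / (4 * ((Fintype.card I * e + 1 : ℕ) : ℝ)) ≤
      (e : ℝ) * mass (X : Set L) (slack b) := by
  obtain ⟨A, hA⟩ := slack_family_core h
  refine le_trans ?_ hA
  refine slack_quad_general ?_ (by norm_cast; omega) h.sign ?_
  · exact Finset.sum_pos (fun j _ => div_pos (Nat.cast_pos.2 h.e_pos) (Nat.cast_pos.2 (h.w_pos j)))
      ⟨j₀, Finset.mem_univ _⟩
  · exact half_le_abs_sub c₁

/-- For `2 ≤ d ≤ k₀`: `e ∫_X (|b|² - Re b) ≥ 1 - (1 + 1/(2d))²/M`. -/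
theorem slack_family_bound_degree (h : SlackData X b ψ w φ ν e d j₀ i₀ δ c c₁) (hd : 2 ≤ d)
    (hdk : d ≤ Fintype.card I * e + 1) :
    1 - (1 + 1 / (2 * (d : ℝ))) ^ 2 / (∑ j, (e : ℝ) / w j) ≤
      (e : ℝ) * mass (X : Set L) (slack b) := by
  obtain ⟨A, hA⟩ := slack_family_core h
  refine le_trans ?_ hA
  refine slack_quad_degree c ?_ (by exact_mod_cast hd) (by exact_mod_cast hdk) h.sign ?_
  · exact Finset.sum_pos (fun j _ => div_pos (Nat.cast_pos.2 h.e_pos) (Nat.cast_pos.2 (h.w_pos j)))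
      ⟨j₀, Finset.mem_univ _⟩
  · exact half_le_abs_sub c₁

end CfsgLib.FT
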