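import Cfsg.Agent.Lib.FT.TypeTwoRows

/-!
# The type II side of a pair for any `Q`: the linear characters fixed by `W₂`

`dvd_coeff_fixed`: the coefficient of `η_ω` on the difference of two linear characters fixed by `W₂`
is known modulo `p`, whatever `Q` is.
-/

set_option autoImplicit false
set_option linter.unusedSectionVars false
set_option linter.style.haveILetI false

open Subgroup

namespace CfsgLib.FT.TwoSide

open scoped ComplexConjugate
open Cfsg CfsgLib.Char CfsgLib.Char.Signed CfsgLib.FT.Rect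

universe u

variable {G : Type u} [Group G] [Fintype G]

namespace Data

variable {T Q W₁ W₂ V : Subgroup G} {p : ℕ} (D : Data T Q W₁ W₂ V p)
variable {χ : (↥(W₁ ⊔ W₂) →* ℂˣ) → (G → ℂ)} (hχ : IsCyclicTIFamily W₁ W₂ χ)
include D hχ

/-- The coefficients modulo `p`. -/
theorem dvd_coeff_fixed {φ φ' α ψ : ↥(W₁ ⊔ W₂) →* ℂˣ} (hφ : φ ∈ trivOn _ W₂) (hφ' : φ' ∈ trivOn _ W₂)
    {lam lam' : ↥Q →* ℂˣ} (hlam : D.Fixed lam) (hlam' : D.Fixed lam')
    (hl : ∀ (x : G) (hx : x ∈ W₁), lam ⟨x, D.leW₁ hx⟩ = φ ⟨x, mem_sup_left hx⟩)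
    (hl' : ∀ (x : G) (hx : x ∈ W₁), lam' ⟨x, D.leW₁ hx⟩ = φ' ⟨x, mem_sup_left hx⟩)
    (hα : α ∈ trivOn _ W₂) (hψ : ψ ∈ trivOn _ W₁) [Decidable (α = φ)] [Decidable (α = φ')] :
    (p : ℤ) ∣ iq (Df lam lam') (χ (α * ψ)) -
      ((if α = φ then 1 else 0) - if α = φ' then 1 else 0) := by
  classical
  let _ := Fintype.ofFinite Q
  let _ := Fintype.ofFinite W₁
  set η := χ (α * ψ) with hη
  set F := Df lam lam' with hF
  set N : ℤ := (if α = φ then 1 else 0) - if α = φ' then 1 else 0 with hN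
  have hηg : IsGeneralizedCharacter G η := (sg_eta hχ _).gen
  have hηc : IsClassFunction G η := isClassFunction_of_isGeneralized hηg
  set d : Q → ℂ := fun x => conj (lc lam x - lc lam' x) with hd
  have hdi : ∀ x, IsIntegral ℤ (d x) := fun x => by
    rw [hd]
    simp only [map_sub, lc_conj]
    exact (lc_isIntegral _ x).sub (lc_isIntegral _ x)
  set g : G → ℂ := extendByZero Q (fun x => η x * d x) with hg
  have hgx : ∀ x : Q, g x = η x * d x := fun x => extendByZero_mem Q _ x.2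
  -- the sum over `Q`
  have hsumQ : ∑ x : Q, g x = ((Nat.card Q : ℤ) * iq F η : ℤ) := by
    have h1 : classInner η F = (iq F η : ℂ) := by
      rw [← classInner_conj, iq_spec (Df_gen _ _) hηg, map_intCast]
    rw [hF, inner_Df _ _ hηc, ← classInner_sub_right] at h1
    simp only [classInner, Pi.sub_apply] at h1
    rw [Finset.sum_congr rfl fun x _ => hgx x, Int.cast_mul, Int.cast_natCast, ← h1, ← mul_assoc,
      mul_inv_cancel₀ (Nat.cast_ne_zero.2 Nat.card_pos.ne'), one_mul]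
  -- the fixed points
  obtain ⟨w, hw, hw1, -⟩ := D.exists_gen
  obtain ⟨z, hz, he⟩ := cong_sum_fixed D.prime (D.pow_p hw) Q (fun x hx => D.norm₂ hw hx) g
    (fun x hx => by
      rw [hgx ⟨x, hx⟩]
      exact (generalized_isIntegral hηg _).mul (hdi _))
    (fun x hx => by
      have hx' := D.norm₂ hw hx
      rw [hgx ⟨x, hx⟩, hgx ⟨_, hx'⟩]
      have e : (⟨w * x * w⁻¹, hx'⟩ : Q) = D.conjQ ⟨w⁻¹, D.mem_H₂ (inv_mem hw)⟩ ⟨x, hx⟩ :=
        Subtype.ext (by simp [conjQ_apply])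
      have e1 : ∀ β : ↥Q →* ℂˣ, D.Fixed β →
          lc β (⟨w * x * w⁻¹, hx'⟩ : Q) = lc β ⟨x, hx⟩ := fun β hβ => by
        rw [e, lc_apply, lc_apply, ← tw_apply, hβ _ (inv_mem hw)]
      congr 1
      · exact hηc x w
      · simp only [hd, e1 _ hlam, e1 _ hlam'])
    W₁ (D.fix w hw hw1)
  -- the sum over `W₁`
  obtain ⟨b, hb, hb1, -⟩ := D.exists_gen
  let j : W₁ → ↥(W₁ ⊔ W₂) := fun x => ⟨x, mem_sup_left x.2⟩
  have hω : ∀ x : W₁, Cong p (g x * 1) (lc (α * ψ) (j x) *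
      conj (lc φ (j x) - lc φ' (j x))) := by
    intro x
    rw [mul_one, hgx ⟨x, D.leW₁ x.2⟩, hd]
    simp only [lc_apply, hl _ x.2, hl' _ x.2]
    by_cases hx : (x : G) = 1
    · have : j x = 1 := Subtype.ext hx
      simp only [show (⟨(x : G), mem_sup_left x.2⟩ : ↥(W₁ ⊔ W₂)) = j x from rfl, this, map_one]
      simp [cong_refl]
    let b' : ↥(W₁ ⊔ W₂) := ⟨b, mem_sup_right hb⟩
    have hcom : Commute b (x : G) := (D.comm₁ x.2 hb).symm
    have hv1 : ((b' * j x : ↥(W₁ ⊔ W₂)) : G) ∉ W₁ := fun hm => hb1 (by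
      have : b ∈ W₁ ⊓ W₂ := ⟨by simpa [b', j] using mul_mem hm (inv_mem x.2), hb⟩
      rwa [snc_disj D.snc, mem_bot] at this)
    have hv2 : ((b' * j x : ↥(W₁ ⊔ W₂)) : G) ∉ W₂ := fun hm => hx (by
      have : (x : G) ∈ W₁ ⊓ W₂ := ⟨x.2, by simpa [b', j] using mul_mem (inv_mem hb) hm⟩
      rwa [snc_disj D.snc, mem_bot] at this)
    have c1 := cong_mul_of_pow_prime D.prime hηg (k := 1) (by rw [pow_one]; exact D.pow_p hb) hcom
    have c2 := cong_mul_of_pow_prime D.prime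
      (isGeneralizedCharacter_of_isCharacter (isCharacter_of_isIrr (isIrrCharacter_lc (α * ψ))))
      (k := 1) (x := b') (y := j x) (by rw [pow_one]; exact Subtype.ext (D.pow_p hb))
      (Subtype.ext hcom.eq)
    rw [show η (b * (x : G)) = lc (α * ψ) (b' * j x) from hχ.eq_on _ _ hv1 hv2] at c1
    have c3 := Cong.trans (generalized_isIntegral hηg _) (lc_isIntegral _ _) (lc_isIntegral _ _) c1.symm c2
    have hint : IsIntegral ℤ (conj ((φ (j x) : ℂ) - (φ' (j x) : ℂ))) := by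
      rw [map_sub, ← lc_apply, ← lc_apply, lc_conj, lc_conj]
      exact (lc_isIntegral _ _).sub (lc_isIntegral _ _)
    have c4 := c3.mul_left hint
    simpa [mul_comm, lc_apply, j] using c4
  have hrhs : ∑ x : W₁, lc (α * ψ) (j x) * conj (lc φ (j x) - lc φ' (j x)) =
      ((Nat.card W₁ : ℤ) * N : ℤ) := by
    let r : (↥(W₁ ⊔ W₂) →* ℂˣ) → (↥W₁ →* ℂˣ) := fun β => β.comp (Subgroup.inclusion le_sup_left)
    have hr : ∀ β ∈ trivOn (W₁ ⊔ W₂) W₂, (r α = r β ↔ α = β) := fun β hβ => by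
      refine ⟨fun h => MonoidHom.ext fun v => ?_, fun h => by rw [h]⟩
      obtain ⟨a, c, ha, hc, rfl⟩ := exists_decomp (snc_disj D.snc) (snc_comm D.snc) v
      rw [map_mul, map_mul, hα c hc, hβ c hc, mul_one, mul_one]
      exact DFunLike.congr_fun h ⟨a, ha⟩
    have hαψ : r (α * ψ) = r α := MonoidHom.ext fun x => by
      show (α * ψ) (j x) = α (j x)
      rw [MonoidHom.mul_apply, hψ (j x) x.2, mul_one]
    have h := congrArg (fun z => (Nat.card W₁ : ℂ) * z)
      (show classInner (lc (r (α * ψ))) (lc (r φ) - lc (r φ')) = (N : ℂ) by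
        rw [classInner_sub_right, classInner_lc, classInner_lc, hαψ, hN]
        simp only [hr φ hφ, hr φ' hφ']
        push_cast
        rfl)
    simp only [classInner, ← mul_assoc,
      mul_inv_cancel₀ (a := (Nat.card W₁ : ℂ)) (Nat.cast_ne_zero.2 Nat.card_pos.ne'), one_mul] at h
    rw [Int.cast_mul, Int.cast_natCast, ← h]
    rfl
  have hcong : Cong p ((((Nat.card Q : ℤ) * iq F η : ℤ)) : ℂ) (((Nat.card W₁ : ℤ) * N : ℤ) : ℂ) := by
    have h1 : Cong p (∑ x : W₁, g x * 1) (((Nat.card W₁ : ℤ) * N : ℤ) : ℂ) := by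
      rw [← hrhs]
      refine cong_sum _ _ _ (fun x => ?_) (fun x => ?_) fun x _ => hω x
      · rw [mul_one, hgx ⟨x, D.leW₁ x.2⟩]
        exact (generalized_isIntegral hηg _).mul (hdi _)
      · rw [map_sub, lc_conj, lc_conj]
        exact (lc_isIntegral _ _).mul ((lc_isIntegral _ _).sub (lc_isIntegral _ _))
    simp only [mul_one] at h1
    rw [← hsumQ]
    have hgi : IsIntegral ℤ (∑ x : W₁, g x) := IsIntegral.sum _ fun x _ => by
      rw [hgx ⟨x, D.leW₁ x.2⟩]
      exact (generalized_isIntegral hηg _).mul (hdi _)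
    have hQi : IsIntegral ℤ (∑ x : Q, g x) := by
      rw [he]; exact hgi.add (IsIntegral.mul (by simpa using isIntegral_algebraMap (R := ℤ) (A := ℂ) (x := (p : ℤ))) hz)
    exact (cong_of_eq hz he).trans hQi hgi (isIntegral_intCast (R := ℤ) _) h1
  have hdiv := hcong.dvd D.prime
  have hp : Prime (p : ℤ) := Nat.prime_iff_prime_int.1 D.prime
  have h3 : (p : ℤ) ∣ (Nat.card W₁ : ℤ) * (iq F η - N) := by
    have h4 := dvd_sub hdiv (D.card_Q_mod.mul_right (iq F η))
    rwa [show (Nat.card Q : ℤ) * iq F η - (Nat.card W₁ : ℤ) * N -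
      ((Nat.card Q : ℤ) - Nat.card W₁) * iq F η = (Nat.card W₁ : ℤ) * (iq F η - N) by ring] at h4
  exact (hp.dvd_or_dvd h3).resolve_left fun hd' =>
    D.not_dvd_Q ((Int.natCast_dvd_natCast.1 hd').trans (card_dvd_of_le D.leW₁))


end Data

end CfsgLib.FT.TwoSide
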