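import Cfsg.Agent.Lib.FT.TypeTwoRows

/-!
# The type II side of a pair: the shape of the coefficients

Columns get nothing from any difference, and each row gets `± 1` from exactly one invariant orbit.
-/

set_option autoImplicit false
set_option linter.unusedSectionVars false
set_option linter.style.haveILetI false

open Subgroup

namespace CfsgLib.FT.TwoSide

open scoped ComplexConjugate
open Cfsg CfsgLib.Char CfsgLib.Char.Signed CfsgLib.FT.Rect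

universe u

variable {G : Type u} [Group G] [Fintype G]

namespace Data

variable {T Q W₁ W₂ V : Subgroup G} {p : ℕ} (D : Data T Q W₁ W₂ V p)
variable {χ : (↥(W₁ ⊔ W₂) →* ℂˣ) → (G → ℂ)} (hχ : IsCyclicTIFamily W₁ W₂ χ)
include D

theorem exists_ne (φ : ↥(W₁ ⊔ W₂) →* ℂˣ) :
    ∃ φ' ∈ trivOn (W₁ ⊔ W₂) W₂, φ' ≠ 1 ∧ φ' ≠ φ := by
  classical
  by_contra h
  push Not at h
  have hsub : dualFin (W₁ ⊔ W₂) W₂ ⊆ {1, φ} := fun x hx => by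
    by_cases hx1 : x = 1
    · simp [hx1]
    · simp [h x (mem_dualFin.1 hx) hx1]
  have h1 := (Finset.card_le_card hsub).trans Finset.card_le_two
  rw [card_dualFin D.snc] at h1
  have := D.three_le₁
  omega

include hχ

variable (hQ : ∀ a ∈ Q, ∀ b ∈ Q, a * b = b * a)
include hQ

/-- The coefficients on a grid with rows in `A`. -/
theorem grid_bound [Fintype Q] {φ : ↥(W₁ ⊔ W₂) →* ℂˣ} (hφ : φ ∈ trivOn _ W₂) (h1 : φ ≠ 1)
    {mu : ↥Q →* ℂˣ} (hm : ¬ D.OrbFixed mu) (A : Finset (↥(W₁ ⊔ W₂) →* ℂˣ))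
    (hA : ∀ α ∈ A, α ∈ trivOn (W₁ ⊔ W₂) W₂) :
    ∑ α ∈ A, ∑ β ∈ dualFin (W₁ ⊔ W₂) W₁, iq (Df (D.lift hQ φ) mu) (χ (α * β)) ^ 2 ≤ p + 1 := by
  classical
  rw [← D.norm_fixed_free hQ hφ h1 hm, ← Finset.sum_product']
  refine le_trans (le_of_eq ?_) (sum_sq_le_norm ((A ×ˢ dualFin (W₁ ⊔ W₂) W₁).image fun x => x.1 * x.2)
    χ (fun i _ => sg_eta hχ i) (fun i _ j _ h => iq_eta_ne hχ h) (Df_gen _ _))
  rw [Finset.sum_image]
  rintro ⟨x, y⟩ hxy ⟨x', y'⟩ hxy' e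
  simp only [Finset.coe_product, Set.mem_prod, Finset.mem_coe, mem_dualFin] at hxy hxy'
  obtain ⟨e1, e2⟩ := trivOn_mul_inj (snc_disj D.snc) (snc_comm D.snc) (hA _ hxy.1) (hA _ hxy'.1)
    hxy.2 hxy'.2 e
  rw [e1, e2]

/-- Changing the invariant character moves one unit. -/
theorem shift [Fintype Q] {φ φ' α β : ↥(W₁ ⊔ W₂) →* ℂˣ} (hφ : φ ∈ trivOn _ W₂)
    (hφ' : φ' ∈ trivOn _ W₂) (h1 : φ ≠ 1) (h1' : φ' ≠ 1) (hne : φ' ≠ φ) (mu : ↥Q →* ℂˣ)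
    (hα : α ∈ trivOn _ W₂) (hβ : β ∈ trivOn _ W₁) [Decidable (α = φ)] [Decidable (α = φ')] :
    iq (Df (D.lift hQ φ') mu) (χ (α * β)) =
      iq (Df (D.lift hQ φ) mu) (χ (α * β)) + ((if α = φ' then 1 else 0) - if α = φ then 1 else 0) := by
  rw [iq_Df_add hχ (D.lift hQ φ') (D.lift hQ φ) mu, D.pair_coeff hχ hQ hφ' hφ h1' h1 hne hα hβ]
  ring

/-- The columns get nothing from an invariant and a free character. -/
theorem col_zero [Fintype Q] {φ β : ↥(W₁ ⊔ W₂) →* ℂˣ} (hφ : φ ∈ trivOn _ W₂) (h1 : φ ≠ 1)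
    {mu : ↥Q →* ℂˣ} (hm : ¬ D.OrbFixed mu) (hβ : β ∈ trivOn _ W₁) :
    iq (Df (D.lift hQ φ) mu) (χ β) = 0 := by
  classical
  have hone : ∀ x : ↥(W₁ ⊔ W₂) →* ℂˣ, (1 : ↥(W₁ ⊔ W₂) →* ℂˣ) * x = x := fun x => one_mul x
  -- independence of the invariant character
  have hind : ∀ φ' ∈ trivOn (W₁ ⊔ W₂) W₂, φ' ≠ 1 → ∀ γ ∈ trivOn (W₁ ⊔ W₂) W₁,
      iq (Df (D.lift hQ φ') mu) (χ γ) = iq (Df (D.lift hQ φ) mu) (χ γ) := by
    intro φ' hφ' h1' γ hγ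
    rcases eq_or_ne φ' φ with rfl | hne
    · rfl
    have h := D.shift hχ hQ hφ hφ' h1 h1' hne mu (one_mem (trivOn (W₁ ⊔ W₂) W₂)) hγ
    rwa [hone, if_neg h1'.symm, if_neg h1.symm, sub_zero, add_zero] at h
  set b := fun γ => iq (Df (D.lift hQ φ) mu) (χ γ) with hb
  show b β = 0
  -- symmetry
  have hsym : ∀ γ ∈ trivOn (W₁ ⊔ W₂) W₁, b γ⁻¹ = b γ := by
    intro γ hγ
    have hm' : ¬ D.OrbFixed mu⁻¹ := fun h => hm (D.orbFixed_inv h)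
    have hφ1 : φ⁻¹ ≠ 1 := fun e => h1 (MonoidHom.ext fun z => by simpa using DFunLike.congr_fun e z)
    have e1 : iq (Df (D.lift hQ φ⁻¹) mu⁻¹) (χ γ⁻¹) = b γ := by
      refine iq_eq _ ?_
      rw [D.lift_inv hQ, ← Df_conj, ← D.conj_eta hχ γ, classInner_starFun,
        iq_spec (Df_gen _ _) (sg_eta hχ γ).gen, map_intCast]
    rw [← e1, iq_Df_add hχ (D.lift hQ φ⁻¹) mu mu⁻¹, D.free_free hχ hQ hm hm', add_zero,
      hind φ⁻¹ (inv_mem hφ) hφ1 γ⁻¹ (inv_mem hγ)]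
  have hb1 : b 1 = 0 := iq_Df_one hχ (D.lift_ne_one hQ hφ h1) (D.not_orbFixed_ne_one hm)
  by_contra hne
  have hβ1 : β ≠ 1 := fun e => hne (by rw [e]; exact hb1)
  have hββ : β⁻¹ ≠ β := fun e => hβ1 (Rect.eq_one_of_eq_inv D.odd_sup e)
  obtain ⟨φ', hφ', h1', hne'⟩ := D.exists_ne φ
  have hA : ∀ α ∈ ({1, φ, φ'} : Finset _), α ∈ trivOn (W₁ ⊔ W₂) W₂ := by
    simp only [Finset.mem_insert, Finset.mem_singleton]
    rintro α (rfl | rfl | rfl)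
    exacts [one_mem _, hφ, hφ']
  have g1 := D.grid_bound hχ hQ hφ h1 hm {1, φ, φ'} hA
  have g2 := D.grid_bound hχ hQ hφ' h1' hm {1, φ, φ'} hA
  rw [Finset.sum_insert (by simp [h1.symm, h1'.symm]), Finset.sum_pair hne'.symm] at g1 g2
  have hrow1 : ∀ F : G → ℂ, (∀ γ ∈ trivOn (W₁ ⊔ W₂) W₁, iq F (χ γ) = b γ) →
      2 ≤ ∑ γ ∈ dualFin (W₁ ⊔ W₂) W₁, iq F (χ (1 * γ)) ^ 2 := by
    intro F hF
    refine le_trans ?_ (Finset.sum_le_sum_of_subset_of_nonneg (s := {β⁻¹, β})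
      (by simp [Finset.insert_subset_iff, mem_dualFin, hβ, inv_mem hβ]) fun i _ _ => sq_nonneg _)
    rw [Finset.sum_pair hββ, hone, hone, hF _ (inv_mem hβ), hF _ hβ, hsym β hβ]
    have : 0 < b β ^ 2 := by positivity
    omega
  have r1 := hrow1 (Df (D.lift hQ φ) mu) fun γ _ => rfl
  have r2 := hrow1 (Df (D.lift hQ φ') mu) fun γ hγ => hind φ' hφ' h1' γ hγ
  have key : ∀ α ∈ trivOn (W₁ ⊔ W₂) W₂, (α = φ ∨ α = φ') →
      (p : ℤ) ≤ ∑ γ ∈ dualFin (W₁ ⊔ W₂) W₁, (iq (Df (D.lift hQ φ) mu) (χ (α * γ)) ^ 2 +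
        iq (Df (D.lift hQ φ') mu) (χ (α * γ)) ^ 2) := by
    intro α hα hcase
    refine le_trans ?_ (Finset.card_nsmul_le_sum _ _ (1 : ℤ) fun γ hγ => ?_)
    · rw [pair_coeff.card_dual₁ D, nsmul_one]
    · have e := D.shift hχ hQ hφ hφ' h1 h1' hne' mu hα (mem_dualFin.1 hγ)
      rw [e]
      set u := iq (Df (D.lift hQ φ) mu) (χ (α * γ))
      rcases hcase with rfl | rfl
      · rw [if_neg hne'.symm, if_pos rfl]
        rcases eq_or_ne u 0 with h0 | h0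
        · rw [h0]; norm_num
        · have : 0 < u ^ 2 := by positivity
          nlinarith
      · rw [if_pos rfl, if_neg hne']
        rcases eq_or_ne u 0 with h0 | h0
        · rw [h0]; norm_num
        · have : 0 < u ^ 2 := by positivity
          nlinarith
  have k1 := key φ hφ (Or.inl rfl)
  have k2 := key φ' hφ' (Or.inr rfl)
  rw [Finset.sum_add_distrib] at k1 k2
  linarith

/-- Along a row the coefficient is constant. -/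
theorem row_const [Fintype Q] {φ α β : ↥(W₁ ⊔ W₂) →* ℂˣ} (hφ : φ ∈ trivOn _ W₂) (h1 : φ ≠ 1)
    {mu : ↥Q →* ℂˣ} (hm : ¬ D.OrbFixed mu) (hα : α ∈ trivOn _ W₂) (hβ : β ∈ trivOn _ W₁) :
    iq (Df (D.lift hQ φ) mu) (χ (α * β)) = iq (Df (D.lift hQ φ) mu) (χ α) := by
  rw [D.iq_rule_Df hχ _ _ hα hβ, D.col_zero hχ hQ hφ h1 hm hβ,
    D.col_zero hχ hQ hφ h1 hm (one_mem _)]
  ring

/-- At most one row, with one unit. -/
theorem sum_sq_le_one [Fintype Q] {φ : ↥(W₁ ⊔ W₂) →* ℂˣ} (hφ : φ ∈ trivOn _ W₂) (h1 : φ ≠ 1)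
    {mu : ↥Q →* ℂˣ} (hm : ¬ D.OrbFixed mu) (A : Finset (↥(W₁ ⊔ W₂) →* ℂˣ))
    (hA : ∀ α ∈ A, α ∈ trivOn (W₁ ⊔ W₂) W₂) :
    ∑ α ∈ A, iq (Df (D.lift hQ φ) mu) (χ α) ^ 2 ≤ 1 := by
  have h := D.grid_bound hχ hQ hφ h1 hm A hA
  rw [Finset.sum_congr rfl fun α hα => (Finset.sum_congr rfl fun β hβ => by
    rw [D.row_const hχ hQ hφ h1 hm (hA α hα) (mem_dualFin.1 hβ)]).trans
      ((Finset.sum_const _).trans (nsmul_eq_mul _ _)), ← Finset.mul_sum, pair_coeff.card_dual₁ D] at h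
  by_contra hc
  have h3 : (3 : ℤ) ≤ p := by exact_mod_cast D.three_le
  nlinarith

theorem shift₁ [Fintype Q] {φ φ' α : ↥(W₁ ⊔ W₂) →* ℂˣ} (hφ : φ ∈ trivOn _ W₂)
    (hφ' : φ' ∈ trivOn _ W₂) (h1 : φ ≠ 1) (h1' : φ' ≠ 1) (hne : φ' ≠ φ) (mu : ↥Q →* ℂˣ)
    (hα : α ∈ trivOn _ W₂) [Decidable (α = φ)] [Decidable (α = φ')] :
    iq (Df (D.lift hQ φ') mu) (χ α) =
      iq (Df (D.lift hQ φ) mu) (χ α) + ((if α = φ' then 1 else 0) - if α = φ then 1 else 0) := by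
  have h := D.shift hχ hQ hφ hφ' h1 h1' hne mu hα (one_mem (trivOn (W₁ ⊔ W₂) W₁))
  rwa [show α * 1 = α from mul_one α] at h

/-- Some row gets a unit. -/
theorem exists_unit [Fintype Q] {φ : ↥(W₁ ⊔ W₂) →* ℂˣ} (hφ : φ ∈ trivOn _ W₂) (h1 : φ ≠ 1)
    {mu : ↥Q →* ℂˣ} (hm : ¬ D.OrbFixed mu) :
    ∃ α ∈ trivOn (W₁ ⊔ W₂) W₂, iq (Df (D.lift hQ φ) mu) (χ α) ≠ 0 := by
  classical
  by_contra hc
  push Not at hc
  obtain ⟨φ', hφ', h1', hne⟩ := D.exists_ne φ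
  have e1 := D.shift₁ hχ hQ hφ hφ' h1 h1' hne mu hφ
  have e2 := D.shift₁ hχ hQ hφ hφ' h1 h1' hne mu hφ'
  rw [hc φ hφ, if_neg hne.symm, if_pos rfl] at e1
  rw [hc φ' hφ', if_neg hne, if_pos rfl] at e2
  have h := D.sum_sq_le_one hχ hQ hφ' h1' hm {φ, φ'} (by simp [hφ, hφ'])
  rw [Finset.sum_pair hne.symm, e1, e2] at h
  norm_num at h

/-- A row takes `± 1` at exactly one invariant orbit. -/
theorem row_shape [Fintype Q] {α : ↥(W₁ ⊔ W₂) →* ℂˣ} (hα : α ∈ trivOn _ W₂) (hα1 : α ≠ 1)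
    {mu : ↥Q →* ℂˣ} (hm : ¬ D.OrbFixed mu) :
    ∃ δ : ℤ, ∃ φ₁ ∈ trivOn (W₁ ⊔ W₂) W₂, φ₁ ≠ 1 ∧ (δ = 1 ∨ δ = -1) ∧
      ∀ φ ∈ trivOn (W₁ ⊔ W₂) W₂, φ ≠ 1 → ∀ [Decidable (φ = φ₁)],
        iq (Df (D.lift hQ φ) mu) (χ α) = if φ = φ₁ then δ else 0 := by
  classical
  have hsq : ∀ φ ∈ trivOn (W₁ ⊔ W₂) W₂, φ ≠ 1 → ∀ β ∈ trivOn (W₁ ⊔ W₂) W₂,
      iq (Df (D.lift hQ φ) mu) (χ β) ^ 2 ≤ 1 := fun φ hφ h1 β hβ => by
    have h := D.sum_sq_le_one hχ hQ hφ h1 hm {β} (by simp [hβ])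
    rwa [Finset.sum_singleton] at h
  set a := iq (Df (D.lift hQ α) mu) (χ α) with ha
  have hoth : ∀ φ ∈ trivOn (W₁ ⊔ W₂) W₂, φ ≠ 1 → φ ≠ α →
      iq (Df (D.lift hQ φ) mu) (χ α) = a - 1 := fun φ hφ h1 hne => by
    rw [D.shift₁ hχ hQ hα hφ hα1 h1 hne mu hα, if_neg (Ne.symm hne), if_pos rfl, zero_sub, ← sub_eq_add_neg]
  obtain ⟨φ', hφ', h1', hne'⟩ := D.exists_ne α
  have hb : -1 ≤ a ∧ a ≤ 1 := by
    have := hsq α hα hα1 α hα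
    constructor <;> nlinarith
  have hb' := hsq φ' hφ' h1' α hα
  rw [hoth φ' hφ' h1' hne'] at hb'
  have ha01 : a = 0 ∨ a = 1 := by
    rcases eq_or_ne a (-1) with h | h
    · rw [h] at hb'; norm_num at hb'
    · omega
  rcases ha01 with h0 | h0
  · refine ⟨-1, φ', hφ', h1', Or.inr rfl, fun φ hφ h1 _ => ?_⟩
    rcases eq_or_ne φ α with rfl | hne
    · rw [← ha, h0, if_neg (Ne.symm hne')]
    rw [hoth φ hφ h1 hne, h0, zero_sub]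
    rcases eq_or_ne φ φ' with rfl | hne2
    · rw [if_pos rfl]
    exfalso
    have u1 : iq (Df (D.lift hQ φ) mu) (χ α) = -1 := by rw [hoth φ hφ h1 hne, h0, zero_sub]
    have u2 : iq (Df (D.lift hQ φ') mu) (χ α) = -1 := by rw [hoth φ' hφ' h1' hne', h0, zero_sub]
    have s1 := D.sum_sq_le_one hχ hQ hφ h1 hm {α, φ} (by simp [hα, hφ])
    have s2 := D.sum_sq_le_one hχ hQ hφ' h1' hm {α, φ} (by simp [hα, hφ])
    rw [Finset.sum_pair (Ne.symm hne), u1] at s1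
    rw [Finset.sum_pair (Ne.symm hne), u2] at s2
    have e := D.shift₁ hχ hQ hφ hφ' h1 h1' (Ne.symm hne2) mu hφ
    rw [if_neg hne2, if_pos rfl] at e
    rw [e] at s2
    have hx : iq (Df (D.lift hQ φ) mu) (χ φ) = 0 := pow_eq_zero_iff (n := 2) two_ne_zero |>.1
      (by have := sq_nonneg (iq (Df (D.lift hQ φ) mu) (χ φ)); omega)
    rw [hx] at s2
    norm_num at s2
  · refine ⟨1, α, hα, hα1, Or.inl rfl, fun φ hφ h1 _ => ?_⟩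
    rcases eq_or_ne φ α with rfl | hne
    · rw [← ha, h0, if_pos rfl]
    · rw [hoth φ hφ h1 hne, h0, if_neg hne]
      rfl

end Data

end CfsgLib.FT.TwoSide
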